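import Cfsg.Agent.Lib.Helper78.CharSchur
import Cfsg.Prelude.Def_Blocks

set_option autoImplicit false

namespace Cfsg.Agent.Helper78

open scoped ComplexConjugate

section Restrict

variable {G : Type*} [Group G]

theorem sum_subgroup_rep_char {V : Type*} [AddCommGroup V] [Module ℂ V] [FiniteDimensional ℂ V]
    (ρ : Representation ℂ G V) (P : Subgroup G) [Fintype P] :
    ∃ m : ℕ, ∑ w : P, ρ.character (w : G) = (Nat.card P : ℂ) * (m : ℂ) := by
  let ρ' : Representation ℂ P V := ρ.comp P.subtype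
  have hne : (Nat.card P : ℂ) ≠ 0 := natCard_ne_zero_complex
  have : Invertible (Nat.card P : ℂ) := invertibleOfNonzero hne
  have h1 := Representation.card_inv_mul_sum_char_eq_finrank ρ'
  refine ⟨Module.finrank ℂ (Representation.invariants ρ'), ?_⟩
  rw [← h1, ← mul_assoc, mul_inv_cancel₀ hne, one_mul]
  rfl

theorem IsCharacter.sum_subgroup {χ : G → ℂ} (h : IsCharacter G χ) (P : Subgroup G) [Fintype P] :
    ∃ m : ℕ, ∑ w : P, χ (w : G) = (Nat.card P : ℂ) * (m : ℂ) := by
  obtain ⟨n, ρ, rfl⟩ := h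
  exact sum_subgroup_rep_char ρ P

theorem irr_charDegree {χ : G → ℂ} (h : IsIrrCharacter G χ) :
    χ 1 = (charDegree χ : ℂ) ∧ 0 < charDegree χ := by
  obtain ⟨n, hn, h1⟩ := irr_apply_one h
  have h2 : charDegree χ = n := by
    unfold charDegree
    rw [h1]
    simp
  rw [h2]
  exact ⟨h1, hn⟩

/-- A rational algebraic integer is an integer: divisibility form. -/
theorem dvd_of_isIntegral_mul_eq (z : ℂ) (n m : ℕ) (hn : n ≠ 0) (hz : z * (n : ℂ) = (m : ℂ))
    (hint : IsIntegral ℤ z) : n ∣ m := by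
  have hn' : (n : ℂ) ≠ 0 := by exact_mod_cast hn
  have h1 : z = (((m : ℚ) / (n : ℚ) : ℚ) : ℂ) := by
    push_cast
    rw [eq_div_iff hn']
    exact hz
  rw [h1] at hint
  have h2 : IsIntegral ℤ ((m : ℚ) / (n : ℚ) : ℚ) :=
    (isIntegral_algebraMap_iff (algebraMap ℚ ℂ).injective).1 hint
  obtain ⟨k, hk⟩ := IsIntegrallyClosed.isIntegral_iff.1 h2
  have h3 : ((k : ℤ) : ℚ) * (n : ℚ) = (m : ℚ) := by
    have : (algebraMap ℤ ℚ) k = (k : ℚ) := rfl
    rw [this] at hk
    rw [hk]
    have hn'' : (n : ℚ) ≠ 0 := by exact_mod_cast hn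
    field_simp
  have h4 : k * (n : ℤ) = (m : ℤ) := by exact_mod_cast h3
  have h5 : (n : ℤ) ∣ (m : ℤ) := ⟨k, by rw [← h4]; ring⟩
  exact_mod_cast h5

end Restrict

section Count

variable {G : Type*} [Group G] [Fintype G]

open scoped Classical in
/-- Summing the class multiplication formula over a subgroup. -/
theorem count_identity (P : Subgroup G) [Fintype P] (g h : G) :
    ∃ m : IrrCharacter G → ℕ,
      (∑ w : P, ((Finset.univ.filter (fun ab : G × G =>
          ab.1 * g * ab.1⁻¹ * (ab.2 * h * ab.2⁻¹) * (w : G)⁻¹ = 1)).card : ℂ)) =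
        (Nat.card G : ℂ) * (Nat.card P : ℂ) *
          ∑ χ : IrrCharacter G, (χ : G → ℂ) g * (χ : G → ℂ) h * (m χ : ℂ) / (χ : G → ℂ) 1 := by
  have hm : ∀ χ : IrrCharacter G, ∃ m : ℕ, ∑ w : P, (χ : G → ℂ) (w : G) =
      (Nat.card P : ℂ) * (m : ℂ) := fun χ =>
    IsCharacter.sum_subgroup (IsIrrCharacter.isCharacter χ.2) P
  choose m hm using hm
  refine ⟨m, ?_⟩
  have h1 : ∀ w : P, ((Finset.univ.filter (fun ab : G × G =>
          ab.1 * g * ab.1⁻¹ * (ab.2 * h * ab.2⁻¹) * (w : G)⁻¹ = 1)).card : ℂ) =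
      (Nat.card G : ℂ) * ∑ χ : IrrCharacter G,
        (χ : G → ℂ) g * (χ : G → ℂ) h * (χ : G → ℂ) (w : G)⁻¹ / (χ : G → ℂ) 1 := by
    intro w
    rw [sum_irr_mul_mul_div]
  simp only [h1]
  rw [← Finset.mul_sum, Finset.sum_comm, mul_assoc]
  congr 1
  rw [Finset.mul_sum]
  apply Finset.sum_congr rfl
  intro χ _
  have h2 : ∑ w : P, (χ : G → ℂ) g * (χ : G → ℂ) h * (χ : G → ℂ) (w : G)⁻¹ / (χ : G → ℂ) 1 =
      (χ : G → ℂ) g * (χ : G → ℂ) h / (χ : G → ℂ) 1 * ∑ w : P, (χ : G → ℂ) (w : G)⁻¹ := by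
    rw [Finset.mul_sum]
    apply Finset.sum_congr rfl
    intro w _
    ring
  have h3 : ∑ w : P, (χ : G → ℂ) (w : G)⁻¹ = ∑ w : P, (χ : G → ℂ) (w : G) := by
    have := Equiv.sum_comp (Equiv.inv P) (fun w : P => (χ : G → ℂ) (w : G))
    simpa using this
  rw [h2, h3, hm χ]
  ring

open scoped Classical in
/-- If no product of a conjugate of `g` and a conjugate of `h` is a nonidentity element of `P`,
then the count at the identity is expressed through the multiplicities of the trivial character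
of `P`. -/
theorem count_identity' (P : Subgroup G) [Fintype P] (g h : G) (K : ℕ)
    (hne : ∀ w ∈ P, w ≠ 1 → ∀ a b : G, a * g * a⁻¹ * (b * h * b⁻¹) ≠ w)
    (hone : (Finset.univ.filter (fun ab : G × G =>
      ab.1 * g * ab.1⁻¹ * (ab.2 * h * ab.2⁻¹) = 1)).card = Nat.card G * K) :
    ∃ m : IrrCharacter G → ℕ, (K : ℂ) = (Nat.card P : ℂ) *
      ∑ χ : IrrCharacter G, (χ : G → ℂ) g * (χ : G → ℂ) h * (m χ : ℂ) / (χ : G → ℂ) 1 := by
  obtain ⟨m, hm⟩ := count_identity P g h
  refine ⟨m, ?_⟩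
  have h1 : (∑ w : P, ((Finset.univ.filter (fun ab : G × G =>
          ab.1 * g * ab.1⁻¹ * (ab.2 * h * ab.2⁻¹) * (w : G)⁻¹ = 1)).card : ℂ)) =
      (Nat.card G : ℂ) * (K : ℂ) := by
    rw [Finset.sum_eq_single (1 : P)]
    · simp only [OneMemClass.coe_one, inv_one, mul_one]
      rw [hone]
      push_cast
      ring
    · intro w _ hw
      have hw' : (w : G) ≠ 1 := by
        intro h0
        apply hw
        exact Subtype.ext h0
      have : (Finset.univ.filter (fun ab : G × G =>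
          ab.1 * g * ab.1⁻¹ * (ab.2 * h * ab.2⁻¹) * (w : G)⁻¹ = 1)) = ∅ := by
        rw [Finset.filter_eq_empty_iff]
        intro ab _ hab
        exact hne w w.2 hw' ab.1 ab.2 (mul_inv_eq_one.mp hab)
      rw [this]
      simp
    · intro h0; exact absurd (Finset.mem_univ _) h0
  rw [h1, mul_assoc] at hm
  exact mul_left_cancel₀ natCard_ne_zero_complex hm

/-- Arithmetic core of the defect-zero counting arguments. -/
theorem exists_irr_pow_dvd_degree (p : ℕ) [hp : Fact p.Prime] (c : ℕ) (K : ℕ) (hK : 0 < K)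
    (m : IrrCharacter G → ℕ) (a : IrrCharacter G → ℂ) (ha : ∀ χ, IsIntegral ℤ (a χ))
    (hEq : (K : ℂ) = (p : ℂ) ^ c *
      ∑ χ : IrrCharacter G, a χ * (m χ : ℂ) / (χ : G → ℂ) 1) :
    ∃ χ : IrrCharacter G, p ^ (c - K.factorization p) ∣ charDegree (χ : G → ℂ) := by
  classical
  by_contra hcon
  push Not at hcon
  set e := c - K.factorization p with he
  have hpp := hp.out
  -- there is at least one irreducible character
  have hne : Nonempty (IrrCharacter G) := by
    by_contra hemp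
    rw [not_nonempty_iff] at hemp
    rw [Finset.univ_eq_empty, Finset.sum_empty, mul_zero] at hEq
    have : K = 0 := by exact_mod_cast hEq
    omega
  obtain ⟨χ₀⟩ := hne
  have he1 : 1 ≤ e := by
    by_contra h0
    have h0' : e = 0 := by omega
    apply hcon χ₀
    rw [h0', pow_zero]
    exact one_dvd _
  have hd : ∀ χ : IrrCharacter G, (χ : G → ℂ) 1 = (charDegree (χ : G → ℂ) : ℂ) ∧
      0 < charDegree (χ : G → ℂ) := fun χ => irr_charDegree χ.2
  set d : IrrCharacter G → ℕ := fun χ => charDegree (χ : G → ℂ) with hd_def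
  have hv : ∀ χ, (d χ).factorization p ≤ e - 1 := by
    intro χ
    have h1 := hcon χ
    rw [hpp.pow_dvd_iff_le_factorization (hd χ).2.ne'] at h1
    change ¬ e ≤ (d χ).factorization p at h1
    omega
  set u : IrrCharacter G → ℕ := fun χ => ordCompl[p] (d χ) with hu_def
  have hdu : ∀ χ, p ^ (d χ).factorization p * u χ = d χ := fun χ =>
    Nat.ordProj_mul_ordCompl_eq_self (d χ) p
  set U : ℕ := ∏ χ : IrrCharacter G, u χ with hU_def
  have huU : ∀ χ, u χ ∣ U := fun χ => Finset.dvd_prod_of_mem u (Finset.mem_univ χ)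
  have hu_pos : ∀ χ, 0 < u χ := fun χ => Nat.ordCompl_pos p (hd χ).2.ne'
  have hU_pos : 0 < U := Finset.prod_pos (fun χ _ => hu_pos χ)
  set t : IrrCharacter G → ℕ := fun χ => p ^ (e - 1 - (d χ).factorization p) * (U / u χ) with ht_def
  have hdt : ∀ χ, d χ * t χ = p ^ (e - 1) * U := by
    intro χ
    have h1 : u χ * (U / u χ) = U := Nat.mul_div_cancel' (huU χ)
    have h2 : p ^ (d χ).factorization p * p ^ (e - 1 - (d χ).factorization p) = p ^ (e - 1) := by
      rw [← pow_add]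
      congr 1
      have := hv χ
      omega
    calc d χ * t χ = (p ^ (d χ).factorization p * u χ) *
          (p ^ (e - 1 - (d χ).factorization p) * (U / u χ)) := by rw [hdu χ]
      _ = (p ^ (d χ).factorization p * p ^ (e - 1 - (d χ).factorization p)) *
          (u χ * (U / u χ)) := by ring
      _ = p ^ (e - 1) * U := by rw [h1, h2]
  -- the algebraic integer
  set A : ℂ := ∑ χ : IrrCharacter G, a χ * (m χ : ℂ) * (t χ : ℂ) with hA_def
  have hA_int : IsIntegral ℤ A := by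
    apply IsIntegral.sum
    intro χ _
    exact ((ha χ).mul (isIntegral_natCast (R := ℤ) (m χ))).mul (isIntegral_natCast (R := ℤ) (t χ))
  have hA_eq : A * ((p ^ c : ℕ) : ℂ) = ((K * p ^ (e - 1) * U : ℕ) : ℂ) := by
    push_cast
    rw [hEq, hA_def, Finset.sum_mul, Finset.mul_sum, Finset.sum_mul, Finset.sum_mul]
    apply Finset.sum_congr rfl
    intro χ _
    have h1 : (χ : G → ℂ) 1 = (d χ : ℂ) := (hd χ).1
    have h2 : (d χ : ℂ) ≠ 0 := by
      have := (hd χ).2
      exact_mod_cast this.ne'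
    have h3 : ((d χ : ℕ) : ℂ) * (t χ : ℂ) = (p : ℂ) ^ (e - 1) * (U : ℂ) := by
      have := hdt χ
      exact_mod_cast this
    rw [h1]
    field_simp
    linear_combination (a χ * (m χ : ℂ) * (p : ℂ) ^ c) * h3
  have hdvd : p ^ c ∣ K * p ^ (e - 1) * U :=
    dvd_of_isIntegral_mul_eq A _ _ (pow_pos hpp.pos c).ne' hA_eq hA_int
  have hcop : Nat.Coprime (p ^ c) U := by
    apply Nat.Coprime.pow_left
    apply Nat.Coprime.prod_right
    intro χ _
    exact Nat.coprime_ordCompl hpp (hd χ).2.ne'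
  have hdvd2 : p ^ c ∣ K * p ^ (e - 1) := hcop.dvd_of_dvd_mul_right hdvd
  have hne0 : K * p ^ (e - 1) ≠ 0 := Nat.mul_ne_zero hK.ne' (pow_pos hpp.pos _).ne'
  rw [hpp.pow_dvd_iff_le_factorization hne0, Nat.factorization_mul hK.ne' (pow_pos hpp.pos _).ne',
    hpp.factorization_pow] at hdvd2
  simp only [Finsupp.coe_add, Pi.add_apply, Finsupp.single_eq_same] at hdvd2
  omega

open scoped Classical in
/-- Counting lemma: if no product of a conjugate of `g` and a conjugate of `h` is a nonidentity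
element of the `p`-subgroup `P` of order `p ^ c`, and the number of pairs `(a, b)` with
`a g a⁻¹ * b h b⁻¹ = 1` is `|G| * K`, then some irreducible character has degree divisible by
`p ^ (c - ν_p(K))`. -/
theorem exists_irr_pow_dvd_of_count (p : ℕ) [Fact p.Prime] (P : Subgroup G) (c : ℕ)
    (hP : Nat.card P = p ^ c) (g h : G) (K : ℕ) (hK : 0 < K)
    (hne : ∀ w ∈ P, w ≠ 1 → ∀ a b : G, a * g * a⁻¹ * (b * h * b⁻¹) ≠ w)
    (hone : (Finset.univ.filter (fun ab : G × G =>
      ab.1 * g * ab.1⁻¹ * (ab.2 * h * ab.2⁻¹) = 1)).card = Nat.card G * K) :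
    ∃ χ : IrrCharacter G, p ^ (c - K.factorization p) ∣ charDegree (χ : G → ℂ) := by
  have : Fintype P := Fintype.ofFinite P
  obtain ⟨m, hm⟩ := count_identity' P g h K hne hone
  apply exists_irr_pow_dvd_degree p c K hK m (fun χ => (χ : G → ℂ) g * (χ : G → ℂ) h)
  · intro χ
    exact (IsIrrCharacter.isIntegral χ.2 g).mul (IsIrrCharacter.isIntegral χ.2 h)
  · rw [hm, hP]
    push_cast
    rfl

open scoped Classical in
/-- Number of pairs `(a, b)` with `a g a⁻¹ * (b g⁻¹ b⁻¹) = 1`. -/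
theorem card_pairs_inv (g : G) :
    (Finset.univ.filter (fun ab : G × G =>
      ab.1 * g * ab.1⁻¹ * (ab.2 * g⁻¹ * ab.2⁻¹) = 1)).card =
      Nat.card G * Nat.card (Subgroup.centralizer ({g} : Set G)) := by
  have h1 : (Finset.univ.filter (fun ab : G × G =>
      ab.1 * g * ab.1⁻¹ * (ab.2 * g⁻¹ * ab.2⁻¹) = 1)) =
      (Finset.univ.filter (fun ab : G × G => (ab.2⁻¹ * ab.1) * g * (ab.2⁻¹ * ab.1)⁻¹ = g)) := by
    apply Finset.filter_congr
    intro ab _
    constructor
    · intro h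
      have h2 : ab.1 * g * ab.1⁻¹ = ab.2 * g * ab.2⁻¹ := by
        have := mul_eq_one_iff_eq_inv.mp h
        rw [this]
        group
      calc (ab.2⁻¹ * ab.1) * g * (ab.2⁻¹ * ab.1)⁻¹ = ab.2⁻¹ * (ab.1 * g * ab.1⁻¹) * ab.2 := by group
        _ = ab.2⁻¹ * (ab.2 * g * ab.2⁻¹) * ab.2 := by rw [h2]
        _ = g := by group
    · intro h
      have h2 : ab.1 * g * ab.1⁻¹ = ab.2 * g * ab.2⁻¹ := by
        calc ab.1 * g * ab.1⁻¹ = ab.2 * ((ab.2⁻¹ * ab.1) * g * (ab.2⁻¹ * ab.1)⁻¹) * ab.2⁻¹ := by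
              group
          _ = ab.2 * g * ab.2⁻¹ := by rw [h]
      rw [h2]
      group
  rw [h1]
  -- reparametrize by (c, b) with a = b * c
  have h2 : (Finset.univ.filter (fun ab : G × G =>
      (ab.2⁻¹ * ab.1) * g * (ab.2⁻¹ * ab.1)⁻¹ = g)).card =
      (Finset.univ.filter (fun cb : G × G => cb.1 * g * cb.1⁻¹ = g)).card := by
    apply Finset.card_bij (fun ab _ => (ab.2⁻¹ * ab.1, ab.2))
    · intro ab hab
      simpa using hab
    · intro ab _ ab' _ heq
      simp only [Prod.mk.injEq] at heq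
      obtain ⟨h3, h4⟩ := heq
      rw [h4] at h3
      exact Prod.ext (mul_left_cancel h3) h4
    · intro cb hcb
      refine ⟨(cb.2 * cb.1, cb.2), ?_, ?_⟩
      · simpa using hcb
      · simp
  rw [h2]
  have h3 : (Finset.univ.filter (fun cb : G × G => cb.1 * g * cb.1⁻¹ = g)) =
      (Finset.univ.filter (fun c : G => c * g * c⁻¹ = g)) ×ˢ (Finset.univ : Finset G) := by
    ext cb
    simp
  rw [h3, Finset.card_product, card_conjugators, if_pos (IsConj.refl g), Finset.card_univ,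
    Nat.card_eq_fintype_card (α := G), mul_comm]

end Count

end Cfsg.Agent.Helper78
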