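import Cfsg.Agent.Lib.Helper81.CharCorr
import Cfsg.Agent.Lib.Helper81.CharRam
import Cfsg.Agent.Lib.Helper78.CharCount
import Cfsg.Agent.Lib.Helper79.Inflation
import Cfsg.Agent.Lib.Helper3.CharOrtho
import Cfsg.Agent.S0173
import Cfsg.Agent.S0187
import Cfsg.Agent.Lib.Helper59.Derangement

/-!
# The Ito-Michler theorem for classes of groups with normal steps that are p-groups or p'-groups

If every irreducible character degree of `G` is prime to `p` and `G` belongs to a class of groups
closed under quotients and normal subgroups in which every nontrivial member has a nontrivial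
normal `p`-subgroup or `p'`-subgroup (e.g. `p`-solvable groups, solvable groups), then `G` has
a normal abelian Sylow `p`-subgroup.
-/

set_option autoImplicit false
set_option linter.unusedSectionVars false
set_option linter.style.haveILetI false

namespace Cfsg.Agent.Helper78

open Cfsg Cfsg.Agent.Helper81
open scoped ComplexConjugate

section Clifford

universe u

variable {G : Type u} [Group G] [Fintype G]

omit [Fintype G] in
/-- every conjugate of `θ` has the same value at `1` -/
theorem conjSet_apply_one (N : Subgroup G) (hN : N.Normal) (θ : N → ℂ) {ψ : N → ℂ}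
    (hψ : ψ ∈ conjSet N hN θ) : ψ 1 = θ 1 := by
  obtain ⟨g, rfl⟩ := hψ
  rw [conjFun_apply]
  congr 1
  apply Subtype.ext
  simp

/-- Clifford: degree formula `χ(1) = e * t * θ(1)` -/
theorem clifford_degree (N : Subgroup G) [Fintype N] (hN : N.Normal) {χ : G → ℂ}
    (hχ : IsIrrCharacter G χ) {θ : N → ℂ} (hθ : IsIrrCharacter N θ)
    (hne : classInner (fun n : N => χ n) θ ≠ 0) :
    ∃ e : ℕ, charDegree χ = e * (Nat.card (conjSet N hN θ) * charDegree θ) := by
  have h := clifford N hN hχ hθ hne
  obtain ⟨e, he⟩ := exists_nat_classInner (isCharacter_restrict N (IsIrrCharacter.isCharacter hχ)) hθ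
  refine ⟨e, ?_⟩
  have hS := conjSet_finite N hN θ
  have h1 := congrFun h 1
  rw [he, finsum_mem_eq_finite_toFinset_sum _ hS] at h1
  simp only [Pi.smul_apply, Finset.sum_apply, smul_eq_mul] at h1
  have h2 : ∑ ψ ∈ hS.toFinset, ψ 1 = (Nat.card (conjSet N hN θ) : ℂ) * θ 1 := by
    rw [Finset.sum_congr rfl (fun ψ hψ => conjSet_apply_one N hN θ ((Set.Finite.mem_toFinset hS).1 hψ))]
    rw [Finset.sum_const, nsmul_eq_mul]
    congr 2
    rw [Nat.card_eq_card_finite_toFinset hS]
  rw [h2] at h1
  have h3 : ((1 : N) : G) = 1 := rfl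
  rw [h3, (irr_charDegree hχ).1, (irr_charDegree hθ).1] at h1
  exact_mod_cast h1

/-- every irreducible character of a subgroup lies under an irreducible character of `G` -/
theorem exists_irr_over (H : Subgroup G) [Fintype H] {θ : H → ℂ} (hθ : IsIrrCharacter H θ) :
    ∃ χ : G → ℂ, IsIrrCharacter G χ ∧ classInner (fun h : H => χ h) θ ≠ 0 := by
  have hind := isCharacter_indFun H (IsIrrCharacter.isCharacter hθ)
  have h0 : indFun H θ ≠ 0 := by
    intro h
    have h1 := congrFun h 1
    rw [indFun_one] at h1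
    simp only [Pi.zero_apply] at h1
    rcases mul_eq_zero.1 h1 with h2 | h2
    · have : H.index ≠ 0 := Subgroup.index_ne_zero_of_finite
      exact this (by exact_mod_cast h2)
    · exact irr_apply_one_ne_zero hθ h2
  obtain ⟨χ, hχ, hne⟩ := exists_irr_constituent hind h0
  refine ⟨χ, hχ, ?_⟩
  rw [frobenius_reciprocity H θ (isClassFunction_of_isCharacter (IsIrrCharacter.isCharacter hχ))] at hne
  intro h
  apply hne
  rw [← classInner_conj_symm, h, map_zero]

omit [Fintype G] in
/-- left action of `G` on functions on a normal subgroup -/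
@[reducible] def conjAction (N : Subgroup G) (hN : N.Normal) : MulAction G (N → ℂ) where
  smul g θ := conjFun N hN θ g⁻¹
  one_smul θ := by
    show conjFun N hN θ 1⁻¹ = θ
    rw [inv_one, conjFun_one]
  mul_smul g h θ := by
    show conjFun N hN θ (g * h)⁻¹ = conjFun N hN (conjFun N hN θ h⁻¹) g⁻¹
    rw [conjFun_mul, mul_inv_rev]

/-- the number of conjugates of an irreducible character of `N` divides the index of `N` -/
theorem card_conjSet_dvd_index (N : Subgroup G) (hN : N.Normal) {θ : N → ℂ}
    (hθ : IsIrrCharacter N θ) : Nat.card (conjSet N hN θ) ∣ N.index := by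
  letI := conjAction N hN
  have horb : MulAction.orbit G θ = conjSet N hN θ := by
    ext ψ
    constructor
    · rintro ⟨g, rfl⟩
      exact ⟨g⁻¹, rfl⟩
    · rintro ⟨g, rfl⟩
      exact ⟨g⁻¹, by show conjFun N hN θ g⁻¹⁻¹ = _; rw [inv_inv]⟩
  have hle : N ≤ MulAction.stabilizer G θ := by
    intro n hn
    rw [MulAction.mem_stabilizer_iff]
    show conjFun N hN θ n⁻¹ = θ
    ext x
    rw [conjFun_apply]
    have hc := isClassFunction_of_isCharacter (IsIrrCharacter.isCharacter hθ)
    have := hc x ⟨n⁻¹, inv_mem hn⟩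
    rw [← this]
    congr 1
  have h1 := MulAction.index_stabilizer (G := G) (x := θ)
  rw [horb, ← Nat.card_coe_set_eq] at h1
  rw [← h1]
  exact Subgroup.index_dvd_of_le hle

end Clifford

section Inherit

variable {G : Type*} [Group G] [Finite G]

/-- degrees prime to `p` pass to normal subgroups -/
theorem not_dvd_degree_of_normal (p : ℕ) (H : Subgroup G) (hH : H.Normal)
    (hdeg : ∀ χ : IrrCharacter G, ¬ p ∣ charDegree (χ : G → ℂ)) (θ : IrrCharacter H) :
    ¬ p ∣ charDegree (θ : H → ℂ) := by
  have := Fintype.ofFinite G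
  have : Fintype H := Fintype.ofFinite H
  obtain ⟨χ, hχ, hne⟩ := exists_irr_over H θ.2
  obtain ⟨e, he⟩ := clifford_degree H hH hχ θ.2 hne
  intro hp
  apply hdeg ⟨χ, hχ⟩
  show p ∣ charDegree χ
  rw [he]
  exact dvd_mul_of_dvd_right (dvd_mul_of_dvd_right hp _) _

/-- degrees prime to `p` pass to quotients -/
theorem not_dvd_degree_quotient (p : ℕ) (K : Subgroup G) [K.Normal]
    (hdeg : ∀ χ : IrrCharacter G, ¬ p ∣ charDegree (χ : G → ℂ)) (ψ : IrrCharacter (G ⧸ K)) :
    ¬ p ∣ charDegree (ψ : G ⧸ K → ℂ) := by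
  have h := hdeg (Cfsg.Agent.Helper79.inflate K ψ)
  have hd : charDegree (Cfsg.Agent.Helper79.inflate K ψ : G → ℂ) =
      charDegree (ψ : G ⧸ K → ℂ) := by
    unfold charDegree
    rw [Cfsg.Agent.Helper79.inflate_apply]
    rfl
  rwa [hd] at h

/-- a `p`-group all of whose irreducible characters have degree prime to `p` is abelian -/
theorem comm_of_pgroup_of_not_dvd_degree (p : ℕ) [Fact p.Prime] (hG : IsPGroup p G)
    (hdeg : ∀ χ : IrrCharacter G, ¬ p ∣ charDegree (χ : G → ℂ)) (a b : G) : a * b = b * a := by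
  have hp : p.Prime := Fact.out
  apply (Cfsg.Agent.S0187.result (G := G)).2
  intro χ
  obtain ⟨c, hc⟩ := IsPGroup.iff_card.1 hG
  have hdvd := Cfsg.Agent.Helper79.irr_degree_dvd_card χ
  rw [hc] at hdvd
  obtain ⟨j, -, hj⟩ := (Nat.dvd_prime_pow hp).1 hdvd
  have hj0 : j = 0 := by
    by_contra hne
    apply hdeg χ
    rw [hj]
    exact dvd_pow_self p hne
  rw [(irr_charDegree χ.2).1, hj, hj0, pow_zero, Nat.cast_one]

end Inherit

section Jordan

variable {L : Type*} [Group L] [Finite L]

/-- a subgroup meeting every conjugacy class is the whole group -/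
theorem eq_top_of_forall_exists_isConj (C : Subgroup L)
    (h : ∀ x : L, ∃ y ∈ C, IsConj x y) : C = ⊤ := by
  classical
  have := Fintype.ofFinite L
  have hburn := Cfsg.Agent.Helper59.burnside_natCard (G := L) (X := L ⧸ C)
  have horb : Nat.card (MulAction.orbitRel.Quotient L (L ⧸ C)) = 1 := by
    have := (MulAction.pretransitive_iff_unique_quotient_of_nonempty L (L ⧸ C)).1 inferInstance
    obtain ⟨u⟩ := this
    exact Nat.card_unique
  rw [horb, one_mul] at hburn
  -- every element fixes a coset
  have hfix : ∀ g : L, 1 ≤ Nat.card (MulAction.fixedBy (L ⧸ C) g) := by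
    intro g
    obtain ⟨y, hy, hconj⟩ := h g
    obtain ⟨c, hc⟩ := isConj_iff.1 hconj
    -- c * g * c⁻¹ = y ∈ C, so g fixes the coset c⁻¹ C
    have hmem : ((c⁻¹ : L) : L ⧸ C) ∈ MulAction.fixedBy (L ⧸ C) g := by
      rw [MulAction.mem_fixedBy]
      show ((g * c⁻¹ : L) : L ⧸ C) = ((c⁻¹ : L) : L ⧸ C)
      rw [QuotientGroup.eq]
      have : (g * c⁻¹)⁻¹ * c⁻¹ = c * g⁻¹ * c⁻¹ := by group
      rw [this]
      have h2 : c * g⁻¹ * c⁻¹ = y⁻¹ := by rw [← hc]; group
      rw [h2]
      exact inv_mem hy
    have : Nonempty (MulAction.fixedBy (L ⧸ C) g) := ⟨⟨_, hmem⟩⟩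
    exact Nat.one_le_iff_ne_zero.2 Nat.card_pos.ne'
  have hone : Nat.card (MulAction.fixedBy (L ⧸ C) (1 : L)) = C.index := by
    have : MulAction.fixedBy (L ⧸ C) (1 : L) = Set.univ := by
      ext q
      simp
    rw [this, Nat.card_coe_set_eq, Set.ncard_univ]
    rfl
  -- the sum is at least `(|L| - 1) + index`
  have hsum : C.index + (Fintype.card L - 1) ≤ ∑ g : L, Nat.card (MulAction.fixedBy (L ⧸ C) g) := by
    rw [← Finset.add_sum_erase Finset.univ _ (Finset.mem_univ (1 : L)), hone]
    apply Nat.add_le_add_left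
    calc Fintype.card L - 1 = ∑ g ∈ Finset.univ.erase (1 : L), 1 := by
          rw [Finset.sum_const, Finset.card_erase_of_mem (Finset.mem_univ _), Finset.card_univ,
            smul_eq_mul, mul_one]
      _ ≤ _ := Finset.sum_le_sum (fun g _ => hfix g)
  rw [hburn, Nat.card_eq_fintype_card] at hsum
  have hpos : 0 < Fintype.card L := Fintype.card_pos
  have hidx : C.index ≤ 1 := by omega
  have hidx1 : C.index = 1 := by
    have : C.index ≠ 0 := Subgroup.index_ne_zero_of_finite
    omega
  exact Subgroup.index_eq_one.1 hidx1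

end Jordan

section Coprime

variable {G : Type*} [Group G] [Finite G]

/-- all irreducible characters of `L` are `G`-invariant when `G/L` is a `p`-group and all
degrees of `G` are prime to `p` -/
theorem conjFun_eq_self_of_not_dvd_degree (p : ℕ) [Fact p.Prime] (L : Subgroup G) (hL : L.Normal)
    (k : ℕ) (hidx : L.index = p ^ k)
    (hdeg : ∀ χ : IrrCharacter G, ¬ p ∣ charDegree (χ : G → ℂ)) (θ : IrrCharacter L) (g : G) :
    conjFun L hL (θ : L → ℂ) g = (θ : L → ℂ) := by
  have := Fintype.ofFinite G
  have : Fintype L := Fintype.ofFinite L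
  obtain ⟨χ, hχ, hne⟩ := exists_irr_over L θ.2
  obtain ⟨e, he⟩ := clifford_degree L hL hχ θ.2 hne
  have h1 := card_conjSet_dvd_index L hL θ.2
  rw [hidx] at h1
  obtain ⟨j, -, hj⟩ := (Nat.dvd_prime_pow Fact.out).1 h1
  have hj0 : j = 0 := by
    by_contra hne0
    apply hdeg ⟨χ, hχ⟩
    show p ∣ charDegree χ
    rw [he, hj]
    exact dvd_mul_of_dvd_right (dvd_mul_of_dvd_left (dvd_pow_self p hne0) _) _
  rw [hj0, pow_zero] at hj
  have hfin : Finite (conjSet L hL (θ : L → ℂ)) := (conjSet_finite L hL _).to_subtype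
  have hsub : Subsingleton (conjSet L hL (θ : L → ℂ)) := (Nat.card_eq_one_iff_unique.1 hj).1
  have h2 : (⟨conjFun L hL θ g, ⟨g, rfl⟩⟩ : conjSet L hL (θ : L → ℂ)) =
      ⟨θ, ⟨1, (conjFun_one L hL θ).symm⟩⟩ := Subsingleton.elim _ _
  exact congrArg Subtype.val h2

/-- if all irreducible characters of the normal subgroup `L` are `G`-invariant, conjugation by
any element of `G` fixes every conjugacy class of `L` -/
theorem isConj_conjNormal_of_invariant (L : Subgroup G) [hL : L.Normal]
    (hinv : ∀ (θ : IrrCharacter L) (g : G), conjFun L hL (θ : L → ℂ) g = (θ : L → ℂ))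
    (g : G) (x : L) : IsConj x (MulAut.conjNormal g x : L) := by
  have : Fintype L := Fintype.ofFinite L
  have h173 := Cfsg.Agent.S0173.result (MulAut.conjNormal g : L ≃* L)
  have hall : ∀ χ : IrrCharacter L, (χ : L → ℂ) ∘ (MulAut.conjNormal g : L ≃* L) = (χ : L → ℂ) := by
    intro χ
    conv_rhs => rw [← hinv χ g]
    ext n
    rw [conjFun_apply]
    rfl
  have h1 : Nat.card {χ : IrrCharacter L // (χ : L → ℂ) ∘ (MulAut.conjNormal g : L ≃* L) = (χ : L → ℂ)} =
      Nat.card (IrrCharacter L) := Nat.card_congr (Equiv.subtypeUnivEquiv hall)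
  rw [h1, Cfsg.Agent.Helper3.card_irr_eq_card_conjClasses] at h173
  have hfixed : ∀ C : ConjClasses L,
      ConjClasses.map (MulAut.conjNormal g : L ≃* L).toMonoidHom C = C := by
    intro C
    by_contra hC
    have := Finite.card_subtype_lt (p := fun C : ConjClasses L =>
      ConjClasses.map (MulAut.conjNormal g : L ≃* L).toMonoidHom C = C) hC
    omega
  have h2 := hfixed (ConjClasses.mk x)
  have h3 : ConjClasses.map (MulAut.conjNormal g : L ≃* L).toMonoidHom (ConjClasses.mk x) =
      ConjClasses.mk (MulAut.conjNormal g x : L) := rfl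
  rw [h3, ConjClasses.mk_eq_mk_iff_isConj] at h2
  exact h2.symm

/-- a `p`-subgroup centralizes the normal `p'`-subgroup `L` when all irreducible characters of
`L` are `G`-invariant -/
theorem commute_of_invariant (p : ℕ) [Fact p.Prime] (L : Subgroup G) [hL : L.Normal]
    (hpL : ¬ p ∣ Nat.card L)
    (hinv : ∀ (θ : IrrCharacter L) (g : G), conjFun L hL (θ : L → ℂ) g = (θ : L → ℂ))
    (P : Subgroup G) (hP : IsPGroup p P) :
    ∀ a ∈ P, ∀ l ∈ L, a * l = l * a := by
  classical
  let C : Subgroup L :=
    { carrier := {x | ∀ a ∈ P, a * (x : G) = (x : G) * a}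
      one_mem' := by intro a _; simp
      mul_mem' := by
        intro x y hx hy a ha
        rw [Subgroup.coe_mul, ← mul_assoc, hx a ha, mul_assoc, hy a ha, mul_assoc]
      inv_mem' := by
        intro x hx a ha
        have h1 := hx a ha
        rw [Subgroup.coe_inv]
        calc a * (x : G)⁻¹ = (x : G)⁻¹ * ((x : G) * a) * (x : G)⁻¹ := by group
          _ = (x : G)⁻¹ * (a * (x : G)) * (x : G)⁻¹ := by rw [h1]
          _ = (x : G)⁻¹ * a := by group }
  have hC : C = ⊤ := by
    apply eq_top_of_forall_exists_isConj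
    intro x
    let act : MulAction P {y : L // IsConj x y} :=
      { smul := fun a y => ⟨MulAut.conjNormal (a : G) y.1,
          y.2.trans (isConj_conjNormal_of_invariant L hinv a y.1)⟩
        one_smul := fun y => by
          apply Subtype.ext
          show (MulAut.conjNormal ((1 : P) : G) y.1 : L) = y.1
          rw [Subgroup.coe_one, map_one]
          rfl
        mul_smul := fun a b y => by
          apply Subtype.ext
          show (MulAut.conjNormal ((a * b : P) : G) y.1 : L) =
            MulAut.conjNormal (a : G) (MulAut.conjNormal (b : G) y.1 : L)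
          rw [Subgroup.coe_mul, map_mul]
          rfl }
    have hcard : ¬ p ∣ Nat.card {y : L // IsConj x y} := by
      intro hd
      apply hpL
      have h1 := Cfsg.Agent.Helper3.card_conj_mul_card_centralizer x
      exact dvd_trans hd (Dvd.intro _ h1)
    obtain ⟨y, hy⟩ := hP.nonempty_fixed_point_of_prime_not_dvd_card {y : L // IsConj x y} hcard
    refine ⟨y.1, ?_, y.2⟩
    intro a ha
    have h1 := hy ⟨a, ha⟩
    have h2 : (MulAut.conjNormal (a : G) y.1 : L) = y.1 := congrArg Subtype.val h1
    have h3 := congrArg Subtype.val h2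
    rw [MulAut.conjNormal_apply] at h3
    calc a * (y.1 : G) = a * (y.1 : G) * a⁻¹ * a := by group
      _ = (y.1 : G) * a := by rw [h3]
  intro a ha l hl
  have hmem : (⟨l, hl⟩ : L) ∈ C := by rw [hC]; trivial
  exact hmem a ha

end Coprime

section Aux

variable {X : Type*} [Group X] [Finite X]

/-- a `p`-element lies in every normal subgroup of index prime to `p` -/
theorem mem_of_orderOf_pow_of_not_dvd_index (p : ℕ) [Fact p.Prime] (K : Subgroup X) [K.Normal]
    (hK : ¬ p ∣ K.index) (y : X) (j : ℕ) (hy : orderOf y = p ^ j) : y ∈ K := by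
  have hp : p.Prime := Fact.out
  rw [← QuotientGroup.eq_one_iff, ← orderOf_eq_one_iff]
  have h1 : orderOf (y : X ⧸ K) ∣ p ^ j := by
    rw [← hy]
    exact orderOf_map_dvd (QuotientGroup.mk' K) y
  have h2 : orderOf (y : X ⧸ K) ∣ K.index := orderOf_dvd_natCard _
  obtain ⟨i, -, hi⟩ := (Nat.dvd_prime_pow hp).1 h1
  rw [hi] at h2 ⊢
  by_contra hne
  have hi0 : i ≠ 0 := by
    rintro rfl
    exact hne (pow_zero p)
  exact hK (dvd_trans (dvd_pow_self p hi0) h2)

/-- a normal `p'`-subgroup of `p`-power index and a Sylow `p`-subgroup generate the group -/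
theorem sup_sylow_eq_top (p : ℕ) [Fact p.Prime] (L : Subgroup X) (hpL : ¬ p ∣ Nat.card L)
    (k : ℕ) (hidx : L.index = p ^ k) (P : Sylow p X) : L ⊔ (P : Subgroup X) = ⊤ := by
  have hp : p.Prime := Fact.out
  have hcard : Nat.card X = p ^ k * Nat.card L := by
    rw [← hidx, mul_comm]
    exact (Subgroup.card_mul_index L).symm
  have hP : Nat.card (P : Subgroup X) = p ^ k := by
    rw [Sylow.card_eq_multiplicity, hcard, Nat.factorization_mul (pow_pos hp.pos k).ne'
      Nat.card_pos.ne', Finsupp.add_apply, Nat.factorization_eq_zero_of_not_dvd hpL, add_zero,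
      hp.factorization_pow]
    simp
  have h1 : Nat.card L ∣ Nat.card (L ⊔ (P : Subgroup X) : Subgroup X) :=
    Subgroup.card_dvd_of_le le_sup_left
  have h2 : Nat.card (P : Subgroup X) ∣ Nat.card (L ⊔ (P : Subgroup X) : Subgroup X) :=
    Subgroup.card_dvd_of_le le_sup_right
  have hco : Nat.Coprime (Nat.card (P : Subgroup X)) (Nat.card L) := by
    rw [hP]
    exact Nat.Coprime.pow_left k ((Nat.Prime.coprime_iff_not_dvd hp).2 hpL)
  have h3 : Nat.card X ∣ Nat.card (L ⊔ (P : Subgroup X) : Subgroup X) := by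
    rw [hcard, ← hP]
    exact Nat.Coprime.mul_dvd_of_dvd_of_dvd hco h2 h1
  have h4 : Nat.card (L ⊔ (P : Subgroup X) : Subgroup X) = Nat.card X :=
    Nat.dvd_antisymm (Subgroup.card_subgroup_dvd_card _) h3
  exact (Subgroup.card_eq_iff_eq_top _).1 h4

end Aux

section Cases

variable {G : Type*} [Group G] [Finite G]

/-- `G` has a normal abelian Sylow `p`-subgroup -/
def HasNormalAbelianSylow (p : ℕ) (G : Type*) [Group G] : Prop :=
  ∃ N : Subgroup G, N.Normal ∧ IsPGroup p N ∧ ¬ p ∣ N.index ∧ ∀ a ∈ N, ∀ b ∈ N, a * b = b * a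

/-- a normal `p`-subgroup is abelian when all degrees are prime to `p` -/
theorem comm_of_normal_pgroup (p : ℕ) [Fact p.Prime] (N : Subgroup G) (hN : N.Normal)
    (hNp : IsPGroup p N) (hdeg : ∀ χ : IrrCharacter G, ¬ p ∣ charDegree (χ : G → ℂ)) :
    ∀ a ∈ N, ∀ b ∈ N, a * b = b * a := by
  intro a ha b hb
  have h := comm_of_pgroup_of_not_dvd_degree p hNp (not_dvd_degree_of_normal p N hN hdeg)
    ⟨a, ha⟩ ⟨b, hb⟩
  exact congrArg Subtype.val h

/-- case of a normal `p`-subgroup `L` -/
theorem hasNormalAbelianSylow_of_pgroup (p : ℕ) [Fact p.Prime] (L : Subgroup G) [L.Normal]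
    (hL : IsPGroup p L) (hdeg : ∀ χ : IrrCharacter G, ¬ p ∣ charDegree (χ : G → ℂ))
    (hquot : HasNormalAbelianSylow p (G ⧸ L)) : HasNormalAbelianSylow p G := by
  obtain ⟨Nbar, hn, hpg, hidx, -⟩ := hquot
  have hNn : (Nbar.comap (QuotientGroup.mk' L)).Normal := inferInstance
  have hNp : IsPGroup p (Nbar.comap (QuotientGroup.mk' L)) := by
    apply hpg.comap_of_ker_isPGroup
    rw [QuotientGroup.ker_mk']
    exact hL
  refine ⟨Nbar.comap (QuotientGroup.mk' L), hNn, hNp, ?_, comm_of_normal_pgroup p _ hNn hNp hdeg⟩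
  rw [Subgroup.index_comap_of_surjective _ (QuotientGroup.mk'_surjective L)]
  exact hidx

/-- case of a normal `p'`-subgroup `L` of `p`-power index -/
theorem hasNormalAbelianSylow_of_pprime_top (p : ℕ) [Fact p.Prime] (L : Subgroup G) [hLn : L.Normal]
    (hpL : ¬ p ∣ Nat.card L) (k : ℕ) (hidx : L.index = p ^ k)
    (hdeg : ∀ χ : IrrCharacter G, ¬ p ∣ charDegree (χ : G → ℂ)) : HasNormalAbelianSylow p G := by
  obtain ⟨P⟩ : Nonempty (Sylow p G) := inferInstance
  have hinv := conjFun_eq_self_of_not_dvd_degree p L hLn k hidx hdeg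
  have hcomm := commute_of_invariant p L hpL hinv (P : Subgroup G) P.isPGroup'
  have htop := sup_sylow_eq_top p L hpL k hidx P
  have hPn : (P : Subgroup G).Normal := by
    constructor
    intro n hn g
    have hg : g ∈ (↑(L ⊔ (P : Subgroup G)) : Set G) := by rw [htop]; trivial
    rw [Subgroup.normal_mul] at hg
    obtain ⟨l, hl, a, ha, rfl⟩ := Set.mem_mul.1 hg
    have h1 : a * n * a⁻¹ ∈ (P : Subgroup G) := mul_mem (mul_mem ha hn) (inv_mem ha)
    have h2 := hcomm _ h1 l hl
    have h3 : l * a * n * (l * a)⁻¹ = l * (a * n * a⁻¹) * l⁻¹ := by group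
    rw [h3, ← h2]
    simpa using h1
  exact ⟨P, hPn, P.isPGroup', P.not_dvd_index, comm_of_normal_pgroup p _ hPn P.isPGroup' hdeg⟩

/-- passing from a normal subgroup of index prime to `p` to the whole group -/
theorem hasNormalAbelianSylow_of_normal (p : ℕ) [Fact p.Prime] (H : Subgroup G) [hHn : H.Normal]
    (hidx : ¬ p ∣ H.index) (hH : HasNormalAbelianSylow p H) : HasNormalAbelianSylow p G := by
  have hp : p.Prime := Fact.out
  obtain ⟨N', hn, hpg, hidx', hcomm⟩ := hH
  refine ⟨N'.map H.subtype, ?_, hpg.map _, ?_, ?_⟩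
  · constructor
    rintro x ⟨y, hy, rfl⟩ g
    have hmem : g * (y : G) * g⁻¹ ∈ H := hHn.conj_mem _ y.2 g
    obtain ⟨j, hj⟩ := (IsPGroup.iff_orderOf.1 hpg) ⟨y, hy⟩
    rw [Subgroup.orderOf_mk] at hj
    have hord : orderOf (⟨g * (y : G) * g⁻¹, hmem⟩ : H) = p ^ j := by
      rw [Subgroup.orderOf_mk, ← hj, ← Subgroup.orderOf_coe y]
      have hs : SemiconjBy g (y : G) (g * (y : G) * g⁻¹) := by
        unfold SemiconjBy
        group
      exact (SemiconjBy.orderOf_eq g hs).symm
    have := mem_of_orderOf_pow_of_not_dvd_index p N' hidx' _ j hord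
    exact ⟨_, this, rfl⟩
  · rw [Subgroup.index_map_subtype]
    intro h
    rcases hp.dvd_mul.1 h with h | h
    · exact hidx' h
    · exact hidx h
  · rintro a ⟨a', ha', rfl⟩ b ⟨b', hb', rfl⟩
    have := hcomm a' ha' b' hb'
    exact congrArg Subtype.val this

end Cases

section Core

universe u

/-- A class of finite groups closed under quotients and normal subgroups, in which every
nontrivial member has a nontrivial normal subgroup that is a `p`-group or a `p'`-group. -/
structure GoodClass (p : ℕ) (Good : ∀ (G : Type u) [Group G], Prop) : Prop where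
  quot : ∀ (G : Type u) [Group G] [Finite G] (K : Subgroup G) [K.Normal], Good G → Good (G ⧸ K)
  sub : ∀ (G : Type u) [Group G] [Finite G] (H : Subgroup G), H.Normal → Good G → Good H
  step : ∀ (G : Type u) [Group G] [Finite G], Good G → Nontrivial G →
    ∃ L : Subgroup G, L.Normal ∧ L ≠ ⊥ ∧ (IsPGroup p L ∨ ¬ p ∣ Nat.card L)

/-- Ito-Michler for a good class: degrees prime to `p` force a normal abelian Sylow
`p`-subgroup. -/
theorem hasNormalAbelianSylow_of_good (p : ℕ) [Fact p.Prime]
    (Good : ∀ (G : Type u) [Group G], Prop) (hGood : GoodClass p Good) :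
    ∀ n : ℕ, ∀ (G : Type u) [Group G] [Finite G], Nat.card G = n → Good G →
      (∀ χ : IrrCharacter G, ¬ p ∣ charDegree (χ : G → ℂ)) → HasNormalAbelianSylow p G := by
  have hp : p.Prime := Fact.out
  intro n
  induction n using Nat.strong_induction_on with
  | _ n ih =>
    intro G _ _ hn hG hdeg
    by_cases htriv : Nontrivial G
    · obtain ⟨L, hLn, hLne, hL⟩ := hGood.step G hG htriv
      have hcardL : 1 < Nat.card L := (Subgroup.one_lt_card_iff_ne_bot L).2 hLne
      have hcard : Nat.card G = Nat.card (G ⧸ L) * Nat.card L :=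
        Subgroup.card_eq_card_quotient_mul_card_subgroup L
      have hlt : Nat.card (G ⧸ L) < n := by
        rw [← hn, hcard]
        have : 0 < Nat.card (G ⧸ L) := Nat.card_pos
        nlinarith
      have hquot := ih _ hlt (G ⧸ L) rfl (hGood.quot G L hG) (not_dvd_degree_quotient p L hdeg)
      rcases hL with hL | hL
      · exact hasNormalAbelianSylow_of_pgroup p L hL hdeg hquot
      · obtain ⟨Nbar, hNn, hNp, hNidx, hNc⟩ := hquot
        by_cases htop : Nbar = ⊤
        · -- `G ⧸ L` is a `p`-group
          obtain ⟨k, hk⟩ := IsPGroup.iff_card.1 hNp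
          have hidx : L.index = p ^ k := by
            rw [← hk, htop, Subgroup.card_top]
            rfl
          exact hasNormalAbelianSylow_of_pprime_top p L hL k hidx hdeg
        · have hHn : (Nbar.comap (QuotientGroup.mk' L)).Normal := inferInstance
          have hHidx : ¬ p ∣ (Nbar.comap (QuotientGroup.mk' L)).index := by
            rw [Subgroup.index_comap_of_surjective _ (QuotientGroup.mk'_surjective L)]
            exact hNidx
          have hHne : Nbar.comap (QuotientGroup.mk' L) ≠ ⊤ := by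
            intro h
            apply htop
            rw [← Subgroup.map_comap_eq_self_of_surjective (QuotientGroup.mk'_surjective L) Nbar, h,
              Subgroup.map_top_of_surjective _ (QuotientGroup.mk'_surjective L)]
          have hHlt : Nat.card (Nbar.comap (QuotientGroup.mk' L)) < n := by
            rw [← hn]
            apply lt_of_le_of_ne (Subgroup.card_le_card_group _)
            intro h
            exact hHne ((Subgroup.card_eq_iff_eq_top _).1 h)
          have hsub := ih _ hHlt (Nbar.comap (QuotientGroup.mk' L)) rfl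
            (hGood.sub G _ hHn hG) (not_dvd_degree_of_normal p _ hHn hdeg)
          exact hasNormalAbelianSylow_of_normal p _ hHidx hsub
    · rw [not_nontrivial_iff_subsingleton] at htriv
      refine ⟨⊥, inferInstance, IsPGroup.of_bot, ?_, ?_⟩
      · rw [Subgroup.index_bot, Nat.card_unique]
        exact hp.one_lt.ne' ∘ Nat.dvd_one.1
      · intro a _ b _
        exact Subsingleton.elim _ _

end Core

end Cfsg.Agent.Helper78
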