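import Mathlib
import Cfsg.Agent.Lib.Helper93.U20

/-!
# U2 server (helper93, S2335), piece (B2): a matrix with `M* M = 1` preserves the Hermitian form
-/

set_option autoImplicit false

namespace Cfsg.Agent.Helper78.U2

open Matrix Cfsg.Agent.Helper13 Cfsg.Agent.Helper93.U2

section GRP

variable {F : Type*} [Field F] [Fintype F] {q : ℕ} (hF : Fintype.card F = q ^ 2)

/-- piece B2 -/
theorem unitary_preserves {n : ℕ} (M : Matrix (Fin n) (Fin n) F) (h : cT hF M * M = 1)
    (u v : Fin n → F) :
    Cfsg.hermForm n F q (M *ᵥ u) (M *ᵥ v) = Cfsg.hermForm n F q u v := by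
  have hform : ∀ a b : Fin n → F, Cfsg.hermForm n F q a b = a ⬝ᵥ (fun i => (b i) ^ q) := by
    intro a b
    rfl
  have hpow : (fun i => ((M *ᵥ v) i) ^ q) = (M.map (frobQ hF)) *ᵥ (fun i => (v i) ^ q) := by
    funext i
    simp only [Matrix.mulVec, dotProduct, Matrix.map_apply]
    rw [← frobQ_apply hF, map_sum]
    apply Finset.sum_congr rfl
    intro j _
    rw [map_mul]
    rfl
  have h1 : Mᵀ * M.map (frobQ hF) = 1 := by
    have h2 := congrArg Matrix.transpose h
    rw [Matrix.transpose_mul, Matrix.transpose_one] at h2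
    unfold cT at h2
    rwa [Matrix.transpose_transpose] at h2
  rw [hform, hform, hpow, Matrix.dotProduct_mulVec, ← Matrix.vecMul_transpose M u,
    Matrix.vecMul_vecMul, h1, Matrix.vecMul_one]

end GRP

end Cfsg.Agent.Helper78.U2
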