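import Cfsg.Agent.Lib.Helper78.CharOrtho

set_option autoImplicit false

namespace Cfsg.Agent.Helper78

open scoped ComplexConjugate

section Schur

variable {G : Type*} [Group G] [Fintype G]

/-- The sum of the conjugates of `ρ g`. -/
noncomputable def conjSum {V : Type*} [AddCommGroup V] [Module ℂ V] (ρ : Representation ℂ G V)
    (g : G) : Module.End ℂ V :=
  ∑ a : G, ρ (a * g * a⁻¹)

theorem conjSum_comm {V : Type*} [AddCommGroup V] [Module ℂ V] (ρ : Representation ℂ G V)
    (g b : G) : conjSum ρ g * ρ b = ρ b * conjSum ρ g := by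
  unfold conjSum
  rw [Finset.sum_mul, Finset.mul_sum]
  refine Fintype.sum_bijective (fun a => b⁻¹ * a) (Group.mulLeft_bijective _) _ _ ?_
  intro a
  rw [← map_mul, ← map_mul]
  congr 1
  group

theorem conjSum_eq_smul {V : Type*} [AddCommGroup V] [Module ℂ V] [FiniteDimensional ℂ V]
    (ρ : Representation ℂ G V) [ρ.IsIrreducible] (g : G) :
    ∃ c : ℂ, conjSum ρ g = c • 1 := by
  let T : Representation.IntertwiningMap ρ ρ :=
    { toLinearMap := conjSum ρ g
      isIntertwining' := fun b => by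
        have := conjSum_comm ρ g b
        exact this }
  obtain ⟨c, hc⟩ :=
    (Representation.IsIrreducible.algebraMap_intertwiningMap_bijective_of_isAlgClosed
      (ρ := ρ)).2 T
  refine ⟨c, ?_⟩
  have h2 := congrArg Representation.IntertwiningMap.toLinearMap hc
  rw [Representation.IntertwiningMap.algebraMap_apply] at h2
  exact h2.symm

theorem trace_conjSum {V : Type*} [AddCommGroup V] [Module ℂ V] [FiniteDimensional ℂ V]
    (ρ : Representation ℂ G V) (g : G) :
    LinearMap.trace ℂ V (conjSum ρ g) = (Nat.card G : ℂ) * ρ.character g := by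
  unfold conjSum
  rw [map_sum]
  have : ∀ a : G, LinearMap.trace ℂ V (ρ (a * g * a⁻¹)) = ρ.character g := by
    intro a
    exact Representation.char_conj ρ g a
  simp only [this, Finset.sum_const, Finset.card_univ, nsmul_eq_mul, Nat.card_eq_fintype_card]

theorem conjSum_eq {V : Type*} [AddCommGroup V] [Module ℂ V] [FiniteDimensional ℂ V]
    (ρ : Representation ℂ G V) [hρ : ρ.IsIrreducible] (g : G) :
    conjSum ρ g = ((Nat.card G : ℂ) * ρ.character g / ρ.character 1) • 1 := by
  obtain ⟨c, hc⟩ := conjSum_eq_smul ρ g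
  have h1 := trace_conjSum ρ g
  rw [hc, map_smul, LinearMap.trace_one, smul_eq_mul] at h1
  have h2 : ρ.character 1 ≠ 0 := irr_apply_one_ne_zero (isIrrCharacter_of_rep ρ)
  rw [Representation.char_one] at h2
  rw [hc, Representation.char_one, ← h1]
  congr 1
  field_simp

/-- Fundamental identity: `∑ₐ χ(a g a⁻¹ w) = |G| χ(g) χ(w) / χ(1)` for irreducible `χ`. -/
theorem sum_irr_conj_mul {χ : G → ℂ} (hχ : IsIrrCharacter G χ) (g w : G) :
    ∑ a : G, χ (a * g * a⁻¹ * w) = (Nat.card G : ℂ) * χ g * χ w / χ 1 := by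
  obtain ⟨n, ρ, hρ, rfl⟩ := hχ
  have h1 : ∑ a : G, ρ.character (a * g * a⁻¹ * w) =
      LinearMap.trace ℂ _ (conjSum ρ g * ρ w) := by
    unfold conjSum
    rw [Finset.sum_mul, map_sum]
    apply Finset.sum_congr rfl
    intro a _
    rw [← map_mul]
    rfl
  rw [h1, conjSum_eq ρ g, smul_mul_assoc, one_mul, map_smul, smul_eq_mul]
  change _ * ρ.character w = _
  ring

theorem sum_sum_irr_conj_mul {χ : G → ℂ} (hχ : IsIrrCharacter G χ) (g h w : G) :
    ∑ a : G, ∑ b : G, χ (a * g * a⁻¹ * (b * h * b⁻¹) * w) =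
      (Nat.card G : ℂ) ^ 2 * χ g * χ h * χ w / χ 1 ^ 2 := by
  have h1 : ∀ a : G, ∑ b : G, χ (a * g * a⁻¹ * (b * h * b⁻¹) * w) =
      ∑ b : G, χ (b * h * b⁻¹ * (w * (a * g * a⁻¹))) := by
    intro a
    apply Finset.sum_congr rfl
    intro b _
    have hcf := IsCharacter.isClassFunction (IsIrrCharacter.isCharacter hχ)
    have := hcf (b * h * b⁻¹ * (w * (a * g * a⁻¹))) (a * g * a⁻¹)
    rw [← this]
    congr 1
    group
  simp only [h1, sum_irr_conj_mul hχ]
  rw [← Finset.sum_div, ← Finset.mul_sum]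
  have h2 : ∀ a : G, χ (w * (a * g * a⁻¹)) = χ (a * g * a⁻¹ * w) := by
    intro a
    have hcf := IsCharacter.isClassFunction (IsIrrCharacter.isCharacter hχ)
    have := hcf (w * (a * g * a⁻¹)) (a * g * a⁻¹)
    rw [← this]
    congr 1
    group
  simp only [h2, sum_irr_conj_mul hχ]
  have h3 : χ 1 ≠ 0 := irr_apply_one_ne_zero hχ
  field_simp

open scoped Classical in
/-- Column orthogonality, counting form. -/
theorem sum_irr_mul (g w : G) :
    ∑ χ : IrrCharacter G, (χ : G → ℂ) g * (χ : G → ℂ) w =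
      ((Finset.univ.filter (fun a : G => a * g * a⁻¹ * w = 1)).card : ℂ) := by
  have h1 : ∀ χ : IrrCharacter G, (Nat.card G : ℂ) * ((χ : G → ℂ) g * (χ : G → ℂ) w) =
      ∑ a : G, (χ : G → ℂ) 1 * (χ : G → ℂ) (a * g * a⁻¹ * w) := by
    intro χ
    rw [← Finset.mul_sum, sum_irr_conj_mul χ.2]
    have h3 : (χ : G → ℂ) 1 ≠ 0 := irr_apply_one_ne_zero χ.2
    field_simp
  have h2 : (Nat.card G : ℂ) * ∑ χ : IrrCharacter G, (χ : G → ℂ) g * (χ : G → ℂ) w =
      (Nat.card G : ℂ) * ((Finset.univ.filter (fun a : G => a * g * a⁻¹ * w = 1)).card : ℂ) := by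
    rw [Finset.mul_sum]
    simp only [h1]
    rw [Finset.sum_comm]
    simp only [sum_irr_one_mul]
    rw [Finset.sum_ite, Finset.sum_const_zero, add_zero, Finset.sum_const, nsmul_eq_mul, mul_comm]
  exact mul_left_cancel₀ natCard_ne_zero_complex h2

open scoped Classical in
/-- Class multiplication formula, counting form. -/
theorem sum_irr_mul_mul_div (g h w : G) :
    (Nat.card G : ℂ) * ∑ χ : IrrCharacter G,
        (χ : G → ℂ) g * (χ : G → ℂ) h * (χ : G → ℂ) w / (χ : G → ℂ) 1 =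
      ((Finset.univ.filter
        (fun ab : G × G => ab.1 * g * ab.1⁻¹ * (ab.2 * h * ab.2⁻¹) * w = 1)).card : ℂ) := by
  have h1 : ∀ χ : IrrCharacter G, (Nat.card G : ℂ) ^ 2 *
      ((χ : G → ℂ) g * (χ : G → ℂ) h * (χ : G → ℂ) w / (χ : G → ℂ) 1) =
      ∑ a : G, ∑ b : G, (χ : G → ℂ) 1 * (χ : G → ℂ) (a * g * a⁻¹ * (b * h * b⁻¹) * w) := by
    intro χ
    simp only [← Finset.mul_sum]
    rw [sum_sum_irr_conj_mul χ.2]
    have h3 : (χ : G → ℂ) 1 ≠ 0 := irr_apply_one_ne_zero χ.2
    field_simp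
  have h2 : (Nat.card G : ℂ) * ((Nat.card G : ℂ) * ∑ χ : IrrCharacter G,
        (χ : G → ℂ) g * (χ : G → ℂ) h * (χ : G → ℂ) w / (χ : G → ℂ) 1) =
      (Nat.card G : ℂ) * ((Finset.univ.filter
        (fun ab : G × G => ab.1 * g * ab.1⁻¹ * (ab.2 * h * ab.2⁻¹) * w = 1)).card : ℂ) := by
    rw [← mul_assoc, ← pow_two, Finset.mul_sum]
    simp only [h1]
    rw [Finset.sum_comm]
    have h4 : ∀ a : G, ∑ χ : IrrCharacter G, ∑ b : G,
        (χ : G → ℂ) 1 * (χ : G → ℂ) (a * g * a⁻¹ * (b * h * b⁻¹) * w) =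
        ∑ b : G, if a * g * a⁻¹ * (b * h * b⁻¹) * w = 1 then (Nat.card G : ℂ) else 0 := by
      intro a
      rw [Finset.sum_comm]
      simp only [sum_irr_one_mul]
    simp only [h4]
    rw [← Finset.sum_product', Finset.sum_ite, Finset.sum_const_zero, add_zero, Finset.sum_const,
      nsmul_eq_mul, mul_comm]
    rfl
  exact mul_left_cancel₀ natCard_ne_zero_complex h2

end Schur

section Column

variable {G : Type*} [Group G]

theorem IsCharacter.inv [Finite G] {χ : G → ℂ} (h : IsCharacter G χ) (g : G) :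
    χ g⁻¹ = conj (χ g) := by
  obtain ⟨n, ρ, rfl⟩ := h
  exact char_inv ρ g

theorem IsIrrCharacter.inv [Finite G] {χ : G → ℂ} (h : IsIrrCharacter G χ) (g : G) :
    χ g⁻¹ = conj (χ g) :=
  IsCharacter.inv (IsIrrCharacter.isCharacter h) g

theorem IsCharacter.isIntegral [Finite G] {χ : G → ℂ} (h : IsCharacter G χ) (g : G) :
    IsIntegral ℤ (χ g) := by
  obtain ⟨n, ρ, rfl⟩ := h
  exact char_isIntegral ρ g

theorem IsIrrCharacter.isIntegral [Finite G] {χ : G → ℂ} (h : IsIrrCharacter G χ) (g : G) :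
    IsIntegral ℤ (χ g) :=
  IsCharacter.isIntegral (IsIrrCharacter.isCharacter h) g

open scoped Classical in
theorem card_conjugators [Fintype G] (g h : G) :
    (Finset.univ.filter (fun a : G => a * g * a⁻¹ = h)).card =
      if IsConj g h then Nat.card (Subgroup.centralizer ({g} : Set G)) else 0 := by
  by_cases hc : IsConj g h
  · rw [if_pos hc]
    obtain ⟨c, hc⟩ := isConj_iff.mp hc
    rw [Nat.card_eq_fintype_card, ← Fintype.card_subtype]
    apply Fintype.card_congr
    refine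
      { toFun := fun a => ⟨c⁻¹ * a.1, ?_⟩
        invFun := fun a => ⟨c * a.1, ?_⟩
        left_inv := fun a => by simp
        right_inv := fun a => by simp }
    · rw [Subgroup.mem_centralizer_iff]
      intro x hx
      rw [Set.mem_singleton_iff] at hx
      subst hx
      have h1 := a.2
      have h2 : a.1 * x * a.1⁻¹ = c * x * c⁻¹ := by rw [h1, hc]
      calc x * (c⁻¹ * a.1) = c⁻¹ * (c * x * c⁻¹) * a.1 := by group
        _ = c⁻¹ * (a.1 * x * a.1⁻¹) * a.1 := by rw [h2]
        _ = c⁻¹ * a.1 * x := by group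
    · have h1 := a.2
      rw [Subgroup.mem_centralizer_iff] at h1
      have h2 := h1 g (Set.mem_singleton g)
      calc c * a.1 * g * (c * a.1)⁻¹ = c * (a.1 * g) * a.1⁻¹ * c⁻¹ := by group
        _ = c * (g * a.1) * a.1⁻¹ * c⁻¹ := by rw [h2]
        _ = c * g * c⁻¹ := by group
        _ = h := hc
  · rw [if_neg hc, Finset.card_eq_zero, Finset.filter_eq_empty_iff]
    intro a _ ha
    exact hc (isConj_iff.mpr ⟨a, ha⟩)

open scoped Classical in
/-- Column orthogonality (second orthogonality relation). -/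
theorem sum_irr_mul_conj [Fintype G] (g h : G) :
    ∑ χ : IrrCharacter G, (χ : G → ℂ) g * conj ((χ : G → ℂ) h) =
      if IsConj g h then (Nat.card (Subgroup.centralizer ({g} : Set G)) : ℂ) else 0 := by
  have h1 : ∀ χ : IrrCharacter G, conj ((χ : G → ℂ) h) = (χ : G → ℂ) h⁻¹ := by
    intro χ
    rw [IsIrrCharacter.inv χ.2]
  simp only [h1]
  rw [sum_irr_mul]
  have h2 : (Finset.univ.filter (fun a : G => a * g * a⁻¹ * h⁻¹ = 1)) =
      (Finset.univ.filter (fun a : G => a * g * a⁻¹ = h)) := by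
    apply Finset.filter_congr
    intro a _
    rw [mul_inv_eq_one]
  rw [h2, card_conjugators]
  split_ifs <;> simp

/-- Irreducible characters separate conjugacy classes. -/
theorem isConj_of_forall_irr_eq [Finite G] (g h : G)
    (hyp : ∀ χ : IrrCharacter G, (χ : G → ℂ) g = (χ : G → ℂ) h) : IsConj g h := by
  classical
  have : Fintype G := Fintype.ofFinite G
  by_contra hc
  have h1 := sum_irr_mul_conj g h
  rw [if_neg hc] at h1
  have h2 := sum_irr_mul_conj g g
  rw [if_pos (IsConj.refl g)] at h2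
  simp only [← hyp] at h1
  rw [h1] at h2
  have h3 : Nat.card (Subgroup.centralizer ({g} : Set G)) ≠ 0 := Nat.card_pos.ne'
  exact h3 (by exact_mod_cast h2.symm)

theorem isConj_iff_forall_irr_eq [Finite G] (g h : G) :
    IsConj g h ↔ ∀ χ : IrrCharacter G, (χ : G → ℂ) g = (χ : G → ℂ) h := by
  constructor
  · intro hc χ
    obtain ⟨c, rfl⟩ := isConj_iff.mp hc
    exact (IsCharacter.isClassFunction (IsIrrCharacter.isCharacter χ.2) g c).symm
  · exact isConj_of_forall_irr_eq g h

end Column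

end Cfsg.Agent.Helper78
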