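import Mathlib
import Cfsg.Agent.Lib.Helper93.RU0

/-!
# RU project (S2280), piece (D1): the set `W` of full centres is closed under addition.
Self-contained (own copies of the (A1)/(A5) facts).
-/

set_option autoImplicit false

namespace Cfsg.Agent.Helper78.RU

open Matrix Cfsg.Agent.Helper93.RU

variable {F : Type*} [Field F] {m : ℕ}

theorem d1_det_tvM (v φ : Fin (m + 3) → F) : (tvM v φ).det = 1 + φ ⬝ᵥ v := by
  unfold tvM
  rw [Matrix.vecMulVec_eq Unit, Matrix.det_one_add_replicateCol_mul_replicateRow]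

theorem d1_tvS_pos (v φ : Fin (m + 3) → F) (h : (tvM v φ).det = 1) :
    tvS v φ = ⟨tvM v φ, h⟩ := dif_pos h

theorem d1_tvS_neg (v φ : Fin (m + 3) → F) (h : ¬ (tvM v φ).det = 1) :
    tvS v φ = 1 := dif_neg h

theorem d1_tvS_val (v φ : Fin (m + 3) → F) (h : φ ⬝ᵥ v = 0) : (tvS v φ).1 = tvM v φ := by
  have hd : (tvM v φ).det = 1 := by rw [d1_det_tvM, h, add_zero]
  rw [d1_tvS_pos v φ hd]

theorem d1_tvM_mul (v φ w ψ : Fin (m + 3) → F) :
    tvM v φ * tvM w ψ = 1 + vecMulVec v φ + vecMulVec w ψ + (φ ⬝ᵥ w) • vecMulVec v ψ := by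
  unfold tvM
  rw [Matrix.add_mul, Matrix.mul_add, Matrix.mul_add, Matrix.one_mul, Matrix.one_mul,
    Matrix.mul_one, Matrix.vecMulVec_mul_vecMulVec, Matrix.vecMulVec_smul]
  abel

theorem d1_tvS_smul (a : F) (v φ : Fin (m + 3) → F) : tvS (a • v) φ = tvS v (a • φ) := by
  have hM : tvM (a • v) φ = tvM v (a • φ) := by
    unfold tvM
    rw [Matrix.smul_vecMulVec, Matrix.vecMulVec_smul]
  by_cases hd : (tvM v (a • φ)).det = 1
  · have hd' : (tvM (a • v) φ).det = 1 := by rw [hM]; exact hd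
    rw [d1_tvS_pos _ _ hd, d1_tvS_pos _ _ hd']
    exact Subtype.ext hM
  · have hd' : ¬ (tvM (a • v) φ).det = 1 := by rw [hM]; exact hd
    rw [d1_tvS_neg _ _ hd, d1_tvS_neg _ _ hd']

/-- first case: `χ` kills both `v` and `w`. -/
theorem d1_case_both (H : Subgroup (SLm m F)) (v w χ : Fin (m + 3) → F) (hv : v ∈ Wset H)
    (hw : w ∈ Wset H) (h1 : χ ⬝ᵥ v = 0) (h2 : χ ⬝ᵥ w = 0) : tvS (v + w) χ ∈ H := by
  have hsum : χ ⬝ᵥ (v + w) = 0 := by rw [dotProduct_add, h1, h2, add_zero]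
  have hEq : tvS (v + w) χ = tvS v χ * tvS w χ := by
    apply Subtype.ext
    rw [Matrix.SpecialLinearGroup.coe_mul, d1_tvS_val _ _ hsum, d1_tvS_val _ _ h1,
      d1_tvS_val _ _ h2, d1_tvM_mul, h2, zero_smul, add_zero]
    unfold tvM
    rw [Matrix.add_vecMulVec, add_assoc]
  rw [hEq]
  exact H.mul_mem (hv χ h1) (hw χ h2)

/-- second case: some functional kills `v` but not `w`. -/
theorem d1_case_indep (H : Subgroup (SLm m F)) (v w χ φ₀ : Fin (m + 3) → F) (hv : v ∈ Wset H)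
    (hw : w ∈ Wset H) (hχ : χ ⬝ᵥ (v + w) = 0) (h1 : φ₀ ⬝ᵥ v = 0) (h2 : φ₀ ⬝ᵥ w = 1) :
    tvS (v + w) χ ∈ H := by
  set ψ : Fin (m + 3) → F := χ + (χ ⬝ᵥ v) • φ₀ with hψ
  have hψw : ψ ⬝ᵥ w = 0 := by
    rw [hψ, add_dotProduct, smul_dotProduct, h2, smul_eq_mul, mul_one, add_comm,
      ← dotProduct_add]
    exact hχ
  have hg : tvS v φ₀ ∈ H := hv φ₀ h1
  have hs : tvS w ψ ∈ H := hw ψ hψw
  have hEq : tvS v φ₀ * tvS w ψ = tvS (v + w) χ * tvS v φ₀ := by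
    apply Subtype.ext
    rw [Matrix.SpecialLinearGroup.coe_mul, Matrix.SpecialLinearGroup.coe_mul,
      d1_tvS_val _ _ hχ, d1_tvS_val _ _ h1, d1_tvS_val _ _ hψw, d1_tvM_mul, d1_tvM_mul, h2,
      one_smul, hψ]
    simp only [Matrix.add_vecMulVec, Matrix.vecMulVec_add, Matrix.vecMulVec_smul, smul_add]
    abel
  have hEq' : tvS (v + w) χ = tvS v φ₀ * tvS w ψ * (tvS v φ₀)⁻¹ := by
    rw [hEq, mul_inv_cancel_right]
  rw [hEq']
  exact H.mul_mem (H.mul_mem hg hs) (H.inv_mem hg)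

/-- third case: every functional killing `v` kills `w`, `v ≠ 0`: then `w` is a multiple of `v`. -/
theorem d1_dependent (v w : Fin (m + 3) → F) (hv0 : v ≠ 0)
    (h : ∀ φ : Fin (m + 3) → F, φ ⬝ᵥ v = 0 → φ ⬝ᵥ w = 0) : ∃ a : F, w = a • v := by
  obtain ⟨i, hi⟩ : ∃ i, v i ≠ 0 := by
    by_contra hcon
    apply hv0
    funext i
    by_contra hi
    exact hcon ⟨i, hi⟩
  refine ⟨w i / v i, ?_⟩
  funext j
  have h1 := h (v i • Pi.single j 1 - v j • Pi.single i 1) (by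
    rw [sub_dotProduct, smul_dotProduct, smul_dotProduct, single_dotProduct, single_dotProduct]
    simp only [smul_eq_mul, one_mul]
    ring)
  rw [sub_dotProduct, smul_dotProduct, smul_dotProduct, single_dotProduct, single_dotProduct] at h1
  simp only [smul_eq_mul, one_mul] at h1
  rw [Pi.smul_apply, smul_eq_mul]
  field_simp
  linear_combination h1

/-- (D1) -/
theorem W_add (H : Subgroup (SLm m F)) (v w : Fin (m + 3) → F) (hv : v ∈ Wset H) (hw : w ∈ Wset H) :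
    v + w ∈ Wset H := by
  intro χ hχ
  by_cases hex : ∃ φ₀ : Fin (m + 3) → F, φ₀ ⬝ᵥ v = 0 ∧ φ₀ ⬝ᵥ w ≠ 0
  · obtain ⟨φ₀, h1, h2⟩ := hex
    refine d1_case_indep H v w χ ((φ₀ ⬝ᵥ w)⁻¹ • φ₀) hv hw hχ ?_ ?_
    · rw [smul_dotProduct, h1, smul_zero]
    · rw [smul_dotProduct, smul_eq_mul, inv_mul_cancel₀ h2]
  · have hall : ∀ φ : Fin (m + 3) → F, φ ⬝ᵥ v = 0 → φ ⬝ᵥ w = 0 := by
      intro φ hφ
      by_contra hne
      exact hex ⟨φ, hφ, hne⟩
    by_cases hv0 : v = 0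
    · subst hv0
      rw [zero_add]
      rw [zero_add] at hχ
      exact hw χ hχ
    · obtain ⟨a, rfl⟩ := d1_dependent v w hv0 hall
      have hvw : v + a • v = (1 + a) • v := by rw [add_smul, one_smul]
      rw [hvw, d1_tvS_smul]
      apply hv
      rw [smul_dotProduct, ← dotProduct_smul, ← hvw]
      exact hχ

end Cfsg.Agent.Helper78.RU
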