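import Cfsg.Agent.Lib.Helper78.CharBasic

set_option autoImplicit false

namespace Cfsg.Agent.Helper78

open scoped ComplexConjugate

section Inner

variable {G : Type*} [Group G] [Fintype G]

theorem classInner_add_left (φ₁ φ₂ ψ : G → ℂ) :
    classInner (φ₁ + φ₂) ψ = classInner φ₁ ψ + classInner φ₂ ψ := by
  simp only [classInner, Pi.add_apply, add_mul, Finset.sum_add_distrib, mul_add]

theorem classInner_smul_left (c : ℂ) (φ ψ : G → ℂ) :
    classInner (c • φ) ψ = c * classInner φ ψ := by
  simp only [classInner, Pi.smul_apply, smul_eq_mul, Finset.mul_sum]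
  apply Finset.sum_congr rfl
  intro g _
  ring

theorem classInner_zero_left (ψ : G → ℂ) : classInner (0 : G → ℂ) ψ = 0 := by
  simp [classInner]

theorem classInner_sum_left {ι : Type*} (s : Finset ι) (φ : ι → G → ℂ) (ψ : G → ℂ) :
    classInner (∑ i ∈ s, φ i) ψ = ∑ i ∈ s, classInner (φ i) ψ := by
  classical
  induction s using Finset.induction_on with
  | empty => simp [classInner_zero_left]
  | insert a s ha ih => rw [Finset.sum_insert ha, Finset.sum_insert ha, classInner_add_left, ih]

theorem classInner_conj_symm (φ ψ : G → ℂ) : conj (classInner φ ψ) = classInner ψ φ := by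
  simp only [classInner, map_mul, map_inv₀, Complex.conj_natCast, map_sum, Complex.conj_conj]
  congr 1
  apply Finset.sum_congr rfl
  intro g _
  ring

theorem classInner_add_right (φ ψ₁ ψ₂ : G → ℂ) :
    classInner φ (ψ₁ + ψ₂) = classInner φ ψ₁ + classInner φ ψ₂ := by
  simp only [classInner, Pi.add_apply, map_add, mul_add, Finset.sum_add_distrib]

theorem classInner_smul_right (c : ℂ) (φ ψ : G → ℂ) :
    classInner φ (c • ψ) = conj c * classInner φ ψ := by
  simp only [classInner, Pi.smul_apply, smul_eq_mul, Finset.mul_sum, map_mul]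
  apply Finset.sum_congr rfl
  intro g _
  ring

theorem classInner_zero_right (φ : G → ℂ) : classInner φ (0 : G → ℂ) = 0 := by
  simp [classInner]

theorem classInner_sum_right {ι : Type*} (s : Finset ι) (φ : G → ℂ) (ψ : ι → G → ℂ) :
    classInner φ (∑ i ∈ s, ψ i) = ∑ i ∈ s, classInner φ (ψ i) := by
  classical
  induction s using Finset.induction_on with
  | empty => simp [classInner_zero_right]
  | insert a s ha ih => rw [Finset.sum_insert ha, Finset.sum_insert ha, classInner_add_right, ih]

end Inner

section Ortho

variable {G : Type*} [Group G] [Fintype G]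

theorem natCard_ne_zero_complex : (Nat.card G : ℂ) ≠ 0 := by
  have : Nat.card G ≠ 0 := Nat.card_pos.ne'
  exact_mod_cast this

theorem classInner_rep_eq {V W : Type*} [AddCommGroup V] [Module ℂ V] [FiniteDimensional ℂ V]
    [AddCommGroup W] [Module ℂ W] [FiniteDimensional ℂ W]
    (ρ : Representation ℂ G V) (σ : Representation ℂ G W) :
    classInner ρ.character σ.character =
      (Nat.card G : ℂ)⁻¹ * ∑ g : G, ρ.character g * σ.character g⁻¹ := by
  simp only [classInner, char_inv]

theorem classInner_rep_eq_finrank {V W : Type*} [AddCommGroup V] [Module ℂ V]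
    [FiniteDimensional ℂ V] [AddCommGroup W] [Module ℂ W] [FiniteDimensional ℂ W]
    (ρ : Representation ℂ G V) (σ : Representation ℂ G W) :
    classInner ρ.character σ.character = Module.finrank ℂ (Representation.IntertwiningMap σ ρ) := by
  have : Invertible (Nat.card G : ℂ) := invertibleOfNonzero natCard_ne_zero_complex
  rw [classInner_rep_eq]
  exact Representation.card_inv_mul_sum_char_mul_char_eq_finrank σ ρ

open scoped Classical in
theorem classInner_irr_rep {V W : Type*} [AddCommGroup V] [Module ℂ V] [FiniteDimensional ℂ V]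
    [AddCommGroup W] [Module ℂ W] [FiniteDimensional ℂ W]
    (ρ : Representation ℂ G V) (σ : Representation ℂ G W) [ρ.IsIrreducible] [σ.IsIrreducible] :
    classInner ρ.character σ.character =
      if Nonempty (Representation.Equiv σ ρ) then 1 else 0 := by
  have : Invertible (Nat.card G : ℂ) := invertibleOfNonzero natCard_ne_zero_complex
  rw [classInner_rep_eq]
  convert Representation.char_orthonormal ρ σ

open scoped Classical in
/-- First orthogonality relation for irreducible characters (function form). -/
theorem classInner_irr' {χ ψ : G → ℂ} (hχ : IsIrrCharacter G χ) (hψ : IsIrrCharacter G ψ) :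
    classInner χ ψ = if χ = ψ then 1 else 0 := by
  obtain ⟨n, ρ, hρ, rfl⟩ := hχ
  obtain ⟨m, σ, hσ, rfl⟩ := hψ
  have := hρ
  have := hσ
  rw [classInner_irr_rep ρ σ]
  by_cases h : Nonempty (Representation.Equiv σ ρ)
  · obtain ⟨φ⟩ := h
    have h5 := Representation.char_iso φ
    rw [if_pos ⟨φ⟩, if_pos h5.symm]
  · rw [if_neg h]
    by_cases h2 : ρ.character = σ.character
    · exfalso
      have h3 := classInner_irr_rep ρ ρ
      rw [if_pos ⟨Representation.Equiv.refl ρ⟩] at h3
      have h4 := classInner_irr_rep ρ σ
      rw [if_neg h, ← h2, h3] at h4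
      exact one_ne_zero h4
    · rw [if_neg h2]

open scoped Classical in
/-- First orthogonality relation for irreducible characters. -/
theorem classInner_irr (χ ψ : IrrCharacter G) :
    classInner (χ : G → ℂ) (ψ : G → ℂ) = if χ = ψ then 1 else 0 := by
  rw [classInner_irr' χ.2 ψ.2]
  by_cases h : χ = ψ
  · rw [if_pos h, if_pos (congrArg Subtype.val h)]
  · rw [if_neg h, if_neg (fun h' => h (Subtype.ext h'))]

theorem classInner_irr_self (χ : IrrCharacter G) : classInner (χ : G → ℂ) (χ : G → ℂ) = 1 := by
  rw [classInner_irr, if_pos rfl]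

theorem classInner_irr_ne {χ ψ : IrrCharacter G} (h : χ ≠ ψ) :
    classInner (χ : G → ℂ) (ψ : G → ℂ) = 0 := by
  rw [classInner_irr, if_neg h]

theorem irr_linearIndependent :
    LinearIndependent ℂ (fun χ : IrrCharacter G => (χ : G → ℂ)) := by
  classical
  rw [linearIndependent_iff']
  intro s c hc χ hχ
  have h1 : classInner (∑ i ∈ s, c i • (i : G → ℂ)) (χ : G → ℂ) = 0 := by
    rw [hc, classInner_zero_left]
  rw [classInner_sum_left] at h1
  simp only [classInner_smul_left, classInner_irr] at h1
  rw [Finset.sum_eq_single χ] at h1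
  · simpa using h1
  · intro b _ hb
    rw [if_neg hb, mul_zero]
  · intro h; exact absurd hχ h

instance irr_finite : Finite (IrrCharacter G) :=
  irr_linearIndependent.finite_of_isNoetherian

noncomputable instance irr_fintype : Fintype (IrrCharacter G) := Fintype.ofFinite _

end Ortho

section Decomp

theorem trace_eq_add_of_isCompl {K V : Type*} [Field K] [AddCommGroup V] [Module K V]
    [FiniteDimensional K V] (p q : Submodule K V) (h : IsCompl p q) (f : Module.End K V)
    (hp : ∀ x ∈ p, f x ∈ p) (hq : ∀ x ∈ q, f x ∈ q) :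
    LinearMap.trace K V f = LinearMap.trace K p (f.restrict hp) + LinearMap.trace K q (f.restrict hq) := by
  let e := Submodule.prodEquivOfIsCompl p q h
  have h1 : e.conj ((f.restrict hp).prodMap (f.restrict hq)) = f := by
    apply LinearMap.ext
    intro v
    obtain ⟨⟨x, y⟩, rfl⟩ := e.surjective v
    rw [LinearEquiv.conj_apply_apply, LinearEquiv.symm_apply_apply]
    simp only [e, LinearMap.prodMap_apply, Submodule.coe_prodEquivOfIsCompl', map_add]
    rfl
  rw [← LinearMap.trace_prodMap', ← LinearMap.trace_conj' _ e, h1]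

variable {G : Type*} [Group G]

theorem character_eq_add_of_isCompl {V : Type*} [AddCommGroup V] [Module ℂ V]
    [FiniteDimensional ℂ V] (ρ : Representation ℂ G V) (τ τ' : Subrepresentation ρ)
    (h : IsCompl τ.toSubmodule τ'.toSubmodule) :
    ρ.character = τ.toRepresentation.character + τ'.toRepresentation.character := by
  funext g
  exact trace_eq_add_of_isCompl τ.toSubmodule τ'.toSubmodule h (ρ g)
    (fun x hx => τ.apply_mem_toSubmodule g hx) (fun x hx => τ'.apply_mem_toSubmodule g hx)

theorem isCompl_toSubmodule {V : Type*} [AddCommGroup V] [Module ℂ V]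
    {ρ : Representation ℂ G V} {τ τ' : Subrepresentation ρ} (h : IsCompl τ τ') :
    IsCompl τ.toSubmodule τ'.toSubmodule := by
  constructor
  · rw [disjoint_iff]
    have h1 := h.inf_eq_bot
    have h2 := congrArg Subrepresentation.toSubmodule h1
    rw [Subrepresentation.toSubmodule_inf] at h2
    exact h2
  · rw [codisjoint_iff]
    have h1 := h.sup_eq_top
    have h2 := congrArg Subrepresentation.toSubmodule h1
    rw [Subrepresentation.toSubmodule_sup] at h2
    exact h2

/-- Push a subrepresentation of a subrepresentation to the ambient representation. -/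
def subrepMapSubtype {V : Type*} [AddCommGroup V] [Module ℂ V]
    {ρ : Representation ℂ G V} (τ : Subrepresentation ρ)
    (υ : Subrepresentation τ.toRepresentation) : Subrepresentation ρ where
  toSubmodule := υ.toSubmodule.map τ.toSubmodule.subtype
  apply_mem_toSubmodule g v hv := by
    obtain ⟨w, hw, rfl⟩ := hv
    exact ⟨τ.toRepresentation g w, υ.apply_mem_toSubmodule g hw, rfl⟩

theorem exists_irreducible_subrep {V : Type*} [AddCommGroup V] [Module ℂ V]
    [FiniteDimensional ℂ V] [Nontrivial V] (ρ : Representation ℂ G V) :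
    ∃ τ : Subrepresentation ρ, τ.toRepresentation.IsIrreducible := by
  classical
  -- choose a nonzero subrepresentation of minimal dimension
  let S : Set ℕ := {n | ∃ τ : Subrepresentation ρ, τ.toSubmodule ≠ ⊥ ∧
    Module.finrank ℂ τ.toSubmodule = n}
  have hS : S.Nonempty := by
    refine ⟨Module.finrank ℂ (⊤ : Subrepresentation ρ).toSubmodule, ⊤, ?_, rfl⟩
    change (⊤ : Submodule ℂ V) ≠ ⊥
    exact top_ne_bot
  obtain ⟨τ, hτ0, hτn⟩ := Nat.sInf_mem hS
  have hmin : ∀ τ' : Subrepresentation ρ, τ'.toSubmodule ≠ ⊥ →
      Module.finrank ℂ τ.toSubmodule ≤ Module.finrank ℂ τ'.toSubmodule := by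
    intro τ' h'
    rw [hτn]
    exact Nat.sInf_le ⟨τ', h', rfl⟩
  refine ⟨τ, ?_⟩
  have hnt : Nontrivial (Subrepresentation τ.toRepresentation) := by
    refine ⟨⊥, ⊤, ?_⟩
    intro h
    have h2 := congrArg Subrepresentation.toSubmodule h
    change (⊥ : Submodule ℂ τ.toSubmodule) = ⊤ at h2
    apply hτ0
    rw [Submodule.eq_bot_iff]
    intro x hx
    have : (⟨x, hx⟩ : τ.toSubmodule) ∈ (⊤ : Submodule ℂ τ.toSubmodule) := trivial
    rw [← h2, Submodule.mem_bot] at this
    exact congrArg Subtype.val this
  refine { toNontrivial := hnt, eq_bot_or_eq_top := ?_ }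
  intro υ
  by_cases hυ : υ.toSubmodule = ⊥
  · left
    exact Subrepresentation.toSubmodule_injective hυ
  · right
    apply Subrepresentation.toSubmodule_injective
    change υ.toSubmodule = ⊤
    have h1 : (subrepMapSubtype τ υ).toSubmodule ≠ ⊥ := by
      intro h
      apply hυ
      have h' : υ.toSubmodule.map τ.toSubmodule.subtype = ⊥ := h
      rw [Submodule.eq_bot_iff]
      intro w hw
      have h4 : τ.toSubmodule.subtype w ∈ υ.toSubmodule.map τ.toSubmodule.subtype :=
        ⟨w, hw, rfl⟩
      rw [h', Submodule.mem_bot] at h4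
      exact Subtype.ext h4
    have h2 := hmin _ h1
    have h3 : Module.finrank ℂ (subrepMapSubtype τ υ).toSubmodule =
        Module.finrank ℂ υ.toSubmodule := by
      change Module.finrank ℂ (υ.toSubmodule.map τ.toSubmodule.subtype) = _
      exact LinearEquiv.finrank_eq
        (Submodule.equivMapOfInjective _ (Submodule.injective_subtype _) _).symm
    rw [h3] at h2
    apply Submodule.eq_top_of_finrank_eq
    exact le_antisymm (Submodule.finrank_le _) h2

theorem character_eq_zero_of_finrank_eq_zero {V : Type*} [AddCommGroup V] [Module ℂ V]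
    [FiniteDimensional ℂ V] (ρ : Representation ℂ G V) (h : Module.finrank ℂ V = 0) :
    ρ.character = 0 := by
  funext g
  have : Subsingleton V := Module.finrank_zero_iff.mp h
  have h1 : ρ g = 0 := by
    apply LinearMap.ext
    intro v
    exact Subsingleton.elim _ _
  simp [Representation.character, h1]

variable [Fintype G]

/-- Maschke decomposition at the level of characters: every character of a finite group is a
natural-number combination of irreducible characters. -/
theorem exists_irr_decomp_aux (n : ℕ) : ∀ (V : Type*) [AddCommGroup V] [Module ℂ V]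
    [FiniteDimensional ℂ V] (ρ : Representation ℂ G V), Module.finrank ℂ V = n →
    ∃ m : IrrCharacter G → ℕ, ρ.character = ∑ χ : IrrCharacter G, (m χ : ℂ) • (χ : G → ℂ) := by
  induction n using Nat.strong_induction_on with
  | _ n ih =>
    intro V _ _ _ ρ hn
    rcases Nat.eq_zero_or_pos n with h0 | hpos
    · refine ⟨fun _ => 0, ?_⟩
      rw [character_eq_zero_of_finrank_eq_zero ρ (hn.trans h0)]
      simp
    · have hnt : Nontrivial V := Module.nontrivial_of_finrank_pos (R := ℂ) (hn ▸ hpos)
      obtain ⟨τ, hτ⟩ := exists_irreducible_subrep ρ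
      have hNZ : NeZero (Nat.card G : ℂ) := ⟨natCard_ne_zero_complex⟩
      have hss : Representation.IsSemisimpleRepresentation ρ := inferInstance
      obtain ⟨τ', hc⟩ := exists_isCompl τ
      have hc' := isCompl_toSubmodule hc
      have hdim := Submodule.finrank_add_eq_of_isCompl hc'
      have hτpos : 0 < Module.finrank ℂ τ.toSubmodule := by
        have : Nontrivial τ.toSubmodule := by
          have := hτ.toNontrivial
          by_contra hcon
          rw [not_nontrivial_iff_subsingleton] at hcon
          obtain ⟨a, b, hab⟩ := this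
          apply hab
          apply Subrepresentation.toSubmodule_injective
          exact Subsingleton.elim _ _
        exact Module.finrank_pos
      have hlt : Module.finrank ℂ τ'.toSubmodule < n := by omega
      obtain ⟨m', hm'⟩ := ih _ hlt _ τ'.toRepresentation rfl
      have hχ0 : IsIrrCharacter G τ.toRepresentation.character :=
        isIrrCharacter_of_rep τ.toRepresentation
      classical
      refine ⟨fun χ => m' χ + if χ = ⟨_, hχ0⟩ then 1 else 0, ?_⟩
      rw [character_eq_add_of_isCompl ρ τ τ' hc', hm']
      simp only [Nat.cast_add, add_smul, Finset.sum_add_distrib]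
      rw [add_comm]
      congr 1
      rw [Finset.sum_eq_single ⟨_, hχ0⟩]
      · simp
      · intro b _ hb
        simp [hb]
      · intro h; exact absurd (Finset.mem_univ _) h

theorem exists_irr_decomp {V : Type*} [AddCommGroup V] [Module ℂ V]
    [FiniteDimensional ℂ V] (ρ : Representation ℂ G V) :
    ∃ m : IrrCharacter G → ℕ, ρ.character = ∑ χ : IrrCharacter G, (m χ : ℂ) • (χ : G → ℂ) :=
  exists_irr_decomp_aux _ V ρ rfl

theorem IsCharacter.exists_irr_decomp {ψ : G → ℂ} (h : IsCharacter G ψ) :
    ∃ m : IrrCharacter G → ℕ, ψ = ∑ χ : IrrCharacter G, (m χ : ℂ) • (χ : G → ℂ) := by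
  obtain ⟨n, ρ, rfl⟩ := h
  exact Cfsg.Agent.Helper78.exists_irr_decomp ρ

end Decomp

section Regular

variable {G : Type*} [Group G] [Fintype G]

open scoped Classical in
theorem leftRegular_character (g : G) :
    (Representation.leftRegular ℂ G).character g = if g = 1 then (Nat.card G : ℂ) else 0 := by
  rw [Representation.character,
    LinearMap.trace_eq_matrix_trace ℂ (MonoidAlgebra.basis G ℂ), Matrix.trace]
  simp only [Matrix.diag_apply, LinearMap.toMatrix_apply, MonoidAlgebra.basis_apply,
    Representation.ofMulAction_single, smul_eq_mul]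
  have h1 : ∀ x : G, ((MonoidAlgebra.basis G ℂ).repr (MonoidAlgebra.single (g * x) (1:ℂ))) x =
      if g = 1 then 1 else 0 := by
    intro x
    change (MonoidAlgebra.single (g * x) (1:ℂ)).coeff x = _
    rw [MonoidAlgebra.coeff_single, Finsupp.single_apply]
    by_cases hg : g = 1
    · simp [hg]
    · rw [if_neg hg, if_neg]
      intro h
      apply hg
      exact mul_eq_right.mp h
  simp only [h1]
  by_cases hg : g = 1
  · simp [hg, Nat.card_eq_fintype_card]
  · simp [hg]

omit [Fintype G] in
theorem irr_apply_one {χ : G → ℂ} (h : IsIrrCharacter G χ) :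
    ∃ n : ℕ, 0 < n ∧ χ 1 = (n : ℂ) := by
  obtain ⟨n, ρ, hρ, rfl⟩ := h
  refine ⟨n, ?_, ?_⟩
  · by_contra hn
    have hn0 : n = 0 := by omega
    subst hn0
    have := hρ.toNontrivial
    obtain ⟨a, b, hab⟩ := this
    apply hab
    apply Subrepresentation.toSubmodule_injective
    apply Subsingleton.elim
  · rw [Representation.char_one]
    simp

omit [Fintype G] in
theorem irr_apply_one_ne_zero {χ : G → ℂ} (h : IsIrrCharacter G χ) : χ 1 ≠ 0 := by
  obtain ⟨n, hn, h1⟩ := irr_apply_one h
  rw [h1]
  exact_mod_cast hn.ne'

omit [Fintype G] in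
theorem irr_conj_apply_one {χ : G → ℂ} (h : IsIrrCharacter G χ) : conj (χ 1) = χ 1 := by
  obtain ⟨n, hn, h1⟩ := irr_apply_one h
  rw [h1, Complex.conj_natCast]

/-- Multiplicities in a decomposition are inner products. -/
theorem classInner_decomp (m : IrrCharacter G → ℂ) (χ : IrrCharacter G) :
    classInner (∑ ψ : IrrCharacter G, m ψ • (ψ : G → ℂ)) (χ : G → ℂ) = m χ := by
  classical
  rw [classInner_sum_left]
  simp only [classInner_smul_left, classInner_irr]
  rw [Finset.sum_eq_single χ]
  · simp
  · intro b _ hb
    rw [if_neg hb, mul_zero]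
  · intro h; exact absurd (Finset.mem_univ _) h

open scoped Classical in
/-- The regular character formula: `∑ χ, χ(1) χ(g) = |G|` if `g = 1` and `0` otherwise. -/
theorem sum_irr_one_mul (g : G) :
    ∑ χ : IrrCharacter G, (χ : G → ℂ) 1 * (χ : G → ℂ) g =
      if g = 1 then (Nat.card G : ℂ) else 0 := by
  obtain ⟨m, hm⟩ := exists_irr_decomp (Representation.leftRegular ℂ G)
  have h1 : ∀ χ : IrrCharacter G, (m χ : ℂ) = (χ : G → ℂ) 1 := by
    intro χ
    have h2 := classInner_decomp (fun ψ => (m ψ : ℂ)) χ
    rw [← hm] at h2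
    rw [← h2, classInner]
    simp only [leftRegular_character]
    rw [Finset.sum_eq_single 1]
    · rw [if_pos rfl, irr_conj_apply_one χ.2, ← mul_assoc, inv_mul_cancel₀ natCard_ne_zero_complex,
        one_mul]
    · intro b _ hb
      rw [if_neg hb, zero_mul]
    · intro h; exact absurd (Finset.mem_univ _) h
  have h3 := congrFun hm g
  rw [leftRegular_character] at h3
  rw [h3]
  simp only [Finset.sum_apply, Pi.smul_apply, smul_eq_mul, h1]

end Regular

end Cfsg.Agent.Helper78
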