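import Mathlib
import Cfsg.Prelude.Def_Blocks
import Cfsg.Agent.Lib.Helper78.CharOrtho
import Cfsg.Agent.S0188
import Cfsg.Agent.Lib.Helper81.CharClifford

/-!
# Irreducible characters of a direct product (helper78)

* `exists_prod_decomp` : every irreducible character of `A × B` is a product `ζ × ψ` of irreducible
  characters of the factors.
* `isIrrCharacter_comp_surjective` : composing an irreducible character with a surjective
  homomorphism gives an irreducible character.
-/

set_option autoImplicit false
set_option linter.unusedSectionVars false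

namespace Cfsg.Agent.Helper78

open Cfsg
open scoped ComplexConjugate

section prod

variable {A : Type*} [Group A] [Fintype A] {B : Type*} [Group B] [Fintype B]

/-- Every irreducible character of a direct product is a product of irreducible characters. -/
theorem exists_prod_decomp {Θ : A × B → ℂ} (hΘ : IsIrrCharacter (A × B) Θ) :
    ∃ (ζ : IrrCharacter A) (ψ : IrrCharacter B),
      ∀ (a : A) (b : B), Θ (a, b) = (ζ : A → ℂ) a * (ψ : B → ℂ) b := by
  classical
  by_contra hcon
  push Not at hcon
  -- all products are orthogonal to `Θ`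
  have horth : ∀ (ζ : IrrCharacter A) (ψ : IrrCharacter B),
      classInner (fun x : A × B => (ζ : A → ℂ) x.1 * (ψ : B → ℂ) x.2) Θ = 0 := by
    intro ζ ψ
    rw [classInner_irr' (Cfsg.Agent.S0188.isIrrCharacter_prod ζ.2 ψ.2) hΘ, if_neg]
    intro heq
    obtain ⟨a, b, hab⟩ := hcon ζ ψ
    apply hab
    rw [← heq]
  -- the regular character of the product
  set R : A × B → ℂ := fun x => ∑ ζ : IrrCharacter A, ∑ ψ : IrrCharacter B,
    ((ζ : A → ℂ) 1 * (ψ : B → ℂ) 1) * ((ζ : A → ℂ) x.1 * (ψ : B → ℂ) x.2) with hR
  have hRval : ∀ x : A × B, R x =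
      (if x.1 = 1 then (Nat.card A : ℂ) else 0) * (if x.2 = 1 then (Nat.card B : ℂ) else 0) := by
    intro x
    rw [← sum_irr_one_mul x.1, ← sum_irr_one_mul x.2, Finset.sum_mul_sum]
    refine Finset.sum_congr rfl fun ζ _ => Finset.sum_congr rfl fun ψ _ => ?_
    ring
  have h0 : classInner R Θ = 0 := by
    have : R = ∑ ζ : IrrCharacter A, ∑ ψ : IrrCharacter B,
        ((ζ : A → ℂ) 1 * (ψ : B → ℂ) 1) •
          (fun x : A × B => (ζ : A → ℂ) x.1 * (ψ : B → ℂ) x.2) := by
      funext x
      rw [hR]
      simp only [Finset.sum_apply, Pi.smul_apply, smul_eq_mul]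
    rw [this, classInner_sum_left]
    apply Finset.sum_eq_zero
    intro ζ _
    rw [classInner_sum_left]
    apply Finset.sum_eq_zero
    intro ψ _
    rw [classInner_smul_left, horth, mul_zero]
  have h1 : classInner R Θ = conj (Θ 1) := by
    unfold classInner
    rw [Finset.sum_eq_single (1 : A × B)]
    · rw [hRval, Prod.fst_one, Prod.snd_one, if_pos rfl, if_pos rfl, Nat.card_prod]
      have hA : (Nat.card A : ℂ) ≠ 0 := natCard_ne_zero_complex
      have hB : (Nat.card B : ℂ) ≠ 0 := natCard_ne_zero_complex
      push_cast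
      field_simp
    · intro x _ hx
      rw [hRval]
      by_cases h1 : x.1 = 1
      · have h2 : x.2 ≠ 1 := by
          intro h2
          apply hx
          exact Prod.ext h1 h2
        rw [if_neg h2, mul_zero, zero_mul]
      · rw [if_neg h1, zero_mul, zero_mul]
    · intro h; exact absurd (Finset.mem_univ _) h
  rw [h0] at h1
  have h2 : Θ 1 ≠ 0 := irr_apply_one_ne_zero hΘ
  apply h2
  have := congrArg conj h1
  rw [map_zero, Complex.conj_conj] at this
  exact this.symm

end prod

section comp

variable {G : Type*} [Group G] {H : Type*} [Group H]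

/-- Composition of an irreducible character with a surjective homomorphism. -/
theorem isIrrCharacter_comp_surjective {χ : G → ℂ} (hχ : IsIrrCharacter G χ) (f : H →* G)
    (hf : Function.Surjective f) : IsIrrCharacter H (fun h => χ (f h)) := by
  obtain ⟨k, ρ, hρ, rfl⟩ := hχ
  have := hρ
  have hirr := Cfsg.Agent.Helper81.isIrreducible_comp_of_surjective ρ f hf
  exact ⟨k, ρ.comp f, hirr, rfl⟩

end comp

end Cfsg.Agent.Helper78
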