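import Mathlib

set_option autoImplicit false

namespace Cfsg.Agent.Helper78

section FPF

/-- A fixed-point-free involutive automorphism of a finite group inverts every element. -/
theorem fpf_involution_inverts {Q : Type*} [Group Q] [Finite Q] (φ : Q ≃* Q)
    (h2 : ∀ y, φ (φ y) = y) (hfpf : ∀ y, φ y = y → y = 1) : ∀ y, φ y = y⁻¹ := by
  have hinj : Function.Injective (fun y : Q => y⁻¹ * φ y) := by
    intro y z hyz
    simp only at hyz
    have h1 : φ (z * y⁻¹) = z * y⁻¹ := by
      rw [map_mul, map_inv]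
      have : φ z = z * (y⁻¹ * φ y) := by rw [hyz]; group
      rw [this]; group
    have h3 := hfpf _ h1
    exact (mul_inv_eq_one.mp h3).symm
  have hsurj : Function.Surjective (fun y : Q => y⁻¹ * φ y) := Finite.surjective_of_injective hinj
  intro u
  obtain ⟨y, rfl⟩ := hsurj u
  simp only [map_mul, map_inv, h2, mul_inv_rev, inv_inv]

theorem comm_of_inverting {Q : Type*} [Group Q] (φ : Q ≃* Q) (h : ∀ y, φ y = y⁻¹) (y z : Q) :
    y * z = z * y := by
  have h1 := h (y * z)
  rw [map_mul, h y, h z, mul_inv_rev] at h1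
  have h2 := congrArg (fun x => x⁻¹) h1
  simpa using h2.symm

end FPF

section InvSylow

variable {G : Type*} [Group G] [Finite G]

open scoped Pointwise

/-- An involution normalizing a subgroup `C` of odd order normalizes some Sylow `p`-subgroup
of `C`. -/
theorem exists_invariant_sylow (C : Subgroup G) (hC : Odd (Nat.card C)) (t : G)
    (ht : t ∈ Subgroup.normalizer (C : Set G)) (ht2 : t * t = 1) (p : ℕ) [Fact p.Prime] :
    ∃ Q : Sylow p C, ∀ y : C, y ∈ Q → ∀ h : t * (y : G) * t⁻¹ ∈ C,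
      (⟨t * (y : G) * t⁻¹, h⟩ : C) ∈ Q := by
  let n : Subgroup.normalizer (C : Set G) := ⟨t, ht⟩
  let T : Subgroup (Subgroup.normalizer (C : Set G)) := Subgroup.zpowers n
  have hn2 : n ^ 2 = 1 := by
    apply Subtype.ext
    simp [n, pow_two, ht2]
  have hT : IsPGroup 2 T := by
    by_cases h1 : n = 1
    · apply IsPGroup.of_card (n := 0)
      rw [Nat.card_zpowers, h1]
      simp
    · apply IsPGroup.of_card (n := 1)
      rw [Nat.card_zpowers, pow_one]
      exact orderOf_eq_prime hn2 h1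
  have hodd : ¬ 2 ∣ Nat.card (Sylow p C) := by
    intro h2
    obtain ⟨Q0⟩ : Nonempty (Sylow p C) := inferInstance
    have h3 : Nat.card (Sylow p C) ∣ Nat.card C :=
      (Sylow.card_dvd_index Q0).trans (Subgroup.index_dvd_card _)
    have := h2.trans h3
    rw [← even_iff_two_dvd] at this
    exact (Nat.not_even_iff_odd.mpr hC) this
  obtain ⟨Q, hQ⟩ := hT.nonempty_fixed_point_of_prime_not_dvd_card (Sylow p C) hodd
  refine ⟨Q, ?_⟩
  intro y hy h
  have hfix : (⟨n, Subgroup.mem_zpowers n⟩ : T) • Q = Q := hQ _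
  have h1 : (⟨n, Subgroup.mem_zpowers n⟩ : T) • y ∈
      ((⟨n, Subgroup.mem_zpowers n⟩ : T) • Q : Sylow p C) := by
    rw [← SetLike.mem_coe, ← Sylow.coe_coe] 
    exact Subgroup.smul_mem_pointwise_smul y _ _ hy
  rw [hfix] at h1
  exact h1

omit [Finite G] in
theorem two_dvd_card_of_involution_mem (H : Subgroup G) (t : G) (ht : t ∈ H) (ht2 : t * t = 1)
    (ht1 : t ≠ 1) : 2 ∣ Nat.card H := by
  have h1 : orderOf (⟨t, ht⟩ : H) = 2 := by
    apply orderOf_eq_prime
    · apply Subtype.ext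
      simp [pow_two, ht2]
    · intro h
      exact ht1 (congrArg Subtype.val h)
  rw [← h1]
  exact orderOf_dvd_natCard _

omit [Finite G] in
theorem mem_normalizer_of_conj_mem (Q : Subgroup G) (t : G) (ht2 : t * t = 1)
    (h : ∀ y ∈ Q, t * y * t⁻¹ ∈ Q) : t ∈ Subgroup.normalizer (Q : Set G) := by
  have htinv : t⁻¹ = t := inv_eq_of_mul_eq_one_right ht2
  rw [Subgroup.mem_normalizer_iff]
  intro y
  constructor
  · exact h y
  · intro hy
    have := h _ hy
    rw [htinv] at this
    have e : t * (t * y * t) * t = y := by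
      calc t * (t * y * t) * t = (t * t) * y * (t * t) := by group
        _ = y := by rw [ht2]; group
    rw [e] at this
    exact this

/-- An involution normalizing a finite subgroup `Q`, and centralizing no nonidentity element
of it, inverts `Q` elementwise. -/
theorem inverts_of_fpf (Q : Subgroup G) (t : G) (ht2 : t * t = 1)
    (h : ∀ y ∈ Q, t * y * t⁻¹ ∈ Q) (hfpf : ∀ y ∈ Q, t * y * t⁻¹ = y → y = 1) :
    ∀ y ∈ Q, t * y * t⁻¹ = y⁻¹ := by
  have htn := mem_normalizer_of_conj_mem Q t ht2 h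
  let φ : Q ≃* Q := Q.normalizerMonoidHom ⟨t, htn⟩
  have hφ : ∀ y : Q, ((φ y : Q) : G) = t * y * t⁻¹ := fun y => rfl
  have htinv : t⁻¹ = t := inv_eq_of_mul_eq_one_right ht2
  have h2 : ∀ y, φ (φ y) = y := by
    intro y
    apply Subtype.ext
    rw [hφ, hφ, htinv]
    calc t * (t * y * t) * t = (t * t) * y * (t * t) := by group
      _ = y := by rw [ht2]; group
  have h3 : ∀ y, φ y = y → y = 1 := by
    intro y hy
    apply Subtype.ext
    apply hfpf y y.2
    rw [← hφ, hy]
  have h4 := fpf_involution_inverts φ h2 h3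
  intro y hy
  have := h4 ⟨y, hy⟩
  have h5 := congrArg Subtype.val this
  rw [hφ] at h5
  simpa using h5

omit [Finite G] in
theorem orderOf_pow_of_mem_pGroup (p : ℕ) [hp : Fact p.Prime] (Q : Subgroup G)
    (hQ : IsPGroup p Q) (y : G) (hy : y ∈ Q) : ∃ k : ℕ, orderOf y = p ^ k := by
  obtain ⟨k, hk⟩ := hQ ⟨y, hy⟩
  have hk' : y ^ p ^ k = 1 := by
    have := congrArg Subtype.val hk
    simpa using this
  obtain ⟨j, -, hj⟩ := (Nat.dvd_prime_pow hp.out).mp (orderOf_dvd_of_pow_eq_one hk')
  exact ⟨j, hj⟩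

/-- Key lemma: if an involution `t` inverts a nonidentity `p`-element `w` and centralizers of
nonidentity `p`-elements have odd order, then `t` inverts elementwise some Sylow `p`-subgroup
of `C_G(w)` containing `w`. -/
theorem exists_inverted_sylow_centralizer (p : ℕ) [hp : Fact p.Prime]
    (hodd : ∀ y : G, y ≠ 1 → (∃ k : ℕ, orderOf y = p ^ k) →
      Odd (Nat.card (Subgroup.centralizer ({y} : Set G))))
    (w : G) (hw1 : w ≠ 1) (hwp : ∃ k : ℕ, orderOf w = p ^ k)
    (t : G) (ht2 : t * t = 1) (ht1 : t ≠ 1) (htw : t * w * t⁻¹ = w⁻¹) :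
    ∃ Q : Subgroup G, Q ≤ Subgroup.centralizer ({w} : Set G) ∧ IsPGroup p Q ∧
      Nat.card Q = p ^ (Nat.card (Subgroup.centralizer ({w} : Set G))).factorization p ∧
      w ∈ Q ∧ (∀ y ∈ Q, t * y * t⁻¹ = y⁻¹) ∧
      (∀ R : Subgroup G, IsPGroup p R → R ≤ Subgroup.centralizer ({w} : Set G) → Q ≤ R →
        R ≤ Q) := by
  have htinv : t⁻¹ = t := inv_eq_of_mul_eq_one_right ht2
  set C := Subgroup.centralizer ({w} : Set G) with hC
  have hCodd : Odd (Nat.card C) := hodd w hw1 hwp
  have hmemC : ∀ c : G, c ∈ C ↔ w * c = c * w := by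
    intro c
    rw [hC, Subgroup.mem_centralizer_iff]
    simp
  have htw' : t * w = w⁻¹ * t := by
    have := congrArg (fun x => x * t) htw
    simpa using this
  have htw'' : w * t = t * w⁻¹ := by
    have h1 : t * w * t = w⁻¹ := by
      have h0 := htw
      rw [htinv] at h0
      exact h0
    calc w * t = (t * t) * w * t := by rw [ht2, one_mul]
      _ = t * (t * w * t) := by group
      _ = t * w⁻¹ := by rw [h1]
  have hconjC : ∀ c ∈ C, t * c * t⁻¹ ∈ C := by
    intro c hc
    rw [hmemC] at hc ⊢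
    rw [htinv]
    have hc' : w⁻¹ * c = c * w⁻¹ := by
      calc w⁻¹ * c = w⁻¹ * (c * w) * w⁻¹ := by group
        _ = w⁻¹ * (w * c) * w⁻¹ := by rw [hc]
        _ = c * w⁻¹ := by group
    calc w * (t * c * t) = (w * t) * c * t := by group
      _ = (t * w⁻¹) * c * t := by rw [htw'']
      _ = t * (w⁻¹ * c) * t := by group
      _ = t * (c * w⁻¹) * t := by rw [hc']
      _ = t * c * (w⁻¹ * t) := by group
      _ = t * c * (t * w) := by rw [htw']
      _ = t * c * t * w := by group
  have htnC : t ∈ Subgroup.normalizer (C : Set G) := mem_normalizer_of_conj_mem C t ht2 hconjC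
  obtain ⟨Q', hQ'⟩ := exists_invariant_sylow C hCodd t htnC ht2 p
  set Q : Subgroup G := (Q' : Subgroup C).map C.subtype with hQ
  have hQle : Q ≤ C := by
    rintro _ ⟨y, -, rfl⟩
    exact y.2
  have hQp : IsPGroup p Q := Q'.2.map C.subtype
  have hQcard : Nat.card Q = p ^ (Nat.card C).factorization p := by
    rw [← Sylow.card_eq_multiplicity Q']
    exact Nat.card_congr (Subgroup.equivMapOfInjective _ _ (Subgroup.subtype_injective C)).symm.toEquiv
  have hconjQ : ∀ y ∈ Q, t * y * t⁻¹ ∈ Q := by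
    rintro _ ⟨y, hy, rfl⟩
    exact ⟨⟨t * y * t⁻¹, hconjC y y.2⟩, hQ' y hy _, rfl⟩
  have hfpf : ∀ y ∈ Q, t * y * t⁻¹ = y → y = 1 := by
    intro y hy hty
    by_contra hy1
    have hyp := orderOf_pow_of_mem_pGroup p Q hQp y hy
    have hoddy := hodd y hy1 hyp
    have htc : t ∈ Subgroup.centralizer ({y} : Set G) := by
      rw [Subgroup.mem_centralizer_iff]
      intro x hx
      rw [Set.mem_singleton_iff] at hx
      subst hx
      have := congrArg (fun z => z * t) hty
      simpa using this.symm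
    have h2 := two_dvd_card_of_involution_mem _ t htc ht2 ht1
    rw [← even_iff_two_dvd] at h2
    exact (Nat.not_even_iff_odd.mpr hoddy) h2
  have hinv := inverts_of_fpf Q t ht2 hconjQ hfpf
  have hmax : ∀ R : Subgroup G, IsPGroup p R → R ≤ C → Q ≤ R → R ≤ Q := by
    intro R hR hRC hQR
    have h1 : IsPGroup p (R.subgroupOf C) := hR.comap_subtype
    have h2 : (Q' : Subgroup C) ≤ R.subgroupOf C := by
      intro y hy
      rw [Subgroup.mem_subgroupOf]
      exact hQR ⟨y, hy, rfl⟩
    have h3 := Q'.3 h1 h2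
    intro r hr
    have : (⟨r, hRC hr⟩ : C) ∈ R.subgroupOf C := by
      rw [Subgroup.mem_subgroupOf]; exact hr
    rw [h3] at this
    exact ⟨⟨r, hRC hr⟩, this, rfl⟩
  have hwC : w ∈ C := by rw [hmemC]
  have hwQ : w ∈ Q := by
    apply hmax (Q ⊔ Subgroup.zpowers w)
    · apply IsPGroup.to_sup_of_normal_right' hQp
      · obtain ⟨k, hk⟩ := hwp
        apply IsPGroup.of_card (n := k)
        rw [Nat.card_zpowers, hk]
      · intro q hq
        rw [Subgroup.mem_normalizer_iff]
        have hqw : w * q = q * w := (hmemC q).mp (hQle hq)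
        intro x
        have hx : ∀ x ∈ Subgroup.zpowers w, q * x * q⁻¹ = x := by
          intro x hx
          obtain ⟨k, rfl⟩ := Subgroup.mem_zpowers_iff.mp hx
          have : Commute q (w ^ k) := (Commute.zpow_right (show Commute q w from hqw.symm) k)
          rw [this.eq]; group
        constructor
        · intro hx'
          rw [hx x hx']; exact hx'
        · intro hx'
          have h7 := hx _ hx'
          have e : q * x * q⁻¹ = x := by
            calc q * x * q⁻¹ = q⁻¹ * (q * (q * x * q⁻¹) * q⁻¹) * q := by group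
              _ = q⁻¹ * (q * x * q⁻¹) * q := by rw [h7]
              _ = x := by group
          rw [← e]; exact hx'
    · apply sup_le hQle
      rw [Subgroup.zpowers_le]
      exact hwC
    · exact le_sup_left
    · exact (le_sup_right : Subgroup.zpowers w ≤ Q ⊔ Subgroup.zpowers w)
        (Subgroup.mem_zpowers w)
  exact ⟨Q, hQle, hQp, hQcard, hwQ, hinv, hmax⟩

/-- If an involution `t` inverts a nonidentity `p`-element and centralizers of nonidentity
`p`-elements have odd order, then `t` inverts elementwise some Sylow `p`-subgroup of `G`. -/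
theorem exists_inverted_sylow (p : ℕ) [hp : Fact p.Prime]
    (hodd : ∀ y : G, y ≠ 1 → (∃ k : ℕ, orderOf y = p ^ k) →
      Odd (Nat.card (Subgroup.centralizer ({y} : Set G))))
    (w : G) (hw1 : w ≠ 1) (hwp : ∃ k : ℕ, orderOf w = p ^ k)
    (t : G) (ht2 : t * t = 1) (ht1 : t ≠ 1) (htw : t * w * t⁻¹ = w⁻¹) :
    ∃ P : Sylow p G, ∀ y ∈ P, t * y * t⁻¹ = y⁻¹ := by
  obtain ⟨Q, hQle, hQp, hQcard, hwQ, hinv, hmax⟩ :=
    exists_inverted_sylow_centralizer p hodd w hw1 hwp t ht2 ht1 htw
  obtain ⟨P₀, hQP⟩ := hQp.exists_le_sylow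
  have hwP : w ∈ P₀ := hQP hwQ
  have hnt : Nontrivial (P₀ : Subgroup G) := ⟨⟨⟨w, hwP⟩, 1, fun h => hw1 (congrArg Subtype.val h)⟩⟩
  have hcn := P₀.2.center_nontrivial
  obtain ⟨z, hz⟩ := exists_ne (1 : Subgroup.center (P₀ : Subgroup G))
  set y : G := ((z : (P₀ : Subgroup G)) : G) with hy
  have hyP : y ∈ P₀ := (z : (P₀ : Subgroup G)).2
  have hy1 : y ≠ 1 := by
    intro h
    apply hz
    apply Subtype.ext
    apply Subtype.ext
    exact h
  have hycomm : ∀ x ∈ P₀, x * y = y * x := by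
    intro x hx
    have := Subgroup.mem_center_iff.mp z.2 ⟨x, hx⟩
    exact congrArg Subtype.val this
  have hyC : y ∈ Subgroup.centralizer ({w} : Set G) := by
    rw [Subgroup.mem_centralizer_iff]
    intro x hx
    rw [Set.mem_singleton_iff] at hx
    subst hx
    exact hycomm x hwP
  have hyQ : y ∈ Q := by
    apply hmax ((P₀ : Subgroup G) ⊓ Subgroup.centralizer ({w} : Set G))
      (P₀.2.to_le inf_le_left) inf_le_right (le_inf hQP hQle)
    exact ⟨hyP, hyC⟩
  have hty := hinv y hyQ
  have hyp := orderOf_pow_of_mem_pGroup p _ P₀.2 y hyP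
  obtain ⟨Q₂, hQ₂le, hQ₂p, hQ₂card, -, hinv₂, -⟩ :=
    exists_inverted_sylow_centralizer p hodd y hy1 hyp t ht2 ht1 hty
  have hPle : (P₀ : Subgroup G) ≤ Subgroup.centralizer ({y} : Set G) := by
    intro x hx
    rw [Subgroup.mem_centralizer_iff]
    intro u hu
    rw [Set.mem_singleton_iff] at hu
    subst hu
    exact (hycomm x hx).symm
  have hfac : (Nat.card (Subgroup.centralizer ({y} : Set G))).factorization p =
      (Nat.card G).factorization p := by
    apply le_antisymm
    · exact (Nat.factorization_le_iff_dvd Nat.card_pos.ne' Nat.card_pos.ne').mpr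
        (Subgroup.card_subgroup_dvd_card _) p
    · have h1 : Nat.card (P₀ : Subgroup G) ∣ Nat.card (Subgroup.centralizer ({y} : Set G)) :=
        Subgroup.card_dvd_of_le hPle
      rw [Sylow.card_eq_multiplicity] at h1
      exact (hp.out.pow_dvd_iff_le_factorization Nat.card_pos.ne').mp h1
  rw [hfac] at hQ₂card
  refine ⟨Sylow.ofCard Q₂ hQ₂card, ?_⟩
  intro u hu
  exact hinv₂ u hu

omit [Finite G] in
theorem comm_of_inverted (P : Subgroup G) (s : G) (hs : ∀ y ∈ P, s * y * s⁻¹ = y⁻¹) :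
    IsMulCommutative P := by
  rw [isMulCommutative_iff]
  intro y z
  apply Subtype.ext
  have h1 := hs _ (P.mul_mem y.2 z.2)
  have h2 : s * ((y : G) * z) * s⁻¹ = (s * y * s⁻¹) * (s * z * s⁻¹) := by group
  rw [h2, hs _ y.2, hs _ z.2] at h1
  have h3 := congrArg (fun x => x⁻¹) h1
  simp only [mul_inv_rev, inv_inv] at h3
  exact h3.symm

/-- Transport an inverting involution to any other Sylow subgroup. -/
theorem exists_conj_inverting (p : ℕ) [Fact p.Prime] (P P' : Sylow p G) (t : G)
    (hinv : ∀ y ∈ P, t * y * t⁻¹ = y⁻¹) :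
    ∃ c : G, ∀ y ∈ P', (c * t * c⁻¹) * y * (c * t * c⁻¹)⁻¹ = y⁻¹ := by
  obtain ⟨c, hc⟩ := MulAction.exists_smul_eq G P P'
  refine ⟨c, ?_⟩
  intro y hy
  rw [← hc] at hy
  have hy' : y ∈ (MulAut.conj c • (P : Subgroup G)) := hy
  rw [Subgroup.mem_pointwise_smul_iff_inv_smul_mem] at hy'
  have h1 : c⁻¹ * y * c ∈ (P : Subgroup G) := by
    simpa [MulAut.smul_def] using hy'
  have h2 := hinv _ h1
  calc (c * t * c⁻¹) * y * (c * t * c⁻¹)⁻¹ = c * (t * (c⁻¹ * y * c) * t⁻¹) * c⁻¹ := by group
    _ = c * (c⁻¹ * y * c)⁻¹ * c⁻¹ := by rw [h2]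
    _ = y⁻¹ := by group

omit [Finite G] in
/-- Two involutions whose product has odd order are conjugate. -/
theorem isConj_of_odd_orderOf_mul (a b : G) (ha : a * a = 1) (hb : b * b = 1)
    (hodd : Odd (orderOf (a * b))) : IsConj a b := by
  obtain ⟨k, hk⟩ := hodd
  set u := a * b with hu
  have hainv : a⁻¹ = a := inv_eq_of_mul_eq_one_right ha
  have hbinv : b⁻¹ = b := inv_eq_of_mul_eq_one_right hb
  have huinv : u⁻¹ = b * a := by rw [hu, mul_inv_rev, hainv, hbinv]
  have hau : a * u * a⁻¹ = u⁻¹ := by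
    rw [huinv, hu, hainv]
    calc a * (a * b) * a = (a * a) * b * a := by group
      _ = b * a := by rw [ha, one_mul]
  have haum : ∀ m : ℕ, a * u ^ m * a⁻¹ = (u ^ m)⁻¹ := by
    intro m
    induction m with
    | zero => simp
    | succ m ih =>
      calc a * u ^ (m + 1) * a⁻¹ = (a * u ^ m * a⁻¹) * (a * u * a⁻¹) := by
            rw [pow_succ]; group
        _ = (u ^ m)⁻¹ * u⁻¹ := by rw [ih, hau]
        _ = (u * u ^ m)⁻¹ := (mul_inv_rev u (u ^ m)).symm
        _ = (u ^ (m + 1))⁻¹ := by rw [pow_succ']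
  set v := u ^ (k + 1) with hv
  have hv2 : v * v = u := by
    rw [hv, ← pow_add]
    have : k + 1 + (k + 1) = orderOf u + 1 := by omega
    rw [this, pow_succ, pow_orderOf_eq_one, one_mul]
  have hav : a * v * a⁻¹ = v⁻¹ := haum (k + 1)
  rw [isConj_iff]
  refine ⟨v⁻¹, ?_⟩
  rw [inv_inv]
  have h1 : a * v = v⁻¹ * a := by
    have := congrArg (fun x => x * a) hav
    simpa using this
  calc v⁻¹ * a * v = v⁻¹ * (a * v) := by group
    _ = v⁻¹ * (v⁻¹ * a) := by rw [h1]
    _ = (v * v)⁻¹ * a := by group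
    _ = u⁻¹ * a := by rw [hv2]
    _ = b * a * a := by rw [huinv]
    _ = b := by rw [mul_assoc, ha, mul_one]

end InvSylow

end Cfsg.Agent.Helper78
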