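import Mathlib
import Cfsg.Prelude.Def_Characters

set_option autoImplicit false

namespace Cfsg.Agent.Helper78

open scoped ComplexConjugate

section Transport

variable {k G V W : Type*} [Field k] [Monoid G] [AddCommGroup V] [Module k V]
  [AddCommGroup W] [Module k W] {ρ : Representation k G V} {σ : Representation k G W}

theorem equiv_apply_rho (φ : Representation.Equiv ρ σ) (g : G) (v : V) :
    φ (ρ g v) = σ g (φ v) :=
  φ.toIntertwiningMap.isIntertwining ρ σ g v

/-- Pull a subrepresentation back along an equivalence of representations. -/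
def subrepComap (φ : Representation.Equiv ρ σ) (τ : Subrepresentation σ) : Subrepresentation ρ where
  toSubmodule := τ.toSubmodule.comap φ.toLinearMap
  apply_mem_toSubmodule g v hv := by
    simp only [Submodule.mem_comap] at hv ⊢
    change φ (ρ g v) ∈ τ.toSubmodule
    rw [equiv_apply_rho]
    exact τ.apply_mem_toSubmodule g hv

theorem mem_subrepComap (φ : Representation.Equiv ρ σ) (τ : Subrepresentation σ) (v : V) :
    v ∈ subrepComap φ τ ↔ φ v ∈ τ := Iff.rfl

theorem subrepComap_symm_comap (φ : Representation.Equiv ρ σ) (τ : Subrepresentation σ) :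
    subrepComap φ.symm (subrepComap φ τ) = τ := by
  apply SetLike.ext
  intro w
  rw [mem_subrepComap, mem_subrepComap, Representation.Equiv.apply_symm_apply]

theorem subrepComap_comap_symm (φ : Representation.Equiv ρ σ) (τ : Subrepresentation ρ) :
    subrepComap φ (subrepComap φ.symm τ) = τ := by
  apply SetLike.ext
  intro w
  rw [mem_subrepComap, mem_subrepComap, Representation.Equiv.symm_apply_apply]

/-- Order isomorphism of subrepresentation lattices induced by an equivalence. -/
def subrepOrderIso (φ : Representation.Equiv ρ σ) : Subrepresentation σ ≃o Subrepresentation ρ where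
  toFun := subrepComap φ
  invFun := subrepComap φ.symm
  left_inv τ := subrepComap_symm_comap φ τ
  right_inv τ := subrepComap_comap_symm φ τ
  map_rel_iff' := by
    intro a b
    constructor
    · intro h w hw
      have h1 : φ.symm w ∈ subrepComap φ a := by
        rw [mem_subrepComap, Representation.Equiv.apply_symm_apply]; exact hw
      have h2 : φ.symm w ∈ subrepComap φ b := h h1
      rw [mem_subrepComap, Representation.Equiv.apply_symm_apply] at h2
      exact h2
    · intro h v hv
      exact h hv

theorem isIrreducible_of_equiv (φ : Representation.Equiv ρ σ) [hρ : ρ.IsIrreducible] :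
    σ.IsIrreducible :=
  (subrepOrderIso φ).isSimpleOrder_iff.mpr hρ

/-- Transport a representation along a linear equivalence. -/
def repConj (ρ : Representation k G V) (e : V ≃ₗ[k] W) : Representation k G W where
  toFun g := e.conj (ρ g)
  map_one' := by
    rw [map_one]
    exact e.conj_id
  map_mul' x y := by
    rw [map_mul]
    exact e.conj_comp _ _

theorem repConj_apply (ρ : Representation k G V) (e : V ≃ₗ[k] W) (g : G) (w : W) :
    repConj ρ e g w = e (ρ g (e.symm w)) := rfl

/-- The transported representation is equivalent to the original one. -/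
def repConjEquiv (ρ : Representation k G V) (e : V ≃ₗ[k] W) :
    Representation.Equiv ρ (repConj ρ e) :=
  Representation.Equiv.mk e (by
    intro g
    ext v
    simp [repConj_apply])

theorem exists_equiv_fin [FiniteDimensional k V] (ρ : Representation k G V) :
    ∃ (ρ' : Representation k G (Fin (Module.finrank k V) → k)),
      Nonempty (Representation.Equiv ρ ρ') := by
  let e : V ≃ₗ[k] (Fin (Module.finrank k V) → k) := (Module.finBasis k V).equivFun
  exact ⟨repConj ρ e, ⟨repConjEquiv ρ e⟩⟩

end Transport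

section CharOfRep

variable {G V : Type*} [Group G] [AddCommGroup V] [Module ℂ V] [FiniteDimensional ℂ V]

theorem isCharacter_of_rep (ρ : Representation ℂ G V) : IsCharacter G ρ.character := by
  obtain ⟨ρ', ⟨φ⟩⟩ := exists_equiv_fin ρ
  exact ⟨_, ρ', (Representation.char_iso φ).symm⟩

theorem isIrrCharacter_of_rep (ρ : Representation ℂ G V) [ρ.IsIrreducible] :
    IsIrrCharacter G ρ.character := by
  obtain ⟨ρ', ⟨φ⟩⟩ := exists_equiv_fin ρ
  exact ⟨_, ρ', isIrreducible_of_equiv φ, (Representation.char_iso φ).symm⟩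

theorem IsIrrCharacter.isCharacter {χ : G → ℂ} (h : IsIrrCharacter G χ) : IsCharacter G χ := by
  obtain ⟨n, ρ, _, hρ⟩ := h
  exact ⟨n, ρ, hρ⟩

theorem IsCharacter.isClassFunction {χ : G → ℂ} (h : IsCharacter G χ) : IsClassFunction G χ := by
  obtain ⟨n, ρ, rfl⟩ := h
  intro g x
  exact Representation.char_conj ρ g x

end CharOfRep

section FiniteOrder

variable {V : Type*} [AddCommGroup V] [Module ℂ V] [FiniteDimensional ℂ V]

omit [FiniteDimensional ℂ V] in
theorem pow_apply_of_mem_eigenspace (f : Module.End ℂ V) (μ : ℂ) (v : V)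
    (hv : v ∈ f.eigenspace μ) (k : ℕ) : (f ^ k) v = μ ^ k • v := by
  induction k with
  | zero => simp
  | succ k ih =>
    rw [pow_succ, Module.End.mul_apply, Module.End.mem_eigenspace_iff.mp hv, map_smul, ih,
      smul_smul, pow_succ, mul_comm]

omit [FiniteDimensional ℂ V] in
theorem isSemisimple_of_pow_eq_one (f : Module.End ℂ V) (n : ℕ) (hn : 0 < n) (hf : f ^ n = 1) :
    f.IsSemisimple := by
  have hsq : Squarefree (Polynomial.X ^ n - 1 : Polynomial ℂ) := by
    apply Polynomial.Separable.squarefree
    rw [Polynomial.X_pow_sub_one_separable_iff]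
    exact_mod_cast hn.ne'
  apply Module.End.isSemisimple_of_squarefree_aeval_eq_zero hsq
  simp [hf]

/-- Eigenvalue decomposition of the traces of powers of an endomorphism of finite order. -/
theorem trace_pow_eq_sum (f : Module.End ℂ V) (n : ℕ) (hn : 0 < n) (hf : f ^ n = 1) :
    ∃ (s : Finset ℂ) (m : ℂ → ℕ), (∀ μ ∈ s, μ ^ n = 1) ∧
      (∀ c : ℂ, (∀ μ ∈ s, μ = c) → f = c • 1) ∧
      ∀ k : ℕ, LinearMap.trace ℂ V (f ^ k) = ∑ μ ∈ s, (m μ : ℂ) * μ ^ k := by
  classical
  have hss := isSemisimple_of_pow_eq_one f n hn hf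
  have htop := hss.iSup_eigenspace_eq_top
  have hind := f.eigenspaces_iSupIndep
  have hint := DirectSum.isInternal_submodule_of_iSupIndep_of_iSup_eq_top hind htop
  have hfin : {μ | f.eigenspace μ ≠ ⊥}.Finite := f.finite_hasEigenvalue
  refine ⟨hfin.toFinset, fun μ => Module.finrank ℂ (f.eigenspace μ), ?_, ?_, ?_⟩
  · intro μ hμ
    rw [Set.Finite.mem_toFinset] at hμ
    obtain ⟨v, hv, hv0⟩ := (Submodule.ne_bot_iff _).mp hμ
    have h1 := pow_apply_of_mem_eigenspace f μ v hv n
    rw [hf, Module.End.one_apply] at h1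
    have h2 : (μ ^ n - 1) • v = 0 := by rw [sub_smul, ← h1, one_smul, sub_self]
    rcases smul_eq_zero.mp h2 with h | h
    · exact sub_eq_zero.mp h
    · exact absurd h hv0
  · intro c hc
    have h1 : ∀ μ, f.eigenspace μ ≤ f.eigenspace c := by
      intro μ
      by_cases hμ : f.eigenspace μ = ⊥
      · rw [hμ]; exact bot_le
      · have : μ ∈ hfin.toFinset := by
          rw [Set.Finite.mem_toFinset]; exact hμ
        rw [hc μ this]
    have h2 : f.eigenspace c = ⊤ := by
      apply top_le_iff.mp
      rw [← htop]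
      exact iSup_le h1
    ext v
    have : v ∈ f.eigenspace c := by rw [h2]; trivial
    rw [Module.End.mem_eigenspace_iff] at this
    simp [this]
  · intro k
    have hmaps : ∀ μ, Set.MapsTo (f ^ k) (f.eigenspace μ) (f.eigenspace μ) := by
      intro μ v hv
      have := pow_apply_of_mem_eigenspace f μ v hv k
      simp only [SetLike.mem_coe] at hv ⊢
      rw [this]
      exact Submodule.smul_mem _ _ hv
    rw [LinearMap.trace_eq_sum_trace_restrict' hint hfin hmaps]
    apply Finset.sum_congr rfl
    intro μ _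
    have : (f ^ k).restrict (hmaps μ) = (μ ^ k) • (1 : Module.End ℂ (f.eigenspace μ)) := by
      ext v
      have h3 := pow_apply_of_mem_eigenspace f μ v.1 v.2 k
      have h4 : (((f ^ k).restrict (hmaps μ)) v : V) = (f ^ k) v.1 := rfl
      rw [h4, h3]
      simp
    rw [this, map_smul, LinearMap.trace_one, smul_eq_mul, mul_comm]

end FiniteOrder

section CharValues

variable {G V : Type*} [Group G] [Finite G] [AddCommGroup V] [Module ℂ V] [FiniteDimensional ℂ V]

/-- Eigenvalue data for the value of a character at an element of a finite group. -/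
theorem char_pow_eq_sum (ρ : Representation ℂ G V) (g : G) :
    ∃ (s : Finset ℂ) (m : ℂ → ℕ), (∀ μ ∈ s, μ ^ orderOf g = 1) ∧
      (∀ c : ℂ, (∀ μ ∈ s, μ = c) → ρ g = c • 1) ∧
      ∀ k : ℕ, ρ.character (g ^ k) = ∑ μ ∈ s, (m μ : ℂ) * μ ^ k := by
  have hn : 0 < orderOf g := orderOf_pos g
  have hf : (ρ g) ^ orderOf g = 1 := by
    rw [← map_pow, pow_orderOf_eq_one, map_one]
  obtain ⟨s, m, h1, h2, h3⟩ := trace_pow_eq_sum (ρ g) (orderOf g) hn hf
  refine ⟨s, m, h1, h2, ?_⟩
  intro k
  rw [← h3 k, ← map_pow]
  rfl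

theorem conj_eq_pow_of_pow_eq_one {μ : ℂ} {n : ℕ} (hn : 0 < n) (h : μ ^ n = 1) :
    conj μ = μ ^ (n - 1) := by
  have h1 : ‖μ‖ = 1 := Complex.norm_eq_one_of_pow_eq_one h hn.ne'
  rw [← Complex.inv_eq_conj h1]
  have hμ : μ ≠ 0 := by
    intro h0
    rw [h0] at h1
    simp at h1
  have h2 : μ * μ ^ (n - 1) = 1 := by
    rw [← pow_succ', Nat.sub_add_cancel hn, h]
  exact (eq_inv_of_mul_eq_one_right h2).symm

theorem char_inv (ρ : Representation ℂ G V) (g : G) :
    ρ.character g⁻¹ = conj (ρ.character g) := by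
  obtain ⟨s, m, h1, _, h3⟩ := char_pow_eq_sum ρ g
  have hn : 0 < orderOf g := orderOf_pos g
  have e1 : g⁻¹ = g ^ (orderOf g - 1) := by
    rw [eq_comm, ← mul_eq_one_iff_eq_inv', ← pow_succ', Nat.sub_add_cancel hn, pow_orderOf_eq_one]
  have e2 := h3 1
  rw [pow_one] at e2
  rw [e1, h3, e2, map_sum]
  apply Finset.sum_congr rfl
  intro μ hμ
  rw [map_mul, Complex.conj_natCast, pow_one, conj_eq_pow_of_pow_eq_one hn (h1 μ hμ)]

theorem char_isIntegral (ρ : Representation ℂ G V) (g : G) :
    IsIntegral ℤ (ρ.character g) := by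
  obtain ⟨s, m, h1, _, h3⟩ := char_pow_eq_sum ρ g
  have hn : 0 < orderOf g := orderOf_pos g
  have e2 := h3 1
  rw [pow_one] at e2
  rw [e2]
  apply IsIntegral.sum
  intro μ hμ
  apply IsIntegral.mul
  · exact isIntegral_natCast (R := ℤ) (m μ)
  · rw [pow_one]
    exact IsIntegral.of_pow hn (by rw [h1 μ hμ]; exact isIntegral_one)

end CharValues

end Cfsg.Agent.Helper78
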