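import Mathlib
import Cfsg.Agent.Lib.Helper14.TSPDefs

set_option autoImplicit false

/-!
# TSP server (helper14, S5980), piece (NKA): the final arithmetic
-/

namespace Cfsg.Agent.Helper78.TSP

/-- (NKA) the final arithmetic. -/
theorem arith_contra (a b i a₀ b₀ α β fx s : ℕ) (hi : 2 ≤ i) (ha : Even a) (hb : 3 ≤ b)
    (haα : a = a₀ + i * α) (hbβ : b = b₀ + i * β) (hα : 1 ≤ α) (hβ : 1 ≤ β)
    (hfx : i * fx ≤ i * (a₀ * b₀) + (i * α) * (i * β)) (hs : fx + s = a * b)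
    (hcase : s = i ∨ (Odd i ∧ s = 2 * i)) : False := by
  obtain ⟨j, rfl⟩ : ∃ j, i = j + 1 := ⟨i - 1, by omega⟩
  have hj : 1 ≤ j := by omega
  have hfx' : fx ≤ a₀ * b₀ + (j + 1) * (α * β) := by
    have h0 : (j + 1) * fx ≤ (j + 1) * (a₀ * b₀ + (j + 1) * (α * β)) := by
      calc (j + 1) * fx ≤ (j + 1) * (a₀ * b₀) + ((j + 1) * α) * ((j + 1) * β) := hfx
        _ = (j + 1) * (a₀ * b₀ + (j + 1) * (α * β)) := by ring
    exact Nat.le_of_mul_le_mul_left h0 (Nat.succ_pos j)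
  have hab : a * b = a₀ * b₀ + (j + 1) * (α * β) + (j + 1) * (a₀ * β + α * b₀ + j * (α * β)) := by
    rw [haα, hbβ]
    ring
  have hskey : (j + 1) * (a₀ * β + α * b₀ + j * (α * β)) ≤ s := by
    have : fx + s = a₀ * b₀ + (j + 1) * (α * β) + (j + 1) * (a₀ * β + α * b₀ + j * (α * β)) := by
      rw [hs, hab]
    omega
  have hαβ : 1 ≤ α * β := Nat.mul_pos hα hβ
  rcases hcase with hs1 | ⟨hodd, hs2⟩
  · -- s = j + 1
    have ht : a₀ * β + α * b₀ + j * (α * β) ≤ 1 := by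
      have h0 : (j + 1) * (a₀ * β + α * b₀ + j * (α * β)) ≤ (j + 1) * 1 := by
        rw [mul_one]
        exact hskey.trans hs1.le
      exact Nat.le_of_mul_le_mul_left h0 (Nat.succ_pos j)
    have h1 : j * (α * β) ≤ 1 := by omega
    have h2 : α * β ≤ j * (α * β) := Nat.le_mul_of_pos_left _ hj
    have h3 : α * β = 1 := by omega
    have h4 : j ≤ j * (α * β) := Nat.le_mul_of_pos_right _ hαβ
    have hj1 : j = 1 := by omega
    have hα1 : α = 1 := Nat.eq_one_of_mul_eq_one_right h3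
    have hβ1 : β = 1 := Nat.eq_one_of_mul_eq_one_left h3
    subst hj1 hα1 hβ1
    have hb0 : b₀ = 0 := by omega
    subst hb0
    omega
  · -- s = 2 (j + 1), j + 1 odd
    have ht : a₀ * β + α * b₀ + j * (α * β) ≤ 2 := by
      have h0 : (j + 1) * (a₀ * β + α * b₀ + j * (α * β)) ≤ (j + 1) * 2 := by
        calc (j + 1) * (a₀ * β + α * b₀ + j * (α * β)) ≤ s := hskey
          _ = (j + 1) * 2 := by rw [hs2]; ring
      exact Nat.le_of_mul_le_mul_left h0 (Nat.succ_pos j)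
    have hjeven : 2 ≤ j := by
      obtain ⟨k, hk⟩ := hodd
      omega
    have h1 : j * (α * β) ≤ 2 := by omega
    have h2 : 2 * (α * β) ≤ j * (α * β) := Nat.mul_le_mul_right _ hjeven
    have h3 : α * β = 1 := by omega
    have h4 : j * 1 ≤ 2 := by rw [← h3]; exact h1
    have hj2 : j = 2 := by omega
    have hα1 : α = 1 := Nat.eq_one_of_mul_eq_one_right h3
    have hβ1 : β = 1 := Nat.eq_one_of_mul_eq_one_left h3
    subst hj2 hα1 hβ1
    have ha0 : a₀ = 0 := by omega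
    subst ha0
    obtain ⟨c, hc⟩ := ha
    omega

end Cfsg.Agent.Helper78.TSP
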