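import Mathlib
import Cfsg.Agent.Lib.Helper34.BG10e
import Cfsg.Agent.Lib.Helper55.BGFit

/-!
# Bender–Glauberman Corollary 12.6 (relative to 12.3(a) and Theorem 12.5)

`main`: for `p ∈ τ₂(M)`, `E` a complement of `M_σ` in `M` and `A ≤ E` elementary abelian of order `p²`:
`A ⊴ E` and `A` contains every subgroup of order `p` of `E`; `C_G(A) ≤ N_M(A) = E`, `N_G(A) ⊄ M`;
and `𝓜(C_G(X)) = {M}` for `X ≤ A` of order `p` with `C_{M_σ}(X) ≠ 1`.  The needed clauses of
B–G 12.3(a) and 12.5 are hypotheses.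
-/

set_option autoImplicit false

namespace Cfsg.Agent.Helper78.BG126

open Cfsg

variable {G : Type*} [Group G]

/-- elements of `K ⊔ A` when `A` normalizes `K` -/
theorem exists_mul_of_mem_sup {K A : Subgroup G} (h : A ≤ Subgroup.normalizer (K : Set G)) {x : G}
    (hx : x ∈ K ⊔ A) : ∃ k ∈ K, ∃ a ∈ A, x = k * a := by
  let S : Subgroup G :=
    { carrier := {x | ∃ k ∈ K, ∃ a ∈ A, x = k * a}
      one_mem' := ⟨1, K.one_mem, 1, A.one_mem, by simp⟩
      mul_mem' := by
        rintro _ _ ⟨k, hk, a, ha, rfl⟩ ⟨k', hk', a', ha', rfl⟩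
        refine ⟨k * (a * k' * a⁻¹), K.mul_mem hk ?_, a * a', A.mul_mem ha ha', by group⟩
        exact (Subgroup.mem_normalizer_iff.mp (h ha) k').mp hk'
      inv_mem' := by
        rintro _ ⟨k, hk, a, ha, rfl⟩
        refine ⟨a⁻¹ * k⁻¹ * a⁻¹⁻¹, ?_, a⁻¹, A.inv_mem ha, by group⟩
        exact (Subgroup.mem_normalizer_iff.mp (h (A.inv_mem ha)) k⁻¹).mp (K.inv_mem hk) }
  have hle : K ⊔ A ≤ S :=
    sup_le (fun k hk => ⟨k, hk, 1, A.one_mem, by simp⟩) (fun a ha => ⟨1, K.one_mem, a, ha, by simp⟩)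
  exact hle hx

/-- a subgroup `K` all of whose elements conjugate `H` into itself normalizes `H` -/
theorem le_normalizer_of_conj_mem' {H K : Subgroup G}
    (h : ∀ g ∈ K, ∀ x ∈ H, g * x * g⁻¹ ∈ H) : K ≤ Subgroup.normalizer (H : Set G) := by
  intro g hg
  rw [Subgroup.mem_normalizer_iff]
  intro x
  constructor
  · exact h g hg x
  · intro hx
    have := h g⁻¹ (K.inv_mem hg) _ hx
    have e : g⁻¹ * (g * x * g⁻¹) * g⁻¹⁻¹ = x := by group
    rwa [e] at this

theorem main [Finite G] (hG : IsMinSimpleOddOrder G) (M : Subgroup G)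
    (E : Subgroup G) (hE : IsComplIn E (sigmaCore M) M) (p : ℕ) [hp : Fact p.Prime]
    (A : Subgroup G) (hA : A ≤ E ∧ IsElementaryAbelian p A ∧ Nat.card A = p ^ 2)
    (h16 : Subgroup.centralizer (A : Set G) ≤ M)
    (hb : ∀ P : Sylow p M, A ≤ (P : Subgroup M).map M.subtype →
      (∀ x ∈ (P : Subgroup M).map M.subtype, x ^ p = 1 ↔ x ∈ A) ∧
      ¬ Subgroup.normalizer ((((P : Subgroup M).map M.subtype : Subgroup G)) : Set G) ≤ M)
    (hc : M ≤ Subgroup.normalizer ((sigmaCore M ⊔ A : Subgroup G) : Set G))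
    (hd : sigmaCore M ⊓ Subgroup.centralizer (A : Set G) = ⊥)
    (he : ∀ Mstar : Subgroup G, IsCoatom Mstar → Mstar ≠ M → A ≤ Mstar →
      sigmaCore M ⊓ Mstar = ⊥) :
    (E ≤ Subgroup.normalizer (A : Set G) ∧ ∀ X : Subgroup G, X ≤ E → Nat.card X = p → X ≤ A) ∧
      (Subgroup.centralizer (A : Set G) ≤ M ⊓ Subgroup.normalizer (A : Set G) ∧
        M ⊓ Subgroup.normalizer (A : Set G) = E ∧
        ¬ Subgroup.normalizer (A : Set G) ≤ M) ∧
      ∀ X : Subgroup G, X ≤ A → Nat.card X = p →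
        sigmaCore M ⊓ Subgroup.centralizer (X : Set G) ≠ ⊥ →
        (Subgroup.centralizer (X : Set G) ≤ M ∧
          ∀ L : Subgroup G, IsCoatom L → Subgroup.centralizer (X : Set G) ≤ L → L = M) := by
  have hAM : A ≤ M := hA.1.trans hE.1
  have hKn : M ≤ Subgroup.normalizer ((sigmaCore M : Subgroup G) : Set G) :=
    Cfsg.Agent.Helper55.BGB.le_normalizer_sigmaCore M
  have hAp : IsPGroup p A := IsPGroup.of_card hA.2.2
  -- `E` normalizes `A`
  have hEN : E ≤ Subgroup.normalizer (A : Set G) := by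
    apply le_normalizer_of_conj_mem'
    intro e he a ha
    have h1 : e * a * e⁻¹ ∈ sigmaCore M ⊔ A :=
      (Subgroup.mem_normalizer_iff.mp (hc (hE.1 he)) a).mp (Subgroup.mem_sup_right ha)
    obtain ⟨k, hk, a', ha', hka⟩ := exists_mul_of_mem_sup (hAM.trans hKn) h1
    have h2 : e * a * e⁻¹ ∈ E := E.mul_mem (E.mul_mem he (hA.1 ha)) (E.inv_mem he)
    have h3 : k ∈ E ⊓ sigmaCore M := by
      refine ⟨?_, hk⟩
      have : k = e * a * e⁻¹ * a'⁻¹ := by rw [hka]; group
      rw [this]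
      exact E.mul_mem h2 (E.inv_mem (hA.1 ha'))
    rw [hE.2.2.1, Subgroup.mem_bot] at h3
    rw [hka, h3, one_mul]
    exact ha'
  -- a Sylow `p`-subgroup of `M` over a `p`-subgroup
  have hsyl : ∀ Y : Subgroup G, Y ≤ M → IsPGroup p Y →
      ∃ P : Sylow p M, Y ≤ (P : Subgroup M).map M.subtype := by
    intro Y hYM hY
    have hY' : IsPGroup p (Y.subgroupOf M) := hY.comap_subtype
    obtain ⟨P, hP⟩ := hY'.exists_le_sylow
    refine ⟨P, ?_⟩
    intro y hy
    exact Subgroup.mem_map.mpr ⟨⟨y, hYM hy⟩, hP (Subgroup.mem_subgroupOf.mpr hy), rfl⟩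
  refine ⟨⟨hEN, ?_⟩, ⟨?_, ?_, ?_⟩, ?_⟩
  · -- subgroups of order `p` of `E` lie in `A`
    intro X hXE hXc
    have hXp : IsPGroup p X := IsPGroup.of_card (n := 1) (by rw [hXc, pow_one])
    have hXA : IsPGroup p (X ⊔ A : Subgroup G) :=
      IsPGroup.to_sup_of_normal_right' hXp hAp (hXE.trans hEN)
    obtain ⟨P, hP⟩ := hsyl (X ⊔ A) (sup_le (hXE.trans hE.1) hAM) hXA
    have hbP := (hb P (le_sup_right.trans hP)).1
    intro x hx
    refine (hbP x (hP (Subgroup.mem_sup_left hx))).mp ?_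
    have h1 : (⟨x, hx⟩ : X) ^ Nat.card X = 1 := pow_card_eq_one'
    rw [hXc] at h1
    have := congrArg Subtype.val h1
    simpa using this
  · -- `C_G(A) ≤ N_M(A)`
    exact le_inf h16 (Subgroup.centralizer_le_normalizer _)
  · -- `N_M(A) = E`
    apply le_antisymm
    · rintro m ⟨hmM, hmN⟩
      obtain ⟨e, he, k, hk, rfl⟩ := hE.2.2.2 m hmM
      have hkN : k ∈ Subgroup.normalizer (A : Set G) := by
        have : k = e⁻¹ * (e * k) := by group
        rw [this]
        exact Subgroup.mul_mem _ (Subgroup.inv_mem _ (hEN he)) hmN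
      have hkC : k ∈ Subgroup.centralizer (A : Set G) := by
        rw [Subgroup.mem_centralizer_iff]
        intro a ha
        have h1 : k * a * k⁻¹ ∈ A := (Subgroup.mem_normalizer_iff.mp hkN a).mp ha
        have h2 : a * k⁻¹ * a⁻¹ ∈ sigmaCore M :=
          (Subgroup.mem_normalizer_iff.mp (hKn (hAM ha)) k⁻¹).mp (Subgroup.inv_mem _ hk)
        have h3 : k * a * k⁻¹ * a⁻¹ ∈ E ⊓ sigmaCore M := by
          refine ⟨E.mul_mem (hA.1 h1) (E.inv_mem (hA.1 ha)), ?_⟩
          have : k * a * k⁻¹ * a⁻¹ = k * (a * k⁻¹ * a⁻¹) := by group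
          rw [this]
          exact Subgroup.mul_mem _ hk h2
        rw [hE.2.2.1, Subgroup.mem_bot] at h3
        have : k * a = (k * a * k⁻¹ * a⁻¹) * (a * k) := by group
        rw [this, h3, one_mul]
      have hk1 : k ∈ sigmaCore M ⊓ Subgroup.centralizer (A : Set G) := ⟨hk, hkC⟩
      rw [hd, Subgroup.mem_bot] at hk1
      rw [hk1, mul_one]
      exact he
    · exact le_inf hE.1 hEN
  · -- `N_G(A) ⊄ M`
    intro hNM
    obtain ⟨P, hP⟩ := hsyl A hAM hAp
    obtain ⟨hb1, hb2⟩ := hb P hP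
    apply hb2
    refine le_trans ?_ hNM
    apply le_normalizer_of_conj_mem'
    intro g hg a ha
    have h1 : g * a * g⁻¹ ∈ (P : Subgroup M).map M.subtype :=
      (Subgroup.mem_normalizer_iff.mp hg a).mp (hP ha)
    refine (hb1 _ h1).mp ?_
    rw [conj_pow, hA.2.1.2 a ha]
    group
  · -- uniqueness for `C_G(X)`
    intro X hXA hXc hne
    have hAX : A ≤ Subgroup.centralizer (X : Set G) := by
      intro a ha
      rw [Subgroup.mem_centralizer_iff]
      intro x hx
      exact Cfsg.Agent.Helper34.BG.commute_of_isElementaryAbelian hA.2.1 (hXA hx) ha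
    have huniq : ∀ L : Subgroup G, IsCoatom L → Subgroup.centralizer (X : Set G) ≤ L → L = M := by
      intro L hL hXL
      by_contra hLM
      apply hne
      rw [eq_bot_iff]
      have := he L hL hLM (hAX.trans hXL)
      rw [← this]
      exact inf_le_inf_left _ hXL
    refine ⟨?_, huniq⟩
    have hXne : ∃ x ∈ X, x ≠ 1 := by
      by_contra hcon
      push Not at hcon
      have hbot : X = ⊥ := (Subgroup.eq_bot_iff_forall X).mpr hcon
      rw [hbot, Subgroup.card_bot] at hXc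
      exact hp.out.one_lt.ne hXc
    obtain ⟨x, hx, hx1⟩ := hXne
    have hCne : Subgroup.centralizer (X : Set G) ≠ ⊤ := by
      intro htop
      apply Cfsg.Agent.Helper34.BG.centralizer_singleton_ne_top hG hx1
      rw [eq_top_iff, ← htop]
      exact Subgroup.centralizer_le (by simpa using hx)
    obtain ⟨L, hL, hXL⟩ := Cfsg.Agent.Helper34.BG.exists_coatom_ge hCne
    rw [← huniq L hL hXL]
    exact hXL

end Cfsg.Agent.Helper78.BG126
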