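import Mathlib
import Cfsg.Agent.Lib.Helper34.BG10e
import Cfsg.Agent.Lib.Helper20.BG106D
import Cfsg.Agent.S1451

/-!
# Bender–Glauberman Lemma 12.1 (relative to the uniqueness theorem and Theorem 10.2(a))

`main`: for a maximal subgroup `M` of a minimal simple group of odd order and a complement `E` of
`M_σ` in `M`: `E'` is nilpotent, Hall `τ₁(M)`-subgroups of `E` are cyclic, Hall `τ₃(M)`-subgroups
of `E` are cyclic, contained in `E'` and normal in `E`.  The uniqueness theorem and the Hall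
property of `M_σ` are hypotheses.
-/

set_option autoImplicit false
open Pointwise

namespace Cfsg.Agent.Helper78.BG121

open Cfsg
open scoped commutatorElement

/-- In a finite nilpotent group a subgroup whose order is coprime to its index is normal. -/
theorem normal_of_coprime_of_nilpotent {H : Type*} [Group H] [Finite H] [Group.IsNilpotent H]
    (A : Subgroup H) (hA : (Nat.card A).Coprime A.index) : A.Normal := by
  rw [← Subgroup.normalizer_eq_top_iff]
  by_contra hne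
  have hlt : Subgroup.normalizer (A : Set H) < ⊤ := lt_top_iff_ne_top.mpr hne
  have h2 := Group.normalizerCondition_of_isNilpotent (G := H) _ hlt
  obtain ⟨g, hg, hgn⟩ := SetLike.exists_of_lt h2
  apply hgn
  rw [Cfsg.Agent.Helper33.mem_normalizer_iff_smul_eq]
  have h3 : MulAut.conj g • A ≤ Subgroup.normalizer (A : Set H) := by
    have := Cfsg.Agent.Helper33.conj_smul_le_conj_smul (g := g) (Subgroup.le_normalizer (H := A))
    rwa [Cfsg.Agent.Helper33.smul_eq_of_mem_normalizer hg] at this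
  have hnorm : (A.subgroupOf (Subgroup.normalizer (A : Set H))).Normal :=
    Subgroup.normal_in_normalizer
  have hcop : (Nat.card ((MulAut.conj g • A).subgroupOf (Subgroup.normalizer (A : Set H)))).Coprime
      (A.subgroupOf (Subgroup.normalizer (A : Set H))).index := by
    rw [Cfsg.Agent.Helper34.BG.card_subgroupOf_of_le h3, Cfsg.Agent.Helper33.card_conj_smul]
    exact Nat.Coprime.coprime_dvd_right
      (Subgroup.relIndex_dvd_index_of_le Subgroup.le_normalizer) hA
  have h4 := Cfsg.Agent.Helper20.BG106.le_of_coprime_index _ _ hcop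
  have h5 : MulAut.conj g • A ≤ A := by
    intro x hx
    have : (⟨x, h3 hx⟩ : ↥(Subgroup.normalizer (A : Set H))) ∈
        (MulAut.conj g • A).subgroupOf (Subgroup.normalizer (A : Set H)) := by
      rw [Subgroup.mem_subgroupOf]; exact hx
    have := h4 this
    rw [Subgroup.mem_subgroupOf] at this
    exact this
  exact Subgroup.eq_of_le_of_card_ge h5 (by rw [Cfsg.Agent.Helper33.card_conj_smul])

section compl

variable {G : Type*} [Group G]

theorem card_eq_of_isComplIn {A B M : Subgroup G} (h : IsComplIn A B M) :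
    Nat.card M = Nat.card A * Nat.card B := by
  let f : A × B → M := fun x => ⟨x.1.1 * x.2.1, M.mul_mem (h.1 x.1.2) (h.2.1 x.2.2)⟩
  have hf : Function.Bijective f := by
    constructor
    · rintro ⟨a, b⟩ ⟨a', b'⟩ hab
      have h1 : (a : G) * b = a' * b' := congrArg Subtype.val hab
      have h2 : (a' : G)⁻¹ * a = b' * (b : G)⁻¹ := by
        have : (a' : G)⁻¹ * ((a : G) * b) * (b : G)⁻¹ = (a' : G)⁻¹ * (a' * b') * (b : G)⁻¹ := by
          rw [h1]
        simpa [mul_assoc] using this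
      have h3 : (a' : G)⁻¹ * a ∈ A ⊓ B :=
        ⟨A.mul_mem (A.inv_mem a'.2) a.2, h2 ▸ B.mul_mem b'.2 (B.inv_mem b.2)⟩
      rw [h.2.2.1, Subgroup.mem_bot] at h3
      have ha : (a : G) = a' := by rw [inv_mul_eq_one] at h3; exact h3.symm
      have hb : (b : G) = b' := by rw [ha] at h1; exact mul_left_cancel h1
      exact Prod.ext (Subtype.ext ha) (Subtype.ext hb)
    · rintro ⟨m, hm⟩
      obtain ⟨a, ha, b, hb, rfl⟩ := h.2.2.2 m hm
      exact ⟨(⟨a, ha⟩, ⟨b, hb⟩), rfl⟩
  rw [← Nat.card_prod]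
  exact (Nat.card_congr (Equiv.ofBijective f hf)).symm

theorem relIndex_eq_of_isComplIn [Finite G] {A B M : Subgroup G} (h : IsComplIn A B M) :
    B.relIndex M = Nat.card A := by
  have h1 := card_eq_of_isComplIn h
  have h2 : Nat.card (B.subgroupOf M) * (B.subgroupOf M).index = Nat.card M :=
    Subgroup.card_mul_index _
  rw [Cfsg.Agent.Helper34.BG.card_subgroupOf_of_le h.2.1, h1, mul_comm] at h2
  exact Nat.eq_of_mul_eq_mul_right Nat.card_pos h2

/-- a prime not dividing the order gives `p`-rank zero -/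
theorem pRankLE_of_not_dvd {X : Type*} [Group X] [Finite X] {p k : ℕ} (hp : p.Prime)
    (h : ¬ p ∣ Nat.card X) : PRankLE p k X := by
  by_contra hn
  exact h (Cfsg.Agent.Helper20.BG106.dvd_card_of_not_pRankLE hp hn)

theorem nilpotent_commutator_of_type [Finite G] {E : Subgroup G}
    (h : Group.IsNilpotent ↥(commutator ↥E)) : Group.IsNilpotent ↥⁅E, E⁆ := by
  have e1 : ↥(commutator ↥E) ≃* ↥((commutator ↥E).map E.subtype) :=
    Subgroup.equivMapOfInjective _ _ E.subtype_injective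
  have e2 : ↥((commutator ↥E).map E.subtype) ≃* ↥⁅E, E⁆ :=
    MulEquiv.subgroupCongr (Subgroup.map_subtype_commutator E)
  exact Group.nilpotent_of_mulEquiv (e1.trans e2)

theorem isNilpotent_of_comm {X : Type*} [Group X] (h : ∀ a b : X, a * b = b * a) :
    Group.IsNilpotent X :=
  ⟨⟨1, Subgroup.upperCentralSeries_one_eq_top_iff.mpr ⟨⟨h⟩⟩⟩⟩

end compl

section tools

variable {G : Type*} [Group G] [Finite G]

/-- a subgroup of order coprime to the index of a normal subgroup lies in it (relative form) -/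
theorem le_of_coprime_relIndex {A B K : Subgroup G} (hA : A ≤ K) (hB : B ≤ K)
    (hn : K ≤ Subgroup.normalizer (A : Set G)) (hcop : (Nat.card B).Coprime (A.relIndex K)) :
    B ≤ A := by
  have hnorm : (A.subgroupOf K).Normal := (Subgroup.normal_subgroupOf_iff_le_normalizer hA).mpr hn
  have hc : (Nat.card (B.subgroupOf K)).Coprime (A.subgroupOf K).index := by
    rw [Cfsg.Agent.Helper34.BG.card_subgroupOf_of_le hB]
    exact hcop
  have h4 := Cfsg.Agent.Helper20.BG106.le_of_coprime_index _ _ hc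
  intro x hx
  have h5 : (⟨x, hB hx⟩ : ↥K) ∈ B.subgroupOf K := by
    rw [Subgroup.mem_subgroupOf]; exact hx
  have h6 := h4 h5
  rw [Subgroup.mem_subgroupOf] at h6
  exact h6

omit [Finite G] in
theorem orderOf_dvd_card_of_mem {H : Subgroup G} {x : G} (hx : x ∈ H) :
    orderOf x ∣ Nat.card H := by
  have := orderOf_dvd_natCard (⟨x, hx⟩ : H)
  rwa [← Subgroup.orderOf_coe] at this

theorem isCyclic_of_nilpotent_rank_one {H : Subgroup G} (hodd : Odd (Nat.card H))
    (hnil : Group.IsNilpotent ↥H)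
    (h : ∀ p : ℕ, p.Prime → p ∣ Nat.card H → PRankLE p 1 ↥H) : IsCyclic ↥H := by
  have hr : RankLE 1 ↥H := by
    intro p hp
    by_cases hd : p ∣ Nat.card H
    · exact h p hp hd
    · exact pRankLE_of_not_dvd hp hd
  have : IsZGroup ↥H := Cfsg.Agent.Helper34.BG.isZGroup_of_rankLE_one hodd hr
  infer_instance

/-- if `X = E N` with `N` normal then `X' ≤ E' N` -/
theorem commutator_le_sup_of_map_eq_top {X : Type*} [Group X] (N : Subgroup X) [N.Normal]
    (E : Subgroup X) (h : ∀ x : X, ∃ e ∈ E, ∃ n ∈ N, x = e * n) :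
    commutator X ≤ ⁅E, E⁆ ⊔ N := by
  have hmap : E.map (QuotientGroup.mk' N) = ⊤ := by
    rw [eq_top_iff]
    intro y _
    obtain ⟨x, rfl⟩ := QuotientGroup.mk'_surjective N y
    obtain ⟨e, he, n, hn, rfl⟩ := h x
    refine Subgroup.mem_map.mpr ⟨e, he, ?_⟩
    rw [map_mul]
    have : QuotientGroup.mk' N n = 1 := by
      rw [QuotientGroup.mk'_apply, QuotientGroup.eq_one_iff]; exact hn
    rw [this, mul_one]
  have h1 : (⁅E, E⁆ ⊔ N : Subgroup X) =
      Subgroup.comap (QuotientGroup.mk' N) (Subgroup.map (QuotientGroup.mk' N) ⁅E, E⁆) := by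
    rw [Subgroup.comap_map_eq, QuotientGroup.ker_mk']
  rw [h1, Subgroup.map_commutator, hmap, commutator_def, ← Subgroup.map_le_iff_le_comap,
    Subgroup.map_commutator]
  exact Subgroup.commutator_mono le_top le_top

end tools

section main

variable {G : Type*} [Group G] [Finite G]

theorem not_mem_sigma_of_dvd {M E : Subgroup G}
    (hσ : IsPiHallOf (sigma M) (sigmaCore M) M) (hE : IsComplIn E (sigmaCore M) M)
    {t : ℕ} (ht : t.Prime) (hd : t ∣ Nat.card E) : t ∉ sigma M := by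
  intro hts
  apply hσ.2.2 t ht hts
  rw [relIndex_eq_of_isComplIn hE]
  exact hd

theorem rankLE_two_compl (hG : IsMinSimpleOddOrder G) (hU : Cfsg.Agent.Helper34.BG.UniqHyp G)
    {M E : Subgroup G} (hM : IsCoatom M)
    (hσ : IsPiHallOf (sigma M) (sigmaCore M) M) (hE : IsComplIn E (sigmaCore M) M) :
    RankLE 2 ↥E := by
  intro t ht
  by_cases hd : t ∣ Nat.card E
  · have h1 := not_mem_sigma_of_dvd hσ hE ht hd
    have h2 : t ∉ alpha M := fun h => h1 (Cfsg.Agent.Helper34.BG.alpha_subset_sigma hG hU hM h)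
    have h3 : PRankLE t 2 ↥M := by
      by_contra hn
      exact h2 ⟨ht, hn⟩
    exact Cfsg.Agent.Helper34.BG.pRankLE_mono hE.1 h3
  · exact pRankLE_of_not_dvd ht hd

theorem nilpotent_commutator_compl (hG : IsMinSimpleOddOrder G)
    (hU : Cfsg.Agent.Helper34.BG.UniqHyp G)
    {M E : Subgroup G} (hM : IsCoatom M)
    (hσ : IsPiHallOf (sigma M) (sigmaCore M) M) (hE : IsComplIn E (sigmaCore M) M) :
    Group.IsNilpotent ↥⁅E, E⁆ := by
  have hne : E ≠ ⊤ := Cfsg.Agent.Helper34.BG.ne_top_of_le_coatom hM hE.1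
  have : Group.IsSolvable ↥E := Cfsg.Agent.Helper34.BG.solvable_of_ne_top hG hne
  have hodd : Odd (Nat.card ↥E) := Cfsg.Agent.Helper34.BG.odd_card_subgroup hG E
  exact nilpotent_commutator_of_type
    (Cfsg.Agent.S1451.result hodd (Or.inl (rankLE_two_compl hG hU hM hσ hE))).1

theorem tau1_cyclic (hG : IsMinSimpleOddOrder G) {M E E₁ : Subgroup G} (hEM : E ≤ M)
    (hE₁ : IsPiHallOf (tau1 M) E₁ E) : IsCyclic ↥E₁ := by
  have hbot : ∀ x ∈ E₁, x ∈ ⁅E, E⁆ → x = 1 := by
    intro x hx1 hx2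
    by_contra hne
    have ho : orderOf x ≠ 1 := fun h => hne (orderOf_eq_one_iff.mp h)
    obtain ⟨p, hp, hpd⟩ := Nat.exists_prime_and_dvd ho
    have h1 : orderOf x ∣ Nat.card E₁ := orderOf_dvd_card_of_mem hx1
    have h2 : orderOf x ∣ Nat.card ↥⁅M, M⁆ :=
      orderOf_dvd_card_of_mem (Subgroup.commutator_mono hEM hEM hx2)
    have h3 := hE₁.2.1 p hp (hpd.trans h1)
    exact h3.2.2.2.1 (hpd.trans h2)
  have hcomm : ∀ a b : ↥E₁, a * b = b * a := by
    intro a b
    have h1 : ⁅(a : G), (b : G)⁆ ∈ E₁ := by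
      rw [commutatorElement_def]
      exact E₁.mul_mem (E₁.mul_mem (E₁.mul_mem a.2 b.2) (E₁.inv_mem a.2)) (E₁.inv_mem b.2)
    have h2 : ⁅(a : G), (b : G)⁆ ∈ ⁅E, E⁆ :=
      Subgroup.commutator_mem_commutator (hE₁.1 a.2) (hE₁.1 b.2)
    have h3 := hbot _ h1 h2
    rw [commutatorElement_eq_one_iff_mul_comm] at h3
    exact Subtype.ext h3
  refine isCyclic_of_nilpotent_rank_one (Cfsg.Agent.Helper34.BG.odd_card_subgroup hG E₁)
    (isNilpotent_of_comm hcomm) ?_
  intro p hp hpd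
  have h3 := hE₁.2.1 p hp hpd
  exact Cfsg.Agent.Helper34.BG.pRankLE_mono (hE₁.1.trans hEM) h3.2.2.2.2

/-- for `p ∈ τ₃(M)`, `p` does not divide `|M : M'|` -/
theorem not_dvd_index_commutator_of_tau3 (hG : IsMinSimpleOddOrder G) {M : Subgroup G} {p : ℕ}
    (hp : p ∈ tau3 M) : ¬ p ∣ (commutator ↥M).index := by
  have : Fact p.Prime := ⟨hp.1⟩
  obtain ⟨P⟩ : Nonempty (Sylow p ↥M) := inferInstance
  have hd : p ∣ Nat.card (commutator ↥M) := by
    have h := hp.2.2.1
    rw [← Subgroup.map_subtype_commutator M,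
      Subgroup.card_map_of_injective M.subtype_injective] at h
    exact h
  have hp2 : p ≠ 2 := Cfsg.Agent.Helper34.BG.prime_ne_two hG ⁅M, M⁆ hp.2.2.1
  have : IsCyclic ↥(P : Subgroup ↥M) :=
    Cfsg.Agent.Helper34.BG.isCyclic_of_pRankLE_one hp2 P.isPGroup'
      (Cfsg.Agent.Helper34.BG.pRankLE_subgroup_type hp.2.2.2 _)
  rcases Sylow.not_dvd_card_commutator_or_not_dvd_index_commutator P with h | h
  · exact absurd hd h
  · exact h

theorem tau3_le_commutator (hG : IsMinSimpleOddOrder G) {M E E₃ : Subgroup G}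
    (hE : IsComplIn E (sigmaCore M) M) (hE₃ : IsPiHallOf (tau3 M) E₃ E) : E₃ ≤ ⁅E, E⁆ := by
  classical
  have hNmap : (piCore (sigma M) ↥M).map M.subtype = sigmaCore M := rfl
  have hE3M : E₃ ≤ M := hE₃.1.trans hE.1
  have hcop : (Nat.card (E₃.subgroupOf M)).Coprime (commutator ↥M).index := by
    rw [Cfsg.Agent.Helper34.BG.card_subgroupOf_of_le hE3M]
    apply Nat.coprime_of_dvd
    intro p hp hpd
    exact not_dvd_index_commutator_of_tau3 hG (hE₃.2.1 p hp hpd)
  have h1 : E₃.subgroupOf M ≤ commutator ↥M :=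
    Cfsg.Agent.Helper20.BG106.le_of_coprime_index _ _ hcop
  have hdec : ∀ x : ↥M, ∃ e ∈ E.subgroupOf M, ∃ n ∈ piCore (sigma M) ↥M, x = e * n := by
    intro x
    obtain ⟨a, ha, b, hb, hab⟩ := hE.2.2.2 (x : G) x.2
    rw [← hNmap] at hb
    obtain ⟨n, hn, rfl⟩ := Subgroup.mem_map.mp hb
    refine ⟨⟨a, hE.1 ha⟩, ?_, n, hn, ?_⟩
    · rw [Subgroup.mem_subgroupOf]; exact ha
    · apply Subtype.ext
      simpa using hab
  have h2 : commutator ↥M ≤ ⁅E.subgroupOf M, E.subgroupOf M⁆ ⊔ piCore (sigma M) ↥M :=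
    commutator_le_sup_of_map_eq_top _ _ hdec
  have hdisj : ∀ n ∈ piCore (sigma M) ↥M, n ∈ E.subgroupOf M → n = 1 := by
    intro n hn hne
    have : (n : G) ∈ E ⊓ sigmaCore M :=
      ⟨Subgroup.mem_subgroupOf.mp hne, by rw [← hNmap]; exact Subgroup.mem_map.mpr ⟨n, hn, rfl⟩⟩
    rw [hE.2.2.1, Subgroup.mem_bot] at this
    exact Subtype.ext this
  have h3 : E₃.subgroupOf M ≤ ⁅E.subgroupOf M, E.subgroupOf M⁆ := by
    intro y hy
    have hy2 : y ∈ ((⁅E.subgroupOf M, E.subgroupOf M⁆ ⊔ piCore (sigma M) ↥M : Subgroup ↥M) :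
        Set ↥M) := h2 (h1 hy)
    rw [Subgroup.mul_normal] at hy2
    obtain ⟨c, hc, n, hn, rfl⟩ := Set.mem_mul.mp hy2
    have hcE : c ∈ E.subgroupOf M := Subgroup.commutator_le_self _ hc
    have hyE : c * n ∈ E.subgroupOf M := by
      rw [Subgroup.mem_subgroupOf] at hy ⊢
      exact hE₃.1 hy
    have hnE : n ∈ E.subgroupOf M := by
      have := (E.subgroupOf M).mul_mem ((E.subgroupOf M).inv_mem hcE) hyE
      simpa using this
    rw [hdisj n hn hnE, mul_one]
    exact hc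
  have h4 := Subgroup.map_mono (f := M.subtype) h3
  rw [Subgroup.map_subgroupOf_eq_of_le hE3M, Subgroup.map_commutator,
    Subgroup.map_subgroupOf_eq_of_le hE.1] at h4
  exact h4

theorem tau3_structure (hG : IsMinSimpleOddOrder G) {M E E₃ : Subgroup G}
    (hE : IsComplIn E (sigmaCore M) M) (hnil : Group.IsNilpotent ↥⁅E, E⁆)
    (hE₃ : IsPiHallOf (tau3 M) E₃ E) :
    IsCyclic ↥E₃ ∧ E₃ ≤ ⁅E, E⁆ ∧ E ≤ Subgroup.normalizer (E₃ : Set G) := by
  have hle := tau3_le_commutator hG hE hE₃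
  have hnilE3 : Group.IsNilpotent ↥E₃ := by
    have e : ↥(E₃.subgroupOf ⁅E, E⁆) ≃* ↥E₃ := Subgroup.subgroupOfEquivOfLe hle
    exact Group.nilpotent_of_mulEquiv e
  have hcyc : IsCyclic ↥E₃ := by
    refine isCyclic_of_nilpotent_rank_one (Cfsg.Agent.Helper34.BG.odd_card_subgroup hG E₃)
      hnilE3 ?_
    intro p hp hpd
    exact Cfsg.Agent.Helper34.BG.pRankLE_mono (hE₃.1.trans hE.1) (hE₃.2.1 p hp hpd).2.2.2
  refine ⟨hcyc, hle, ?_⟩
  have hcop : (Nat.card E₃).Coprime (E₃.relIndex E) := by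
    apply Nat.coprime_of_dvd
    intro p hp hpd
    exact hE₃.2.2 p hp (hE₃.2.1 p hp hpd)
  have hcop' : (Nat.card E₃).Coprime (E₃.relIndex ⁅E, E⁆) :=
    Nat.Coprime.coprime_dvd_right
      (Dvd.intro _ (Subgroup.relIndex_mul_relIndex E₃ ⁅E, E⁆ E hle (Subgroup.commutator_le_self E)))
      hcop
  have hnormal : (E₃.subgroupOf ⁅E, E⁆).Normal := by
    apply normal_of_coprime_of_nilpotent
    rw [Cfsg.Agent.Helper34.BG.card_subgroupOf_of_le hle]
    exact hcop'
  have hn : ⁅E, E⁆ ≤ Subgroup.normalizer (E₃ : Set G) :=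
    (Subgroup.normal_subgroupOf_iff_le_normalizer hle).mp hnormal
  intro g hg
  rw [Cfsg.Agent.Helper33.mem_normalizer_iff_smul_eq]
  have h1 : MulAut.conj g • E₃ ≤ ⁅E, E⁆ := by
    rw [Cfsg.Agent.Helper33.conj_smul_le_iff]
    intro x hx
    have hx' := hle hx
    rw [← Subgroup.map_subtype_commutator E] at hx' ⊢
    obtain ⟨c, hc, rfl⟩ := Subgroup.mem_map.mp hx'
    refine Subgroup.mem_map.mpr ⟨⟨g, hg⟩ * c * ⟨g, hg⟩⁻¹, ?_, by simp⟩
    exact (inferInstance : (commutator ↥E).Normal).conj_mem c hc ⟨g, hg⟩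
  have h2 : MulAut.conj g • E₃ ≤ E₃ :=
    le_of_coprime_relIndex hle h1 hn (by rw [Cfsg.Agent.Helper33.card_conj_smul]; exact hcop')
  exact Subgroup.eq_of_le_of_card_ge h2 (by rw [Cfsg.Agent.Helper33.card_conj_smul])

/-- B–G Lemma 12.1 (relative to the uniqueness theorem and the Hall property of `M_σ`). -/
theorem main (hG : IsMinSimpleOddOrder G) (hU : Cfsg.Agent.Helper34.BG.UniqHyp G)
    (M : Subgroup G) (hM : IsCoatom M) (hσ : IsPiHallOf (sigma M) (sigmaCore M) M)
    (E : Subgroup G) (hE : IsComplIn E (sigmaCore M) M) :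
    Group.IsNilpotent ↥⁅E, E⁆ ∧
      (∀ E₁ : Subgroup G, IsPiHallOf (tau1 M) E₁ E → IsCyclic E₁) ∧
      ∀ E₃ : Subgroup G, IsPiHallOf (tau3 M) E₃ E →
        IsCyclic E₃ ∧ E₃ ≤ ⁅E, E⁆ ∧ E ≤ Subgroup.normalizer (E₃ : Set G) := by
  have hnil := nilpotent_commutator_compl hG hU hM hσ hE
  exact ⟨hnil, fun E₁ hE₁ => tau1_cyclic hG hE.1 hE₁, fun E₃ hE₃ => tau3_structure hG hE hnil hE₃⟩

end main

end Cfsg.Agent.Helper78.BG121
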