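import Cfsg.Agent.Lib.Helper78.CharSchur

set_option autoImplicit false

namespace Cfsg.Agent.Helper78

open scoped ComplexConjugate

section Linear

variable {G : Type*} [Group G]

theorem trace_mul_fin_one (f g : Module.End ℂ (Fin 1 → ℂ)) :
    LinearMap.trace ℂ _ (f * g) = LinearMap.trace ℂ _ f * LinearMap.trace ℂ _ g := by
  rw [LinearMap.trace_eq_matrix_trace ℂ (Pi.basisFun ℂ (Fin 1)),
    LinearMap.trace_eq_matrix_trace ℂ (Pi.basisFun ℂ (Fin 1)),
    LinearMap.trace_eq_matrix_trace ℂ (Pi.basisFun ℂ (Fin 1)), LinearMap.toMatrix_mul]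
  simp [Matrix.trace, Matrix.mul_apply]

/-- An irreducible character of degree one is multiplicative. -/
theorem linear_char_mul {χ : G → ℂ} (hχ : IsIrrCharacter G χ) (h1 : χ 1 = 1) (g h : G) :
    χ (g * h) = χ g * χ h := by
  obtain ⟨n, ρ, hρ, rfl⟩ := hχ
  rw [Representation.char_one] at h1
  have hn : n = 1 := by
    have : Module.finrank ℂ (Fin n → ℂ) = 1 := by exact_mod_cast h1
    simpa using this
  subst hn
  unfold Representation.character
  rw [map_mul]
  exact trace_mul_fin_one _ _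

/-- A linear character as a homomorphism to the units of `ℂ`. -/
noncomputable def linearCharHom {χ : G → ℂ} (hχ : IsIrrCharacter G χ) (h1 : χ 1 = 1) : G →* ℂˣ :=
  MonoidHom.toHomUnits
    { toFun := χ
      map_one' := h1
      map_mul' := linear_char_mul hχ h1 }

theorem linearCharHom_apply {χ : G → ℂ} (hχ : IsIrrCharacter G χ) (h1 : χ 1 = 1) (g : G) :
    ((linearCharHom hχ h1 g : ℂˣ) : ℂ) = χ g := rfl

theorem linear_char_eq_one_of_mem_commutator {χ : G → ℂ} (hχ : IsIrrCharacter G χ)
    (h1 : χ 1 = 1) (k : G) (hk : k ∈ commutator G) : χ k = 1 := by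
  have h2 : k ∈ (linearCharHom hχ h1).ker := Abelianization.commutator_subset_ker _ hk
  rw [MonoidHom.mem_ker] at h2
  rw [← linearCharHom_apply hχ h1, h2]
  rfl

theorem linear_char_mul_conj [Finite G] {χ : G → ℂ} (hχ : IsIrrCharacter G χ) (h1 : χ 1 = 1)
    (g : G) : χ g * conj (χ g) = 1 := by
  rw [← IsIrrCharacter.inv hχ, ← linear_char_mul hχ h1, mul_inv_cancel, h1]

end Linear

end Cfsg.Agent.Helper78
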