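import Cfsg.Prelude.Def_BlockRank
import Cfsg.Agent.Lib.Helper16.WBO
import Cfsg.Agent.S0952
import Cfsg.Agent.Lib.Helper78.CharCount
import Cfsg.Agent.Lib.Helper78.CharSchur
import Cfsg.Agent.Lib.Helper3.CharComplete

/-!
# The `p`-regular rank `l(B)` of a block

* linear independence of the `p`-regular parts forces vanishing on `p`-singular elements;
* vanishing on `p`-singular elements forces the full `p`-part in the degree;
* `f ↦ ∑_{χ ∈ B} ⟨f, χ⟩ χ⁰` is a projection onto the span of the `χ⁰`, so its trace is `l(B)`.
-/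

set_option autoImplicit false
set_option linter.unusedSectionVars false
set_option linter.style.haveILetI false

namespace Cfsg.Agent.Helper78

open Cfsg Cfsg.Agent.Helper77 Cfsg.Agent.Helper16
open scoped ComplexConjugate

universe u

section

variable {G : Type u} [Group G]

theorem pRegularPart_of_regular (p : ℕ) (f : G → ℂ) {g : G} (h : ¬ p ∣ orderOf g) :
    pRegularPart p f g = f g := by
  classical
  unfold pRegularPart
  exact if_pos h

theorem pRegularPart_of_singular (p : ℕ) (f : G → ℂ) {g : G} (h : p ∣ orderOf g) :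
    pRegularPart p f g = 0 := by
  classical
  unfold pRegularPart
  exact if_neg (fun h' : IsPRegular p g => h' h)

theorem pRegularPart_one (p : ℕ) [Fact p.Prime] (f : G → ℂ) : pRegularPart p f 1 = f 1 := by
  apply pRegularPart_of_regular
  rw [orderOf_one]
  exact (Fact.out : p.Prime).one_lt.ne' ∘ Nat.dvd_one.1

/-- the rank as the `Set.finrank` of a range -/
theorem blockRank_eq_finrank_range (p : ℕ) (B : Set (IrrCharacter G)) :
    blockRank p B = (Set.range (fun χ : B => pRegularPart p ((χ : IrrCharacter G) : G → ℂ))).finrank ℂ := by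
  unfold blockRank Set.finrank
  rw [Set.image_eq_range]

end

section Fin

variable {G : Type u} [Group G] [Fintype G] {p : ℕ} [Fact p.Prime] {M : Ideal AlgInt}

/-- if the `p`-regular parts of the members of a block are linearly independent, the members vanish
on `p`-singular elements -/
theorem vanish_of_linearIndependent (hM : IsPModular p M) {B : Set (IrrCharacter G)}
    (hB : IsPBlock M B)
    (hli : LinearIndependent ℂ (fun χ : B => pRegularPart p ((χ : IrrCharacter G) : G → ℂ)))
    (χ : IrrCharacter G) (hχ : χ ∈ B) (y : G) (hy : p ∣ orderOf y) : (χ : G → ℂ) y = 0 := by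
  classical
  haveI : Fintype B := (Set.toFinite B).fintype
  have hsum : ∑ ψ : B, conj (((ψ : IrrCharacter G) : G → ℂ) y) •
      pRegularPart p ((ψ : IrrCharacter G) : G → ℂ) = 0 := by
    funext x
    rw [Finset.sum_apply]
    simp only [Pi.smul_apply, smul_eq_mul, Pi.zero_apply]
    by_cases hx : p ∣ orderOf x
    · refine Finset.sum_eq_zero fun ψ _ => ?_
      rw [pRegularPart_of_singular p _ hx, mul_zero]
    · have hw := weak_block_orthogonality hM hB x y hx hy
      rw [← hw]
      rw [← Finset.sum_subtype (Set.toFinite B).toFinset (fun θ => Set.Finite.mem_toFinset _)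
        (fun θ : IrrCharacter G => conj ((θ : G → ℂ) y) * pRegularPart p (θ : G → ℂ) x)]
      refine Finset.sum_congr rfl fun θ _ => ?_
      rw [pRegularPart_of_regular p _ hx, mul_comm]
  have h := Fintype.linearIndependent_iff.1 hli _ hsum ⟨χ, hχ⟩
  simpa using h

/-- an irreducible character vanishing on the `p`-singular elements has degree divisible by the
full `p`-part of the group order -/
theorem pow_dvd_charDegree_of_vanish {χ : G → ℂ} (hχ : IsIrrCharacter G χ)
    (hv : ∀ y : G, p ∣ orderOf y → χ y = 0) :
    p ^ (Nat.card G).factorization p ∣ charDegree χ := by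
  classical
  have hp : p.Prime := Fact.out
  obtain ⟨P⟩ : Nonempty (Sylow p G) := inferInstance
  haveI : Fintype (P : Subgroup G) := Fintype.ofFinite _
  obtain ⟨m, hm⟩ := IsCharacter.sum_subgroup (IsIrrCharacter.isCharacter hχ)
    (P : Subgroup G)
  have h1 : ∑ w : (P : Subgroup G), χ (w : G) = χ 1 := by
    rw [Finset.sum_eq_single (1 : (P : Subgroup G))]
    · rfl
    · intro w _ hw
      apply hv
      obtain ⟨k, hk⟩ := (IsPGroup.iff_orderOf.1 P.isPGroup') w
      rw [Subgroup.orderOf_coe, hk]
      apply dvd_pow_self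
      rintro rfl
      rw [pow_zero, orderOf_eq_one_iff] at hk
      exact hw hk
    · intro h
      exact absurd (Finset.mem_univ _) h
  rw [h1, (irr_charDegree hχ).1, Sylow.card_eq_multiplicity] at hm
  have h2 : charDegree χ = p ^ (Nat.card G).factorization p * m := by
    exact_mod_cast hm
  exact ⟨m, h2⟩

end Fin


section Proj

variable {G : Type u} [Group G] [Fintype G] {p : ℕ} [Fact p.Prime] {M : Ideal AlgInt}

/-- `f ↦ ⟨f, χ⟩` as a linear functional -/
noncomputable def innerFunctional (χ : G → ℂ) : (G → ℂ) →ₗ[ℂ] ℂ where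
  toFun f := classInner f χ
  map_add' := fun f g => classInner_add_left f g χ
  map_smul' := fun c f => by
    simp only [RingHom.id_apply, smul_eq_mul]
    exact classInner_smul_left c f χ

theorem innerFunctional_apply (χ f : G → ℂ) : innerFunctional χ f = classInner f χ := rfl

/-- truncation to the `p`-regular elements as a linear map -/
noncomputable def regPart (p : ℕ) : (G → ℂ) →ₗ[ℂ] (G → ℂ) where
  toFun f := pRegularPart p f
  map_add' := fun f g => by
    funext x
    by_cases hx : p ∣ orderOf x
    · simp [pRegularPart_of_singular p _ hx]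
    · simp [pRegularPart_of_regular p _ hx]
  map_smul' := fun c f => by
    funext x
    by_cases hx : p ∣ orderOf x
    · simp [pRegularPart_of_singular p _ hx]
    · simp [pRegularPart_of_regular p _ hx]

theorem regPart_apply (p : ℕ) (f : G → ℂ) : regPart p f = pRegularPart p f := rfl

theorem pRegularPart_idem (p : ℕ) (f : G → ℂ) :
    pRegularPart p (pRegularPart p f) = pRegularPart p f := by
  funext x
  by_cases hx : p ∣ orderOf x
  · simp [pRegularPart_of_singular p _ hx]
  · simp [pRegularPart_of_regular p _ hx]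

theorem isClassFunction_pRegularPart (p : ℕ) {f : G → ℂ} (hf : IsClassFunction G f) :
    IsClassFunction G (pRegularPart p f) := by
  intro g h
  have ho : orderOf (h * g * h⁻¹) = orderOf g := by
    have := orderOf_injective (MulAut.conj h).toMonoidHom (MulAut.conj h).injective g
    simpa [MulAut.conj_apply] using this
  by_cases hx : p ∣ orderOf g
  · rw [pRegularPart_of_singular p _ hx, pRegularPart_of_singular p _ (ho ▸ hx)]
  · rw [pRegularPart_of_regular p _ hx, pRegularPart_of_regular p _ (ho ▸ hx), hf]

/-- the projection `f ↦ ∑_{χ ∈ B} ⟨f, χ⟩ χ⁰` -/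
noncomputable def regProj (p : ℕ) (B : Set (IrrCharacter G)) : (G → ℂ) →ₗ[ℂ] (G → ℂ) :=
  ∑ χ ∈ (Set.toFinite B).toFinset,
    (innerFunctional (χ : G → ℂ)).smulRight (pRegularPart p (χ : G → ℂ))

theorem regProj_apply (p : ℕ) (B : Set (IrrCharacter G)) (f : G → ℂ) :
    regProj p B f = ∑ χ ∈ (Set.toFinite B).toFinset,
      classInner f (χ : G → ℂ) • pRegularPart p (χ : G → ℂ) := by
  unfold regProj
  rw [LinearMap.sum_apply]
  rfl

/-- the inner product of a `p`-regular part with a character of a different block vanishes -/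
theorem classInner_pRegularPart_eq_zero (hM : IsPModular p M) (ψ χ : IrrCharacter G)
    (h : ¬ SameBlock M (ψ : G → ℂ) (χ : G → ℂ)) :
    classInner (pRegularPart p (ψ : G → ℂ)) (χ : G → ℂ) = 0 := by
  classical
  have h0 := Cfsg.Agent.S0952.result p M hM ψ χ h
  rw [finsum_mem_eq_finite_toFinset_sum _ (Set.toFinite _)] at h0
  unfold classInner
  have h1 : ∑ g : G, pRegularPart p (ψ : G → ℂ) g * conj ((χ : G → ℂ) g) =
      ∑ g ∈ (Set.toFinite {x : G | ¬ p ∣ orderOf x}).toFinset,
        (ψ : G → ℂ) g * conj ((χ : G → ℂ) g) := by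
    rw [← Finset.sum_subset (Finset.subset_univ _)]
    · refine Finset.sum_congr rfl fun g hg => ?_
      rw [Set.Finite.mem_toFinset] at hg
      rw [pRegularPart_of_regular p _ hg]
    · intro g _ hg
      rw [Set.Finite.mem_toFinset] at hg
      have hg' : p ∣ orderOf g := not_not.1 hg
      rw [pRegularPart_of_singular p _ hg', zero_mul]
  rw [h1, h0, mul_zero]

/-- on the `p`-regular part of a member of the block the projection is the identity -/
theorem regProj_pRegularPart (hM : IsPModular p M) {B : Set (IrrCharacter G)} (hB : IsPBlock M B)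
    (ψ : IrrCharacter G) (hψ : ψ ∈ B) :
    regProj p B (pRegularPart p (ψ : G → ℂ)) = pRegularPart p (ψ : G → ℂ) := by
  classical
  have hprime := isPrime_of_isPModular hM
  have hcl : IsClassFunction G (pRegularPart p (ψ : G → ℂ)) :=
    isClassFunction_pRegularPart p (Cfsg.Agent.Helper3.isClassFunction_of_isIrrCharacter ψ.2)
  have h1 := Cfsg.Agent.Helper3.classFunction_eq_sum _ hcl
  have h2 := congrArg (regPart p) h1
  rw [regPart_apply, pRegularPart_idem, map_sum] at h2
  simp only [map_smul, regPart_apply] at h2
  rw [regProj_apply]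
  conv_rhs => rw [h2]
  apply Finset.sum_subset (Finset.subset_univ _)
  intro χ _ hχ
  rw [Set.Finite.mem_toFinset] at hχ
  have hne : ¬ SameBlock M (ψ : G → ℂ) (χ : G → ℂ) := by
    intro hs
    apply hχ
    obtain ⟨χ₀, rfl⟩ := hB
    exact Cfsg.Agent.Helper77.sameBlock_trans hψ hs
  rw [classInner_pRegularPart_eq_zero hM ψ χ hne, zero_smul]

/-- the projection property -/
theorem isProj_regProj (hM : IsPModular p M) {B : Set (IrrCharacter G)} (hB : IsPBlock M B) :
    LinearMap.IsProj (Submodule.span ℂ
      ((fun χ : IrrCharacter G => pRegularPart p (χ : G → ℂ)) '' B)) (regProj p B) := by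
  constructor
  · intro f
    rw [regProj_apply]
    refine Submodule.sum_mem _ fun χ hχ => ?_
    rw [Set.Finite.mem_toFinset] at hχ
    exact Submodule.smul_mem _ _ (Submodule.subset_span ⟨χ, hχ, rfl⟩)
  · intro f hf
    induction hf using Submodule.span_induction with
    | mem x hx =>
      obtain ⟨χ, hχ, rfl⟩ := hx
      exact regProj_pRegularPart hM hB χ hχ
    | zero => exact map_zero _
    | add x y _ _ hx hy => rw [map_add, hx, hy]
    | smul c x _ hx => rw [map_smul, hx]

/-- **`|G| · l(B)` as a sum over the `p`-regular elements.** -/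
theorem card_mul_blockRank (hM : IsPModular p M) {B : Set (IrrCharacter G)} (hB : IsPBlock M B) :
    (Nat.card G : ℂ) * (blockRank p B : ℂ) =
      ∑ x : G, ∑ χ ∈ (Set.toFinite B).toFinset,
        pRegularPart p (χ : G → ℂ) x * (χ : G → ℂ) x⁻¹ := by
  classical
  have htr := (isProj_regProj hM hB).trace
  have h1 : LinearMap.trace ℂ (G → ℂ) (regProj p B) =
      ∑ χ ∈ (Set.toFinite B).toFinset,
        classInner (pRegularPart p (χ : G → ℂ)) (χ : G → ℂ) := by
    unfold regProj
    rw [map_sum]
    refine Finset.sum_congr rfl fun χ _ => ?_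
    rw [LinearMap.trace_smulRight]
    rfl
  have h2 : (blockRank p B : ℂ) = ∑ χ ∈ (Set.toFinite B).toFinset,
      classInner (pRegularPart p (χ : G → ℂ)) (χ : G → ℂ) := by
    rw [← h1, htr]
    rfl
  rw [h2, Finset.mul_sum, Finset.sum_comm]
  refine Finset.sum_congr rfl fun χ _ => ?_
  unfold classInner
  rw [← mul_assoc, mul_inv_cancel₀ natCard_ne_zero_complex, one_mul]
  refine Finset.sum_congr rfl fun g _ => ?_
  rw [IsIrrCharacter.inv χ.2]

end Proj

end Cfsg.Agent.Helper78
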