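import Mathlib
import Cfsg.Prelude.Def_Blocks
import Cfsg.Agent.Lib.Helper3.Spectral
import Cfsg.Agent.Lib.Helper3.CharIntegral
import Cfsg.Agent.Lib.Helper78.CharSchur

/-!
# The Frobenius congruence `χ(g)^(p^n) ≡ χ(g^(p^n)) mod p` for characters

and the separation of `p`-regular classes by character values modulo `p`.
-/

set_option autoImplicit false
set_option linter.unusedSectionVars false
set_option linter.style.haveILetI false

namespace Cfsg.Agent.Helper78

open Cfsg
open scoped ComplexConjugate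

/-- `z` is `p` times an algebraic integer -/
def PDvd (p : ℕ) (z : ℂ) : Prop := ∃ γ : AlgInt, z = (p : ℂ) * (γ : ℂ)

theorem PDvd.add {p : ℕ} {z w : ℂ} (hz : PDvd p z) (hw : PDvd p w) : PDvd p (z + w) := by
  obtain ⟨a, rfl⟩ := hz
  obtain ⟨b, rfl⟩ := hw
  exact ⟨a + b, by push_cast; ring⟩

theorem PDvd.neg {p : ℕ} {z : ℂ} (hz : PDvd p z) : PDvd p (-z) := by
  obtain ⟨a, rfl⟩ := hz
  exact ⟨-a, by push_cast; ring⟩

theorem PDvd.sub {p : ℕ} {z w : ℂ} (hz : PDvd p z) (hw : PDvd p w) : PDvd p (z - w) := by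
  rw [sub_eq_add_neg]
  exact hz.add hw.neg

theorem PDvd.mul_left {p : ℕ} {z : ℂ} (hz : PDvd p z) {c : ℂ} (hc : IsIntegral ℤ c) :
    PDvd p (c * z) := by
  obtain ⟨a, rfl⟩ := hz
  exact ⟨⟨c, hc⟩ * a, by push_cast; ring⟩

theorem PDvd.zero (p : ℕ) : PDvd p 0 := ⟨0, by simp⟩

theorem PDvd.sum {p : ℕ} {ι : Type*} (s : Finset ι) (f : ι → ℂ) (h : ∀ i ∈ s, PDvd p (f i)) :
    PDvd p (∑ i ∈ s, f i) := by
  classical
  induction s using Finset.induction_on with
  | empty => simpa using PDvd.zero p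
  | insert a s ha ih =>
    rw [Finset.sum_insert ha]
    exact (h a (Finset.mem_insert_self a s)).add
      (ih fun i hi => h i (Finset.mem_insert_of_mem hi))

/-- a natural number that is `p` times an algebraic integer is divisible by `p` -/
theorem PDvd.dvd_of_natCast {p : ℕ} (hp : p ≠ 0) {m : ℕ} (h : PDvd p (m : ℂ)) : p ∣ m := by
  obtain ⟨γ, hγ⟩ := h
  apply Cfsg.Agent.Helper3.rat_of_isIntegral_natCast_div m p hp
  have hp' : (p : ℂ) ≠ 0 := by exact_mod_cast hp
  have : (m : ℂ) / (p : ℂ) = (γ : ℂ) := by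
    rw [hγ]
    field_simp
  rw [this]
  exact γ.2

theorem natCast_mem_nonunits (p : ℕ) [Fact p.Prime] : (p : AlgInt) ∈ nonunits AlgInt := by
  have hp : p.Prime := Fact.out
  intro hu
  obtain ⟨γ, hγ⟩ := hu.exists_right_inv
  have h1 : PDvd p ((1 : ℕ) : ℂ) := by
    refine ⟨γ, ?_⟩
    have := congrArg (fun a : AlgInt => (a : ℂ)) hγ
    push_cast at this
    rw [Nat.cast_one]
    exact this.symm
  have := PDvd.dvd_of_natCast hp.ne_zero h1
  exact hp.one_lt.ne' (Nat.dvd_one.1 this)

/-- the Frobenius congruence for sums of algebraic integers with multiplicities -/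
theorem pdvd_sum_pow (p n : ℕ) [Fact p.Prime] {ι : Type*} (s : Finset ι) (m : ι → ℕ) (μ : ι → ℂ)
    (hμ : ∀ i ∈ s, IsIntegral ℤ (μ i)) :
    PDvd p ((∑ i ∈ s, μ i * (m i : ℂ)) ^ (p ^ n) - ∑ i ∈ s, (μ i) ^ (p ^ n) * (m i : ℂ)) := by
  classical
  have hp : p.Prime := Fact.out
  set ν : ι → AlgInt := fun i => if h : IsIntegral ℤ (μ i) then ⟨μ i, h⟩ else 0 with hν
  have hνc : ∀ i ∈ s, ((ν i : AlgInt) : ℂ) = μ i := by
    intro i hi
    simp only [hν]
    rw [dif_pos (hμ i hi)]
  set I : Ideal AlgInt := Ideal.span {(p : AlgInt)} with hI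
  haveI : CharP (AlgInt ⧸ I) p := CharP.quotient AlgInt p (natCast_mem_nonunits p)
  haveI : ExpChar (AlgInt ⧸ I) p := ExpChar.prime hp
  have hmem : (∑ i ∈ s, ν i * (m i : AlgInt)) ^ (p ^ n) - ∑ i ∈ s, (ν i) ^ (p ^ n) * (m i : AlgInt) ∈ I := by
    rw [← Ideal.Quotient.eq_zero_iff_mem, map_sub, map_pow, map_sum, map_sum, sum_pow_char_pow,
      sub_eq_zero]
    refine Finset.sum_congr rfl fun i _ => ?_
    rw [map_mul, map_mul, map_pow, mul_pow, map_natCast]
    congr 1
    have := map_natCast (iterateFrobenius (AlgInt ⧸ I) p n) (m i)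
    rwa [iterateFrobenius_def] at this
  obtain ⟨γ, hγ⟩ := Ideal.mem_span_singleton'.1 hmem
  refine ⟨γ, ?_⟩
  have h2 := congrArg (fun a : AlgInt => (a : ℂ)) hγ
  push_cast at h2
  rw [mul_comm, h2]
  congr 1
  · congr 1
    exact Finset.sum_congr rfl fun i hi => by rw [hνc i hi]
  · exact Finset.sum_congr rfl fun i hi => by rw [hνc i hi]

section Rep

variable {G : Type*} [Group G] [Finite G] {V : Type*} [AddCommGroup V] [Module ℂ V]
  [FiniteDimensional ℂ V] (ρ : Representation ℂ G V)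

/-- **Frobenius congruence**: `χ(g)^(p^n) ≡ χ(g^(p^n))` modulo `p`. -/
theorem pdvd_char_pow_sub (p n : ℕ) [Fact p.Prime] (g : G) :
    PDvd p (ρ.character g ^ (p ^ n) - ρ.character (g ^ (p ^ n))) := by
  have hfin := Cfsg.Agent.Helper3.finite_mult_support ρ g
  rw [Cfsg.Agent.Helper3.char_eq_finsum ρ g, Cfsg.Agent.Helper3.char_pow_eq_finsum ρ g (p ^ n)]
  rw [finsum_eq_sum_of_support_subset (s := hfin.toFinset),
    finsum_eq_sum_of_support_subset (s := hfin.toFinset)]
  · apply pdvd_sum_pow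
    intro μ hμ
    have hm : Cfsg.Agent.Helper3.mult ρ g μ ≠ 0 := by simpa using hμ
    exact IsIntegral.of_pow (orderOf_pos g) (by
      rw [Cfsg.Agent.Helper3.eigenvalue_pow_of_mult_ne_zero ρ g μ hm]; exact isIntegral_one)
  · intro μ hμ
    simp only [Function.mem_support, ne_eq, mul_eq_zero, not_or] at hμ
    simpa using hμ.2
  · intro μ hμ
    simp only [Function.mem_support, ne_eq, mul_eq_zero, not_or] at hμ
    simpa using hμ.2

end Rep


section Avg

open Polynomial in
/-- an endomorphism with `T^(n+1) = T` is semisimple -/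
theorem isSemisimple_of_pow_succ_eq {V : Type*} [AddCommGroup V] [Module ℂ V]
    (T : Module.End ℂ V) (n : ℕ) (hn : n ≠ 0) (hT : T ^ (n + 1) = T) : T.IsSemisimple := by
  have hsep : (X * (X ^ n - 1) : ℂ[X]).Separable := by
    apply Polynomial.Separable.mul Polynomial.separable_X
    · have := Polynomial.separable_X_pow_sub_C (1 : ℂ) (n := n) (by exact_mod_cast hn) one_ne_zero
      simpa using this
    · obtain ⟨k, rfl⟩ : ∃ k, n = k + 1 := ⟨n - 1, by omega⟩
      refine ⟨X ^ k, -1, ?_⟩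
      ring
  apply Module.End.isSemisimple_of_squarefree_aeval_eq_zero hsep.squarefree
  simp only [map_mul, map_sub, map_pow, aeval_X, map_one]
  rw [mul_sub, mul_one, ← pow_succ', hT, sub_self]

variable {V : Type*} [AddCommGroup V] [Module ℂ V] [FiniteDimensional ℂ V]

/-- integrality of the trace of an endomorphism with `T^(n+1) = T` -/
theorem isIntegral_trace_of_pow_succ_eq (T : Module.End ℂ V) (n : ℕ) (hn : n ≠ 0)
    (hT : T ^ (n + 1) = T) : IsIntegral ℤ (LinearMap.trace ℂ V T) := by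
  have hss := isSemisimple_of_pow_succ_eq T n hn hT
  rw [Cfsg.Agent.Helper3.trace_eq_of_scalar_on_eigenspaces T T hss id
    (fun μ v hv => Module.End.mem_eigenspace_iff.mp hv)]
  have hfin := Cfsg.Agent.Helper3.finite_eigenspace_ne_bot T
  rw [finsum_eq_sum_of_support_subset (s := hfin.toFinset)]
  · apply IsIntegral.sum
    intro μ hμ
    rw [Set.Finite.mem_toFinset, Set.mem_ofPred_eq] at hμ
    apply IsIntegral.mul
    · obtain ⟨v, hv, hv0⟩ := (Submodule.ne_bot_iff _).1 hμ
      rw [Module.End.mem_eigenspace_iff] at hv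
      have hk : ∀ k : ℕ, (T ^ k) v = μ ^ k • v := by
        intro k
        induction k with
        | zero => simp
        | succ k ih => rw [pow_succ', Module.End.mul_apply, ih, map_smul, hv, smul_smul, pow_succ]
      have h1 := hk (n + 1)
      rw [hT, hv] at h1
      have h2 : (μ ^ (n + 1) - μ) • v = 0 := by rw [sub_smul, ← h1, sub_self]
      rcases smul_eq_zero.mp h2 with h3 | h3
      · have h4 : μ * (μ ^ n - 1) = 0 := by rw [← h3]; ring
        rcases mul_eq_zero.1 h4 with h5 | h5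
        · rw [id, h5]; exact isIntegral_zero
        · exact IsIntegral.of_pow (Nat.pos_of_ne_zero hn) (by
            rw [id, sub_eq_zero.1 h5]; exact isIntegral_one)
      · exact absurd h3 hv0
    · have := isIntegral_algebraMap (R := ℤ) (A := ℂ)
        (x := (Module.finrank ℂ (Module.End.eigenspace T μ) : ℤ))
      simpa using this
  · intro μ hμ
    simp only [Function.mem_support, ne_eq, mul_eq_zero, not_or] at hμ
    simp only [Set.Finite.coe_toFinset, Set.mem_ofPred_eq]
    intro hbot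
    apply hμ.2
    rw [hbot]
    simp

variable {G : Type*} [Group G] [Finite G] (ρ : Representation ℂ G V)

/-- the average over a subgroup `Q` centralizing `u` of `χ(u w)` is an algebraic integer -/
theorem isIntegral_avg (Q : Subgroup G) [Fintype Q] (u : G) (hu : ∀ w ∈ Q, Commute u w) :
    IsIntegral ℤ ((Nat.card Q : ℂ)⁻¹ * ∑ w : Q, ρ.character (u * (w : G))) := by
  classical
  have hc0 : (Nat.card Q : ℂ) ≠ 0 := by exact_mod_cast Nat.card_pos.ne'
  set S : Module.End ℂ V := ∑ w : Q, ρ (w : G) with hS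
  set π : Module.End ℂ V := (Nat.card Q : ℂ)⁻¹ • S with hπ
  have h1 : ∀ w' : Q, ρ (w' : G) * S = S := by
    intro w'
    rw [hS, Finset.mul_sum]
    have e := Equiv.sum_comp (Equiv.mulLeft w') (fun w : Q => ρ (w : G))
    rw [← e]
    refine Finset.sum_congr rfl fun w _ => ?_
    rw [Equiv.coe_mulLeft, Subgroup.coe_mul, map_mul]
  have h2 : S * S = (Nat.card Q : ℂ) • S := by
    have e : S * S = ∑ w : Q, ρ (w : G) * S := by
      nth_rewrite 1 [hS]
      rw [Finset.sum_mul]
    rw [e]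
    simp only [h1]
    rw [Finset.sum_const, Finset.card_univ, ← Nat.card_eq_fintype_card, Nat.cast_smul_eq_nsmul]
  have h3 : π * π = π := by
    rw [hπ, smul_mul_smul_comm, h2, smul_smul, mul_assoc, inv_mul_cancel₀ hc0, mul_one]
  have h4 : ρ u * S = S * ρ u := by
    rw [hS, Finset.mul_sum, Finset.sum_mul]
    refine Finset.sum_congr rfl fun w _ => ?_
    rw [← map_mul, ← map_mul, (hu w w.2).eq]
  have h5 : ρ u * π = π * ρ u := by
    rw [hπ, mul_smul_comm, smul_mul_assoc, h4]
  set T : Module.End ℂ V := ρ u * π with hT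
  have h6 : ∀ k : ℕ, T ^ (k + 1) = (ρ u) ^ (k + 1) * π := by
    intro k
    induction k with
    | zero => simp [hT]
    | succ k ih =>
      rw [pow_succ, ih, hT, mul_assoc, ← mul_assoc π, ← h5, mul_assoc (ρ u), h3, ← mul_assoc,
        ← pow_succ]
  have h7 : T ^ (orderOf u + 1) = T := by
    rw [h6, pow_succ, Cfsg.Agent.Helper3.rho_pow_orderOf, one_mul]
  have h8 := isIntegral_trace_of_pow_succ_eq T (orderOf u) (orderOf_pos u).ne' h7
  have h9 : LinearMap.trace ℂ V T = (Nat.card Q : ℂ)⁻¹ * ∑ w : Q, ρ.character (u * (w : G)) := by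
    rw [hT, hπ, mul_smul_comm, map_smul, smul_eq_mul, hS, Finset.mul_sum, map_sum]
    congr 1
    refine Finset.sum_congr rfl fun w _ => ?_
    rw [← map_mul]
    rfl
  rw [← h9]
  exact h8

end Avg


section Main

variable {G : Type*} [Group G] [Finite G]

/-- Frobenius congruence for irreducible characters -/
theorem pdvd_irr_pow_sub (p n : ℕ) [Fact p.Prime] (χ : IrrCharacter G) (g : G) :
    PDvd p ((χ : G → ℂ) g ^ (p ^ n) - (χ : G → ℂ) (g ^ (p ^ n))) := by
  obtain ⟨k, ρ, _, hχ⟩ := χ.2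
  rw [← hχ]
  exact pdvd_char_pow_sub ρ p n g

theorem orderOf_conj_eq (c a : G) : orderOf (c * a * c⁻¹) = orderOf a := by
  have := orderOf_injective (MulAut.conj c).toMonoidHom (MulAut.conj c).injective a
  simpa [MulAut.conj_apply] using this

/-- raising to the full `p`-part of the group order kills the `p`-part -/
theorem pow_eq_pow_of_ppart (p : ℕ) [Fact p.Prime] (x x' : G)
    (hx1 : ∃ k : ℕ, orderOf (x * x'⁻¹) = p ^ k) (hx2 : Commute (x * x'⁻¹) x') :
    x ^ (p ^ (Nat.card G).factorization p) = x' ^ (p ^ (Nat.card G).factorization p) := by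
  have hp : p.Prime := Fact.out
  have hG0 : Nat.card G ≠ 0 := Nat.card_pos.ne'
  have e : x = (x * x'⁻¹) * x' := by group
  conv_lhs => rw [e]
  rw [hx2.mul_pow]
  obtain ⟨k, hk⟩ := hx1
  have h1 : p ^ k ∣ Nat.card G := hk ▸ orderOf_dvd_natCard _
  have h2 : k ≤ (Nat.card G).factorization p := (hp.pow_dvd_iff_le_factorization hG0).1 h1
  have h3 : (x * x'⁻¹) ^ (p ^ (Nat.card G).factorization p) = 1 := by
    apply orderOf_dvd_iff_pow_eq_one.1
    rw [hk]
    exact pow_dvd_pow p h2
  rw [h3, one_mul]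

/-- `p`-regular elements with conjugate `p^a`-th powers are conjugate -/
theorem isConj_of_isConj_pow (p a : ℕ) [Fact p.Prime] (x' y' : G) (hx : ¬ p ∣ orderOf x')
    (hy : ¬ p ∣ orderOf y') (h : IsConj (x' ^ (p ^ a)) (y' ^ (p ^ a))) : IsConj x' y' := by
  have hp : p.Prime := Fact.out
  have hcx : (orderOf x').Coprime (p ^ a) :=
    Nat.Coprime.pow_right a ((Nat.Prime.coprime_iff_not_dvd hp).2 hx).symm
  have hcy : (orderOf y').Coprime (p ^ a) :=
    Nat.Coprime.pow_right a ((Nat.Prime.coprime_iff_not_dvd hp).2 hy).symm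
  obtain ⟨c, hc⟩ := isConj_iff.1 h
  have ho : orderOf x' = orderOf y' := by
    rw [← hcx.orderOf_pow, ← hcy.orderOf_pow, ← hc, orderOf_conj_eq]
  rcases Nat.lt_or_ge 1 (orderOf x') with h1 | h1
  · obtain ⟨m, -, hm⟩ := Nat.exists_mul_mod_eq_one_of_coprime hcx.symm h1
    have hmx : (x' ^ (p ^ a)) ^ m = x' := by
      rw [← pow_mul, ← pow_mod_orderOf, hm, pow_one]
    have hmy : (y' ^ (p ^ a)) ^ m = y' := by
      rw [← pow_mul, ← pow_mod_orderOf, ← ho, hm, pow_one]
    rw [isConj_iff]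
    refine ⟨c, ?_⟩
    rw [← hmx, ← conj_pow, hc, hmy]
  · have h2 : orderOf x' = 1 := le_antisymm h1 (orderOf_pos x')
    have h3 : orderOf y' = 1 := ho ▸ h2
    rw [orderOf_eq_one_iff] at h2 h3
    rw [h2, h3]

/-- **Separation of `p`-regular classes modulo `p`.** If `χ(u) ≡ χ(v)` modulo `p` for all
irreducible characters and `u`, `v` are `p`-regular, then `u` and `v` are conjugate. -/
theorem isConj_of_pdvd (p : ℕ) [Fact p.Prime] (u v : G) (hu : ¬ p ∣ orderOf u)
    (hv : ¬ p ∣ orderOf v)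
    (h : ∀ χ : IrrCharacter G, PDvd p ((χ : G → ℂ) u - (χ : G → ℂ) v)) : IsConj u v := by
  classical
  have hp : p.Prime := Fact.out
  have := Fintype.ofFinite G
  by_contra hnc
  obtain ⟨Q₀⟩ : Nonempty (Sylow p (Subgroup.centralizer ({u} : Set G))) := inferInstance
  set C := Subgroup.centralizer ({u} : Set G) with hC
  set Q : Subgroup G := (Q₀ : Subgroup C).map C.subtype with hQ
  have : Fintype Q := Fintype.ofFinite _
  have hQC : ∀ w ∈ Q, Commute u w := by
    rintro w ⟨w₀, -, rfl⟩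
    have := Subgroup.mem_centralizer_iff.1 w₀.2 u rfl
    exact this
  have hQp : IsPGroup p Q := Q₀.isPGroup'.map _
  -- order considerations
  have hord : ∀ w : Q, ∀ g : G, ¬ p ∣ orderOf g → IsConj g (u * (w : G)) → w = 1 := by
    intro w g hg hcj
    obtain ⟨c, hc⟩ := isConj_iff.1 hcj
    obtain ⟨j, hj⟩ := (IsPGroup.iff_orderOf.1 hQp) w
    rw [Subgroup.orderOf_mk] at hj
    have hco : (orderOf u).Coprime (orderOf (w : G)) := by
      rw [hj]
      exact Nat.Coprime.pow_right j ((Nat.Prime.coprime_iff_not_dvd hp).2 hu).symm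
    have h1 := (hQC w w.2).orderOf_mul_eq_mul_orderOf_of_coprime hco
    rw [← hc, orderOf_conj_eq] at h1
    rcases Nat.eq_zero_or_pos j with rfl | hjpos
    · rw [pow_zero, orderOf_eq_one_iff] at hj
      exact Subtype.ext hj
    · exfalso
      apply hg
      rw [h1, hj]
      exact Dvd.dvd.mul_left (dvd_pow_self p hjpos.ne') _
  -- the two column sums
  have hA : ∀ g : G, ∑ w : Q, ∑ χ : IrrCharacter G, (χ : G → ℂ) g * conj ((χ : G → ℂ) (u * (w : G))) =
      ∑ w : Q, if IsConj g (u * (w : G)) then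
        (Nat.card (Subgroup.centralizer ({g} : Set G)) : ℂ) else 0 := by
    intro g
    refine Finset.sum_congr rfl fun w _ => ?_
    exact sum_irr_mul_conj g (u * (w : G))
  have hAu : ∑ w : Q, ∑ χ : IrrCharacter G,
      (χ : G → ℂ) u * conj ((χ : G → ℂ) (u * (w : G))) = (Nat.card C : ℂ) := by
    rw [hA u, Finset.sum_eq_single (1 : Q)]
    · have h1 : IsConj u (u * ((1 : Q) : G)) := by
        rw [OneMemClass.coe_one, mul_one]
      rw [if_pos h1]
    · intro w _ hw
      rw [if_neg]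
      intro hcj
      exact hw (hord w u hu hcj)
    · intro h1
      exact absurd (Finset.mem_univ _) h1
  have hAv : ∑ w : Q, ∑ χ : IrrCharacter G,
      (χ : G → ℂ) v * conj ((χ : G → ℂ) (u * (w : G))) = 0 := by
    rw [hA v]
    refine Finset.sum_eq_zero fun w _ => ?_
    rw [if_neg]
    intro hcj
    have hw := hord w v hv hcj
    rw [hw] at hcj
    simp only [OneMemClass.coe_one, mul_one] at hcj
    exact hnc hcj.symm
  -- the difference is divisible by `p |Q|`
  have hdiff : PDvd p ((Nat.card Q : ℂ)⁻¹ * (Nat.card C : ℂ)) := by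
    have e : (Nat.card Q : ℂ)⁻¹ * (Nat.card C : ℂ) = ∑ χ : IrrCharacter G,
        conj ((Nat.card Q : ℂ)⁻¹ * ∑ w : Q, (χ : G → ℂ) (u * (w : G))) *
          ((χ : G → ℂ) u - (χ : G → ℂ) v) := by
      have e1 : ∀ χ : IrrCharacter G,
          conj ((Nat.card Q : ℂ)⁻¹ * ∑ w : Q, (χ : G → ℂ) (u * (w : G))) *
            ((χ : G → ℂ) u - (χ : G → ℂ) v) =
          (Nat.card Q : ℂ)⁻¹ * (∑ w : Q, (χ : G → ℂ) u * conj ((χ : G → ℂ) (u * (w : G))) -
            ∑ w : Q, (χ : G → ℂ) v * conj ((χ : G → ℂ) (u * (w : G)))) := by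
        intro χ
        rw [map_mul, map_inv₀, Complex.conj_natCast, map_sum, ← Finset.mul_sum, ← Finset.mul_sum]
        ring
      simp only [e1]
      rw [← Finset.mul_sum, Finset.sum_sub_distrib, Finset.sum_comm, hAu]
      rw [Finset.sum_comm (f := fun (χ : IrrCharacter G) (w : Q) =>
        (χ : G → ℂ) v * conj ((χ : G → ℂ) (u * (w : G)))), hAv, sub_zero]
    rw [e]
    apply PDvd.sum
    intro χ _
    apply PDvd.mul_left (h χ)
    apply Cfsg.Agent.Helper3.isIntegral_conj
    obtain ⟨k, ρ, _, hχ⟩ := χ.2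
    rw [← hχ]
    exact isIntegral_avg ρ Q u hQC
  -- but `|C| / |Q|` is the index of a Sylow subgroup
  have hcard : Nat.card C = Nat.card Q * (Q₀ : Subgroup C).index := by
    have h1 : Nat.card Q = Nat.card (Q₀ : Subgroup C) := by
      rw [hQ]
      exact Nat.card_congr ((Q₀ : Subgroup C).equivMapOfInjective C.subtype
        (Subgroup.subtype_injective C)).symm.toEquiv
    rw [h1]
    exact (Subgroup.card_mul_index (Q₀ : Subgroup C)).symm
  have hc0 : (Nat.card Q : ℂ) ≠ 0 := by exact_mod_cast Nat.card_pos.ne'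
  rw [hcard] at hdiff
  push_cast at hdiff
  rw [← mul_assoc, inv_mul_cancel₀ hc0, one_mul] at hdiff
  exact Q₀.not_dvd_index (PDvd.dvd_of_natCast hp.ne_zero hdiff)

end Main

end Cfsg.Agent.Helper78
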