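import Mathlib
import Cfsg.Prelude.Def_Blocks
import Cfsg.Agent.Lib.Helper78.FrobCong
import Cfsg.Agent.Lib.Helper74.DefectOrder
import Cfsg.Agent.Lib.Helper77.BlockIdem
import Cfsg.Agent.Lib.Helper79.CharBasic

/-!
# Values of block characters near a defect class (helper78)

* `memLocalIdeal_irr_mul_sub` : for a `p`-element `x` commuting with `y`, `χ(xy) ≡ χ(y)` modulo `M`.
* `memLocalRing_natCast_div` : a quotient of naturals `n / m` with `ν_p m ≤ ν_p n` is a local integer.
* `not_memLocalIdeal_irr_mul_defectClass` : height zero characters do not vanish mod `M` on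
  `x * y`, `y` a defect class, `x` a `p`-element of the centralizer of `y`.
* `not_memLocalIdeal_centralChar_mul_defectClass` : central characters of `B` do not vanish
  mod `M` at `x * y` for `x` central in a Sylow `p`-subgroup of the centralizer of `y`.
* `exists_singular_not_memLocalIdeal_centralChar` : a block of positive defect has a `p`-singular
  class on which its central character does not vanish mod `M`.
-/

set_option autoImplicit false
set_option linter.unusedSectionVars false

namespace Cfsg.Agent.Helper78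

open Cfsg
open Cfsg.Agent.Helper77
open Cfsg.Agent.Helper74.DO

universe u

section numeric

variable {p : ℕ} {M : Ideal AlgInt}

/-- A quotient of natural numbers `n / m` with `ν_p m ≤ ν_p n` is a local integer. -/
theorem memLocalRing_natCast_div (hM : IsPModular p M) (n m : ℕ) (hm : m ≠ 0)
    (h : m.factorization p ≤ n.factorization p) : MemLocalRing M ((n : ℂ) / (m : ℂ)) := by
  have hp : p.Prime := hM.1
  have hn' := Nat.ordProj_mul_ordCompl_eq_self n p
  have hm' := Nat.ordProj_mul_ordCompl_eq_self m p
  have hmc : ¬ p ∣ m / p ^ m.factorization p := Nat.not_dvd_ordCompl hp hm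
  have hnot : ((m / p ^ m.factorization p : ℕ) : AlgInt) ∉ M := by
    rw [natCast_mem_iff hM]
    exact hmc
  refine ⟨((p ^ (n.factorization p - m.factorization p) * (n / p ^ n.factorization p) : ℕ) :
    AlgInt), _, hnot, ?_⟩
  have hmc0 : ((m / p ^ m.factorization p : ℕ) : ℂ) ≠ 0 := by
    intro h0
    have : m / p ^ m.factorization p = 0 := by exact_mod_cast h0
    rw [this] at hmc
    exact hmc (dvd_zero p)
  have hm0 : (m : ℂ) ≠ 0 := by exact_mod_cast hm
  have hp0 : (p : ℂ) ≠ 0 := by exact_mod_cast hp.ne_zero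
  have c1 : ∀ k : ℕ, (((k : ℕ) : AlgInt) : ℂ) = (k : ℂ) := fun k => by simp
  rw [c1, c1, div_eq_div_iff hmc0 hm0]
  have e1 : (n : ℂ) = (p : ℂ) ^ n.factorization p * ((n / p ^ n.factorization p : ℕ) : ℂ) := by
    exact_mod_cast hn'.symm
  have e2 : (m : ℂ) = (p : ℂ) ^ m.factorization p * ((m / p ^ m.factorization p : ℕ) : ℂ) := by
    exact_mod_cast hm'.symm
  have e3 : (p : ℂ) ^ n.factorization p =
      (p : ℂ) ^ (n.factorization p - m.factorization p) * (p : ℂ) ^ m.factorization p := by
    rw [← pow_add, Nat.sub_add_cancel h]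
  push_cast
  rw [e1, e2, e3]
  ring

/-- If `a ^ (p ^ k) - b ^ (p ^ k)` is divisible by `p` then `a ≡ b` modulo `M`. -/
theorem memLocalIdeal_sub_of_pdvd_pow_sub (hM : IsPModular p M) {a b : ℂ} (ha : IsIntegral ℤ a)
    (hb : IsIntegral ℤ b) (k : ℕ) (h : PDvd p (a ^ (p ^ k) - b ^ (p ^ k))) :
    MemLocalIdeal M (a - b) := by
  have hp : p.Prime := hM.1
  have : Fact p.Prime := ⟨hp⟩
  have : M.IsMaximal := hM.2.1
  have hne := ne_top_of_isPModular hM
  have hpos : 0 < p ^ k := pow_pos hp.pos k
  let a' : AlgInt := ⟨a, ha⟩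
  let b' : AlgInt := ⟨b, hb⟩
  obtain ⟨γ, hγ⟩ := h
  have hab : a' ^ (p ^ k) - b' ^ (p ^ k) = (p : AlgInt) * γ := by
    apply Subtype.ext
    simpa [a', b'] using hγ
  have : CharP (AlgInt ⧸ M) p := by
    rw [CharP.charP_iff_prime_eq_zero hp]
    have : ((p : AlgInt) : AlgInt ⧸ M) = 0 := Ideal.Quotient.eq_zero_iff_mem.mpr hM.2.2
    simpa using this
  have hmem : a' ^ (p ^ k) - b' ^ (p ^ k) ∈ M := by
    rw [hab]
    exact M.mul_mem_right _ hM.2.2
  have h1 : (Ideal.Quotient.mk M a' - Ideal.Quotient.mk M b') ^ (p ^ k) = 0 := by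
    rw [sub_pow_char_pow, ← map_pow, ← map_pow, ← map_sub]
    exact Ideal.Quotient.eq_zero_iff_mem.mpr hmem
  have h2 : Ideal.Quotient.mk M a' - Ideal.Quotient.mk M b' = 0 :=
    pow_eq_zero_iff (hpos.ne') |>.mp h1
  have h3 : a' - b' ∈ M := by
    rw [← Ideal.Quotient.eq_zero_iff_mem, map_sub]
    exact h2
  have := memLocalIdeal_algInt_of_mem hne h3
  simpa [a', b'] using this

end numeric

section main

variable {G : Type u} [Group G] [Fintype G] {p : ℕ} [hpf : Fact p.Prime] {M : Ideal AlgInt}

/-- For a `p`-element `x` commuting with `y`, `χ(xy) ≡ χ(y)` modulo `M`. -/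
theorem memLocalIdeal_irr_mul_sub (hM : IsPModular p M) (χ : IrrCharacter G) (x y : G)
    (hc : Commute x y) (k : ℕ) (hx : orderOf x = p ^ k) :
    MemLocalIdeal M ((χ : G → ℂ) (x * y) - (χ : G → ℂ) y) := by
  apply memLocalIdeal_sub_of_pdvd_pow_sub hM (Cfsg.Agent.Helper79.irr_isIntegral χ _)
    (Cfsg.Agent.Helper79.irr_isIntegral χ _) k
  have h1 := pdvd_irr_pow_sub p k χ (x * y)
  have h2 := pdvd_irr_pow_sub p k χ y
  have hx1 : x ^ (p ^ k) = 1 := by rw [← hx]; exact pow_orderOf_eq_one x
  rw [hc.mul_pow, hx1, one_mul] at h1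
  have := h1.sub h2
  convert this using 1
  ring

/-- additivity of valuations along a centralizer -/
theorem factorization_index_centralizer_add (x : G) :
    ((Subgroup.centralizer ({x} : Set G)).index).factorization p +
      (Nat.card (Subgroup.centralizer ({x} : Set G))).factorization p =
      (Nat.card G).factorization p := by
  have h1 := Subgroup.card_mul_index (Subgroup.centralizer ({x} : Set G))
  have h2 : (Subgroup.centralizer ({x} : Set G)).index ≠ 0 := Subgroup.index_ne_zero_of_finite
  have h3 : Nat.card (Subgroup.centralizer ({x} : Set G)) ≠ 0 := Nat.card_pos.ne'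
  rw [← h1, Nat.factorization_mul h3 h2]
  simp [add_comm]

/-- If `x` is a `p`-element commuting with the `p`-regular element `y`, then the centralizer of
`x * y` is contained in the centralizer of `y`. -/
theorem centralizer_mul_le_of_pElement (x y : G) (hc : Commute x y) (k : ℕ)
    (hx : orderOf x = p ^ k) (hy : ¬ p ∣ orderOf y) :
    Subgroup.centralizer ({x * y} : Set G) ≤ Subgroup.centralizer ({y} : Set G) := by
  have hp : p.Prime := hpf.out
  have hx1 : x ^ (p ^ k) = 1 := by rw [← hx]; exact pow_orderOf_eq_one x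
  have hcy : (orderOf y).Coprime (p ^ k) :=
    Nat.Coprime.pow_right k ((Nat.Prime.coprime_iff_not_dvd hp).2 hy).symm
  obtain ⟨m, hm⟩ : ∃ m : ℕ, (y ^ (p ^ k)) ^ m = y := by
    rcases Nat.lt_or_ge 1 (orderOf y) with h1 | h1
    · obtain ⟨m, -, hm⟩ := Nat.exists_mul_mod_eq_one_of_coprime hcy.symm h1
      exact ⟨m, by rw [← pow_mul, ← pow_mod_orderOf, hm, pow_one]⟩
    · have h2 : orderOf y = 1 := le_antisymm h1 (orderOf_pos y)
      rw [orderOf_eq_one_iff] at h2
      exact ⟨1, by rw [h2]; simp⟩
  intro g hg
  rw [Subgroup.mem_centralizer_iff] at hg ⊢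
  have h1 : Commute (x * y) g := hg (x * y) rfl
  have h2 : Commute ((x * y) ^ (p ^ k)) g := h1.pow_left _
  rw [hc.mul_pow, hx1, one_mul] at h2
  have h3 : Commute ((y ^ (p ^ k)) ^ m) g := h2.pow_left m
  rw [hm] at h3
  intro h hh
  rw [Set.mem_singleton_iff] at hh
  subst hh
  exact h3

/-- Height zero characters of `B` do not vanish modulo `M` at `x * y`, where `y` represents a
defect class and `x` is a `p`-element commuting with `y`. -/
theorem not_memLocalIdeal_irr_mul_defectClass (hM : IsPModular p M) {B : Set (IrrCharacter G)}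
    (hB : IsPBlock M B) {y : G} (hy : IsDefectClass M B y) (x : G) (hc : Commute x y) (k : ℕ)
    (hx : orderOf x = p ^ k) {χ : IrrCharacter G} (hχ : χ ∈ B)
    (hht : (charDegree (χ : G → ℂ)).factorization p = minVal p B) :
    ¬ MemLocalIdeal M ((χ : G → ℂ) (x * y)) := by
  have hpr := isPrime_of_isPModular hM
  intro hcon
  have h1 := memLocalIdeal_irr_mul_sub hM χ x y hc k hx
  have h2 : MemLocalIdeal M ((χ : G → ℂ) y) := by
    have := memLocalIdeal_sub hcon h1
    rwa [sub_sub_cancel] at this
  apply hy.2.2 χ hχ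
  obtain ⟨hone, hpos⟩ := Cfsg.Agent.Helper79.irr_one_eq χ
  have hdef := defect_of_isDefectClass hM hB hy
  have hadd := factorization_index_centralizer_add (p := p) y
  have hle := minVal_le_card (p := p) (nonempty_of_isPBlock hB)
  rw [blockDefect_eq] at hdef
  have hval : (charDegree (χ : G → ℂ)).factorization p ≤
      ((Subgroup.centralizer ({y} : Set G)).index).factorization p := by omega
  have hR := memLocalRing_natCast_div hM _ _ hpos.ne' hval
  have := memLocalIdeal_mul_left hR h2
  unfold centralChar
  rw [hone]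
  convert this using 1
  ring

/-- The central characters of `B` do not vanish modulo `M` at `x * y`, where `y` represents a
defect class and `x` is a `p`-element which is centralized by a `p`-subgroup `Q` of the
centralizer of `y` of full order. -/
theorem not_memLocalIdeal_centralChar_mul_defectClass (hM : IsPModular p M)
    {B : Set (IrrCharacter G)} (hB : IsPBlock M B) {y : G} (hy : IsDefectClass M B y) (x : G)
    (hc : Commute x y) (k : ℕ) (hx : orderOf x = p ^ k) (Q : Subgroup G)
    (hQy : Q ≤ Subgroup.centralizer ({y} : Set G)) (hQx : Q ≤ Subgroup.centralizer ({x} : Set G))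
    (hQcard : Nat.card Q = p ^ (Nat.card (Subgroup.centralizer ({y} : Set G))).factorization p)
    {χ : IrrCharacter G} (hχ : χ ∈ B) :
    ¬ MemLocalIdeal M (centralChar (χ : G → ℂ) (x * y)) := by
  have hp : p.Prime := hpf.out
  have hpr := isPrime_of_isPModular hM
  obtain ⟨χ', hχ', hmin⟩ := exists_minVal (p := p) ⟨χ, hχ⟩
  have hsame := sameBlock_of_mem hB hχ hχ' (x * y)
  intro hcon
  have hcon' : MemLocalIdeal M (centralChar (χ' : G → ℂ) (x * y)) := by
    have := memLocalIdeal_sub hcon hsame
    rwa [sub_sub_cancel] at this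
  apply not_memLocalIdeal_irr_mul_defectClass hM hB hy x hc k hx hχ' hmin
  obtain ⟨hone, hpos⟩ := Cfsg.Agent.Helper79.irr_one_eq χ'
  have hyreg : ¬ p ∣ orderOf y := (defect_le_of_blockCoeff hM hB y hy.2.1).1
  have hdef := defect_of_isDefectClass hM hB hy
  have hadd := factorization_index_centralizer_add (p := p) (x * y)
  have haddy := factorization_index_centralizer_add (p := p) y
  have hle := minVal_le_card (p := p) (nonempty_of_isPBlock hB)
  rw [blockDefect_eq] at hdef
  -- `Q ≤ C(xy)`
  have hQxy : Q ≤ Subgroup.centralizer ({x * y} : Set G) := by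
    intro w hw
    have h1 := Subgroup.mem_centralizer_iff.1 (hQy hw) y rfl
    have h2 := Subgroup.mem_centralizer_iff.1 (hQx hw) x rfl
    rw [Subgroup.mem_centralizer_iff]
    intro h hh
    rw [Set.mem_singleton_iff] at hh
    subst hh
    rw [mul_assoc, h1, ← mul_assoc, h2, mul_assoc]
  have hdvd : Nat.card Q ∣ Nat.card (Subgroup.centralizer ({x * y} : Set G)) :=
    Subgroup.card_dvd_of_le hQxy
  have hcxy0 : Nat.card (Subgroup.centralizer ({x * y} : Set G)) ≠ 0 := Nat.card_pos.ne'
  have hge : (Nat.card (Subgroup.centralizer ({y} : Set G))).factorization p ≤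
      (Nat.card (Subgroup.centralizer ({x * y} : Set G))).factorization p := by
    rw [hQcard] at hdvd
    exact (hp.pow_dvd_iff_le_factorization hcxy0).1 hdvd
  have hindex0 : (Subgroup.centralizer ({x * y} : Set G)).index ≠ 0 :=
    Subgroup.index_ne_zero_of_finite
  have hval : ((Subgroup.centralizer ({x * y} : Set G)).index).factorization p ≤
      (charDegree (χ' : G → ℂ)).factorization p := by omega
  have hR := memLocalRing_natCast_div hM _ _ hindex0 hval
  have := memLocalIdeal_mul_left hR hcon'
  unfold centralChar at this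
  rw [hone] at this
  convert this using 1
  have h0 : ((Subgroup.centralizer ({x * y} : Set G)).index : ℂ) ≠ 0 := by exact_mod_cast hindex0
  have h1 : (charDegree (χ' : G → ℂ) : ℂ) ≠ 0 := by exact_mod_cast hpos.ne'
  field_simp

/-- A block of positive defect has a `p`-singular class on which its central character does
not vanish modulo `M`. -/
theorem exists_singular_not_memLocalIdeal_centralChar (hM : IsPModular p M)
    {B : Set (IrrCharacter G)} (hB : IsPBlock M B) (hd : 0 < blockDefect p B) :
    ∃ g : G, p ∣ orderOf g ∧ ∀ χ ∈ B, ¬ MemLocalIdeal M (centralChar (χ : G → ℂ) g) := by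
  have hp : p.Prime := hpf.out
  have hpr := isPrime_of_isPModular hM
  obtain ⟨y, hy⟩ := exists_isDefectClass hB
  have hyreg : ¬ p ∣ orderOf y := (defect_le_of_blockCoeff hM hB y hy.2.1).1
  have hdef := defect_of_isDefectClass hM hB hy
  obtain ⟨P⟩ : Nonempty (Sylow p (Subgroup.centralizer ({y} : Set G))) := inferInstance
  set C := Subgroup.centralizer ({y} : Set G) with hC
  have hPcard : Nat.card (P : Subgroup C) = p ^ (Nat.card C).factorization p :=
    P.card_eq_multiplicity
  have hPnt : Nontrivial (P : Subgroup C) := by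
    rw [← Finite.one_lt_card_iff_nontrivial, hPcard, hdef]
    exact Nat.one_lt_pow hd.ne' hp.one_lt
  have hPp : IsPGroup p (P : Subgroup C) := P.isPGroup'
  have hZ : Nontrivial (Subgroup.center (P : Subgroup C)) := hPp.center_nontrivial
  obtain ⟨z, hz⟩ := exists_ne (1 : Subgroup.center (P : Subgroup C))
  -- the element `x`
  set x : G := (((z : (P : Subgroup C)) : C) : G) with hxdef
  have hx1 : x ≠ 1 := by
    intro h
    apply hz
    apply Subtype.ext
    apply Subtype.ext
    apply Subtype.ext
    exact h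
  have hxy : Commute x y := by
    have := Subgroup.mem_centralizer_iff.1 ((z : (P : Subgroup C)) : C).2 y rfl
    exact this.symm
  obtain ⟨k, hk⟩ := (IsPGroup.iff_orderOf.1 hPp) (z : (P : Subgroup C))
  have hxord : orderOf x = p ^ k := by
    rw [← hk, hxdef, Subgroup.orderOf_coe, Subgroup.orderOf_coe]
  set Q : Subgroup G := (P : Subgroup C).map C.subtype with hQ
  have hQy : Q ≤ Subgroup.centralizer ({y} : Set G) := by
    rintro w ⟨w₀, -, rfl⟩
    exact w₀.2
  have hQx : Q ≤ Subgroup.centralizer ({x} : Set G) := by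
    rintro w ⟨w₀, hw₀, rfl⟩
    rw [Subgroup.mem_centralizer_iff]
    intro h hh
    rw [Set.mem_singleton_iff] at hh
    subst hh
    have hzc := Subgroup.mem_center_iff.1 z.2 ⟨w₀, hw₀⟩
    have h2 := congrArg (fun t : (P : Subgroup C) => ((t : C) : G)) hzc
    simp only [Subgroup.coe_mul] at h2
    exact h2.symm
  have hQcard : Nat.card Q = p ^ (Nat.card C).factorization p := by
    rw [hQ, Subgroup.card_map_of_injective (Subgroup.subtype_injective _)]
    exact hPcard
  refine ⟨x * y, ?_, fun χ hχ => ?_⟩
  · rw [hxy.eq]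
    exact dvd_orderOf_mul_of_pElement y x hyreg hxy.symm ⟨k, hxord⟩ hx1
  · exact not_memLocalIdeal_centralChar_mul_defectClass hM hB hy x hxy k hxord Q hQy hQx hQcard hχ

end main

end Cfsg.Agent.Helper78
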