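import Mathlib
import Cfsg.Prelude.Def_Blocks
import Cfsg.Agent.Lib.Helper78.DefectClass
import Cfsg.Agent.Lib.Helper16.QuotBlock
import Cfsg.Agent.Lib.Helper16.Osima
import Cfsg.Agent.Lib.Helper81.CharClifford
import Cfsg.Agent.Lib.Helper79.Inflation
import Cfsg.Agent.Lib.Helper74.DefectZero

/-!
# Blocks with a normal defect group (helper78)

* `isPPart_exists_pow` : the `p`-part of `x` is a power of `x`.
* `const_on_normal_of_sum_ne_zero` : an irreducible character whose sum over a normal subgroup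
  is nonzero has that subgroup in its kernel.
* `exists_mem_block_const_on_normal_pgroup` : every block contains a character with a given
  normal `p`-subgroup in its kernel.
* `exists_mem_block_vanish` : if the normal `p`-subgroup `Q` is a defect group of `b`, some
  `ξ ∈ b` vanishes at every element whose `p`-part lies outside `Q`.
-/

set_option autoImplicit false
set_option linter.unusedSectionVars false

namespace Cfsg.Agent.Helper78

open Cfsg
open Cfsg.Agent.Helper77
open Cfsg.Agent.Helper74.DO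
open scoped ComplexConjugate

universe u

section ppart

variable {G : Type u} [Group G] {p : ℕ}

/-- The `p`-part of an element of finite order is a power of it. -/
theorem isPPart_exists_pow [Finite G] [hpf : Fact p.Prime] {x z : G} (h : IsPPart p x z) :
    ∃ m : ℕ, x ^ m = z := by
  have hp : p.Prime := hpf.out
  obtain ⟨y, hxy, hc, ⟨k, hk⟩, hy⟩ := h
  have hcop : Nat.Coprime (p ^ k) (orderOf y) :=
    Nat.Coprime.pow_left k ((Nat.Prime.coprime_iff_not_dvd hp).2 hy)
  obtain ⟨m, hm1, hm0⟩ := Nat.chineseRemainder hcop 1 0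
  refine ⟨m, ?_⟩
  rw [← hxy, hc.mul_pow]
  have h1 : z ^ m = z := by
    have : z ^ m = z ^ 1 := by
      rw [pow_eq_pow_iff_modEq, hk]
      exact hm1
    rw [this, pow_one]
  have h2 : y ^ m = 1 := by
    rw [← orderOf_dvd_iff_pow_eq_one]
    exact (Nat.modEq_zero_iff_dvd).1 hm0
  rw [h1, h2, mul_one]

theorem isPPart_mem_of_mem [Finite G] [hpf : Fact p.Prime] {x z : G} (h : IsPPart p x z)
    (H : Subgroup G) (hx : x ∈ H) : z ∈ H := by
  obtain ⟨m, rfl⟩ := isPPart_exists_pow h
  exact H.pow_mem hx m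

end ppart

section ker

variable {G : Type u} [Group G] [Fintype G]

/-- An irreducible character whose sum over a normal subgroup is nonzero is constant on it. -/
theorem const_on_normal_of_sum_ne_zero (N : Subgroup G) [hN : N.Normal] [Fintype N]
    (χ : IrrCharacter G) (h : ∑ u : N, (χ : G → ℂ) u ≠ 0) (n : N) :
    (χ : G → ℂ) n = (χ : G → ℂ) 1 := by
  classical
  apply Cfsg.Agent.Helper16.restrict_const_of_only_triv N χ
  intro θ hθ
  have htriv : classInner (fun n : N => (χ : G → ℂ) n) (trivIrr N : N → ℂ) ≠ 0 := by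
    unfold classInner
    have hN0 : (Nat.card N : ℂ)⁻¹ ≠ 0 := by
      apply inv_ne_zero
      exact_mod_cast Nat.card_pos.ne'
    simp only [trivIrr_apply, map_one, mul_one]
    exact mul_ne_zero hN0 h
  by_contra hne
  apply hθ
  apply Cfsg.Agent.Helper81.clifford_not_conj N hN χ.2 (trivIrr N).2 θ.2 htriv
  rintro ⟨g, hg⟩
  apply hne
  apply Subtype.ext
  rw [hg]
  funext n
  rw [Cfsg.Agent.Helper81.conjFun_apply]
  rfl

end ker

section block

variable {G : Type u} [Group G] [Fintype G] {p : ℕ} [hpf : Fact p.Prime] {M : Ideal AlgInt}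

/-- Every block contains a character with a given normal `p`-subgroup in its kernel. -/
theorem exists_mem_block_const_on_normal_pgroup (hM : IsPModular p M) (Q : Subgroup G)
    [hQn : Q.Normal] (hQ : IsPGroup p Q) {b : Set (IrrCharacter G)} (hb : IsPBlock M b) :
    ∃ ξ ∈ b, ∀ n : Q, (ξ : G → ℂ) n = (ξ : G → ℂ) 1 := by
  classical
  have hp : p.Prime := hpf.out
  have hpr := isPrime_of_isPModular hM
  have : Fintype Q := Fintype.ofFinite Q
  by_contra hcon
  push Not at hcon
  -- all sums over `Q` vanish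
  have hzero : ∀ ξ ∈ b, ∑ u : Q, (ξ : G → ℂ) u = 0 := by
    intro ξ hξ
    by_contra hne
    obtain ⟨n, hn⟩ := hcon ξ hξ
    exact hn (const_on_normal_of_sum_ne_zero Q ξ hne n)
  -- sum of the block idempotent over `Q`
  have h1 : ∑ u : Q, blockCoeff b (u : G) = blockCoeff b 1 := by
    rw [Finset.sum_eq_single (1 : Q)]
    · rfl
    · intro u _ hu
      apply Cfsg.Agent.Helper16.blockCoeff_eq_zero_of_singular hM hb
      obtain ⟨k, hk⟩ := (IsPGroup.iff_orderOf.1 hQ) u
      rw [← Subgroup.orderOf_coe] at hk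
      rw [hk]
      apply dvd_pow_self
      rintro rfl
      rw [pow_zero, orderOf_eq_one_iff] at hk
      exact hu (Subtype.ext hk)
    · intro h; exact absurd (Finset.mem_univ _) h
  have h2 : ∑ u : Q, blockCoeff b (u : G) = 0 := by
    simp only [blockCoeff_eq_sum]
    rw [← Finset.mul_sum, Finset.sum_comm]
    have : ∀ ξ ∈ (Set.toFinite b).toFinset,
        ∑ u : Q, (ξ : G → ℂ) 1 * conj ((ξ : G → ℂ) (u : G)) = 0 := by
      intro ξ hξ
      rw [Set.Finite.mem_toFinset] at hξ
      rw [← Finset.mul_sum, ← map_sum, hzero ξ hξ, map_zero, mul_zero]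
    rw [Finset.sum_eq_zero this, mul_zero]
  have h3 : blockCoeff b 1 ≠ 0 := by
    rw [blockCoeff_eq_sum]
    apply mul_ne_zero
    · apply inv_ne_zero
      exact_mod_cast Nat.card_pos.ne'
    · obtain ⟨ξ₀, hξ₀⟩ := nonempty_of_isPBlock hb
      have hterm : ∀ ξ : IrrCharacter G, (ξ : G → ℂ) 1 * conj ((ξ : G → ℂ) 1) =
          ((charDegree (ξ : G → ℂ) ^ 2 : ℕ) : ℂ) := by
        intro ξ
        rw [(Cfsg.Agent.Helper79.irr_one_eq ξ).1, Complex.conj_natCast]
        push_cast
        ring
      simp only [hterm]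
      rw [← Nat.cast_sum]
      have hpos : 0 < ∑ ξ ∈ (Set.toFinite b).toFinset, charDegree (ξ : G → ℂ) ^ 2 := by
        apply Finset.sum_pos'
        · intro ξ _; exact Nat.zero_le _
        · exact ⟨ξ₀, (Set.Finite.mem_toFinset _).2 hξ₀,
            pow_pos (Cfsg.Agent.Helper79.irr_one_eq ξ₀).2 2⟩
      exact_mod_cast hpos.ne'
  exact h3 (h1 ▸ h2)

/-- If the normal `p`-subgroup `Q` is a defect group of the block `b`, then some `ξ ∈ b` vanishes
at every element whose `p`-part lies outside `Q`. -/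
theorem exists_mem_block_vanish (hM : IsPModular p M) (Q : Subgroup G) [hQn : Q.Normal]
    {b : Set (IrrCharacter G)} (hb : IsPBlock M b) (hQ : IsDefectGroup p M b Q) :
    ∃ ξ ∈ b, ∀ h z : G, IsPPart p h z → z ∉ Q → (ξ : G → ℂ) h = 0 := by
  classical
  have hp : p.Prime := hpf.out
  have hcard := card_defectGroup hM hb Q hQ
  have hQp : IsPGroup p Q := IsPGroup.of_card hcard
  obtain ⟨ξ, hξ, hker⟩ := exists_mem_block_const_on_normal_pgroup hM Q hQp hb
  refine ⟨ξ, hξ, ?_⟩
  have hle : Q ≤ Cfsg.Agent.Helper79.irrKer ξ := fun n hn =>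
    (Cfsg.Agent.Helper79.mem_irrKer ξ n).2 (hker ⟨n, hn⟩)
  obtain ⟨ψ, hψ⟩ := Cfsg.Agent.Helper79.exists_deflate Q ξ hle
  have hmin := minVal_le (p := p) hξ
  have hle_card := minVal_le_card (p := p) ⟨ξ, hξ⟩
  have hdefeq := blockDefect_eq (p := p) b
  have hdegeq : charDegree (ξ : G → ℂ) = charDegree (ψ : G ⧸ Q → ℂ) := by
    rw [← hψ, Cfsg.Agent.Helper79.charDegree_inflate]
  have hcardmul : Nat.card G = Nat.card (G ⧸ Q) * Nat.card Q :=
    Subgroup.card_eq_card_quotient_mul_card_subgroup Q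
  have hq0 : Nat.card (G ⧸ Q) ≠ 0 := Nat.card_pos.ne'
  have hQ0 : Nat.card Q ≠ 0 := Nat.card_pos.ne'
  have hfac : (Nat.card G).factorization p =
      (Nat.card (G ⧸ Q)).factorization p + blockDefect p b := by
    rw [hcardmul, Nat.factorization_mul hq0 hQ0, Finsupp.coe_add, Pi.add_apply, hcard,
      Nat.Prime.factorization_pow hp]
    simp
  have hdeg : p ^ (Nat.card (G ⧸ Q)).factorization p ∣ charDegree (ψ : G ⧸ Q → ℂ) := by
    rw [← hdegeq]
    have h2 : (Nat.card (G ⧸ Q)).factorization p ≤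
        (charDegree (ξ : G → ℂ)).factorization p := by omega
    exact (pow_dvd_pow p h2).trans (Nat.ordProj_dvd _ p)
  intro h z hz hzQ
  rw [← hψ, Cfsg.Agent.Helper79.inflate_apply]
  apply Cfsg.Agent.Helper74.DZ.irr_vanish_of_defect_zero ψ p hp hdeg
  obtain ⟨y, hxy, hc, ⟨k, hk⟩, hy⟩ := hz
  have : Fintype (G ⧸ Q) := Fintype.ofFinite _
  have hmk : (QuotientGroup.mk h : G ⧸ Q) =
      (QuotientGroup.mk y : G ⧸ Q) * (QuotientGroup.mk z : G ⧸ Q) := by
    rw [← hxy, hc.eq]
    rfl
  rw [hmk]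
  apply dvd_orderOf_mul_of_pElement
  · intro hdvd
    apply hy
    exact hdvd.trans (orderOf_map_dvd (QuotientGroup.mk' Q) y)
  · have := hc.symm.map (QuotientGroup.mk' Q)
    exact this
  · have hdvd : orderOf ((QuotientGroup.mk' Q) z) ∣ p ^ k :=
      hk ▸ orderOf_map_dvd (QuotientGroup.mk' Q) z
    obtain ⟨j, -, hj⟩ := (Nat.dvd_prime_pow hp).1 hdvd
    exact ⟨j, hj⟩
  · intro h1
    apply hzQ
    exact (QuotientGroup.eq_one_iff z).1 h1

end block

end Cfsg.Agent.Helper78
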