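import Mathlib
import Cfsg.Prelude.Def_Blocks
import Cfsg.Prelude.Def_BlockRank
import Cfsg.Agent.Lib.Helper78.NormalDefect
import Cfsg.Agent.Lib.Helper78.BlockRank
import Cfsg.Agent.Lib.Helper78.CharSchur
import Cfsg.Agent.Lib.Helper16.Regular
import Cfsg.Agent.Lib.Helper16.PRegPart
import Cfsg.Agent.S0914

/-!
# Blocks with a central defect group (helper78)

For a block `B` whose defect group `Q` is central in `G`:

* `defect_zero_of_inflate_mem` : a member of `B` with `Q` in its kernel deflates to a character of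
  `p`-defect zero of `G ⧸ Q`.
* `eq_of_inflate_mem` : `B` contains at most one character with `Q` in its kernel.
* `exists_scalar_regular` : every member of `B` is a scalar multiple, on `p`-regular elements, of
  the member with `Q` in its kernel.
-/

set_option autoImplicit false
set_option linter.unusedSectionVars false

namespace Cfsg.Agent.Helper78

open Cfsg
open Cfsg.Agent.Helper77
open Cfsg.Agent.Helper74.DO
open scoped ComplexConjugate

universe u

section central

variable {G : Type u} [Group G] [Fintype G] {p : ℕ} [hpf : Fact p.Prime] {M : Ideal AlgInt}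

/-- A member of `b` with the normal defect group `Q` in its kernel has defect zero in `G ⧸ Q`. -/
theorem defect_zero_of_inflate_mem (hM : IsPModular p M) (Q : Subgroup G) [hQn : Q.Normal]
    {b : Set (IrrCharacter G)} (hb : IsPBlock M b) (hQ : IsDefectGroup p M b Q)
    (ψ : IrrCharacter (G ⧸ Q)) (hψ : Cfsg.Agent.Helper79.inflate Q ψ ∈ b) :
    p ^ (Nat.card (G ⧸ Q)).factorization p ∣ charDegree (ψ : G ⧸ Q → ℂ) := by
  have hp : p.Prime := hpf.out
  have hcard := card_defectGroup hM hb Q hQ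
  have hmin := minVal_le (p := p) hψ
  have hle_card := minVal_le_card (p := p) ⟨_, hψ⟩
  have hdefeq := blockDefect_eq (p := p) b
  rw [Cfsg.Agent.Helper79.charDegree_inflate] at hmin
  have hcardmul : Nat.card G = Nat.card (G ⧸ Q) * Nat.card Q :=
    Subgroup.card_eq_card_quotient_mul_card_subgroup Q
  have hq0 : Nat.card (G ⧸ Q) ≠ 0 := Nat.card_pos.ne'
  have hQ0 : Nat.card Q ≠ 0 := Nat.card_pos.ne'
  have hfac : (Nat.card G).factorization p =
      (Nat.card (G ⧸ Q)).factorization p + blockDefect p b := by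
    rw [hcardmul, Nat.factorization_mul hq0 hQ0, Finsupp.coe_add, Pi.add_apply, hcard,
      Nat.Prime.factorization_pow hp]
    simp
  have h2 : (Nat.card (G ⧸ Q)).factorization p ≤
      (charDegree (ψ : G ⧸ Q → ℂ)).factorization p := by omega
  exact (pow_dvd_pow p h2).trans (Nat.ordProj_dvd _ p)

/-- `p`-regular elements of `G` with conjugate images modulo a central `p`-subgroup are
conjugate. -/
theorem isConj_of_isConj_mk (Q : Subgroup G) [hQn : Q.Normal] (hQ : IsPGroup p Q)
    (hQZ : Q ≤ Subgroup.center G) (x y : G) (hx : ¬ p ∣ orderOf x) (hy : ¬ p ∣ orderOf y)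
    (h : IsConj (QuotientGroup.mk x : G ⧸ Q) (QuotientGroup.mk y : G ⧸ Q)) : IsConj x y := by
  have hp : p.Prime := hpf.out
  obtain ⟨c, hc⟩ := isConj_iff.1 h
  obtain ⟨g, rfl⟩ := QuotientGroup.mk_surjective c
  -- `y = (g x g⁻¹) d` with `d ∈ Q`
  have h1 : (QuotientGroup.mk (g * x * g⁻¹) : G ⧸ Q) = QuotientGroup.mk y := by
    rw [← hc]
    rfl
  rw [QuotientGroup.eq] at h1
  set d := (g * x * g⁻¹)⁻¹ * y with hd
  have hyd : y = (g * x * g⁻¹) * d := by rw [hd]; group
  have hdc : ∀ t : G, t * d = d * t := fun t => (Subgroup.mem_center_iff.1 (hQZ h1)) t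
  obtain ⟨k, hk⟩ := (IsPGroup.iff_orderOf.1 hQ) ⟨d, h1⟩
  rw [Subgroup.orderOf_mk] at hk
  have hx' : ¬ p ∣ orderOf (g * x * g⁻¹) := by rwa [orderOf_conj_eq]
  have hd1 : d = 1 := by
    by_contra hne
    apply hy
    rw [hyd]
    exact dvd_orderOf_mul_of_pElement _ _ hx' (hdc _) ⟨k, hk⟩ hne
  rw [isConj_iff]
  refine ⟨g, ?_⟩
  rw [hyd, hd1, mul_one]

/-- Central characters of inflated characters at `p`-regular elements centralizing `Q`. -/
theorem centralChar_inflate_of_regular (Q : Subgroup G) [hQn : Q.Normal] (hQ : IsPGroup p Q)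
    (hQZ : Q ≤ Subgroup.center G) (ψ : IrrCharacter (G ⧸ Q)) (x : G) (hx : ¬ p ∣ orderOf x) :
    centralChar (ψ : G ⧸ Q → ℂ) (QuotientGroup.mk x) =
      centralChar (Cfsg.Agent.Helper79.inflate Q ψ : G → ℂ) x := by
  have hxc : x ∈ Subgroup.centralizer (Q : Set G) := by
    rw [Subgroup.mem_centralizer_iff]
    intro d hd
    exact ((Subgroup.mem_center_iff.1 (hQZ hd)) x).symm
  unfold centralChar
  rw [Cfsg.Agent.Helper16.index_centralizer_mk_eq Q hQ x hxc hx,
    Cfsg.Agent.Helper79.inflate_apply, Cfsg.Agent.Helper79.inflate_apply, QuotientGroup.mk_one]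

/-- A block with central defect group `Q` contains at most one character with `Q` in its
kernel. -/
theorem eq_of_inflate_mem (hM : IsPModular p M) (Q : Subgroup G) [hQn : Q.Normal]
    (hQZ : Q ≤ Subgroup.center G) {b : Set (IrrCharacter G)} (hb : IsPBlock M b)
    (hQ : IsDefectGroup p M b Q) (ψ₁ ψ₂ : IrrCharacter (G ⧸ Q))
    (h₁ : Cfsg.Agent.Helper79.inflate Q ψ₁ ∈ b) (h₂ : Cfsg.Agent.Helper79.inflate Q ψ₂ ∈ b) :
    ψ₂ = ψ₁ := by
  classical
  have hp : p.Prime := hpf.out
  have hpr := isPrime_of_isPModular hM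
  have : Fintype (G ⧸ Q) := Fintype.ofFinite _
  have hcard := card_defectGroup hM hb Q hQ
  have hQp : IsPGroup p Q := IsPGroup.of_card hcard
  have hdz := defect_zero_of_inflate_mem hM Q hb hQ ψ₁ h₁
  -- the block of `ψ₁` is a singleton
  have hdvd := Cfsg.Agent.Helper79.irr_degree_dvd_card ψ₁
  have hpos := (Cfsg.Agent.Helper79.irr_one_eq ψ₁).2
  have hnot : ¬ p ∣ Nat.card (G ⧸ Q) / charDegree (ψ₁ : G ⧸ Q → ℂ) := by
    obtain ⟨c, hc⟩ := hdvd
    have hq0 : Nat.card (G ⧸ Q) ≠ 0 := Nat.card_pos.ne'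
    have hc0 : c ≠ 0 := by
      rintro rfl
      rw [mul_zero] at hc
      exact hq0 hc
    rw [hc, Nat.mul_div_cancel_left c hpos]
    intro hpc
    have h1 : (Nat.card (G ⧸ Q)).factorization p =
        (charDegree (ψ₁ : G ⧸ Q → ℂ)).factorization p + c.factorization p := by
      rw [hc, Nat.factorization_mul hpos.ne' hc0, Finsupp.coe_add, Pi.add_apply]
    have h2 : (Nat.card (G ⧸ Q)).factorization p ≤
        (charDegree (ψ₁ : G ⧸ Q → ℂ)).factorization p :=
      (hp.pow_dvd_iff_le_factorization hpos.ne').1 hdz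
    have h3 : 0 < c.factorization p := hp.factorization_pos_of_dvd hc0 hpc
    omega
  have hsingle := (Cfsg.Agent.S0914.result p M hM ψ₁).1 hnot
  -- `ψ₂` lies in that block
  have hsame : SameBlock M (ψ₁ : G ⧸ Q → ℂ) (ψ₂ : G ⧸ Q → ℂ) := by
    apply Cfsg.Agent.Helper16.sameBlock_of_regular hM
    intro q hq
    obtain ⟨x, rfl, hx⟩ := Cfsg.Agent.Helper16.exists_regular_lift Q hQp q hq
    rw [centralChar_inflate_of_regular Q hQp hQZ ψ₁ x hx,
      centralChar_inflate_of_regular Q hQp hQZ ψ₂ x hx]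
    exact sameBlock_of_mem hb h₁ h₂ x
  have hmem : ψ₂ ∈ blockOf M (ψ₁ : G ⧸ Q → ℂ) := hsame
  rw [hsingle] at hmem
  exact hmem

/-- sum of a class function over a conjugacy class -/
theorem sum_classInd_mul (χ : IrrCharacter G) (x : G) :
    ∑ y : G, classInd x y * (χ : G → ℂ) y =
      ((Subgroup.centralizer ({x} : Set G)).index : ℂ) * (χ : G → ℂ) x := by
  have h := omega_classInd_of_irr χ.2 x
  unfold omega centralChar at h
  have h1 : (χ : G → ℂ) 1 ≠ 0 := irrChar_one_ne_zero χ.2
  field_simp at h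
  exact h

/-- Every member of a block with central defect group `Q` is, on `p`-regular elements, a scalar
multiple of the member having `Q` in its kernel. -/
theorem scalar_regular_of_central (hM : IsPModular p M) (Q : Subgroup G) [hQn : Q.Normal]
    (hQZ : Q ≤ Subgroup.center G) {b : Set (IrrCharacter G)} (hb : IsPBlock M b)
    (hQ : IsDefectGroup p M b Q) (ψ₀ : IrrCharacter (G ⧸ Q))
    (h₀ : Cfsg.Agent.Helper79.inflate Q ψ₀ ∈ b) (χ : IrrCharacter G) (hχ : χ ∈ b) (x : G)
    (hx : ¬ p ∣ orderOf x) :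
    (Nat.card (G ⧸ Q) : ℂ) * (χ : G → ℂ) x =
      (∑ y ∈ Finset.univ.filter (fun y : G => ¬ p ∣ orderOf y),
        (χ : G → ℂ) y * conj ((Cfsg.Agent.Helper79.inflate Q ψ₀ : G → ℂ) y)) *
        (Cfsg.Agent.Helper79.inflate Q ψ₀ : G → ℂ) x := by
  classical
  have hp : p.Prime := hpf.out
  have hpr := isPrime_of_isPModular hM
  have : Fintype (G ⧸ Q) := Fintype.ofFinite _
  have hcard := card_defectGroup hM hb Q hQ
  have hQp : IsPGroup p Q := IsPGroup.of_card hcard
  -- the double sum
  have hway2 : ∑ ψ : IrrCharacter (G ⧸ Q),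
      (∑ y ∈ Finset.univ.filter (fun y : G => ¬ p ∣ orderOf y),
        (χ : G → ℂ) y * conj ((Cfsg.Agent.Helper79.inflate Q ψ : G → ℂ) y)) *
        (Cfsg.Agent.Helper79.inflate Q ψ : G → ℂ) x =
      (∑ y ∈ Finset.univ.filter (fun y : G => ¬ p ∣ orderOf y),
        (χ : G → ℂ) y * conj ((Cfsg.Agent.Helper79.inflate Q ψ₀ : G → ℂ) y)) *
        (Cfsg.Agent.Helper79.inflate Q ψ₀ : G → ℂ) x := by
    apply Finset.sum_eq_single ψ₀
    · intro ψ _ hne
      by_cases hsame : SameBlock M (χ : G → ℂ) (Cfsg.Agent.Helper79.inflate Q ψ : G → ℂ)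
      · exfalso
        apply hne
        exact eq_of_inflate_mem hM Q hQZ hb hQ ψ₀ ψ h₀ (mem_of_sameBlock hb hχ hsame)
      · rw [Cfsg.Agent.Helper16.sum_regular_eq_zero_of_not_sameBlock hM χ _ hsame, zero_mul]
    · intro h; exact absurd (Finset.mem_univ _) h
  rw [← hway2]
  -- the other way
  have hcol : ∀ y : G, ¬ p ∣ orderOf y →
      ∑ ψ : IrrCharacter (G ⧸ Q), (ψ : G ⧸ Q → ℂ) (QuotientGroup.mk x) *
        conj ((ψ : G ⧸ Q → ℂ) (QuotientGroup.mk y)) =
      classInd x y * (Nat.card (Subgroup.centralizer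
        ({(QuotientGroup.mk x : G ⧸ Q)} : Set (G ⧸ Q))) : ℂ) := by
    intro y hy
    rw [sum_irr_mul_conj]
    unfold classInd
    by_cases hc : IsConj x y
    · have hc' : IsConj (QuotientGroup.mk x : G ⧸ Q) (QuotientGroup.mk y : G ⧸ Q) := by
        obtain ⟨c, hc⟩ := isConj_iff.1 hc
        rw [isConj_iff]
        exact ⟨QuotientGroup.mk c, by rw [← hc]; rfl⟩
      rw [if_pos hc', if_pos hc, one_mul]
    · have hc' : ¬ IsConj (QuotientGroup.mk x : G ⧸ Q) (QuotientGroup.mk y : G ⧸ Q) :=
        fun h => hc (isConj_of_isConj_mk Q hQp hQZ x y hx hy h)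
      rw [if_neg hc', if_neg hc, zero_mul]
  have hxc : x ∈ Subgroup.centralizer (Q : Set G) := by
    rw [Subgroup.mem_centralizer_iff]
    intro d hd
    exact ((Subgroup.mem_center_iff.1 (hQZ hd)) x).symm
  have hidx := Cfsg.Agent.Helper16.index_centralizer_mk_eq Q hQp x hxc hx
  have hmul := Subgroup.card_mul_index
    (Subgroup.centralizer ({(QuotientGroup.mk x : G ⧸ Q)} : Set (G ⧸ Q)))
  calc (Nat.card (G ⧸ Q) : ℂ) * (χ : G → ℂ) x
      = (Nat.card (Subgroup.centralizer
          ({(QuotientGroup.mk x : G ⧸ Q)} : Set (G ⧸ Q))) : ℂ) *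
          (((Subgroup.centralizer ({x} : Set G)).index : ℂ) * (χ : G → ℂ) x) := by
        rw [← hmul, hidx]
        push_cast
        ring
    _ = (Nat.card (Subgroup.centralizer
          ({(QuotientGroup.mk x : G ⧸ Q)} : Set (G ⧸ Q))) : ℂ) *
          ∑ y : G, classInd x y * (χ : G → ℂ) y := by rw [sum_classInd_mul]
    _ = ∑ y ∈ Finset.univ.filter (fun y : G => ¬ p ∣ orderOf y),
          (χ : G → ℂ) y * (classInd x y * (Nat.card (Subgroup.centralizer
            ({(QuotientGroup.mk x : G ⧸ Q)} : Set (G ⧸ Q))) : ℂ)) := by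
        rw [Finset.mul_sum, Finset.sum_filter]
        refine Finset.sum_congr rfl fun y _ => ?_
        by_cases hy : p ∣ orderOf y
        · rw [if_neg (not_not.2 hy)]
          have : classInd x y = 0 := by
            unfold classInd
            rw [if_neg]
            intro hc
            obtain ⟨c, hc⟩ := isConj_iff.1 hc
            apply hx
            rw [← orderOf_conj_eq c x, hc]
            exact hy
          rw [this]
          ring
        · rw [if_pos hy]
          ring
    _ = _ := by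
        simp only [Finset.sum_mul]
        rw [Finset.sum_comm]
        refine Finset.sum_congr rfl fun y hy => ?_
        rw [Finset.mem_filter] at hy
        rw [← hcol y hy.2, Finset.mul_sum]
        refine Finset.sum_congr rfl fun ψ _ => ?_
        rw [Cfsg.Agent.Helper79.inflate_apply, Cfsg.Agent.Helper79.inflate_apply]
        ring

end central

end Cfsg.Agent.Helper78
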