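import Mathlib
import Cfsg.Prelude.Def_Blocks
import Cfsg.Agent.Lib.Helper78.DefectClass
import Cfsg.Agent.Lib.Helper77.MinMax
import Cfsg.Agent.Lib.Helper77.Transport
import Cfsg.Agent.Lib.Helper79.Inflation

/-!
# Blocks of quotient groups (domination) (helper78)

* `defectLE_blockCoeff_of_card` : min-max with an arbitrary `p`-subgroup of full order in the
  centralizer.
* `index_centralizer_mk_dvd`, `centralChar_inflate` : the central character of an inflated
  character.
* `card_comap_mk` : order of a preimage.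
-/

set_option autoImplicit false
set_option linter.unusedSectionVars false

namespace Cfsg.Agent.Helper78

open Cfsg
open Cfsg.Agent.Helper77
open Cfsg.Agent.Helper74.DO

universe u

section minmax

variable {G : Type u} [Group G] [Fintype G] {p : ℕ} [hpf : Fact p.Prime] {M : Ideal AlgInt}

/-- Min-max with an arbitrary `p`-subgroup of full order of the centralizer. -/
theorem defectLE_blockCoeff_of_card (hM : IsPModular p M) {B : Set (IrrCharacter G)}
    (hB : IsPBlock M B) (g : G) (S : Subgroup G) (hS : IsPGroup p S)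
    (hSg : S ≤ Subgroup.centralizer ({g} : Set G))
    (hcard : Nat.card S = p ^ (Nat.card (Subgroup.centralizer ({g} : Set G))).factorization p)
    {χ₀ : IrrCharacter G} (hχ₀ : χ₀ ∈ B)
    (h : ¬ MemLocalIdeal M (centralChar (χ₀ : G → ℂ) g)) :
    DefectLE p M S (blockCoeff B) := by
  have hp' : IsPGroup p (S.subgroupOf (Subgroup.centralizer ({g} : Set G))) := hS.comap_subtype
  obtain ⟨Q, hQ⟩ := hp'.exists_le_sylow
  have h1 : Nat.card (Q : Subgroup (Subgroup.centralizer ({g} : Set G))) ≤
      Nat.card (S.subgroupOf (Subgroup.centralizer ({g} : Set G))) := by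
    rw [Q.card_eq_multiplicity, ← hcard]
    exact (Nat.card_congr (Subgroup.subgroupOfEquivOfLe hSg).toEquiv).ge
  have h2 := Subgroup.eq_of_le_of_card_ge hQ h1
  have h3 := defectLE_blockCoeff hM hB g Q hχ₀ h
  rwa [← h2, Subgroup.map_subgroupOf_eq_of_le hSg] at h3

end minmax

section quot

variable {G : Type u} [Group G] [Fintype G] (N : Subgroup G) [hN : N.Normal]

theorem centralizer_le_comap_mk (x : G) :
    Subgroup.centralizer ({x} : Set G) ≤
      (Subgroup.centralizer ({(QuotientGroup.mk x : G ⧸ N)} : Set (G ⧸ N))).comap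
        (QuotientGroup.mk' N) := by
  intro g hg
  rw [Subgroup.mem_comap, Subgroup.mem_centralizer_iff]
  intro h hh
  rw [Set.mem_singleton_iff] at hh
  subst hh
  have := Subgroup.mem_centralizer_iff.1 hg x rfl
  show (QuotientGroup.mk x : G ⧸ N) * QuotientGroup.mk g = QuotientGroup.mk g * QuotientGroup.mk x
  rw [← QuotientGroup.mk_mul, ← QuotientGroup.mk_mul, this]

theorem index_centralizer_mk_dvd (x : G) :
    (Subgroup.centralizer ({(QuotientGroup.mk x : G ⧸ N)} : Set (G ⧸ N))).index ∣
      (Subgroup.centralizer ({x} : Set G)).index := by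
  have h1 := Subgroup.index_comap_of_surjective
    (Subgroup.centralizer ({(QuotientGroup.mk x : G ⧸ N)} : Set (G ⧸ N)))
    (QuotientGroup.mk'_surjective N)
  rw [← h1]
  exact Subgroup.index_dvd_of_le (centralizer_le_comap_mk N x)

/-- The central character of an inflated character. -/
theorem centralChar_inflate (ψ : IrrCharacter (G ⧸ N)) (x : G) :
    centralChar (Cfsg.Agent.Helper79.inflate N ψ : G → ℂ) x =
      (((Subgroup.centralizer ({x} : Set G)).index /
        (Subgroup.centralizer ({(QuotientGroup.mk x : G ⧸ N)} : Set (G ⧸ N))).index : ℕ) : ℂ) *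
        centralChar (ψ : G ⧸ N → ℂ) (QuotientGroup.mk x) := by
  obtain ⟨r, hr⟩ := index_centralizer_mk_dvd N x
  have h0 : (Subgroup.centralizer ({(QuotientGroup.mk x : G ⧸ N)} : Set (G ⧸ N))).index ≠ 0 :=
    Subgroup.index_ne_zero_of_finite
  have hdiv : (Subgroup.centralizer ({x} : Set G)).index /
      (Subgroup.centralizer ({(QuotientGroup.mk x : G ⧸ N)} : Set (G ⧸ N))).index = r := by
    rw [hr]
    exact Nat.mul_div_cancel_left r (Nat.pos_of_ne_zero h0)
  rw [hdiv]
  unfold centralChar
  rw [Cfsg.Agent.Helper79.inflate_apply, Cfsg.Agent.Helper79.inflate_apply, QuotientGroup.mk_one,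
    hr]
  push_cast
  ring

/-- order of a preimage under the quotient map -/
theorem card_comap_mk (K : Subgroup (G ⧸ N)) :
    Nat.card (K.comap (QuotientGroup.mk' N)) = Nat.card K * Nat.card N := by
  have h1 := Subgroup.index_comap_of_surjective K (QuotientGroup.mk'_surjective N)
  have h2 := Subgroup.card_mul_index (K.comap (QuotientGroup.mk' N))
  have h3 := Subgroup.card_mul_index K
  have h4 : Nat.card G = Nat.card (G ⧸ N) * Nat.card N :=
    Subgroup.card_eq_card_quotient_mul_card_subgroup N
  have h0 : K.index ≠ 0 := Subgroup.index_ne_zero_of_finite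
  rw [h1] at h2
  apply Nat.eq_of_mul_eq_mul_right (Nat.pos_of_ne_zero h0)
  rw [h2, h4, ← h3]
  ring

/-- The central character of an inflated character, existential form. -/
theorem exists_centralChar_inflate (x : G) :
    ∃ r : ℕ, (Subgroup.centralizer ({x} : Set G)).index =
        (Subgroup.centralizer ({(QuotientGroup.mk x : G ⧸ N)} : Set (G ⧸ N))).index * r ∧
      Nat.card (Subgroup.centralizer ({(QuotientGroup.mk x : G ⧸ N)} : Set (G ⧸ N))) *
        Nat.card N = Nat.card (Subgroup.centralizer ({x} : Set G)) * r ∧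
      ∀ ψ : IrrCharacter (G ⧸ N), centralChar (Cfsg.Agent.Helper79.inflate N ψ : G → ℂ) x =
        (r : ℂ) * centralChar (ψ : G ⧸ N → ℂ) (QuotientGroup.mk x) := by
  obtain ⟨r, hr⟩ := index_centralizer_mk_dvd N x
  have h0 : (Subgroup.centralizer ({(QuotientGroup.mk x : G ⧸ N)} : Set (G ⧸ N))).index ≠ 0 :=
    Subgroup.index_ne_zero_of_finite
  refine ⟨r, hr, ?_, fun ψ => ?_⟩
  · rw [← card_comap_mk]
    have h1 := Subgroup.index_comap_of_surjective
      (Subgroup.centralizer ({(QuotientGroup.mk x : G ⧸ N)} : Set (G ⧸ N)))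
      (QuotientGroup.mk'_surjective N)
    have h2 := Subgroup.card_mul_index
      ((Subgroup.centralizer ({(QuotientGroup.mk x : G ⧸ N)} : Set (G ⧸ N))).comap
        (QuotientGroup.mk' N))
    have h3 := Subgroup.card_mul_index (Subgroup.centralizer ({x} : Set G))
    rw [h1] at h2
    apply Nat.eq_of_mul_eq_mul_right (Nat.pos_of_ne_zero h0)
    rw [h2, ← h3, hr]
    ring
  · have hdiv : (Subgroup.centralizer ({x} : Set G)).index /
        (Subgroup.centralizer ({(QuotientGroup.mk x : G ⧸ N)} : Set (G ⧸ N))).index = r := by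
      rw [hr]
      exact Nat.mul_div_cancel_left r (Nat.pos_of_ne_zero h0)
    rw [centralChar_inflate, hdiv]

end quot

section dom

variable {G : Type u} [Group G] [Fintype G] {p : ℕ} [hpf : Fact p.Prime] {M : Ideal AlgInt}

/-- A conjugate of a defect group is a defect group. -/
theorem isDefectGroup_conj {B : Set (IrrCharacter G)} {D : Subgroup G}
    (hD : IsDefectGroup p M B D) (g : G) :
    IsDefectGroup p M B (D.map (MulAut.conj g).toMonoidHom) := by
  rw [isDefectGroup_iff_card] at hD ⊢
  obtain ⟨x, hx, hle, hDp, hcard⟩ := hD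
  have hcl := isClassFunction_blockCoeff B
  have hcent : Subgroup.centralizer ({g * x * g⁻¹} : Set G) =
      (Subgroup.centralizer ({x} : Set G)).map (MulAut.conj g).toMonoidHom := by
    ext t
    rw [Subgroup.mem_centralizer_iff, Subgroup.mem_map]
    constructor
    · intro ht
      refine ⟨g⁻¹ * t * g, ?_, by simp [MulAut.conj_apply, mul_assoc]⟩
      rw [Subgroup.mem_centralizer_iff]
      intro h hh
      rw [Set.mem_singleton_iff] at hh
      subst hh
      have := ht (g * h * g⁻¹) rfl
      have e1 : h * (g⁻¹ * t * g) = g⁻¹ * ((g * h * g⁻¹) * t) * g := by group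
      have e2 : g⁻¹ * t * g * h = g⁻¹ * (t * (g * h * g⁻¹)) * g := by group
      rw [e1, e2, this]
    · rintro ⟨s, hs, rfl⟩
      intro h hh
      rw [Set.mem_singleton_iff] at hh
      subst hh
      have := Subgroup.mem_centralizer_iff.1 hs x rfl
      simp only [MulEquiv.toMonoidHom_eq_coe, MonoidHom.coe_coe, MulAut.conj_apply]
      have e1 : g * x * g⁻¹ * (g * s * g⁻¹) = g * (x * s) * g⁻¹ := by group
      have e2 : g * s * g⁻¹ * (g * x * g⁻¹) = g * (s * x) * g⁻¹ := by group
      rw [e1, e2, this]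
  refine ⟨g * x * g⁻¹, ?_, ?_, hDp.map _, ?_⟩
  · obtain ⟨h1, h2, h3⟩ := hx
    refine ⟨?_, ?_, ?_⟩
    · rw [hcl x g]; exact h1
    · rw [hcl x g]; exact h2
    · intro χ hχ
      have hχcl := isClassFunction_of_isIrrCharacter χ.2
      have e : centralChar (χ : G → ℂ) (g * x * g⁻¹) = centralChar (χ : G → ℂ) x := by
        unfold centralChar
        rw [hχcl x g, hcent, Subgroup.index_map_of_bijective (MulAut.conj g).bijective]
      rw [e]
      exact h3 χ hχ
  · rw [hcent]
    exact Subgroup.map_mono hle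
  · rw [hcent, Subgroup.card_map_of_injective (MulAut.conj g).injective,
      Subgroup.card_map_of_injective (MulAut.conj g).injective]
    exact hcard

/-- **Domination**: if the block `Bbar` of `G ⧸ N` is contained in the block `B` of `G`, every
defect group of `Bbar` is contained in the image of a defect group of `B`. -/
theorem exists_defectGroup_map_ge (hM : IsPModular p M) (N : Subgroup G) [hN : N.Normal]
    {Bbar : Set (IrrCharacter (G ⧸ N))} (hBbar : IsPBlock M Bbar) {B : Set (IrrCharacter G)}
    (hB : IsPBlock M B) (hsub : ∀ χ ∈ Bbar, Cfsg.Agent.Helper79.inflate N χ ∈ B)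
    (Dbar : Subgroup (G ⧸ N)) (hDbar : IsDefectGroup p M Bbar Dbar) :
    ∃ P : Subgroup G, IsDefectGroup p M B P ∧ Dbar ≤ P.map (QuotientGroup.mk' N) := by
  classical
  have hp : p.Prime := hpf.out
  have hpr := isPrime_of_isPModular hM
  have : Fintype (G ⧸ N) := Fintype.ofFinite _
  obtain ⟨χbar, hχbar⟩ := nonempty_of_isPBlock hBbar
  have hχ := hsub χbar hχbar
  obtain ⟨x, hx⟩ := exists_isDefectClass hB
  have hnot := hx.2.2 _ hχ
  obtain ⟨r, hr1, hr2, hr3⟩ := exists_centralChar_inflate N x
  rw [hr3] at hnot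
  have hrp : ¬ p ∣ r := fun hd => hnot (memLocalIdeal_mul_right
    ((memLocalIdeal_natCast_iff hM r).2 hd) (memLocalRing_centralChar χbar.2 _))
  have hnot' : ¬ MemLocalIdeal M (centralChar (χbar : G ⧸ N → ℂ) (QuotientGroup.mk x)) :=
    fun h => hnot (memLocalIdeal_mul_left (memLocalRing_natCast r) h)
  obtain ⟨D₀⟩ : Nonempty (Sylow p (Subgroup.centralizer ({x} : Set G))) := inferInstance
  set D : Subgroup G := (D₀ : Subgroup (Subgroup.centralizer ({x} : Set G))).map
    (Subgroup.centralizer ({x} : Set G)).subtype with hDdef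
  have hDgrp : IsDefectGroup p M B D := ⟨x, hx, D₀, rfl⟩
  have hDp : IsPGroup p D := sylow_map_isPGroup x D₀
  have hDle : D ≤ Subgroup.centralizer ({x} : Set G) := sylow_map_le_centralizer x D₀
  have hDcard : Nat.card D =
      p ^ (Nat.card (Subgroup.centralizer ({x} : Set G))).factorization p := by
    rw [hDdef, Subgroup.card_map_of_injective (Subgroup.subtype_injective _)]
    exact D₀.card_eq_multiplicity
  set S : Subgroup (G ⧸ N) := D.map (QuotientGroup.mk' N) with hSdef
  have hSp : IsPGroup p S := hDp.map _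
  have hSle : S ≤ Subgroup.centralizer ({(QuotientGroup.mk x : G ⧸ N)} : Set (G ⧸ N)) := by
    rintro _ ⟨d, hd, rfl⟩
    exact centralizer_le_comap_mk N x (hDle hd)
  -- the order of `S`
  obtain ⟨s, hs⟩ := IsPGroup.iff_card.1 hSp
  have hCx0 : Nat.card (Subgroup.centralizer ({x} : Set G)) ≠ 0 := Nat.card_pos.ne'
  have hCb0 : Nat.card (Subgroup.centralizer
      ({(QuotientGroup.mk x : G ⧸ N)} : Set (G ⧸ N))) ≠ 0 := Nat.card_pos.ne'
  have hN0 : Nat.card N ≠ 0 := Nat.card_pos.ne'
  have hr0 : r ≠ 0 := by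
    rintro rfl
    exact hrp (dvd_zero p)
  have hfac : (Nat.card (Subgroup.centralizer
      ({(QuotientGroup.mk x : G ⧸ N)} : Set (G ⧸ N)))).factorization p +
      (Nat.card N).factorization p =
      (Nat.card (Subgroup.centralizer ({x} : Set G))).factorization p := by
    have := congrArg (fun n : ℕ => n.factorization p) hr2
    beta_reduce at this
    rw [Nat.factorization_mul hCb0 hN0, Nat.factorization_mul hCx0 hr0, Finsupp.coe_add,
      Pi.add_apply, Finsupp.coe_add, Pi.add_apply,
      Nat.factorization_eq_zero_of_not_dvd hrp, add_zero] at this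
    exact this
  have hs_le : s ≤ (Nat.card (Subgroup.centralizer
      ({(QuotientGroup.mk x : G ⧸ N)} : Set (G ⧸ N)))).factorization p := by
    have h1 := Subgroup.card_dvd_of_le hSle
    rw [hs] at h1
    exact (hp.pow_dvd_iff_le_factorization hCb0).1 h1
  have hs_ge : (Nat.card (Subgroup.centralizer ({x} : Set G))).factorization p ≤
      s + (Nat.card N).factorization p := by
    have h1 : D ≤ S.comap (QuotientGroup.mk' N) := by
      intro d hd
      exact ⟨d, hd, rfl⟩
    have h2 := Subgroup.card_dvd_of_le h1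
    rw [card_comap_mk, hDcard, hs] at h2
    have h3 : p ^ s * Nat.card N ≠ 0 := Nat.mul_ne_zero (pow_pos hp.pos s).ne' hN0
    have h4 := (hp.pow_dvd_iff_le_factorization h3).1 h2
    rw [Nat.factorization_mul (pow_pos hp.pos s).ne' hN0, Finsupp.coe_add, Pi.add_apply,
      Nat.Prime.factorization_pow hp] at h4
    simpa using h4
  have hScard : Nat.card S = p ^ (Nat.card (Subgroup.centralizer
      ({(QuotientGroup.mk x : G ⧸ N)} : Set (G ⧸ N)))).factorization p := by
    rw [hs]
    congr 1
    omega
  have hle := defectLE_blockCoeff_of_card hM hBbar (QuotientGroup.mk x) S hSp hSle hScard hχbar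
    hnot'
  obtain ⟨y, hy, Pbar, rfl⟩ := hDbar
  obtain ⟨u, hu⟩ := hle y hy.2.1 _ (sylow_map_isPGroup y Pbar) (sylow_map_le_centralizer y Pbar)
  obtain ⟨g, rfl⟩ := QuotientGroup.mk_surjective u
  refine ⟨D.map (MulAut.conj g⁻¹).toMonoidHom, isDefectGroup_conj hDgrp g⁻¹, ?_⟩
  intro d hd
  obtain ⟨e, he, hed⟩ := hu ⟨d, hd, rfl⟩
  refine ⟨g⁻¹ * e * g, ⟨e, he, by simp⟩, ?_⟩
  have h1 : (QuotientGroup.mk' N) (g⁻¹ * e * g) =
      (QuotientGroup.mk g : G ⧸ N)⁻¹ * (QuotientGroup.mk' N) e * QuotientGroup.mk g := by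
    simp
  rw [h1, hed]
  simp [MulAut.conj_apply, mul_assoc]

end dom

end Cfsg.Agent.Helper78
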