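import Mathlib
import Cfsg.Prelude.Def_Blocks
import Cfsg.Agent.Lib.Helper78.Domination
import Cfsg.Agent.Lib.Helper78.NormalDefect
import Cfsg.Agent.Lib.Helper77.Cover
import Cfsg.Agent.Lib.Helper77.FMT
import Cfsg.Agent.Lib.Helper16.Regular

/-!
# Blocks of `G ⧸ N` for a normal `p`-subgroup `N` (helper78)

* `sum_mul_normal` : `∑ n ∈ N, χ (x * n) = (∑ n ∈ N, χ n) / χ 1 * χ x`.
* `blockCoeff_eq_blockCoeff_quot` : for `x` `p`-regular centralizing the normal `p`-subgroup `N`,
  the coefficient of the block idempotent of `B` at `x` is the coefficient at the image of `x` of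
  the sum of the idempotents of the characters of `G ⧸ N` inflating into `B`.
* `exists_dominated_block` : the theorem on dominated blocks with the right defect groups.
-/

set_option autoImplicit false
set_option linter.unusedSectionVars false

namespace Cfsg.Agent.Helper78

open Cfsg
open Cfsg.Agent.Helper77
open Cfsg.Agent.Helper74.DO
open scoped ComplexConjugate

universe u

section sums

variable {G : Type u} [Group G] [Fintype G]

/-- indicator of a single element -/
noncomputable def pointInd (x : G) : G → ℂ := fun g => by classical exact if g = x then 1 else 0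

/-- indicator of a subgroup -/
noncomputable def subgroupInd (N : Subgroup G) : G → ℂ :=
  fun g => by classical exact if g ∈ N then 1 else 0

theorem isClassFunction_subgroupInd (N : Subgroup G) [hN : N.Normal] :
    IsClassFunction G (subgroupInd N) := by
  classical
  intro g h
  unfold subgroupInd
  have : h * g * h⁻¹ ∈ N ↔ g ∈ N := by
    constructor
    · intro hh
      have := hN.conj_mem _ hh h⁻¹
      simpa [mul_assoc] using this
    · intro hg
      exact hN.conj_mem g hg h
  simp only [this]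

/-- Schur: `∑ n ∈ N, χ (n * x) = (∑ n ∈ N, χ n) / χ 1 * χ x` for a normal subgroup `N`. -/
theorem sum_mul_normal (N : Subgroup G) [hN : N.Normal] [Fintype N] (χ : IrrCharacter G)
    (x : G) :
    ∑ n : N, (χ : G → ℂ) ((n : G) * x) =
      (∑ n : N, (χ : G → ℂ) n) / (χ : G → ℂ) 1 * (χ : G → ℂ) x := by
  classical
  have h1 := omega_conv_left χ.2 (isClassFunction_subgroupInd N) (pointInd x)
  have hχ1 : (χ : G → ℂ) 1 ≠ 0 := irrChar_one_ne_zero χ.2
  -- the three omegas
  have e1 : omega (χ : G → ℂ) (subgroupInd N) = (∑ n : N, (χ : G → ℂ) n) / (χ : G → ℂ) 1 := by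
    unfold omega subgroupInd
    congr 1
    rw [← Finset.sum_subset (Finset.subset_univ (Finset.univ.filter (· ∈ N)))]
    · rw [Finset.sum_subtype (Finset.univ.filter (· ∈ N)) (p := (· ∈ N)) (by simp)]
      refine Finset.sum_congr rfl fun n _ => ?_
      rw [if_pos n.2, one_mul]
    · intro y _ hy
      simp only [Finset.mem_filter, Finset.mem_univ, true_and] at hy
      rw [if_neg hy, zero_mul]
  have e2 : omega (χ : G → ℂ) (pointInd x) = (χ : G → ℂ) x / (χ : G → ℂ) 1 := by
    unfold omega pointInd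
    congr 1
    rw [Finset.sum_eq_single x]
    · rw [if_pos rfl, one_mul]
    · intro g _ hg
      rw [if_neg hg, zero_mul]
    · intro h; exact absurd (Finset.mem_univ _) h
  have e3 : omega (χ : G → ℂ) (conv (subgroupInd N) (pointInd x)) =
      (∑ n : N, (χ : G → ℂ) ((n : G) * x)) / (χ : G → ℂ) 1 := by
    unfold omega
    congr 1
    have hconv : ∀ g : G, conv (subgroupInd N) (pointInd x) g = subgroupInd N (g * x⁻¹) := by
      intro g
      unfold conv pointInd
      rw [Finset.sum_eq_single (g * x⁻¹)]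
      · rw [if_pos (by group), mul_one]
      · intro y _ hy
        rw [if_neg, mul_zero]
        intro h
        apply hy
        rw [← h]
        group
      · intro h; exact absurd (Finset.mem_univ _) h
    simp only [hconv]
    rw [← Equiv.sum_comp (Equiv.mulRight x)
      (fun g => subgroupInd N (g * x⁻¹) * (χ : G → ℂ) g)]
    simp only [Equiv.coe_mulRight, mul_inv_cancel_right]
    unfold subgroupInd
    rw [← Finset.sum_subset (Finset.subset_univ (Finset.univ.filter (· ∈ N)))]
    · rw [Finset.sum_subtype (Finset.univ.filter (· ∈ N)) (p := (· ∈ N)) (by simp)]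
      refine Finset.sum_congr rfl fun n _ => ?_
      rw [if_pos n.2, one_mul]
    · intro y _ hy
      simp only [Finset.mem_filter, Finset.mem_univ, true_and] at hy
      rw [if_neg hy, zero_mul]
  rw [e1, e2, e3] at h1
  field_simp at h1
  field_simp
  exact h1

/-- The sum of an irreducible character over a normal subgroup. -/
theorem sum_normal_eq (N : Subgroup G) [hN : N.Normal] [Fintype N] (χ : IrrCharacter G) :
    ∑ n : N, (χ : G → ℂ) n =
      by classical exact if N ≤ Cfsg.Agent.Helper79.irrKer χ then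
        (Nat.card N : ℂ) * (χ : G → ℂ) 1 else 0 := by
  classical
  by_cases h : N ≤ Cfsg.Agent.Helper79.irrKer χ
  · rw [if_pos h]
    have : ∀ n : N, (χ : G → ℂ) n = (χ : G → ℂ) 1 := fun n =>
      (Cfsg.Agent.Helper79.mem_irrKer χ n).1 (h n.2)
    simp only [this, Finset.sum_const, Finset.card_univ, nsmul_eq_mul, Nat.card_eq_fintype_card]
  · rw [if_neg h]
    by_contra hne
    apply h
    intro n hn
    exact (Cfsg.Agent.Helper79.mem_irrKer χ n).2 (const_on_normal_of_sum_ne_zero N χ hne ⟨n, hn⟩)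

end sums

section quotcoeff

variable {G : Type u} [Group G] [Fintype G] {p : ℕ} [hpf : Fact p.Prime] {M : Ideal AlgInt}

/-- the set of irreducible characters of `G ⧸ N` inflating into `B` -/
def deflSet (N : Subgroup G) [N.Normal] (B : Set (IrrCharacter G)) :
    Set (IrrCharacter (G ⧸ N)) := {ψ | Cfsg.Agent.Helper79.inflate N ψ ∈ B}

/-- For `x` `p`-regular centralizing the normal `p`-subgroup `N`, the block idempotent coefficient
of `B` at `x` equals the coefficient at the image of `x` of the idempotent of the characters of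
`G ⧸ N` inflating into `B`. -/
theorem blockCoeff_eq_blockCoeff_quot (hM : IsPModular p M) (N : Subgroup G) [hN : N.Normal]
    (hNp : IsPGroup p N) {B : Set (IrrCharacter G)} (hB : IsPBlock M B) (x : G)
    (hx : ¬ p ∣ orderOf x) (hxc : x ∈ Subgroup.centralizer (N : Set G)) :
    blockCoeff B x = blockCoeff (deflSet N B) (QuotientGroup.mk x : G ⧸ N) := by
  classical
  have hp : p.Prime := hpf.out
  have : Fintype N := Fintype.ofFinite N
  have : Fintype (G ⧸ N) := Fintype.ofFinite _
  -- Osima: only `n = 1` contributes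
  have h1 : ∑ n : N, blockCoeff B ((n : G) * x) = blockCoeff B x := by
    rw [Finset.sum_eq_single (1 : N)]
    · simp
    · intro n _ hn
      apply Cfsg.Agent.Helper16.blockCoeff_eq_zero_of_singular hM hB
      have hcomm : Commute x (n : G) := by
        have := Subgroup.mem_centralizer_iff.1 hxc (n : G) n.2
        exact this.symm
      obtain ⟨k, hk⟩ := (IsPGroup.iff_orderOf.1 hNp) n
      rw [← Subgroup.orderOf_coe] at hk
      rw [← hcomm.eq]
      apply dvd_orderOf_mul_of_pElement x (n : G) hx hcomm ⟨k, hk⟩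
      intro h1
      exact hn (Subtype.ext h1)
    · intro h; exact absurd (Finset.mem_univ _) h
  rw [← h1]
  simp only [blockCoeff_eq_sum]
  rw [← Finset.mul_sum, Finset.sum_comm]
  -- inner sums
  have hinner : ∀ χ : IrrCharacter G,
      ∑ n : N, (χ : G → ℂ) 1 * conj ((χ : G → ℂ) ((n : G) * x)) =
      if N ≤ Cfsg.Agent.Helper79.irrKer χ then
        (Nat.card N : ℂ) * ((χ : G → ℂ) 1 * conj ((χ : G → ℂ) x)) else 0 := by
    intro χ
    have hχ1 : (χ : G → ℂ) 1 ≠ 0 := irrChar_one_ne_zero χ.2
    have hreal : conj ((χ : G → ℂ) 1) = (χ : G → ℂ) 1 := by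
      rw [(Cfsg.Agent.Helper79.irr_one_eq χ).1, Complex.conj_natCast]
    rw [← Finset.mul_sum, ← map_sum, sum_mul_normal N χ x, sum_normal_eq N χ]
    split_ifs with h
    · rw [map_mul, map_div₀, map_mul, hreal, Complex.conj_natCast]
      field_simp
    · simp
  simp only [hinner]
  rw [← Finset.sum_filter]
  -- reindex along inflation
  have himg : (Set.toFinite B).toFinset.filter
      (fun χ => N ≤ Cfsg.Agent.Helper79.irrKer χ) =
      (Set.toFinite (deflSet N B)).toFinset.image (Cfsg.Agent.Helper79.inflate N) := by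
    ext χ
    simp only [Finset.mem_filter, Set.Finite.mem_toFinset, Finset.mem_image]
    constructor
    · rintro ⟨hχB, hker⟩
      obtain ⟨ψ, rfl⟩ := Cfsg.Agent.Helper79.exists_deflate N χ hker
      exact ⟨ψ, hχB, rfl⟩
    · rintro ⟨ψ, hψ, rfl⟩
      exact ⟨hψ, Cfsg.Agent.Helper79.le_irrKer_inflate N ψ⟩
  rw [himg, Finset.sum_image (fun a _ b _ h => Cfsg.Agent.Helper79.inflate_injective N h),
    ← Finset.mul_sum, ← mul_assoc]
  have hcoef : (Nat.card G : ℂ)⁻¹ * (Nat.card N : ℂ) = (Nat.card (G ⧸ N) : ℂ)⁻¹ := by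
    have hcardmul : Nat.card G = Nat.card (G ⧸ N) * Nat.card N :=
      Subgroup.card_eq_card_quotient_mul_card_subgroup N
    have hq0 : (Nat.card (G ⧸ N) : ℂ) ≠ 0 := by exact_mod_cast Nat.card_pos.ne'
    have hN0 : (Nat.card N : ℂ) ≠ 0 := by exact_mod_cast Nat.card_pos.ne'
    rw [hcardmul]
    push_cast
    field_simp
  rw [hcoef]
  rfl

end quotcoeff

section dominated

variable {G : Type u} [Group G] [Fintype G] {p : ℕ} [hpf : Fact p.Prime] {M : Ideal AlgInt}

/-- Inflation preserves the block relation. -/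
theorem sameBlock_inflate [hpr : M.IsPrime] (N : Subgroup G) [hN : N.Normal]
    (φ φ' : IrrCharacter (G ⧸ N))
    (h : SameBlock M (φ : G ⧸ N → ℂ) (φ' : G ⧸ N → ℂ)) :
    SameBlock M (Cfsg.Agent.Helper79.inflate N φ : G → ℂ)
      (Cfsg.Agent.Helper79.inflate N φ' : G → ℂ) := by
  intro x
  obtain ⟨r, -, -, hr⟩ := exists_centralChar_inflate N x
  rw [hr φ, hr φ', ← mul_sub]
  exact memLocalIdeal_mul_left (memLocalRing_natCast r) (h _)

/-- A set of irreducible characters closed under the block relation has its idempotent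
coefficient in the local ideal as soon as all the blocks it contains do. -/
theorem memLocalIdeal_blockCoeff_of_closed [hpr : M.IsPrime] {T : Set (IrrCharacter G)}
    (hT : ∀ ψ ∈ T, ∀ φ : IrrCharacter G, SameBlock M (ψ : G → ℂ) (φ : G → ℂ) → φ ∈ T) (q : G)
    (h : ∀ ψ ∈ T, MemLocalIdeal M (blockCoeff (blockOf M (ψ : G → ℂ)) q)) :
    MemLocalIdeal M (blockCoeff T q) := by
  classical
  rw [blockCoeff_eq_sum]
  have hmaps : ∀ ψ ∈ (Set.toFinite T).toFinset, blockOf M (ψ : G → ℂ) ∈
      (Set.toFinite T).toFinset.image (fun ψ : IrrCharacter G => blockOf M (ψ : G → ℂ)) :=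
    fun ψ hψ => Finset.mem_image_of_mem _ hψ
  rw [← Finset.sum_fiberwise_of_maps_to hmaps, Finset.mul_sum]
  refine memLocalIdeal_sum _ _ fun y hy => ?_
  obtain ⟨ψ₁, hψ₁, rfl⟩ := Finset.mem_image.1 hy
  rw [Set.Finite.mem_toFinset] at hψ₁
  have hfilter : (Set.toFinite T).toFinset.filter
      (fun ψ : IrrCharacter G => blockOf M (ψ : G → ℂ) = blockOf M (ψ₁ : G → ℂ)) =
      (Set.toFinite (blockOf M (ψ₁ : G → ℂ))).toFinset := by
    ext φ
    simp only [Finset.mem_filter, Set.Finite.mem_toFinset]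
    constructor
    · rintro ⟨-, heq⟩
      rw [← heq]
      exact mem_blockOf_self φ
    · intro hφ
      exact ⟨hT ψ₁ hψ₁ φ hφ, blockOf_eq_of_sameBlock hφ⟩
  rw [hfilter, ← blockCoeff_eq_sum]
  exact h ψ₁ hψ₁

end dominated

section main

variable {G : Type u} [Group G] [Fintype G] {p : ℕ} [hpf : Fact p.Prime] {M : Ideal AlgInt}

/-- Any two defect groups of a block are conjugate. -/
theorem exists_conj_eq_of_isDefectGroup (hM : IsPModular p M) {B : Set (IrrCharacter G)}
    (hB : IsPBlock M B) {P P₀ : Subgroup G} (hP : IsDefectGroup p M B P)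
    (hP₀ : IsDefectGroup p M B P₀) : ∃ g : G, P₀.map (MulAut.conj g).toMonoidHom = P := by
  have hle := defectLE_of_isDefectGroup hM hB hP
  have hc := card_defectGroup hM hB P hP
  have hc₀ := card_defectGroup hM hB P₀ hP₀
  obtain ⟨y₀, hy₀, Q₀, rfl⟩ := hP₀
  obtain ⟨g, hg⟩ := hle y₀ hy₀.2.1 _ (sylow_map_isPGroup y₀ Q₀) (sylow_map_le_centralizer y₀ Q₀)
  refine ⟨g, Subgroup.eq_of_le_of_card_ge hg ?_⟩
  rw [Subgroup.card_map_of_injective (MulAut.conj g).injective, hc, hc₀]

/-- **Domination for a normal `p`-subgroup**: every block `B` of `G` contains a block of `G ⧸ N`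
whose defect groups are exactly the images of the defect groups of `B`. -/
theorem exists_dominated_block (hM : IsPModular p M) (N : Subgroup G) [hN : N.Normal]
    (hNp : IsPGroup p N) {B : Set (IrrCharacter G)} (hB : IsPBlock M B) :
    ∃ Bbar : Set (IrrCharacter (G ⧸ N)), IsPBlock M Bbar ∧
      (∀ χ ∈ Bbar, Cfsg.Agent.Helper79.inflate N χ ∈ B) ∧
      ∀ Dbar : Subgroup (G ⧸ N), IsDefectGroup p M Bbar Dbar ↔
        ∃ P : Subgroup G, IsDefectGroup p M B P ∧ Dbar = P.map (QuotientGroup.mk' N) := by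
  classical
  have hp : p.Prime := hpf.out
  have hpr := isPrime_of_isPModular hM
  have : Fintype (G ⧸ N) := Fintype.ofFinite _
  obtain ⟨x, hx⟩ := exists_isDefectClass hB
  obtain ⟨χ₀, hχ₀⟩ := nonempty_of_isPBlock hB
  have hxreg : ¬ p ∣ orderOf x := (defect_le_of_blockCoeff hM hB x hx.2.1).1
  have hxc : x ∈ Subgroup.centralizer (N : Set G) := by
    by_contra hcon
    exact hx.2.2 χ₀ hχ₀
      (memLocalIdeal_centralChar_of_notMem_centralizer hM N hNp x hcon χ₀.2)
  have hT : ∀ ψ ∈ deflSet N B, ∀ φ : IrrCharacter (G ⧸ N),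
      SameBlock M (ψ : G ⧸ N → ℂ) (φ : G ⧸ N → ℂ) → φ ∈ deflSet N B :=
    fun ψ hψ φ h => mem_of_sameBlock hB hψ (sameBlock_inflate N ψ φ h)
  have hcoef := blockCoeff_eq_blockCoeff_quot hM N hNp hB x hxreg hxc
  have hnotT : ¬ MemLocalIdeal M (blockCoeff (deflSet N B) (QuotientGroup.mk x : G ⧸ N)) := by
    rw [← hcoef]
    exact hx.2.1
  obtain ⟨ψ₁, hψ₁, hψ₁not⟩ : ∃ ψ₁ ∈ deflSet N B, ¬ MemLocalIdeal M
      (blockCoeff (blockOf M (ψ₁ : G ⧸ N → ℂ)) (QuotientGroup.mk x : G ⧸ N)) := by
    by_contra hcon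
    push Not at hcon
    exact hnotT (memLocalIdeal_blockCoeff_of_closed hT _ hcon)
  have hBbar : IsPBlock M (blockOf M (ψ₁ : G ⧸ N → ℂ)) := isPBlock_blockOf ψ₁
  have hsub : ∀ χ ∈ blockOf M (ψ₁ : G ⧸ N → ℂ), Cfsg.Agent.Helper79.inflate N χ ∈ B :=
    fun χ hχ => hT ψ₁ hψ₁ χ hχ
  -- numerical facts
  have hcardmul : Nat.card G = Nat.card (G ⧸ N) * Nat.card N :=
    Subgroup.card_eq_card_quotient_mul_card_subgroup N
  have hq0 : Nat.card (G ⧸ N) ≠ 0 := Nat.card_pos.ne'
  have hN0 : Nat.card N ≠ 0 := Nat.card_pos.ne'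
  obtain ⟨n, hn⟩ := IsPGroup.iff_card.1 hNp
  have hNfac : (Nat.card N).factorization p = n := by
    rw [hn, Nat.Prime.factorization_pow hp]
    simp
  have hGfac : (Nat.card G).factorization p = (Nat.card (G ⧸ N)).factorization p + n := by
    rw [hcardmul, Nat.factorization_mul hq0 hN0, Finsupp.coe_add, Pi.add_apply, hNfac]
  -- the centralizers of `x` and its image
  have hCfac : (Nat.card (Subgroup.centralizer ({x} : Set G))).factorization p =
      (Nat.card (Subgroup.centralizer
        ({(QuotientGroup.mk x : G ⧸ N)} : Set (G ⧸ N)))).factorization p + n := by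
    obtain ⟨r, hr1, hr2, -⟩ := exists_centralChar_inflate N x
    have hidx := Cfsg.Agent.Helper16.index_centralizer_mk_eq N hNp x hxc hxreg
    have hidx0 : (Subgroup.centralizer ({x} : Set G)).index ≠ 0 :=
      Subgroup.index_ne_zero_of_finite
    have hr : r = 1 := by
      rw [hidx] at hr1
      have : (Subgroup.centralizer ({x} : Set G)).index * 1 =
          (Subgroup.centralizer ({x} : Set G)).index * r := by rw [mul_one]; exact hr1
      exact (Nat.eq_of_mul_eq_mul_left (Nat.pos_of_ne_zero hidx0) this).symm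
    rw [hr, mul_one] at hr2
    have hCb0 : Nat.card (Subgroup.centralizer
        ({(QuotientGroup.mk x : G ⧸ N)} : Set (G ⧸ N))) ≠ 0 := Nat.card_pos.ne'
    rw [← hr2, Nat.factorization_mul hCb0 hN0, Finsupp.coe_add, Pi.add_apply, hNfac]
  have hmin : minVal p (blockOf M (ψ₁ : G ⧸ N → ℂ)) = minVal p B := by
    apply le_antisymm
    · have h1 := (defect_le_of_blockCoeff hM hBbar (QuotientGroup.mk x) hψ₁not).2
      have h2 := defect_of_isDefectClass hM hB hx
      have h3 := minVal_le_card (p := p) (nonempty_of_isPBlock hB)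
      rw [blockDefect_eq] at h2
      omega
    · obtain ⟨χ, hχ, hχmin⟩ := exists_minVal (p := p) (nonempty_of_isPBlock hBbar)
      have h1 := minVal_le (p := p) (hsub χ hχ)
      rw [Cfsg.Agent.Helper79.charDegree_inflate] at h1
      omega
  have hdef : blockDefect p B = blockDefect p (blockOf M (ψ₁ : G ⧸ N → ℂ)) + n := by
    have h3 := minVal_le_card (p := p) (nonempty_of_isPBlock hBbar)
    rw [blockDefect_eq, blockDefect_eq, hmin] at *
    omega
  -- order of the image of a defect group
  have himgcard : ∀ P : Subgroup G, IsDefectGroup p M B P →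
      Nat.card (P.map (QuotientGroup.mk' N)) =
        p ^ blockDefect p (blockOf M (ψ₁ : G ⧸ N → ℂ)) := by
    intro P hP
    have hNP : N ≤ P := normal_le_of_isDefectGroup hM hB hP N hNp
    have h1 : (P.map (QuotientGroup.mk' N)).comap (QuotientGroup.mk' N) = P := by
      apply Subgroup.comap_map_eq_self
      rw [QuotientGroup.ker_mk']
      exact hNP
    have h2 := card_comap_mk N (P.map (QuotientGroup.mk' N))
    rw [h1, card_defectGroup hM hB P hP, hdef, hn, pow_add] at h2
    exact (Nat.eq_of_mul_eq_mul_right (pow_pos hp.pos n) h2).symm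
  have hfwd : ∀ Dbar : Subgroup (G ⧸ N),
      IsDefectGroup p M (blockOf M (ψ₁ : G ⧸ N → ℂ)) Dbar →
      ∃ P : Subgroup G, IsDefectGroup p M B P ∧ Dbar = P.map (QuotientGroup.mk' N) := by
    intro Dbar hDbar
    obtain ⟨P, hP, hle⟩ := exists_defectGroup_map_ge hM N hBbar hB hsub Dbar hDbar
    refine ⟨P, hP, Subgroup.eq_of_le_of_card_ge hle ?_⟩
    rw [himgcard P hP, card_defectGroup hM hBbar Dbar hDbar]
  refine ⟨_, hBbar, hsub, fun Dbar => ⟨hfwd Dbar, ?_⟩⟩
  rintro ⟨P, hP, rfl⟩
  obtain ⟨D₀, hD₀⟩ := exists_isDefectGroup p hBbar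
  obtain ⟨P₀, hP₀, rfl⟩ := hfwd D₀ hD₀
  obtain ⟨g, rfl⟩ := exists_conj_eq_of_isDefectGroup hM hB hP hP₀
  have := isDefectGroup_conj hD₀ (QuotientGroup.mk g : G ⧸ N)
  convert this using 1
  rw [Subgroup.map_map, Subgroup.map_map]
  congr 1

end main

end Cfsg.Agent.Helper78
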