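import Mathlib
import Cfsg.Prelude.Def_Blocks
import Cfsg.Agent.Lib.Helper16.Osima

/-!
# A twisted form of Osima's vanishing theorem (helper78)

Let `D` be a central subgroup of `G` and `a` an idempotent class function of the group algebra
which transforms under `D` by a multiplicative function `μ` with root-of-unity values, such that
`|D| a` has coefficients in the local ring.  Then `a g = 0` whenever the image of `g` in `G ⧸ D`
is `p`-singular.
-/

set_option autoImplicit false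
set_option linter.unusedSectionVars false
set_option linter.style.haveILetI false

namespace Cfsg.Agent.Helper78

open Cfsg
open Cfsg.Agent.Helper77 Cfsg.Agent.Helper16
open scoped ComplexConjugate

universe u

section quot

variable {G : Type u} [Group G] [Fintype G]

/-- The decomposition `G = ⋃ out q * D`. -/
theorem outMul_bijective (D : Subgroup G) [D.Normal] :
    Function.Bijective (fun qz : (G ⧸ D) × D => (Quotient.out qz.1 : G) * (qz.2 : G)) := by
  classical
  haveI : Fintype (G ⧸ D) := Fintype.ofFinite _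
  haveI : Fintype D := Fintype.ofFinite _
  have hinj : Function.Injective
      (fun qz : (G ⧸ D) × D => (Quotient.out qz.1 : G) * (qz.2 : G)) := by
    rintro ⟨q, z⟩ ⟨q', z'⟩ h
    have hq : q = q' := by
      have h1 := congrArg (fun x : G => (QuotientGroup.mk x : G ⧸ D)) h
      simp only at h1
      rw [QuotientGroup.mk_mul_of_mem _ z.2, QuotientGroup.mk_mul_of_mem _ z'.2] at h1
      rw [QuotientGroup.out_eq', QuotientGroup.out_eq'] at h1
      exact h1
    subst hq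
    have h2 : (z : G) = (z' : G) := mul_left_cancel h
    rw [Subtype.ext h2]
  rw [Fintype.bijective_iff_injective_and_card]
  refine ⟨hinj, ?_⟩
  rw [Fintype.card_prod, ← Nat.card_eq_fintype_card, ← Nat.card_eq_fintype_card,
    ← Nat.card_eq_fintype_card]
  exact (Subgroup.card_eq_card_quotient_mul_card_subgroup D).symm

/-- Summing a `D`-invariant function over `G`. -/
theorem sum_eq_card_mul_sum_quot (D : Subgroup G) [D.Normal] [Fintype (G ⧸ D)] (F : G → ℂ)
    (hF : ∀ u : G, ∀ z ∈ D, F (u * z) = F u) :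
    ∑ u : G, F u = (Nat.card D : ℂ) * ∑ q : G ⧸ D, F (Quotient.out q) := by
  classical
  haveI : Fintype D := Fintype.ofFinite _
  rw [← Equiv.sum_comp (Equiv.ofBijective _ (outMul_bijective D)), Fintype.sum_prod_type,
    Finset.mul_sum]
  refine Finset.sum_congr rfl fun q _ => ?_
  have : ∀ z : D, F ((Equiv.ofBijective _ (outMul_bijective D)) (q, z)) = F (Quotient.out q) := by
    intro z
    exact hF _ z z.2
  simp only [this, Finset.sum_const, Finset.card_univ, nsmul_eq_mul]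
  rw [Nat.card_eq_fintype_card]

/-- A `D`-invariant function takes the same value at any lift. -/
theorem apply_out_mk (D : Subgroup G) [D.Normal] (F : G → ℂ)
    (hF : ∀ u : G, ∀ z ∈ D, F (u * z) = F u) (u : G) :
    F (Quotient.out (QuotientGroup.mk u : G ⧸ D)) = F u := by
  obtain ⟨z, hz⟩ := QuotientGroup.mk_out_eq_mul D u
  rw [hz]
  exact hF u z z.2

end quot

section main

variable {G : Type u} [Group G] [Fintype G] {p : ℕ} {M : Ideal AlgInt}

/-- a group identity used in the convolution computation -/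
theorem conj_mul_aux (r r' r'' A B C Z : G) (e1 : B * Z = A * C)
    (e2 : r''⁻¹ * Z = Z * r''⁻¹) :
    (r * A * r'⁻¹)⁻¹ * (r * B * r''⁻¹) * Z = r' * C * r''⁻¹ := by
  calc (r * A * r'⁻¹)⁻¹ * (r * B * r''⁻¹) * Z = r' * A⁻¹ * (B * (r''⁻¹ * Z)) := by group
    _ = r' * A⁻¹ * (B * (Z * r''⁻¹)) := by rw [e2]
    _ = r' * A⁻¹ * ((B * Z) * r''⁻¹) := by group
    _ = r' * A⁻¹ * ((A * C) * r''⁻¹) := by rw [e1]
    _ = r' * C * r''⁻¹ := by group

/-- **Twisted Osima theorem.** -/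
theorem twisted_osima (hM : IsPModular p M) (D : Subgroup G) [hDn : D.Normal]
    (hDZ : D ≤ Subgroup.center G)
    (a : G → ℂ) (hacl : IsClassFunction G a) (hidem : conv a a = a) (μ : G → ℂ)
    (hμ : ∀ z ∈ D, ∀ w : G, a (w * z) = μ z * a w)
    (hμroot : ∀ z ∈ D, ∃ m : ℕ, 0 < m ∧ μ z ^ m = 1)
    (haR : ∀ w, MemLocalRing M ((Nat.card D : ℂ) * a w))
    (g : G) (hg : p ∣ orderOf (QuotientGroup.mk g : G ⧸ D)) : a g = 0 := by
  classical
  by_cases hall : ∀ w, a w = 0
  · exact hall g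
  push Not at hall
  obtain ⟨w₀, hw₀⟩ := hall
  have hμinv : ∀ z ∈ D, μ z * μ z⁻¹ = 1 := by
    intro z hz
    have h1 := hμ z⁻¹ (D.inv_mem hz) (w₀ * z)
    rw [mul_assoc, mul_inv_cancel, mul_one, hμ z hz, ← mul_assoc] at h1
    have h2 : (μ z⁻¹ * μ z - 1) * a w₀ = 0 := by rw [sub_mul, one_mul, ← h1, sub_self]
    have h3 := (mul_eq_zero.1 h2).resolve_right hw₀
    rw [mul_comm]
    exact sub_eq_zero.1 h3
  have hp : p.Prime := hM.1
  have hpr := isPrime_of_isPModular hM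
  haveI : Fintype (G ⧸ D) := Fintype.ofFinite _
  obtain ⟨gb, hgb⟩ : ∃ gb : G ⧸ D, gb = QuotientGroup.mk g := ⟨_, rfl⟩
  rw [← hgb] at hg
  haveI : NeZero (orderOf gb) := ⟨(orderOf_pos gb).ne'⟩
  haveI : Fintype ((G ⧸ D) ⧸ Subgroup.zpowers gb) := Fintype.ofFinite _
  have hn2 : 2 ≤ orderOf gb := le_trans hp.two_le (Nat.le_of_dvd (orderOf_pos gb) hg)
  -- the element `z₀`
  obtain ⟨z₀, hz₀⟩ : ∃ z₀ : G, z₀ = g ^ orderOf gb := ⟨_, rfl⟩
  have hz₀D : z₀ ∈ D := by
    rw [← QuotientGroup.eq_one_iff, hz₀, QuotientGroup.mk_pow, ← hgb, pow_orderOf_eq_one]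
  have hcen : ∀ z ∈ D, ∀ w : G, w * z = z * w := fun z hz w =>
    (Subgroup.mem_center_iff.1 (hDZ hz)) w
  -- the root `ν`
  have hμz₀ : μ z₀ ≠ 0 := by
    obtain ⟨m, hm, h1⟩ := hμroot z₀ hz₀D
    intro h0
    rw [h0, zero_pow hm.ne'] at h1
    exact zero_ne_one h1
  obtain ⟨ν, hν⟩ := IsAlgClosed.exists_pow_nat_eq (μ z₀)⁻¹ (orderOf_pos gb)
  have hνμ : ν ^ orderOf gb * μ z₀ = 1 := by rw [hν]; exact inv_mul_cancel₀ hμz₀
  have hνroot : ∃ m : ℕ, 0 < m ∧ ν ^ m = 1 := by
    obtain ⟨m, hm, h1⟩ := hμroot z₀ hz₀D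
    refine ⟨orderOf gb * m, Nat.mul_pos (orderOf_pos gb) hm, ?_⟩
    rw [pow_mul, hν, inv_pow, h1, inv_one]
  have hν0 : ν ≠ 0 := by
    obtain ⟨m, hm, h1⟩ := hνroot
    intro h0
    rw [h0, zero_pow hm.ne'] at h1
    exact zero_ne_one h1
  have hνR : ∀ j : ℕ, MemLocalRing M (ν ^ j) := by
    intro j
    obtain ⟨m, hm, h1⟩ := hνroot
    apply memLocalRing_of_pow_eq_one hM (ν ^ j) m hm
    rw [← pow_mul, mul_comm, pow_mul, h1, one_pow]
  -- lifts of the coset representatives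
  obtain ⟨R, hRmk⟩ : ∃ R : (G ⧸ D) ⧸ Subgroup.zpowers gb → G,
      ∀ y, (QuotientGroup.mk (R y) : G ⧸ D) = crep gb y :=
    ⟨fun y => (crep gb y).out, fun y => QuotientGroup.out_eq' (crep gb y)⟩
  -- `μ` on powers of `z₀`
  have hμpow : ∀ q : ℕ, ∀ w : G, a (w * z₀ ^ q) = μ z₀ ^ q * a w := by
    intro q
    induction q with
    | zero => intro w; simp
    | succ q ih =>
      intro w
      rw [pow_succ, ← mul_assoc, hμ z₀ hz₀D, ih, pow_succ]
      ring
  have hz₀pow : ∀ q : ℕ, z₀ ^ q ∈ D := fun q => D.pow_mem hz₀D q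
  -- the matrices
  obtain ⟨E, hEdef⟩ : ∃ E : ZMod (orderOf gb) →
      Matrix ((G ⧸ D) ⧸ Subgroup.zpowers gb) ((G ⧸ D) ⧸ Subgroup.zpowers gb) ℂ,
      ∀ i y y', E i y y' =
        (Nat.card D : ℂ) * (ν ^ i.val * a (R y * g ^ i.val * (R y')⁻¹)) :=
    ⟨fun i => Matrix.of fun y y' =>
      (Nat.card D : ℂ) * (ν ^ i.val * a (R y * g ^ i.val * (R y')⁻¹)), fun _ _ _ => rfl⟩
  have hER : ∀ i y y', MemLocalRing M (E i y y') := by
    intro i y y'
    rw [hEdef, mul_left_comm]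
    exact memLocalRing_mul (hνR _) (haR _)
  have hE : ∀ k, ∑ i, E i * E (k - i) = E k := by
    intro k
    ext y y''
    rw [Matrix.sum_apply]
    simp only [Matrix.mul_apply, hEdef]
    rw [← Finset.sum_product' (Finset.univ) (Finset.univ)
      (fun i y' => (Nat.card D : ℂ) * (ν ^ i.val * a (R y * g ^ i.val * (R y')⁻¹)) *
        ((Nat.card D : ℂ) * (ν ^ (k - i).val * a (R y' * g ^ (k - i).val * (R y'')⁻¹))))]
    obtain ⟨h, hh⟩ : ∃ h : G, h = R y * g ^ k.val * (R y'')⁻¹ := ⟨_, rfl⟩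
    rw [← hh]
    obtain ⟨F, hF⟩ : ∃ F : G → ℂ, ∀ u, F u = a u * a (u⁻¹ * h) := ⟨_, fun _ => rfl⟩
    have hFinv : ∀ u : G, ∀ z ∈ D, F (u * z) = F u := by
      intro u z hz
      rw [hF, hF, hμ z hz]
      have e1 : (u * z)⁻¹ * h = u⁻¹ * h * z⁻¹ := by
        rw [mul_inv_rev, mul_assoc, mul_assoc, ← hcen z⁻¹ (D.inv_mem hz) (u⁻¹ * h), mul_assoc]
      rw [e1, hμ z⁻¹ (D.inv_mem hz)]
      have e2 := hμinv z hz
      calc μ z * a u * (μ z⁻¹ * a (u⁻¹ * h)) = (μ z * μ z⁻¹) * (a u * a (u⁻¹ * h)) := by ring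
        _ = a u * a (u⁻¹ * h) := by rw [e2, one_mul]
    -- each term
    have hterm : ∀ (i : ZMod (orderOf gb)) (y' : (G ⧸ D) ⧸ Subgroup.zpowers gb),
        (Nat.card D : ℂ) * (ν ^ i.val * a (R y * g ^ i.val * (R y')⁻¹)) *
          ((Nat.card D : ℂ) * (ν ^ (k - i).val * a (R y' * g ^ (k - i).val * (R y'')⁻¹))) =
        (Nat.card D : ℂ) ^ 2 * ν ^ k.val * F (R y * g ^ i.val * (R y')⁻¹) := by
      intro i y'
      have hki : k.val = (i.val + (k - i).val) % orderOf gb := by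
        rw [← ZMod.val_add, add_sub_cancel]
      obtain ⟨q, hq⟩ : ∃ q : ℕ, i.val + (k - i).val = k.val + orderOf gb * q := by
        have h1 := Nat.div_add_mod (i.val + (k - i).val) (orderOf gb)
        rw [← hki] at h1
        exact ⟨(i.val + (k - i).val) / orderOf gb, by omega⟩
      have e1 : g ^ k.val * z₀ ^ q = g ^ i.val * g ^ (k - i).val := by
        rw [hz₀, ← pow_mul, ← pow_add, ← pow_add, hq]
      have e2 : (R y'')⁻¹ * z₀ ^ q = z₀ ^ q * (R y'')⁻¹ := hcen _ (hz₀pow q) _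
      have e3 := conj_mul_aux (R y) (R y') (R y'') (g ^ i.val) (g ^ k.val) (g ^ (k - i).val)
        (z₀ ^ q) e1 e2
      rw [← hh] at e3
      rw [← e3, hμpow q, hF]
      have e4 : ν ^ i.val * ν ^ (k - i).val = ν ^ k.val * (ν ^ orderOf gb) ^ q := by
        rw [← pow_add, hq, pow_add, pow_mul]
      calc (Nat.card D : ℂ) * (ν ^ i.val * a (R y * g ^ i.val * (R y')⁻¹)) *
          ((Nat.card D : ℂ) * (ν ^ (k - i).val *
            (μ z₀ ^ q * a ((R y * g ^ i.val * (R y')⁻¹)⁻¹ * h)))) =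
          (Nat.card D : ℂ) ^ 2 * (ν ^ i.val * ν ^ (k - i).val) * μ z₀ ^ q *
            (a (R y * g ^ i.val * (R y')⁻¹) * a ((R y * g ^ i.val * (R y')⁻¹)⁻¹ * h)) := by
            ring
        _ = (Nat.card D : ℂ) ^ 2 * ν ^ k.val * (ν ^ orderOf gb * μ z₀) ^ q *
            (a (R y * g ^ i.val * (R y')⁻¹) * a ((R y * g ^ i.val * (R y')⁻¹)⁻¹ * h)) := by
            rw [e4, mul_pow]; ring
        _ = _ := by rw [hνμ, one_pow, mul_one]
    rw [Finset.sum_congr rfl (fun iy _ => hterm iy.1 iy.2), ← Finset.mul_sum]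
    -- the reindexing
    let ε : ZMod (orderOf gb) × ((G ⧸ D) ⧸ Subgroup.zpowers gb) ≃ G ⧸ D :=
      ((Equiv.neg (ZMod (orderOf gb))).prodCongr (Equiv.refl _)).trans
        ((Equiv.prodComm _ _).trans ((cosetEquiv gb).trans
          ((Equiv.inv (G ⧸ D)).trans (Equiv.mulLeft (crep gb y)))))
    have hε : ∀ i y', ε (i, y') = crep gb y * zpw gb i * (crep gb y')⁻¹ := by
      intro i y'
      have h1 : ε (i, y') = crep gb y * (crep gb y' * zpw gb (-i))⁻¹ := rfl
      rw [h1, zpw_neg, mul_inv_rev, inv_inv, mul_assoc]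
    have hmk : ∀ i y', (QuotientGroup.mk (R y * g ^ i.val * (R y')⁻¹) : G ⧸ D) = ε (i, y') := by
      intro i y'
      rw [hε, QuotientGroup.mk_mul, QuotientGroup.mk_mul, QuotientGroup.mk_inv,
        QuotientGroup.mk_pow, hRmk, hRmk, ← hgb]
      rfl
    have hsum : (Nat.card D : ℂ) *
        ∑ iy : ZMod (orderOf gb) × ((G ⧸ D) ⧸ Subgroup.zpowers gb),
          F (R y * g ^ iy.1.val * (R iy.2)⁻¹) = a h := by
      have h1 : a h = ∑ u : G, F u := by
        have h2 := congrFun hidem h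
        rw [← h2]
        unfold conv
        exact Finset.sum_congr rfl fun u _ => (hF u).symm
      rw [h1, sum_eq_card_mul_sum_quot D F hFinv]
      congr 1
      rw [← Equiv.sum_comp ε (fun q => F (Quotient.out q))]
      refine Finset.sum_congr rfl fun iy _ => ?_
      obtain ⟨i, y'⟩ := iy
      rw [← hmk i y', apply_out_mk D F hFinv]
    rw [← hsum, Finset.univ_product_univ]
    ring
  -- the trace
  have h1val : (1 : ZMod (orderOf gb)).val = 1 := by
    rw [ZMod.val_one_eq_one_mod]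
    exact Nat.mod_eq_of_lt hn2
  have htr := trace_eq_zero_of_conv_idem hM (orderOf gb) 1 (by rwa [pow_one]) E hER hE 1
    (by rw [h1val, pow_one]; exact fun h => hp.one_lt.ne' (Nat.dvd_one.mp h))
  rw [Matrix.trace] at htr
  simp only [Matrix.diag_apply, hEdef, h1val, pow_one, hacl g] at htr
  rw [Finset.sum_const, nsmul_eq_mul] at htr
  have hY : ((Finset.univ : Finset ((G ⧸ D) ⧸ Subgroup.zpowers gb)).card : ℂ) ≠ 0 := by
    rw [Finset.card_univ]
    exact_mod_cast Fintype.card_ne_zero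
  have hDc : (Nat.card D : ℂ) ≠ 0 := by exact_mod_cast Nat.card_pos.ne'
  have h2 := (mul_eq_zero.1 htr).resolve_left hY
  have h3 := (mul_eq_zero.1 h2).resolve_left hDc
  exact (mul_eq_zero.1 h3).resolve_left hν0

end main

end Cfsg.Agent.Helper78
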