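import Mathlib
import Cfsg.Prelude.Def_Blocks
import Cfsg.Agent.Lib.Helper78.TwistOsima
import Cfsg.Agent.Lib.Helper78.DefectClass
import Cfsg.Agent.Lib.Helper74.DefectZero
import Cfsg.Agent.Lib.Helper79.LinearDeg
import Cfsg.Agent.Lib.Helper79.Restrict
import Cfsg.Agent.Lib.Helper16.PPart
import Cfsg.Agent.Lib.Helper78.CharOrtho
import Cfsg.Agent.Lib.Helper78.BlockRank
import Cfsg.Agent.Lib.Helper74.DimBlock
import Cfsg.Agent.Lib.Helper77.DefectInd

/-!
# Laradji's theorem on central defect groups (helper78)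
-/

set_option autoImplicit false
set_option linter.unusedSectionVars false
set_option linter.style.haveILetI false

namespace Cfsg.Agent.Helper78

open Cfsg
open Cfsg.Agent.Helper77 Cfsg.Agent.Helper16
open scoped ComplexConjugate

universe u

section vanish

variable {G : Type u} [Group G] [Fintype G] {p : ℕ} [hpf : Fact p.Prime] {M : Ideal AlgInt}

/-- the image in `G ⧸ D` of an element whose `p`-part lies outside `D` is `p`-singular -/
theorem dvd_orderOf_mk_of_isPPart (D : Subgroup G) [D.Normal] (g x : G) (h : IsPPart p g x)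
    (hx : x ∉ D) : p ∣ orderOf (QuotientGroup.mk g : G ⧸ D) := by
  have hp : p.Prime := hpf.out
  obtain ⟨y, hxy, hc, ⟨k, hk⟩, hy⟩ := h
  have h1 : orderOf (QuotientGroup.mk x : G ⧸ D) ∣ p ^ k := by
    rw [← hk]
    apply orderOf_dvd_of_pow_eq_one
    rw [← QuotientGroup.mk_pow, pow_orderOf_eq_one, QuotientGroup.mk_one]
  have h2 : orderOf (QuotientGroup.mk y : G ⧸ D) ∣ orderOf y := by
    apply orderOf_dvd_of_pow_eq_one
    rw [← QuotientGroup.mk_pow, pow_orderOf_eq_one, QuotientGroup.mk_one]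
  obtain ⟨j, -, hj⟩ := (Nat.dvd_prime_pow hp).1 h1
  have hj0 : j ≠ 0 := by
    rintro rfl
    rw [pow_zero, orderOf_eq_one_iff, QuotientGroup.eq_one_iff] at hj
    exact hx hj
  have hcop : (orderOf (QuotientGroup.mk x : G ⧸ D)).Coprime
      (orderOf (QuotientGroup.mk y : G ⧸ D)) := by
    rw [hj]
    apply Nat.Coprime.pow_left
    rw [Nat.Prime.coprime_iff_not_dvd hp]
    exact fun h => hy (dvd_trans h h2)
  have hcomm : Commute (QuotientGroup.mk x : G ⧸ D) (QuotientGroup.mk y : G ⧸ D) := by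
    unfold Commute SemiconjBy
    rw [← QuotientGroup.mk_mul, ← QuotientGroup.mk_mul, hc.eq]
  rw [← hxy, QuotientGroup.mk_mul, hcomm.orderOf_mul_eq_mul_orderOf_of_coprime hcop, hj]
  exact dvd_mul_of_dvd_left (dvd_pow_self p hj0) _

/-- the central character of `χ` on the centre is multiplicative on powers -/
theorem irr_central_pow (χ : IrrCharacter G) (z : G) (hz : z ∈ Subgroup.center G) (j : ℕ) :
    (χ : G → ℂ) (z ^ j) / (χ : G → ℂ) 1 = ((χ : G → ℂ) z / (χ : G → ℂ) 1) ^ j := by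
  have h1 : (χ : G → ℂ) 1 ≠ 0 := Cfsg.Agent.Helper80.irr_one_ne_zero χ
  induction j with
  | zero => rw [pow_zero, pow_zero, div_self h1]
  | succ j ih =>
    rw [pow_succ', pow_succ', ← ih]
    have := Cfsg.Agent.Helper79.irr_central_mul χ z hz (z ^ j)
    field_simp
    rw [this]

/-- **Laradji, vanishing part.** -/
theorem irr_vanish_of_central (hM : IsPModular p M) (D : Subgroup G) [hDn : D.Normal]
    (hDZ : D ≤ Subgroup.center G) (χ : IrrCharacter G)
    (hdeg : D.index.factorization p ≤ (charDegree (χ : G → ℂ)).factorization p) (g : G)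
    (hg : p ∣ orderOf (QuotientGroup.mk g : G ⧸ D)) : (χ : G → ℂ) g = 0 := by
  classical
  have hp : p.Prime := hpf.out
  haveI hprime := isPrime_of_isPModular hM
  have hχ1 : (χ : G → ℂ) 1 ≠ 0 := Cfsg.Agent.Helper80.irr_one_ne_zero χ
  have hGc : (Nat.card G : ℂ) ≠ 0 := by exact_mod_cast Nat.card_pos.ne'
  have hkey : ∀ z ∈ D, ∀ w : G, (χ : G → ℂ) (w * z) =
      ((χ : G → ℂ) z / (χ : G → ℂ) 1) * (χ : G → ℂ) w := by
    intro z hz w
    have h1 := Cfsg.Agent.Helper79.irr_central_mul χ z (hDZ hz) w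
    rw [(Subgroup.mem_center_iff.1 (hDZ hz)) w]
    field_simp
    exact h1
  have h0 := twisted_osima hM D hDZ (blockCoeff {χ}) (isClassFunction_blockCoeff {χ})
    (conv_blockCoeff_self {χ}) (fun z => conj ((χ : G → ℂ) z / (χ : G → ℂ) 1)) ?_ ?_ ?_ g hg
  · rw [Cfsg.Agent.Helper74.DZ.blockCoeff_singleton] at h0
    have h1 := (mul_eq_zero.1 h0).resolve_left (inv_ne_zero hGc)
    have h2 := (mul_eq_zero.1 h1).resolve_left hχ1
    have h3 := congrArg conj h2
    rwa [Complex.conj_conj, map_zero] at h3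
  · intro z hz w
    rw [Cfsg.Agent.Helper74.DZ.blockCoeff_singleton, Cfsg.Agent.Helper74.DZ.blockCoeff_singleton,
      hkey z hz w, map_mul]
    ring
  · intro z hz
    refine ⟨orderOf z, orderOf_pos z, ?_⟩
    rw [← map_pow, ← irr_central_pow χ z (hDZ hz), pow_orderOf_eq_one, div_self hχ1, map_one]
  · intro w
    rw [Cfsg.Agent.Helper74.DZ.blockCoeff_singleton]
    have h1 : (Nat.card D : ℂ) * ((Nat.card G : ℂ)⁻¹ * ((χ : G → ℂ) 1 * conj ((χ : G → ℂ) w))) =
        ((charDegree (χ : G → ℂ) : ℂ) / (D.index : ℂ)) * conj ((χ : G → ℂ) w) := by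
      have h2 := Subgroup.card_mul_index D
      have h3 : (Nat.card G : ℂ) = (Nat.card D : ℂ) * (D.index : ℂ) := by
        rw [← h2]; push_cast; ring
      have hDc : (Nat.card D : ℂ) ≠ 0 := by exact_mod_cast Nat.card_pos.ne'
      have hIc : (D.index : ℂ) ≠ 0 := by
        exact_mod_cast (Subgroup.index_ne_zero_of_finite (H := D))
      rw [h3, (Cfsg.Agent.Helper79.irr_one_eq χ).1]
      field_simp
    rw [h1]
    apply memLocalRing_mul
    · exact memLocalRing_natCast_div hM _ _ Subgroup.index_ne_zero_of_finite hdeg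
    · have hint : IsIntegral ℤ (conj ((χ : G → ℂ) w)) := by
        rw [← Cfsg.Agent.Helper80.irr_inv]
        exact Cfsg.Agent.Helper79.irr_isIntegral χ w⁻¹
      exact memLocalRing_algInt hprime.ne_top ⟨_, hint⟩

/-- Summing a `D`-invariant function vanishing at the elements with `p`-singular image. -/
theorem sum_eq_card_mul_sum_regular (D : Subgroup G) [hDn : D.Normal] (hD : IsPGroup p D)
    (hDZ : D ≤ Subgroup.center G) (F : G → ℂ) (hF : ∀ u : G, ∀ z ∈ D, F (u * z) = F u)
    (hvan : ∀ u : G, p ∣ orderOf (QuotientGroup.mk u : G ⧸ D) → F u = 0) :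
    ∑ u : G, F u = (Nat.card D : ℂ) *
      ∑ y ∈ Finset.univ.filter (fun y : G => ¬ p ∣ orderOf y), F y := by
  classical
  have hp : p.Prime := hpf.out
  haveI : Fintype (G ⧸ D) := Fintype.ofFinite _
  rw [sum_eq_card_mul_sum_quot D F hF]
  congr 1
  have h1 : ∑ q : G ⧸ D, F (Quotient.out q) =
      ∑ q ∈ Finset.univ.filter (fun q : G ⧸ D => ¬ p ∣ orderOf q), F (Quotient.out q) := by
    symm
    apply Finset.sum_filter_of_ne
    intro q _ hq hdvd
    apply hq
    apply hvan
    rw [QuotientGroup.out_eq']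
    exact hdvd
  rw [h1]
  symm
  refine Finset.sum_bij (fun y _ => (QuotientGroup.mk y : G ⧸ D)) ?_ ?_ ?_ ?_
  · intro y hy
    rw [Finset.mem_filter] at hy ⊢
    refine ⟨Finset.mem_univ _, fun h => hy.2 (dvd_trans h ?_)⟩
    apply orderOf_dvd_of_pow_eq_one
    rw [← QuotientGroup.mk_pow, pow_orderOf_eq_one, QuotientGroup.mk_one]
  · intro y hy y' hy' h
    rw [Finset.mem_filter] at hy hy'
    have hc : y⁻¹ * y' ∈ D := QuotientGroup.eq.1 h
    obtain ⟨j, hj⟩ := (IsPGroup.iff_orderOf.1 hD) ⟨y⁻¹ * y', hc⟩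
    rw [Subgroup.orderOf_mk] at hj
    have hcomm : Commute y (y⁻¹ * y') := Subgroup.mem_center_iff.1 (hDZ hc) y
    have hcop : (orderOf y).Coprime (orderOf (y⁻¹ * y')) := by
      rw [hj]
      apply Nat.Coprime.pow_right
      exact ((Nat.Prime.coprime_iff_not_dvd hp).2 hy.2).symm
    have h2 := hcomm.orderOf_mul_eq_mul_orderOf_of_coprime hcop
    rw [mul_inv_cancel_left] at h2
    have hj0 : j = 0 := by
      by_contra hne
      apply hy'.2
      rw [h2, hj]
      exact dvd_mul_of_dvd_right (dvd_pow_self p hne) _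
    rw [hj0, pow_zero, orderOf_eq_one_iff] at hj
    exact (inv_mul_eq_one.1 hj)
  · intro q hq
    rw [Finset.mem_filter] at hq
    obtain ⟨x, hx⟩ := exists_isPPart hp (Quotient.out q : G)
    have hxD : x ∈ D := by
      by_contra hxD
      have := dvd_orderOf_mk_of_isPPart D _ x hx hxD
      rw [QuotientGroup.out_eq'] at this
      exact hq.2 this
    obtain ⟨y, hxy, hc, hxo, hyo⟩ := hx
    refine ⟨y, ?_, ?_⟩
    · rw [Finset.mem_filter]
      exact ⟨Finset.mem_univ _, hyo⟩
    · have h2 : (QuotientGroup.mk (x * y) : G ⧸ D) = q := by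
        rw [hxy, QuotientGroup.out_eq']
      rw [QuotientGroup.mk_mul, (QuotientGroup.eq_one_iff x).2 hxD, one_mul] at h2
      exact h2
  · intro y hy
    exact (apply_out_mk D F hF y).symm

end vanish

section defect

variable {G : Type u} [Group G] [Fintype G] {p : ℕ} [hpf : Fact p.Prime] {M : Ideal AlgInt}

/-- central characters have norm one on the centre -/
theorem irr_central_norm (χ : IrrCharacter G) (z : G) (hz : z ∈ Subgroup.center G) :
    ((χ : G → ℂ) z / (χ : G → ℂ) 1) * conj ((χ : G → ℂ) z / (χ : G → ℂ) 1) = 1 := by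
  have h1 := Cfsg.Agent.Helper79.irr_normSq_central χ z hz
  have h2 := (Cfsg.Agent.Helper79.irr_one_eq χ)
  have h3 : (charDegree (χ : G → ℂ) : ℂ) ≠ 0 := by exact_mod_cast h2.2.ne'
  rw [Complex.mul_conj, Complex.normSq_div, h1, h2.1, Complex.normSq_natCast]
  have h4 : ((charDegree (χ : G → ℂ) : ℕ) : ℝ) ≠ 0 := by exact_mod_cast h2.2.ne'
  rw [← sq, div_self (pow_ne_zero 2 h4)]
  norm_num

/-- the key multiplicativity of an irreducible character under central translation -/
theorem irr_mul_central' (χ : IrrCharacter G) (z : G) (hz : z ∈ Subgroup.center G) (w : G) :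
    (χ : G → ℂ) (w * z) = ((χ : G → ℂ) z / (χ : G → ℂ) 1) * (χ : G → ℂ) w := by
  have hχ1 : (χ : G → ℂ) 1 ≠ 0 := Cfsg.Agent.Helper80.irr_one_ne_zero χ
  have h1 := Cfsg.Agent.Helper79.irr_central_mul χ z hz w
  rw [(Subgroup.mem_center_iff.1 hz) w]
  field_simp
  exact h1

/-- the `p`-regular norm of a character as in Laradji's theorem -/
theorem sum_regular_normSq_of_central (hM : IsPModular p M) (D : Subgroup G) [hDn : D.Normal]
    (hD : IsPGroup p D) (hDZ : D ≤ Subgroup.center G) (χ : IrrCharacter G)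
    (hdeg : D.index.factorization p ≤ (charDegree (χ : G → ℂ)).factorization p) :
    (Nat.card D : ℂ) * ∑ y ∈ Finset.univ.filter (fun y : G => ¬ p ∣ orderOf y),
      (χ : G → ℂ) y * conj ((χ : G → ℂ) y) = (Nat.card G : ℂ) := by
  classical
  rw [← sum_eq_card_mul_sum_regular D hD hDZ (fun u => (χ : G → ℂ) u * conj ((χ : G → ℂ) u))]
  · have h1 := classInner_irr_self χ
    unfold classInner at h1
    have hG : (Nat.card G : ℂ) ≠ 0 := by exact_mod_cast Nat.card_pos.ne'
    field_simp at h1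
    exact h1
  · intro u z hz
    rw [irr_mul_central' χ z (hDZ hz) u, map_mul]
    calc (χ : G → ℂ) z / (χ : G → ℂ) 1 * (χ : G → ℂ) u *
        (conj ((χ : G → ℂ) z / (χ : G → ℂ) 1) * conj ((χ : G → ℂ) u)) =
        ((χ : G → ℂ) z / (χ : G → ℂ) 1 * conj ((χ : G → ℂ) z / (χ : G → ℂ) 1)) *
          ((χ : G → ℂ) u * conj ((χ : G → ℂ) u)) := by ring
      _ = _ := by rw [irr_central_norm χ z (hDZ hz), one_mul]
  · intro u hu
    rw [irr_vanish_of_central hM D hDZ χ hdeg u hu, zero_mul]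

/-- a ratio of naturals with equal `p`-adic valuation is a local unit -/
theorem not_memLocalIdeal_natCast_div (hM : IsPModular p M) (n m : ℕ) (hn : n ≠ 0) (hm : m ≠ 0)
    (h : n.factorization p = m.factorization p) : ¬ MemLocalIdeal M ((n : ℂ) / (m : ℂ)) := by
  haveI hprime := isPrime_of_isPModular hM
  intro hcon
  have h1 := memLocalRing_natCast_div hM m n hn (le_of_eq h)
  have h2 := memLocalIdeal_mul_right hcon h1
  have hn' : (n : ℂ) ≠ 0 := by exact_mod_cast hn
  have hm' : (m : ℂ) ≠ 0 := by exact_mod_cast hm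
  have h3 : (n : ℂ) / (m : ℂ) * ((m : ℂ) / (n : ℂ)) = 1 := by field_simp
  rw [h3] at h2
  exact not_memLocalIdeal_one h2

/-- the normality of a central subgroup -/
theorem normal_of_le_center' (D : Subgroup G) (hDZ : D ≤ Subgroup.center G) : D.Normal := by
  constructor
  intro n hn g
  have h1 := Subgroup.mem_center_iff.1 (hDZ hn) g
  rw [h1, mul_assoc, mul_inv_cancel, mul_one]
  exact hn

/-- the `p`-regular inner product with `χ` does not vanish on the block of `χ` -/
theorem sum_regular_ne_zero_of_sameBlock (hM : IsPModular p M) (D : Subgroup G) [hDn : D.Normal]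
    (hD : IsPGroup p D) (hDZ : D ≤ Subgroup.center G) (χ : IrrCharacter G)
    (hdeg : (charDegree (χ : G → ℂ)).factorization p = D.index.factorization p)
    (ψ : IrrCharacter G) (hψ : SameBlock M (χ : G → ℂ) (ψ : G → ℂ)) :
    ∑ y ∈ Finset.univ.filter (fun y : G => ¬ p ∣ orderOf y),
      conj ((χ : G → ℂ) y) * (ψ : G → ℂ) y ≠ 0 := by
  classical
  haveI hprime := isPrime_of_isPModular hM
  have hχ1 : (χ : G → ℂ) 1 ≠ 0 := Cfsg.Agent.Helper80.irr_one_ne_zero χ
  have hψ1 : (ψ : G → ℂ) 1 ≠ 0 := Cfsg.Agent.Helper80.irr_one_ne_zero ψ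
  obtain ⟨a, ha⟩ : ∃ a : G → ℂ, a = pRegularPart p (fun g => conj ((χ : G → ℂ) g)) := ⟨_, rfl⟩
  have hconjcl : IsClassFunction G (fun g => conj ((χ : G → ℂ) g)) := by
    intro g h
    show conj ((χ : G → ℂ) (h * g * h⁻¹)) = conj ((χ : G → ℂ) g)
    rw [isClassFunction_of_isIrrCharacter χ.2 g h]
  have hcl : IsClassFunction G a := by
    rw [ha]
    exact isClassFunction_pRegularPart p hconjcl
  have hR : IsRValued M a := by
    intro g
    rw [ha]
    by_cases hg : p ∣ orderOf g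
    · rw [pRegularPart_of_singular p _ hg]
      exact memLocalRing_zero hprime.ne_top
    · rw [pRegularPart_of_regular p _ hg]
      have hint : IsIntegral ℤ (conj ((χ : G → ℂ) g)) := by
        rw [← Cfsg.Agent.Helper80.irr_inv]
        exact Cfsg.Agent.Helper79.irr_isIntegral χ g⁻¹
      exact memLocalRing_algInt hprime.ne_top ⟨_, hint⟩
  have hsum : ∀ φ : G → ℂ, ∑ g : G, a g * φ g =
      ∑ y ∈ Finset.univ.filter (fun y : G => ¬ p ∣ orderOf y), conj ((χ : G → ℂ) y) * φ y := by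
    intro φ
    rw [Finset.sum_filter]
    refine Finset.sum_congr rfl fun g _ => ?_
    rw [ha]
    by_cases hg : p ∣ orderOf g
    · rw [pRegularPart_of_singular p _ hg, if_neg (not_not.2 hg), zero_mul]
    · rw [pRegularPart_of_regular p _ hg, if_pos hg]
  have hsub := memLocalIdeal_omega_sub χ.2 ψ.2 hψ hcl hR
  intro h0
  have h1 : omega (ψ : G → ℂ) a = 0 := by
    unfold omega
    rw [hsum, h0, zero_div]
  rw [h1, sub_zero] at hsub
  have h2 : omega (χ : G → ℂ) a = ((D.index : ℕ) : ℂ) / ((charDegree (χ : G → ℂ) : ℕ) : ℂ) := by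
    unfold omega
    rw [hsum]
    have h3 := sum_regular_normSq_of_central hM D hD hDZ χ (le_of_eq hdeg.symm)
    have h4 := Subgroup.card_mul_index D
    have h5 : (Nat.card G : ℂ) = (Nat.card D : ℂ) * (D.index : ℂ) := by
      rw [← h4]; push_cast; ring
    have hDc : (Nat.card D : ℂ) ≠ 0 := by exact_mod_cast Nat.card_pos.ne'
    rw [h5] at h3
    have h6 := mul_left_cancel₀ hDc h3
    have h7 : ∑ y ∈ Finset.univ.filter (fun y : G => ¬ p ∣ orderOf y),
        conj ((χ : G → ℂ) y) * (χ : G → ℂ) y = (D.index : ℂ) := by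
      rw [← h6]
      exact Finset.sum_congr rfl fun y _ => mul_comm _ _
    rw [h7, (Cfsg.Agent.Helper79.irr_one_eq χ).1]
  rw [h2] at hsub
  exact not_memLocalIdeal_natCast_div hM _ _ Subgroup.index_ne_zero_of_finite
    (Cfsg.Agent.Helper79.irr_one_eq χ).2.ne' hdeg.symm hsub

/-- in the block of `χ`, only `χ` has the same central character on `D` -/
theorem eq_of_sameBlock_of_central_eq (hM : IsPModular p M) (D : Subgroup G) [hDn : D.Normal]
    (hD : IsPGroup p D) (hDZ : D ≤ Subgroup.center G) (χ : IrrCharacter G)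
    (hdeg : (charDegree (χ : G → ℂ)).factorization p = D.index.factorization p)
    (ψ : IrrCharacter G) (hψ : SameBlock M (χ : G → ℂ) (ψ : G → ℂ))
    (hlam : ∀ z ∈ D, (ψ : G → ℂ) z / (ψ : G → ℂ) 1 = (χ : G → ℂ) z / (χ : G → ℂ) 1) :
    ψ = χ := by
  classical
  by_contra hne
  have h1 := sum_regular_ne_zero_of_sameBlock hM D hD hDZ χ hdeg ψ hψ
  apply h1
  have h2 := sum_eq_card_mul_sum_regular D hD hDZ
    (fun u => conj ((χ : G → ℂ) u) * (ψ : G → ℂ) u) ?_ ?_
  · have h3 : ∑ u : G, conj ((χ : G → ℂ) u) * (ψ : G → ℂ) u = 0 := by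
      have h4 := classInner_irr_ne hne
      unfold classInner at h4
      have hG : (Nat.card G : ℂ)⁻¹ ≠ 0 := by
        apply inv_ne_zero
        exact_mod_cast Nat.card_pos.ne'
      have h5 := (mul_eq_zero.1 h4).resolve_left hG
      rw [← h5]
      exact Finset.sum_congr rfl fun u _ => mul_comm _ _
    rw [h3] at h2
    have hDc : (Nat.card D : ℂ) ≠ 0 := by exact_mod_cast Nat.card_pos.ne'
    exact (mul_eq_zero.1 h2.symm).resolve_left hDc
  · intro u z hz
    show conj ((χ : G → ℂ) (u * z)) * (ψ : G → ℂ) (u * z) =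
      conj ((χ : G → ℂ) u) * (ψ : G → ℂ) u
    rw [irr_mul_central' χ z (hDZ hz) u, irr_mul_central' ψ z (hDZ hz) u, hlam z hz, map_mul]
    calc conj ((χ : G → ℂ) z / (χ : G → ℂ) 1) * conj ((χ : G → ℂ) u) *
        ((χ : G → ℂ) z / (χ : G → ℂ) 1 * (ψ : G → ℂ) u) =
        ((χ : G → ℂ) z / (χ : G → ℂ) 1 * conj ((χ : G → ℂ) z / (χ : G → ℂ) 1)) *
          (conj ((χ : G → ℂ) u) * (ψ : G → ℂ) u) := by ring
      _ = _ := by rw [irr_central_norm χ z (hDZ hz), one_mul]
  · intro u hu
    show conj ((χ : G → ℂ) u) * (ψ : G → ℂ) u = 0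
    rw [irr_vanish_of_central hM D hDZ χ (le_of_eq hdeg.symm) u hu, map_zero, zero_mul]

/-- central characters are multiplicative on the centre -/
theorem irr_central_mul_div (χ : IrrCharacter G) (z z' : G) (hz' : z' ∈ Subgroup.center G) :
    (χ : G → ℂ) (z * z') / (χ : G → ℂ) 1 =
      ((χ : G → ℂ) z / (χ : G → ℂ) 1) * ((χ : G → ℂ) z' / (χ : G → ℂ) 1) := by
  rw [irr_mul_central' χ z' hz' z]
  ring

/-- orthogonality of distinct multiplicative functions on a subgroup -/
theorem sum_mul_conj_eq_zero_of_ne (D : Subgroup G) [Fintype D] (α β : G → ℂ)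
    (hα : ∀ z z' : G, z' ∈ D → α (z * z') = α z * α z')
    (hβ : ∀ z z' : G, z' ∈ D → β (z * z') = β z * β z')
    (hβn : ∀ z ∈ D, β z * conj (β z) = 1) (z₁ : G) (hz₁ : z₁ ∈ D) (hne : α z₁ ≠ β z₁) :
    ∑ z : D, α (z : G) * conj (β (z : G)) = 0 := by
  have h1 : ∑ z : D, α (z : G) * conj (β (z : G)) =
      (α z₁ * conj (β z₁)) * ∑ z : D, α (z : G) * conj (β (z : G)) := by
    rw [Finset.mul_sum, ← Equiv.sum_comp (Equiv.mulLeft (⟨z₁, hz₁⟩ : D))]
    refine Finset.sum_congr rfl fun z _ => ?_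
    rw [Equiv.coe_mulLeft]
    push_cast
    rw [hα z₁ z z.2, hβ z₁ z z.2, map_mul]
    ring
  have h2 : α z₁ * conj (β z₁) ≠ 1 := by
    intro h
    apply hne
    have h3 : α z₁ * conj (β z₁) * β z₁ = β z₁ := by rw [h, one_mul]
    rw [mul_assoc, mul_comm (conj (β z₁)), hβn z₁ hz₁, mul_one] at h3
    exact h3
  have h3 : (α z₁ * conj (β z₁) - 1) * ∑ z : D, α (z : G) * conj (β (z : G)) = 0 := by
    rw [sub_mul, one_mul, ← h1, sub_self]
  exact (mul_eq_zero.1 h3).resolve_left (sub_ne_zero.2 h2)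

/-- the dimension of the block of `χ` -/
theorem dimBlock_of_central (hM : IsPModular p M) (D : Subgroup G) [hDn : D.Normal]
    (hD : IsPGroup p D) (hDZ : D ≤ Subgroup.center G) (χ : IrrCharacter G)
    (hdeg : (charDegree (χ : G → ℂ)).factorization p = D.index.factorization p) :
    Cfsg.Agent.Helper74.BF.dimBlock (blockOf M (χ : G → ℂ)) =
      Nat.card D * charDegree (χ : G → ℂ) ^ 2 := by
  classical
  have hp : p.Prime := hpf.out
  haveI hprime := isPrime_of_isPModular hM
  haveI : Fintype D := Fintype.ofFinite _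
  have hB : IsPBlock M (blockOf M (χ : G → ℂ)) := isPBlock_blockOf χ
  have hχB : χ ∈ blockOf M (χ : G → ℂ) := mem_blockOf_self χ
  have hGc : (Nat.card G : ℂ) ≠ 0 := by exact_mod_cast Nat.card_pos.ne'
  have hχ1 : (χ : G → ℂ) 1 ≠ 0 := Cfsg.Agent.Helper80.irr_one_ne_zero χ
  obtain ⟨Bf, hBf⟩ : ∃ Bf : Finset (IrrCharacter G),
      Bf = (Set.toFinite (blockOf M (χ : G → ℂ))).toFinset := ⟨_, rfl⟩
  have hmemBf : ∀ ψ, ψ ∈ Bf ↔ ψ ∈ blockOf M (χ : G → ℂ) := by
    intro ψ; rw [hBf, Set.Finite.mem_toFinset]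
  -- the weighted sum of block coefficients over `D`
  have hT1 : ∑ z : D, ((χ : G → ℂ) (z : G) / (χ : G → ℂ) 1) *
      blockCoeff (blockOf M (χ : G → ℂ)) (z : G) = blockCoeff (blockOf M (χ : G → ℂ)) 1 := by
    rw [Finset.sum_eq_single (1 : D)]
    · rw [Subgroup.coe_one, div_self hχ1, one_mul]
    · intro z _ hz
      have hz1 : (z : G) ≠ 1 := fun h => hz (Subtype.ext h)
      rw [blockCoeff_eq_zero_of_singular hM hB (z : G)
        (Cfsg.Agent.Helper74.BF.dvd_orderOf_of_mem_pGroup hD z.2 hz1), mul_zero]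
    · intro h; exact absurd (Finset.mem_univ _) h
  have hT2 : ∑ z : D, ((χ : G → ℂ) (z : G) / (χ : G → ℂ) 1) *
      blockCoeff (blockOf M (χ : G → ℂ)) (z : G) =
      (Nat.card G : ℂ)⁻¹ * ((Nat.card D : ℂ) * (χ : G → ℂ) 1 ^ 2) := by
    have h1 : ∀ z : D, ((χ : G → ℂ) (z : G) / (χ : G → ℂ) 1) *
        blockCoeff (blockOf M (χ : G → ℂ)) (z : G) =
        (Nat.card G : ℂ)⁻¹ * ∑ ψ ∈ Bf, (ψ : G → ℂ) 1 ^ 2 *
          (((χ : G → ℂ) (z : G) / (χ : G → ℂ) 1) *
            conj ((ψ : G → ℂ) (z : G) / (ψ : G → ℂ) 1)) := by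
      intro z
      rw [blockCoeff_eq_sum, ← hBf, Finset.mul_sum, Finset.mul_sum, Finset.mul_sum]
      refine Finset.sum_congr rfl fun ψ _ => ?_
      have hψ1 : (ψ : G → ℂ) 1 ≠ 0 := Cfsg.Agent.Helper80.irr_one_ne_zero ψ
      have hc1 : conj ((ψ : G → ℂ) 1) = (ψ : G → ℂ) 1 := by
        rw [(Cfsg.Agent.Helper79.irr_one_eq ψ).1, Complex.conj_natCast]
      rw [map_div₀, hc1]
      field_simp
    rw [Finset.sum_congr rfl (fun z _ => h1 z), ← Finset.mul_sum, Finset.sum_comm]
    congr 1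
    rw [Finset.sum_eq_single χ]
    · rw [← Finset.mul_sum, mul_comm]
      congr 1
      rw [Finset.sum_congr rfl (fun (z : D) _ => irr_central_norm χ (z : G) (hDZ z.2)),
        Finset.sum_const, Finset.card_univ, nsmul_eq_mul, mul_one, Nat.card_eq_fintype_card]
    · intro ψ hψ hne
      rw [← Finset.mul_sum]
      have hsame : SameBlock M (χ : G → ℂ) (ψ : G → ℂ) := (hmemBf ψ).1 hψ
      have hex : ∃ z ∈ D, (χ : G → ℂ) z / (χ : G → ℂ) 1 ≠ (ψ : G → ℂ) z / (ψ : G → ℂ) 1 := by
        by_contra hcon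
        push Not at hcon
        exact hne (eq_of_sameBlock_of_central_eq hM D hD hDZ χ hdeg ψ hsame
          (fun z hz => (hcon z hz).symm))
      obtain ⟨z₁, hz₁, hne1⟩ := hex
      rw [sum_mul_conj_eq_zero_of_ne D (fun z => (χ : G → ℂ) z / (χ : G → ℂ) 1)
        (fun z => (ψ : G → ℂ) z / (ψ : G → ℂ) 1)
        (fun z z' hz' => irr_central_mul_div χ z z' (hDZ hz'))
        (fun z z' hz' => irr_central_mul_div ψ z z' (hDZ hz'))
        (fun z hz => irr_central_norm ψ z (hDZ hz)) z₁ hz₁ hne1, mul_zero]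
    · intro h
      exact absurd ((hmemBf χ).2 hχB) h
  have hT3 : blockCoeff (blockOf M (χ : G → ℂ)) 1 =
      (Nat.card G : ℂ)⁻¹ * (Cfsg.Agent.Helper74.BF.dimBlock (blockOf M (χ : G → ℂ)) : ℂ) := by
    rw [blockCoeff_eq_sum]
    congr 1
    unfold Cfsg.Agent.Helper74.BF.dimBlock
    push_cast
    refine Finset.sum_congr rfl fun ψ _ => ?_
    rw [(Cfsg.Agent.Helper79.irr_one_eq ψ).1, Complex.conj_natCast]
    ring
  rw [hT1, hT3] at hT2
  have h5 := mul_left_cancel₀ (inv_ne_zero hGc) hT2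
  rw [(Cfsg.Agent.Helper79.irr_one_eq χ).1] at h5
  exact_mod_cast h5

/-- **Laradji, defect group part.** -/
theorem isDefectGroup_of_central (hM : IsPModular p M) (D : Subgroup G)
    (hD : IsPGroup p D) (hDZ : D ≤ Subgroup.center G) (χ : IrrCharacter G)
    (hdeg : (charDegree (χ : G → ℂ)).factorization p = D.index.factorization p) :
    IsDefectGroup p M (blockOf M (χ : G → ℂ)) D := by
  classical
  have hp : p.Prime := hpf.out
  haveI hprime := isPrime_of_isPModular hM
  haveI hDn : D.Normal := normal_of_le_center' D hDZ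
  have hB : IsPBlock M (blockOf M (χ : G → ℂ)) := isPBlock_blockOf χ
  have hdim := dimBlock_of_central hM D hD hDZ χ hdeg
  have hfac := Cfsg.Agent.Helper74.BF.dimBlock_factorization hM hB
  have hdpos : charDegree (χ : G → ℂ) ≠ 0 := (Cfsg.Agent.Helper79.irr_one_eq χ).2.ne'
  have hDpos : Nat.card D ≠ 0 := Nat.card_pos.ne'
  have hipos : D.index ≠ 0 := Subgroup.index_ne_zero_of_finite
  rw [hdim, Nat.factorization_mul hDpos (pow_ne_zero 2 hdpos), Nat.factorization_pow,
    Finsupp.add_apply, Finsupp.smul_apply, smul_eq_mul, hdeg] at hfac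
  have hG : (Nat.card G).factorization p =
      (Nat.card D).factorization p + D.index.factorization p := by
    rw [← Subgroup.card_mul_index D, Nat.factorization_mul hDpos hipos, Finsupp.add_apply]
  have hmin : Cfsg.Agent.Helper74.DO.minVal p (blockOf M (χ : G → ℂ)) =
      D.index.factorization p := by omega
  have hdef : blockDefect p (blockOf M (χ : G → ℂ)) = (Nat.card D).factorization p := by
    rw [Cfsg.Agent.Helper74.DO.blockDefect_eq, hmin, hG]
    omega
  obtain ⟨g, hg⟩ := exists_isDefectClass hB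
  have hDg : D ≤ Subgroup.centralizer ({g} : Set G) := by
    intro z hz
    rw [Subgroup.mem_centralizer_iff]
    intro w hw
    rw [Set.mem_singleton_iff] at hw
    subst hw
    exact Subgroup.mem_center_iff.1 (hDZ hz) w
  obtain ⟨E, hE, hDE⟩ := exists_isDefectGroup_ge hg D hD hDg
  have hcardE := Cfsg.Agent.Helper74.DO.card_defectGroup hM hB E hE
  obtain ⟨n, hn⟩ := hD.exists_card_eq
  have hn' : (Nat.card D).factorization p = n := by
    rw [hn, hp.factorization_pow, Finsupp.single_eq_same]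
  rw [hdef, hn', ← hn] at hcardE
  have hEq : D = E := Subgroup.eq_of_le_of_card_ge hDE (le_of_eq hcardE)
  rw [hEq]
  exact hE

end defect

end Cfsg.Agent.Helper78
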