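import Mathlib
import Cfsg.Prelude.Def_Blocks
import Cfsg.Prelude.Def_BlockRank
import Cfsg.Agent.Lib.Helper78.CentralDefect
import Cfsg.Agent.Lib.Helper78.Domination2

/-!
# Quotients by a normal `p`-subgroup centralized by all `p`-regular elements (helper78)

Let `Q` be a normal `p`-subgroup of `G` such that every `p`-regular element of `G` centralizes `Q`
(for instance `G = Q C_G(Q)`).

* `regular_mem_centralizer_of_sup` : the hypothesis holds when `Q ⊔ C_G(Q) = ⊤`.
* `regular_expansion` : on `p`-regular elements every irreducible character of `G` is a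
  combination of characters inflated from `G ⧸ Q`.
* `blockRank_eq_deflSet` : `l(B) = l(B̄)` where `B̄` is the set of characters of `G ⧸ Q` inflating
  into the block `B`.
-/

set_option autoImplicit false
set_option linter.unusedSectionVars false

namespace Cfsg.Agent.Helper78

open Cfsg
open Cfsg.Agent.Helper77
open Cfsg.Agent.Helper74.DO
open scoped ComplexConjugate

universe u

section pcentral

variable {G : Type u} [Group G] [Fintype G] {p : ℕ} [hpf : Fact p.Prime] {M : Ideal AlgInt}

/-- If `G = Q C_G(Q)` for a normal `p`-subgroup `Q`, every `p`-regular element centralizes `Q`. -/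
theorem regular_mem_centralizer_of_sup (Q : Subgroup G) [hQn : Q.Normal] (hQ : IsPGroup p Q)
    (hsup : Q ⊔ Subgroup.centralizer (Q : Set G) = ⊤) (x : G) (hx : ¬ p ∣ orderOf x) :
    x ∈ Subgroup.centralizer (Q : Set G) := by
  have hp : p.Prime := hpf.out
  apply Cfsg.Agent.Helper16.mem_of_regular_of_pIndex (Subgroup.centralizer (Q : Set G)) ?_ x hx
  have h1 : (Subgroup.centralizer (Q : Set G)).relIndex (Q ⊔ Subgroup.centralizer (Q : Set G)) =
      (Subgroup.centralizer (Q : Set G)).relIndex Q := Subgroup.relIndex_sup_right _ _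
  rw [hsup, Subgroup.relIndex_top_right] at h1
  rw [h1]
  obtain ⟨n, hn⟩ := IsPGroup.iff_card.1 hQ
  have h2 : (Subgroup.centralizer (Q : Set G)).relIndex Q ∣ Nat.card Q :=
    Subgroup.relIndex_dvd_card _ _
  rw [hn] at h2
  obtain ⟨k, -, hk⟩ := (Nat.dvd_prime_pow hp).1 h2
  exact ⟨k, hk⟩

/-- `p`-regular elements with conjugate images modulo `Q` are conjugate. -/
theorem isConj_of_isConj_mk_of_regular (Q : Subgroup G) [hQn : Q.Normal] (hQ : IsPGroup p Q)
    (hreg : ∀ x : G, ¬ p ∣ orderOf x → x ∈ Subgroup.centralizer (Q : Set G))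
    (x y : G) (hx : ¬ p ∣ orderOf x) (hy : ¬ p ∣ orderOf y)
    (h : IsConj (QuotientGroup.mk x : G ⧸ Q) (QuotientGroup.mk y : G ⧸ Q)) : IsConj x y := by
  have hp : p.Prime := hpf.out
  obtain ⟨c, hc⟩ := isConj_iff.1 h
  obtain ⟨g, rfl⟩ := QuotientGroup.mk_surjective c
  have h1 : (QuotientGroup.mk (g * x * g⁻¹) : G ⧸ Q) = QuotientGroup.mk y := by
    rw [← hc]
    rfl
  rw [QuotientGroup.eq] at h1
  set d := (g * x * g⁻¹)⁻¹ * y with hd
  have hyd : y = (g * x * g⁻¹) * d := by rw [hd]; group
  have hx' : ¬ p ∣ orderOf (g * x * g⁻¹) := by rwa [orderOf_conj_eq]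
  have hdc : Commute (g * x * g⁻¹) d := by
    have := Subgroup.mem_centralizer_iff.1 (hreg _ hx') d h1
    exact this.symm
  obtain ⟨k, hk⟩ := (IsPGroup.iff_orderOf.1 hQ) ⟨d, h1⟩
  rw [Subgroup.orderOf_mk] at hk
  have hd1 : d = 1 := by
    by_contra hne
    apply hy
    rw [hyd]
    exact dvd_orderOf_mul_of_pElement _ _ hx' hdc ⟨k, hk⟩ hne
  rw [isConj_iff]
  refine ⟨g, ?_⟩
  rw [hyd, hd1, mul_one]

/-- Central characters of inflated characters at `p`-regular elements centralizing `Q`. -/
theorem centralChar_inflate_of_regular' (Q : Subgroup G) [hQn : Q.Normal] (hQ : IsPGroup p Q)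
    (ψ : IrrCharacter (G ⧸ Q)) (x : G) (hx : ¬ p ∣ orderOf x)
    (hxc : x ∈ Subgroup.centralizer (Q : Set G)) :
    centralChar (ψ : G ⧸ Q → ℂ) (QuotientGroup.mk x) =
      centralChar (Cfsg.Agent.Helper79.inflate Q ψ : G → ℂ) x := by
  unfold centralChar
  rw [Cfsg.Agent.Helper16.index_centralizer_mk_eq Q hQ x hxc hx,
    Cfsg.Agent.Helper79.inflate_apply, Cfsg.Agent.Helper79.inflate_apply, QuotientGroup.mk_one]

/-- On `p`-regular elements, every irreducible character of `G` is a combination of the
characters inflated from `G ⧸ Q`. -/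
theorem regular_expansion (Q : Subgroup G) [hQn : Q.Normal] (hQ : IsPGroup p Q)
    (hreg : ∀ x : G, ¬ p ∣ orderOf x → x ∈ Subgroup.centralizer (Q : Set G))
    (χ : IrrCharacter G) (x : G) (hx : ¬ p ∣ orderOf x) :
    (Nat.card (G ⧸ Q) : ℂ) * (χ : G → ℂ) x =
      ∑ ψ : IrrCharacter (G ⧸ Q),
        (∑ y ∈ Finset.univ.filter (fun y : G => ¬ p ∣ orderOf y),
          (χ : G → ℂ) y * conj ((Cfsg.Agent.Helper79.inflate Q ψ : G → ℂ) y)) *
          (Cfsg.Agent.Helper79.inflate Q ψ : G → ℂ) x := by
  classical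
  have hp : p.Prime := hpf.out
  have : Fintype (G ⧸ Q) := Fintype.ofFinite _
  have hcol : ∀ y : G, ¬ p ∣ orderOf y →
      ∑ ψ : IrrCharacter (G ⧸ Q), (ψ : G ⧸ Q → ℂ) (QuotientGroup.mk x) *
        conj ((ψ : G ⧸ Q → ℂ) (QuotientGroup.mk y)) =
      classInd x y * (Nat.card (Subgroup.centralizer
        ({(QuotientGroup.mk x : G ⧸ Q)} : Set (G ⧸ Q))) : ℂ) := by
    intro y hy
    rw [sum_irr_mul_conj]
    unfold classInd
    by_cases hc : IsConj x y
    · have hc' : IsConj (QuotientGroup.mk x : G ⧸ Q) (QuotientGroup.mk y : G ⧸ Q) := by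
        obtain ⟨c, hc⟩ := isConj_iff.1 hc
        rw [isConj_iff]
        exact ⟨QuotientGroup.mk c, by rw [← hc]; rfl⟩
      rw [if_pos hc', if_pos hc, one_mul]
    · have hc' : ¬ IsConj (QuotientGroup.mk x : G ⧸ Q) (QuotientGroup.mk y : G ⧸ Q) :=
        fun h => hc (isConj_of_isConj_mk_of_regular Q hQ hreg x y hx hy h)
      rw [if_neg hc', if_neg hc, zero_mul]
  have hidx := Cfsg.Agent.Helper16.index_centralizer_mk_eq Q hQ x (hreg x hx) hx
  have hmul := Subgroup.card_mul_index
    (Subgroup.centralizer ({(QuotientGroup.mk x : G ⧸ Q)} : Set (G ⧸ Q)))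
  calc (Nat.card (G ⧸ Q) : ℂ) * (χ : G → ℂ) x
      = (Nat.card (Subgroup.centralizer
          ({(QuotientGroup.mk x : G ⧸ Q)} : Set (G ⧸ Q))) : ℂ) *
          (((Subgroup.centralizer ({x} : Set G)).index : ℂ) * (χ : G → ℂ) x) := by
        rw [← hmul, hidx]
        push_cast
        ring
    _ = (Nat.card (Subgroup.centralizer
          ({(QuotientGroup.mk x : G ⧸ Q)} : Set (G ⧸ Q))) : ℂ) *
          ∑ y : G, classInd x y * (χ : G → ℂ) y := by rw [sum_classInd_mul]
    _ = ∑ y ∈ Finset.univ.filter (fun y : G => ¬ p ∣ orderOf y),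
          (χ : G → ℂ) y * (classInd x y * (Nat.card (Subgroup.centralizer
            ({(QuotientGroup.mk x : G ⧸ Q)} : Set (G ⧸ Q))) : ℂ)) := by
        rw [Finset.mul_sum, Finset.sum_filter]
        refine Finset.sum_congr rfl fun y _ => ?_
        by_cases hy : p ∣ orderOf y
        · rw [if_neg (not_not.2 hy)]
          have : classInd x y = 0 := by
            unfold classInd
            rw [if_neg]
            intro hc
            obtain ⟨c, hc⟩ := isConj_iff.1 hc
            apply hx
            rw [← orderOf_conj_eq c x, hc]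
            exact hy
          rw [this]
          ring
        · rw [if_pos hy]
          ring
    _ = _ := by
        simp only [Finset.sum_mul]
        rw [Finset.sum_comm]
        refine Finset.sum_congr rfl fun y hy => ?_
        rw [Finset.mem_filter] at hy
        rw [← hcol y hy.2, Finset.mul_sum]
        refine Finset.sum_congr rfl fun ψ _ => ?_
        rw [Cfsg.Agent.Helper79.inflate_apply, Cfsg.Agent.Helper79.inflate_apply]
        ring

end pcentral

section rank

variable {G : Type u} [Group G] [Fintype G] {p : ℕ} [hpf : Fact p.Prime] {M : Ideal AlgInt}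

/-- inflation followed by truncation to the `p`-regular elements -/
noncomputable def inflReg (p : ℕ) (Q : Subgroup G) [Q.Normal] : (G ⧸ Q → ℂ) →ₗ[ℂ] (G → ℂ) where
  toFun f := pRegularPart p (fun x : G => f (QuotientGroup.mk x))
  map_add' := fun f g => by
    funext x
    by_cases hx : p ∣ orderOf x
    · simp [pRegularPart_of_singular p _ hx]
    · simp [pRegularPart_of_regular p _ hx]
  map_smul' := fun c f => by
    funext x
    by_cases hx : p ∣ orderOf x
    · simp [pRegularPart_of_singular p _ hx]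
    · simp [pRegularPart_of_regular p _ hx]

theorem inflReg_apply_regular (Q : Subgroup G) [Q.Normal] (f : G ⧸ Q → ℂ) {x : G}
    (hx : ¬ p ∣ orderOf x) : inflReg p Q f x = f (QuotientGroup.mk x) := by
  show pRegularPart p (fun x : G => f (QuotientGroup.mk x)) x = _
  rw [pRegularPart_of_regular p _ hx]

theorem inflReg_apply_singular (Q : Subgroup G) [Q.Normal] (f : G ⧸ Q → ℂ) {x : G}
    (hx : p ∣ orderOf x) : inflReg p Q f x = 0 := by
  show pRegularPart p (fun x : G => f (QuotientGroup.mk x)) x = _
  rw [pRegularPart_of_singular p _ hx]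

theorem not_dvd_orderOf_mk (Q : Subgroup G) [Q.Normal] {x : G} (hx : ¬ p ∣ orderOf x) :
    ¬ p ∣ orderOf (QuotientGroup.mk x : G ⧸ Q) := fun h =>
  hx (h.trans (orderOf_map_dvd (QuotientGroup.mk' Q) x))

theorem inflReg_pRegularPart (Q : Subgroup G) [Q.Normal] (ψ : IrrCharacter (G ⧸ Q)) :
    inflReg p Q (pRegularPart p (ψ : G ⧸ Q → ℂ)) =
      pRegularPart p (Cfsg.Agent.Helper79.inflate Q ψ : G → ℂ) := by
  funext x
  by_cases hx : p ∣ orderOf x
  · rw [inflReg_apply_singular Q _ hx, pRegularPart_of_singular p _ hx]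
  · rw [inflReg_apply_regular Q _ hx, pRegularPart_of_regular p _ hx,
      pRegularPart_of_regular p _ (not_dvd_orderOf_mk Q hx), Cfsg.Agent.Helper79.inflate_apply]

/-- `l(B) = l(B̄)` for the set `B̄` of characters of `G ⧸ Q` inflating into the block `B`, when all
`p`-regular elements centralize the normal `p`-subgroup `Q`. -/
theorem blockRank_eq_deflSet (hM : IsPModular p M) (Q : Subgroup G) [hQn : Q.Normal]
    (hQ : IsPGroup p Q)
    (hreg : ∀ x : G, ¬ p ∣ orderOf x → x ∈ Subgroup.centralizer (Q : Set G))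
    {B : Set (IrrCharacter G)} (hB : IsPBlock M B) :
    blockRank p B = blockRank p (deflSet Q B) := by
  classical
  have hp : p.Prime := hpf.out
  have hpr := isPrime_of_isPModular hM
  have : Fintype (G ⧸ Q) := Fintype.ofFinite _
  unfold blockRank
  set S : Submodule ℂ (G ⧸ Q → ℂ) := Submodule.span ℂ
    ((fun ψ : IrrCharacter (G ⧸ Q) => pRegularPart p (ψ : G ⧸ Q → ℂ)) '' deflSet Q B) with hS
  -- the image of `S`
  have himage : S.map (inflReg p Q) = Submodule.span ℂ
      ((fun χ : IrrCharacter G => pRegularPart p (χ : G → ℂ)) '' B) := by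
    rw [hS, Submodule.map_span, Set.image_image]
    apply le_antisymm
    · apply Submodule.span_mono
      rintro _ ⟨ψ, hψ, rfl⟩
      exact ⟨Cfsg.Agent.Helper79.inflate Q ψ, hψ, (inflReg_pRegularPart Q ψ).symm⟩
    · rw [Submodule.span_le]
      rintro _ ⟨χ, hχ, rfl⟩
      show pRegularPart p (χ : G → ℂ) ∈ ((Submodule.span ℂ _ : Submodule ℂ (G → ℂ)) : Set (G → ℂ))
      rw [SetLike.mem_coe]
      -- expansion of `χ` on `p`-regular elements
      have hq0 : (Nat.card (G ⧸ Q) : ℂ) ≠ 0 := by exact_mod_cast Nat.card_pos.ne'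
      have hexp : pRegularPart p (χ : G → ℂ) =
          ∑ ψ ∈ (Set.toFinite (deflSet Q B)).toFinset,
            ((Nat.card (G ⧸ Q) : ℂ)⁻¹ *
              ∑ y ∈ Finset.univ.filter (fun y : G => ¬ p ∣ orderOf y),
                (χ : G → ℂ) y * conj ((Cfsg.Agent.Helper79.inflate Q ψ : G → ℂ) y)) •
              inflReg p Q (pRegularPart p (ψ : G ⧸ Q → ℂ)) := by
        funext x
        rw [Finset.sum_apply]
        by_cases hx : p ∣ orderOf x
        · rw [pRegularPart_of_singular p _ hx]
          symm
          apply Finset.sum_eq_zero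
          intro ψ _
          rw [Pi.smul_apply, inflReg_apply_singular Q _ hx, smul_zero]
        · rw [pRegularPart_of_regular p _ hx]
          have key := regular_expansion Q hQ hreg χ x hx
          have hsub : ∑ ψ : IrrCharacter (G ⧸ Q),
              (∑ y ∈ Finset.univ.filter (fun y : G => ¬ p ∣ orderOf y),
                (χ : G → ℂ) y * conj ((Cfsg.Agent.Helper79.inflate Q ψ : G → ℂ) y)) *
                (Cfsg.Agent.Helper79.inflate Q ψ : G → ℂ) x =
              ∑ ψ ∈ (Set.toFinite (deflSet Q B)).toFinset,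
              (∑ y ∈ Finset.univ.filter (fun y : G => ¬ p ∣ orderOf y),
                (χ : G → ℂ) y * conj ((Cfsg.Agent.Helper79.inflate Q ψ : G → ℂ) y)) *
                (Cfsg.Agent.Helper79.inflate Q ψ : G → ℂ) x := by
            symm
            apply Finset.sum_subset (Finset.subset_univ _)
            intro ψ _ hψ
            rw [Set.Finite.mem_toFinset] at hψ
            have hns : ¬ SameBlock M (χ : G → ℂ)
                (Cfsg.Agent.Helper79.inflate Q ψ : G → ℂ) :=
              fun h => hψ (mem_of_sameBlock hB hχ h)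
            rw [Cfsg.Agent.Helper16.sum_regular_eq_zero_of_not_sameBlock hM χ _ hns, zero_mul]
          rw [hsub] at key
          have : (χ : G → ℂ) x = (Nat.card (G ⧸ Q) : ℂ)⁻¹ *
              ((Nat.card (G ⧸ Q) : ℂ) * (χ : G → ℂ) x) := by
            rw [← mul_assoc, inv_mul_cancel₀ hq0, one_mul]
          rw [this, key, Finset.mul_sum]
          refine Finset.sum_congr rfl fun ψ _ => ?_
          rw [Pi.smul_apply, inflReg_pRegularPart, pRegularPart_of_regular p _ hx, smul_eq_mul]
          ring
      rw [hexp]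
      apply Submodule.sum_mem
      intro ψ hψ
      rw [Set.Finite.mem_toFinset] at hψ
      apply Submodule.smul_mem
      apply Submodule.subset_span
      exact ⟨ψ, hψ, rfl⟩
  -- injectivity on `S`
  have hvan : ∀ f ∈ S, ∀ q : G ⧸ Q, p ∣ orderOf q → f q = 0 := by
    intro f hf
    induction hf using Submodule.span_induction with
    | mem f hf =>
        obtain ⟨ψ, -, rfl⟩ := hf
        intro q hq
        exact pRegularPart_of_singular p _ hq
    | zero => intro q _; rfl
    | add f g _ _ hf hg =>
        intro q hq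
        rw [Pi.add_apply, hf q hq, hg q hq, add_zero]
    | smul c f _ hf =>
        intro q hq
        rw [Pi.smul_apply, hf q hq, smul_zero]
  have hinj : Function.Injective ((inflReg p Q).domRestrict S) := by
    rw [← LinearMap.ker_eq_bot, LinearMap.ker_eq_bot']
    rintro ⟨f, hf⟩ h0
    apply Subtype.ext
    funext q
    by_cases hq : p ∣ orderOf q
    · exact hvan f hf q hq
    · obtain ⟨x, rfl, hx⟩ := Cfsg.Agent.Helper16.exists_regular_lift Q hQ q hq
      have := congrFun h0 x
      rw [LinearMap.domRestrict_apply] at this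
      rw [inflReg_apply_regular Q _ hx] at this
      exact this
  have hfin := LinearMap.finrank_range_of_inj hinj
  rw [LinearMap.range_domRestrict, himage] at hfin
  exact hfin

end rank

end Cfsg.Agent.Helper78
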