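import Mathlib
import Cfsg.Prelude.Def_Blocks
import Cfsg.Agent.Lib.Helper77.ThirdMain
import Cfsg.Agent.Lib.Helper77.Extended
import Cfsg.Agent.Lib.Helper16.SecondMain2
import Cfsg.Agent.Lib.Helper16.BrauerVanish
import Cfsg.Agent.S0923

/-!
# The third main theorem for centralizers of `p`-elements, and sections (helper78)

* `thirdMain_centralizer` : a block of `C_G(z)` (`z` a `p`-element) inducing the principal block
  of `G` is the principal block of `C_G(z)`.
* `sum_blockPart_allBlocks` : a class function is the sum of its block parts.
* `section_principal` : for `χ` in the principal block, `c ↦ χ (z c)` agrees on the `p`-regular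
  elements of `C_G(z)` with its principal-block part.
-/

set_option autoImplicit false
set_option linter.unusedSectionVars false
set_option linter.style.haveILetI false

namespace Cfsg.Agent.Helper78

open Cfsg
open Cfsg.Agent.Helper77 Cfsg.Agent.Helper16
open scoped ComplexConjugate

universe u

section third

variable {G : Type u} [Group G] [Fintype G] {p : ℕ} [hpf : Fact p.Prime] {M : Ideal AlgInt}

/-- Third main theorem for `K = C_G(P)`, `P` an abelian `p`-subgroup. -/
theorem thirdMain_of_eq (hM : IsPModular p M) (P : Subgroup G) (hP : IsPGroup p P)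
    (hPab : P ≤ Subgroup.centralizer (P : Set G)) (K : Subgroup G)
    (hK : K = Subgroup.centralizer (P : Set G)) (b : Set (IrrCharacter K))
    (hind : IsInducedBlock M K b (principalBlock M G)) : b = principalBlock M K := by
  classical
  subst hK
  haveI : Fintype (Subgroup.centralizer (P : Set G)) := Fintype.ofFinite _
  have hpair : IsBrauerPairOf p M (principalBlock M G) P b := by
    refine ⟨⟨hP, hind.1⟩, hind.2.1, fun ξ hξ => ?_⟩
    rw [brauerOmega_eq_omega]
    have h := omega_cutC_of_isInducedBlock_gen hM P (Subgroup.centralizer (P : Set G)) hP hPab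
      (Subgroup.centralizer_le_normalizer _) hind hξ
    have hcut : cutC P (Subgroup.centralizer (P : Set G)) (blockCoeff (principalBlock M G)) =
        fun x : Subgroup.centralizer (P : Set G) => blockCoeff (principalBlock M G) x := by
      funext x
      exact cutC_of_mem _ _ _ x.2
    rw [hcut] at h
    exact h
  exact (isBrauerPairOf_principalBlock_iff hM P hP b hind.1).1 hpair

/-- **Third main theorem for centralizers of `p`-elements.** -/
theorem thirdMain_centralizer (hM : IsPModular p M) (z : G) (hz : ∃ k : ℕ, orderOf z = p ^ k)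
    (b : Set (IrrCharacter (Subgroup.centralizer ({z} : Set G))))
    (hind : IsInducedBlock M (Subgroup.centralizer ({z} : Set G)) b (principalBlock M G)) :
    b = principalBlock M (Subgroup.centralizer ({z} : Set G)) := by
  apply thirdMain_of_eq hM (Subgroup.zpowers z) (isPGroup_zpowers hz) ?_ _ ?_ b hind
  · intro w hw
    rw [mem_centralizer_zpowers_iff]
    obtain ⟨k, rfl⟩ := Subgroup.mem_zpowers_iff.1 hw
    exact ((Commute.refl z).zpow_right k)
  · ext w
    rw [mem_centralizer_zpowers_iff, mem_centralizer_singleton_iff']

end third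

section parts

variable {H : Type u} [Group H] [Fintype H] {M : Ideal AlgInt}

/-- A class function is the sum of its block parts. -/
theorem sum_blockPart_allBlocks [hpr : M.IsPrime] {ϑ : H → ℂ} (hϑ : IsClassFunction H ϑ) (y : H) :
    ∑ b ∈ allBlocks M H, blockPart b ϑ y = ϑ y := by
  classical
  simp_rw [blockPart_eq_sum_blockCoeff _ hϑ y]
  rw [Finset.sum_comm]
  have h1 : ∀ k : H, ∑ b ∈ allBlocks M H, blockCoeff b k * ϑ (k * y) =
      (delta : H → ℂ) k * ϑ (k * y) := by
    intro k
    rw [← Finset.sum_mul, ← sum_blockCoeff_allBlocks (M := M), Finset.sum_apply]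
  simp_rw [h1]
  rw [Finset.sum_eq_single (1 : H)]
  · unfold delta
    rw [if_pos rfl, one_mul, one_mul]
  · intro k _ hk
    unfold delta
    rw [if_neg hk, zero_mul]
  · intro h; exact absurd (Finset.mem_univ _) h

end parts

section sections

variable {G : Type u} [Group G] [Fintype G] {p : ℕ} [hpf : Fact p.Prime] {M : Ideal AlgInt}

theorem isClassFunction_section (χ : IrrCharacter G) (z : G) :
    IsClassFunction (Subgroup.centralizer ({z} : Set G))
      (fun c : Subgroup.centralizer ({z} : Set G) => (χ : G → ℂ) (z * (c : G))) := by
  have hχcl := isClassFunction_of_isIrrCharacter χ.2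
  intro c k
  show (χ : G → ℂ) (z * ((k * c * k⁻¹ : Subgroup.centralizer ({z} : Set G)) : G)) =
    (χ : G → ℂ) (z * (c : G))
  have hkx : z * (k : G) = (k : G) * z := (mem_centralizer_singleton_iff' z (k : G)).1 k.2
  have : z * ((k * c * k⁻¹ : Subgroup.centralizer ({z} : Set G)) : G) =
      (k : G) * (z * (c : G)) * (k : G)⁻¹ := by
    push_cast
    calc z * ((k : G) * (c : G) * (k : G)⁻¹) = (z * (k : G)) * (c : G) * (k : G)⁻¹ := by group
      _ = ((k : G) * z) * (c : G) * (k : G)⁻¹ := by rw [hkx]
      _ = (k : G) * (z * (c : G)) * (k : G)⁻¹ := by group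
  rw [this, hχcl]

/-- For `χ` in the principal block and a `p`-element `z`, the function `c ↦ χ (z c)` on `C_G(z)`
agrees on `p`-regular elements with its principal-block part. -/
theorem section_principal (hM : IsPModular p M) (z : G) (hz : ∃ k : ℕ, orderOf z = p ^ k)
    (χ : IrrCharacter G) (hχ : χ ∈ principalBlock M G)
    (y : Subgroup.centralizer ({z} : Set G)) (hy : ¬ p ∣ orderOf y) :
    (χ : G → ℂ) (z * (y : G)) =
      blockPart (principalBlock M (Subgroup.centralizer ({z} : Set G)))
        (fun c : Subgroup.centralizer ({z} : Set G) => (χ : G → ℂ) (z * (c : G))) y := by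
  classical
  haveI hpr := isPrime_of_isPModular hM
  haveI : Fintype (Subgroup.centralizer ({z} : Set G)) := Fintype.ofFinite _
  have hϑ := isClassFunction_section χ z
  have h1 := sum_blockPart_allBlocks (M := M) hϑ y
  rw [Finset.sum_eq_single (principalBlock M (Subgroup.centralizer ({z} : Set G)))] at h1
  · exact h1.symm
  · intro b hb hne
    rw [mem_allBlocks] at hb
    apply Cfsg.Agent.S0923.result p M hM z hz (principalBlock M G) (isPBlock_principalBlock M) χ hχ
      b hb ?_ y hy
    intro hind
    exact hne (thirdMain_centralizer hM z hz b hind)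
  · intro h
    exact absurd (mem_allBlocks.2 (isPBlock_principalBlock M)) h

end sections

end Cfsg.Agent.Helper78
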