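import Mathlib
import Cfsg.Prelude.Def_Blocks
import Cfsg.Agent.Lib.Helper78.ThirdCent
import Cfsg.Agent.Lib.Helper78.CharSchur
import Cfsg.Agent.Lib.Helper16.PPart
import Cfsg.Agent.S0925

/-!
# Sums over the principal block on a `p`-section (helper78)

For a `p`-element `z` with centralizer `H` and `y ∈ H` `p`-regular,
`∑_{ζ ∈ B₀(G)} |ζ (z y)|² = ∑_{ψ ∈ B₀(H)} |ψ y|²`.
-/

set_option autoImplicit false
set_option linter.unusedSectionVars false
set_option linter.style.haveILetI false

namespace Cfsg.Agent.Helper78

open Cfsg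
open Cfsg.Agent.Helper77 Cfsg.Agent.Helper16
open scoped ComplexConjugate

universe u

section induced

variable {G : Type u} [Group G] [Fintype G] {p : ℕ} [hpf : Fact p.Prime] {M : Ideal AlgInt}

/-- The principal block of `K = C_G(P)` (`P` an abelian `p`-subgroup) induces the principal block
of `G`. -/
theorem isInducedBlock_principal_of_eq (hM : IsPModular p M) (P : Subgroup G) (hP : IsPGroup p P)
    (hPab : P ≤ Subgroup.centralizer (P : Set G)) (K : Subgroup G)
    (hK : K = Subgroup.centralizer (P : Set G)) :
    IsInducedBlock M K (principalBlock M K) (principalBlock M G) := by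
  classical
  subst hK
  haveI : Fintype (Subgroup.centralizer (P : Set G)) := Fintype.ofFinite _
  haveI hpr := isPrime_of_isPModular hM
  have hpair := isBrauerPairOf_principal hM P hP
  have hξ := trivIrr_mem_principalBlock (G := Subgroup.centralizer (P : Set G)) M
  have h1 := hpair.2.2 (trivIrr _) hξ
  rw [brauerOmega_eq_omega] at h1
  apply isInducedBlock_of_omega_cutC_gen hM P (Subgroup.centralizer (P : Set G)) hP hPab le_rfl
    (Subgroup.centralizer_le_normalizer _) (isPBlock_principalBlock M) (isPBlock_principalBlock M)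
    hξ
  have hcut : cutC P (Subgroup.centralizer (P : Set G)) (blockCoeff (principalBlock M G)) =
      fun x : Subgroup.centralizer (P : Set G) => blockCoeff (principalBlock M G) x := by
    funext x
    exact cutC_of_mem _ _ _ x.2
  rw [hcut]
  exact h1

theorem isInducedBlock_principal_centralizer (hM : IsPModular p M) (z : G)
    (hz : ∃ k : ℕ, orderOf z = p ^ k) :
    IsInducedBlock M (Subgroup.centralizer ({z} : Set G))
      (principalBlock M (Subgroup.centralizer ({z} : Set G))) (principalBlock M G) := by
  apply isInducedBlock_principal_of_eq hM (Subgroup.zpowers z) (isPGroup_zpowers hz) ?_ _ ?_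
  · intro w hw
    rw [mem_centralizer_zpowers_iff]
    obtain ⟨k, rfl⟩ := Subgroup.mem_zpowers_iff.1 hw
    exact ((Commute.refl z).zpow_right k)
  · ext w
    rw [mem_centralizer_zpowers_iff, mem_centralizer_singleton_iff']

/-- A block induces at most one block. -/
theorem isInducedBlock_unique [hpr : M.IsPrime] {H : Subgroup G} {b : Set (IrrCharacter H)}
    {B B' : Set (IrrCharacter G)} (h : IsInducedBlock M H b B) (h' : IsInducedBlock M H b B') :
    B = B' := by
  obtain ⟨ξ, hξ⟩ := nonempty_of_isPBlock h.1
  obtain ⟨χ, hχ⟩ := nonempty_of_isPBlock h.2.1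
  obtain ⟨χ', hχ'⟩ := nonempty_of_isPBlock h'.2.1
  have hsame : SameBlock M (χ : G → ℂ) (χ' : G → ℂ) := by
    intro g
    have h1 := h.2.2 ξ hξ χ hχ g
    have h2 := h'.2.2 ξ hξ χ' hχ' g
    have := memLocalIdeal_sub h2 h1
    rwa [sub_sub_sub_cancel_left] at this
  exact eq_of_isPBlock_of_mem h.2.1 h'.2.1 (mem_of_sameBlock h.2.1 hχ hsame) hχ'

end induced

section linear

variable {H : Type u} [Group H] [Fintype H]

theorem blockPart_sum_smul (B : Set (IrrCharacter H)) {ι : Type*} (s : Finset ι) (a : ι → ℂ)
    (ϑ : ι → H → ℂ) (u : H) :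
    blockPart B (∑ i ∈ s, a i • ϑ i) u = ∑ i ∈ s, a i * blockPart B (ϑ i) u := by
  classical
  simp_rw [blockPart_eq_finset, Finset.mul_sum]
  rw [Finset.sum_comm]
  refine Finset.sum_congr rfl fun χ _ => ?_
  rw [classInner_sum_left, Finset.sum_mul]
  refine Finset.sum_congr rfl fun i _ => ?_
  rw [classInner_smul_left]
  ring

theorem blockPart_sub (B : Set (IrrCharacter H)) (ϑ₁ ϑ₂ : H → ℂ) (u : H) :
    blockPart B (ϑ₁ - ϑ₂) u = blockPart B ϑ₁ u - blockPart B ϑ₂ u := by
  classical
  simp_rw [blockPart_eq_finset]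
  rw [← Finset.sum_sub_distrib]
  refine Finset.sum_congr rfl fun χ _ => ?_
  have : ϑ₁ - ϑ₂ = ϑ₁ + (-1 : ℂ) • ϑ₂ := by
    funext x
    simp [sub_eq_add_neg]
  rw [this, classInner_add_left, classInner_smul_left]
  ring

/-- The block part of a combination of irreducible characters. -/
theorem blockPart_decomp (B : Set (IrrCharacter H)) (m : IrrCharacter H → ℂ) (u : H) :
    blockPart B (∑ ψ : IrrCharacter H, m ψ • (ψ : H → ℂ)) u =
      ∑ ψ ∈ (Set.toFinite B).toFinset, m ψ * (ψ : H → ℂ) u := by
  classical
  rw [blockPart_eq_finset]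
  refine Finset.sum_congr rfl fun χ _ => ?_
  rw [classInner_decomp]

end linear

section conjsec

variable {G : Type u} [Group G] [Fintype G] {p : ℕ} [hpf : Fact p.Prime]

theorem isPPart_mul_of_regular (z : G) (hz : ∃ k : ℕ, orderOf z = p ^ k)
    (c : Subgroup.centralizer ({z} : Set G)) (hc : ¬ p ∣ orderOf c) :
    IsPPart p (z * (c : G)) z := by
  refine ⟨(c : G), rfl, ?_, hz, ?_⟩
  · exact (mem_centralizer_singleton_iff' z (c : G)).1 c.2
  · rwa [Subgroup.orderOf_coe]

/-- `p`-regular elements `c, y` of `C_G(z)` are conjugate there iff `z c` and `z y` are conjugate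
in `G`. -/
theorem isConj_section_iff (z : G) (hz : ∃ k : ℕ, orderOf z = p ^ k)
    (c y : Subgroup.centralizer ({z} : Set G)) (hc : ¬ p ∣ orderOf c) (hy : ¬ p ∣ orderOf y) :
    IsConj (z * (c : G)) (z * (y : G)) ↔ IsConj c y := by
  have hp : p.Prime := hpf.out
  constructor
  · intro h
    obtain ⟨g, hg⟩ := isConj_iff.1 h
    have hw : g * (z * (c : G)) ^ 1 = (z * (y : G)) ^ 1 * g := by
      rw [pow_one, pow_one, ← hg]
      group
    have h1 := semiconj_ppart hp (isPPart_mul_of_regular z hz c hc)
      (isPPart_mul_of_regular z hz y hy) (i := 1)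
      (by intro h; exact hp.one_lt.ne' (Nat.dvd_one.1 h)) hw
    have hgH : g ∈ Subgroup.centralizer ({z} : Set G) := by
      rw [mem_centralizer_singleton_iff']
      exact h1.symm
    rw [isConj_iff]
    refine ⟨⟨g, hgH⟩, ?_⟩
    apply Subtype.ext
    push_cast
    have h2 : g * (z * (c : G)) * g⁻¹ = z * (g * (c : G) * g⁻¹) := by
      calc g * (z * (c : G)) * g⁻¹ = (g * z) * (c : G) * g⁻¹ := by group
        _ = (z * g) * (c : G) * g⁻¹ := by rw [h1]
        _ = _ := by group
    rw [h2] at hg
    exact mul_left_cancel hg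
  · intro h
    obtain ⟨k, hk⟩ := isConj_iff.1 h
    rw [isConj_iff]
    refine ⟨(k : G), ?_⟩
    have hkz : z * (k : G) = (k : G) * z := (mem_centralizer_singleton_iff' z (k : G)).1 k.2
    have h1 : ((k * c * k⁻¹ : Subgroup.centralizer ({z} : Set G)) : G) = (y : G) := by rw [hk]
    push_cast at h1
    calc (k : G) * (z * (c : G)) * (k : G)⁻¹ = ((k : G) * z) * (c : G) * (k : G)⁻¹ := by group
      _ = (z * (k : G)) * (c : G) * (k : G)⁻¹ := by rw [hkz]
      _ = z * ((k : G) * (c : G) * (k : G)⁻¹) := by group
      _ = _ := by rw [h1]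

/-- `|C_G(z c)| = |C_{C_G(z)}(c)|` for `c` `p`-regular in `C_G(z)`. -/
theorem card_centralizer_section (z : G) (hz : ∃ k : ℕ, orderOf z = p ^ k)
    (c : Subgroup.centralizer ({z} : Set G)) (hc : ¬ p ∣ orderOf c) :
    Nat.card (Subgroup.centralizer ({z * (c : G)} : Set G)) =
      Nat.card (Subgroup.centralizer ({c} : Set (Subgroup.centralizer ({z} : Set G)))) := by
  have hp : p.Prime := hpf.out
  have hmap : (Subgroup.centralizer ({c} : Set (Subgroup.centralizer ({z} : Set G)))).map
      (Subgroup.centralizer ({z} : Set G)).subtype =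
      Subgroup.centralizer ({z * (c : G)} : Set G) := by
    ext g
    rw [Subgroup.mem_map, mem_centralizer_singleton_iff']
    constructor
    · rintro ⟨k, hk, rfl⟩
      rw [mem_centralizer_singleton_iff'] at hk
      have hkz : z * (k : G) = (k : G) * z := (mem_centralizer_singleton_iff' z (k : G)).1 k.2
      have hkc : (c : G) * (k : G) = (k : G) * (c : G) := by
        have := congrArg Subtype.val hk
        push_cast at this
        exact this
      show z * (c : G) * (k : G) = (k : G) * (z * (c : G))
      calc z * (c : G) * (k : G) = z * ((c : G) * (k : G)) := by group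
        _ = z * ((k : G) * (c : G)) := by rw [hkc]
        _ = (z * (k : G)) * (c : G) := by group
        _ = ((k : G) * z) * (c : G) := by rw [hkz]
        _ = _ := by group
    · intro hg
      have hw : g * (z * (c : G)) ^ 1 = (z * (c : G)) ^ 1 * g := by
        rw [pow_one]
        exact hg.symm
      have h1 := semiconj_ppart hp (isPPart_mul_of_regular z hz c hc)
        (isPPart_mul_of_regular z hz c hc) (i := 1)
        (by intro h; exact hp.one_lt.ne' (Nat.dvd_one.1 h)) hw
      have hgH : g ∈ Subgroup.centralizer ({z} : Set G) := by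
        rw [mem_centralizer_singleton_iff']
        exact h1.symm
      refine ⟨⟨g, hgH⟩, ?_, rfl⟩
      rw [mem_centralizer_singleton_iff']
      apply Subtype.ext
      push_cast
      have h2 : z * ((c : G) * g) = z * (g * (c : G)) := by
        calc z * ((c : G) * g) = z * (c : G) * g := by group
          _ = g * (z * (c : G)) := hg
          _ = (g * z) * (c : G) := by group
          _ = (z * g) * (c : G) := by rw [h1]
          _ = _ := by group
      exact mul_left_cancel h2
  rw [← hmap, Subgroup.card_map_of_injective (Subgroup.subtype_injective _)]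

end conjsec

section main

variable {G : Type u} [Group G] [Fintype G] {p : ℕ} [hpf : Fact p.Prime] {M : Ideal AlgInt}

/-- **Principal block sums on a `p`-section.** -/
theorem sum_section_principal (hM : IsPModular p M) (z : G) (hz : ∃ k : ℕ, orderOf z = p ^ k)
    (y : Subgroup.centralizer ({z} : Set G)) (hy : ¬ p ∣ orderOf y) :
    ∑ ζ ∈ (Set.toFinite (principalBlock M G)).toFinset,
      (ζ : G → ℂ) (z * (y : G)) * conj ((ζ : G → ℂ) (z * (y : G))) =
    ∑ ψ ∈ (Set.toFinite (principalBlock M (Subgroup.centralizer ({z} : Set G)))).toFinset,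
      (ψ : Subgroup.centralizer ({z} : Set G) → ℂ) y *
        conj ((ψ : Subgroup.centralizer ({z} : Set G) → ℂ) y) := by
  classical
  have hp : p.Prime := hpf.out
  haveI hpr := isPrime_of_isPModular hM
  haveI : Fintype (Subgroup.centralizer ({z} : Set G)) := Fintype.ofFinite _
  -- the two class functions
  set F : Subgroup.centralizer ({z} : Set G) → ℂ :=
    ∑ ζ : IrrCharacter G, conj ((ζ : G → ℂ) (z * (y : G))) •
      (fun c : Subgroup.centralizer ({z} : Set G) => (ζ : G → ℂ) (z * (c : G))) with hF
  set Ψ : Subgroup.centralizer ({z} : Set G) → ℂ :=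
    ∑ ψ : IrrCharacter (Subgroup.centralizer ({z} : Set G)),
      conj ((ψ : Subgroup.centralizer ({z} : Set G) → ℂ) y) •
        (ψ : Subgroup.centralizer ({z} : Set G) → ℂ) with hΨ
  have hFval : ∀ c : Subgroup.centralizer ({z} : Set G), F c =
      ∑ ζ : IrrCharacter G, (ζ : G → ℂ) (z * (c : G)) * conj ((ζ : G → ℂ) (z * (y : G))) := by
    intro c
    rw [hF, Finset.sum_apply]
    refine Finset.sum_congr rfl fun ζ _ => ?_
    rw [Pi.smul_apply, smul_eq_mul, mul_comm]
  have hΨval : ∀ c : Subgroup.centralizer ({z} : Set G), Ψ c =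
      ∑ ψ : IrrCharacter (Subgroup.centralizer ({z} : Set G)),
        (ψ : Subgroup.centralizer ({z} : Set G) → ℂ) c *
          conj ((ψ : Subgroup.centralizer ({z} : Set G) → ℂ) y) := by
    intro c
    rw [hΨ, Finset.sum_apply]
    refine Finset.sum_congr rfl fun ψ _ => ?_
    rw [Pi.smul_apply, smul_eq_mul, mul_comm]
  -- they agree on `p`-regular elements
  have hagree : ∀ c : Subgroup.centralizer ({z} : Set G), ¬ p ∣ orderOf c → F c = Ψ c := by
    intro c hc
    rw [hFval, hΨval, sum_irr_mul_conj, sum_irr_mul_conj]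
    by_cases hconj : IsConj c y
    · rw [if_pos hconj, if_pos ((isConj_section_iff z hz c y hc hy).2 hconj),
        card_centralizer_section z hz c hc]
    · rw [if_neg hconj, if_neg (fun h => hconj ((isConj_section_iff z hz c y hc hy).1 h))]
  -- class functions
  have hFcl : IsClassFunction (Subgroup.centralizer ({z} : Set G)) F := by
    intro c k
    rw [hFval, hFval]
    refine Finset.sum_congr rfl fun ζ _ => ?_
    have h1 := isClassFunction_section ζ z c k
    congr 1
  have hΨcl : IsClassFunction (Subgroup.centralizer ({z} : Set G)) Ψ := by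
    intro c k
    rw [hΨval, hΨval]
    refine Finset.sum_congr rfl fun ψ _ => ?_
    rw [isClassFunction_of_isIrrCharacter ψ.2 c k]
  have hΔcl : IsClassFunction (Subgroup.centralizer ({z} : Set G)) (F - Ψ) := by
    intro c k
    rw [Pi.sub_apply, Pi.sub_apply, hFcl c k, hΨcl c k]
  -- the block part of the difference vanishes at `y`
  have hypart : IsPPart p y 1 := by
    refine ⟨y, one_mul y, Commute.one_left y, ⟨0, ?_⟩, hy⟩
    rw [orderOf_one, pow_zero]
  have hΔ : blockPart (principalBlock M (Subgroup.centralizer ({z} : Set G))) (F - Ψ) y = 0 := by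
    apply (Cfsg.Agent.S0925.result p M hM).1 (F - Ψ) hΔcl 1 ⟨0, by rw [orderOf_one, pow_zero]⟩ ?_
      _ (isPBlock_principalBlock M) y 1 hypart (IsConj.refl 1)
    intro u w huw hw
    have hw1 : w = 1 := isConj_one_right.1 hw
    subst hw1
    obtain ⟨y', hy'1, -, -, hy'2⟩ := huw
    rw [one_mul] at hy'1
    subst hy'1
    rw [Pi.sub_apply, hagree y' hy'2, sub_self]
  rw [blockPart_sub, sub_eq_zero] at hΔ
  -- evaluate both sides
  have hC : blockPart (principalBlock M (Subgroup.centralizer ({z} : Set G))) Ψ y =
      ∑ ψ ∈ (Set.toFinite (principalBlock M (Subgroup.centralizer ({z} : Set G)))).toFinset,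
        (ψ : Subgroup.centralizer ({z} : Set G) → ℂ) y *
          conj ((ψ : Subgroup.centralizer ({z} : Set G) → ℂ) y) := by
    rw [hΨ, blockPart_decomp]
    refine Finset.sum_congr rfl fun ψ _ => ?_
    rw [mul_comm]
  have hD : blockPart (principalBlock M (Subgroup.centralizer ({z} : Set G))) F y =
      ∑ ζ ∈ (Set.toFinite (principalBlock M G)).toFinset,
        (ζ : G → ℂ) (z * (y : G)) * conj ((ζ : G → ℂ) (z * (y : G))) := by
    rw [hF, blockPart_sum_smul]
    rw [← Finset.sum_subset (Finset.subset_univ (Set.toFinite (principalBlock M G)).toFinset)]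
    · refine Finset.sum_congr rfl fun ζ hζ => ?_
      rw [Set.Finite.mem_toFinset] at hζ
      rw [← section_principal hM z hz ζ hζ y hy, mul_comm]
    · intro ζ _ hζ
      rw [Set.Finite.mem_toFinset] at hζ
      have hnot : ¬ IsInducedBlock M (Subgroup.centralizer ({z} : Set G))
          (principalBlock M (Subgroup.centralizer ({z} : Set G))) (blockOf M (ζ : G → ℂ)) := by
        intro hind
        have := isInducedBlock_unique hind (isInducedBlock_principal_centralizer hM z hz)
        apply hζ
        rw [← this]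
        exact mem_blockOf_self ζ
      rw [Cfsg.Agent.S0923.result p M hM z hz (blockOf M (ζ : G → ℂ)) (isPBlock_blockOf ζ) ζ
        (mem_blockOf_self ζ) _ (isPBlock_principalBlock M) hnot y hy, mul_zero]
  rw [← hD, hΔ, hC]

end main

end Cfsg.Agent.Helper78
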