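import Cfsg.Agent.Lib.Helper78.ItoMichlerPSolv
import Cfsg.Agent.Lib.Helper16.QuotBlock
import Cfsg.Agent.Lib.Helper77.Principal
import Cfsg.Agent.Lib.Helper55.Cores
import Cfsg.Agent.S0915
import Cfsg.Agent.S0939

/-!
# The principal block of a `p`-solvable group (Fong)

For a finite `p`-solvable group `G` the principal `p`-block consists of the irreducible characters
with `O_{p'}(G)` in their kernel.  With Ito-Michler for `p`-solvable groups this gives: the Sylow
`p`-subgroups are abelian iff all characters in the principal block have height zero.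
-/

set_option autoImplicit false
set_option linter.unusedSectionVars false
set_option linter.style.haveILetI false

namespace Cfsg.Agent.Helper78

open Cfsg Cfsg.Agent.Helper77

universe u

section Fong

variable {G : Type u} [Group G] [Finite G]

/-- `p` does not divide `|O_{p'}(G)|` -/
theorem not_dvd_card_pPrimeCore (p : ℕ) [Fact p.Prime] : ¬ p ∣ Nat.card (pPrimeCore p G) := by
  have h := Cfsg.Agent.Helper55.pPrimeCore_coprime (G := G) p
  intro hd
  have h1 := Nat.Coprime.eq_one_of_dvd h.symm hd
  exact (Fact.out : p.Prime).one_lt.ne' h1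

/-- **Fong.** The principal block of a `p`-solvable group consists of the characters with
`O_{p'}(G)` in the kernel. -/
theorem mem_principalBlock_iff_of_isPSolvable (p : ℕ) [Fact p.Prime] (M : Ideal AlgInt)
    (hM : IsPModular p M) (hsolv : IsPSolvable p G) (χ : IrrCharacter G) :
    χ ∈ principalBlock M G ↔ pPrimeCore p G ≤ Cfsg.Agent.Helper79.irrKer χ := by
  classical
  have := Fintype.ofFinite G
  have hprime := isPrime_of_isPModular hM
  have hpN := not_dvd_card_pPrimeCore (G := G) p
  have : Fintype (pPrimeCore p G) := Fintype.ofFinite _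
  have : Fintype (G ⧸ pPrimeCore p G) := Fintype.ofFinite _
  constructor
  · intro hχ n hn
    have h1 : SameBlock M ((trivIrr G : IrrCharacter G) : G → ℂ) (χ : G → ℂ) := hχ
    exact Cfsg.Agent.Helper16.ker_of_sameBlock_of_pprime (pPrimeCore p G) hM hpN (trivIrr G) χ h1
      (fun n => rfl) ⟨n, hn⟩
  · intro hle
    obtain ⟨ψ, hψ⟩ := Cfsg.Agent.Helper79.exists_deflate (pPrimeCore p G) χ hle
    have hq : IsPSolvable p (G ⧸ pPrimeCore p G) :=
      Cfsg.Agent.Helper76.IsPSolvable.quotient hsolv _
    have hcore : pPrimeCore p (G ⧸ pPrimeCore p G) = ⊥ :=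
      Cfsg.Agent.Helper55.pPrimeCore_quotient_eq_bot p
    have h2 : SameBlock M ((trivIrr (G ⧸ pPrimeCore p G) : IrrCharacter _) : _ → ℂ)
        (ψ : G ⧸ pPrimeCore p G → ℂ) :=
      Cfsg.Agent.S0915.result p M hM hq hcore (trivIrr _) ψ
    have h3 := Cfsg.Agent.S0939.sameBlock_comp_mk (pPrimeCore p G) h2
    show SameBlock M (fun _ : G => (1 : ℂ)) (χ : G → ℂ)
    rw [← hψ]
    exact h3

/-- height zero in the principal block means degree prime to `p` -/
theorem blockHeight_principalBlock_eq_zero_iff (p : ℕ) [Fact p.Prime] (M : Ideal AlgInt)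
    [M.IsPrime] (χ : IrrCharacter G) :
    blockHeight p (principalBlock M G) (χ : G → ℂ) = 0 ↔ ¬ p ∣ charDegree (χ : G → ℂ) := by
  have hp : p.Prime := Fact.out
  have h0 : sInf ((fun ψ : IrrCharacter G => (charDegree (ψ : G → ℂ)).factorization p) ''
      principalBlock M G) = 0 := by
    apply Nat.sInf_eq_zero.2
    left
    refine ⟨trivIrr G, trivIrr_mem_principalBlock M, ?_⟩
    have : charDegree ((trivIrr G : IrrCharacter G) : G → ℂ) = 1 := by
      unfold charDegree
      rw [trivIrr_apply]
      simp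
    show (charDegree ((trivIrr G : IrrCharacter G) : G → ℂ)).factorization p = 0
    rw [this]
    simp
  unfold blockHeight
  rw [h0, Nat.sub_zero, Nat.factorization_eq_zero_iff]
  have hpos := (irr_charDegree χ.2).2
  constructor
  · rintro (h | h | h)
    · exact absurd hp h
    · exact h
    · omega
  · intro h
    exact Or.inr (Or.inl h)

/-- `G / O_{p'}(G)` has a normal abelian Sylow `p`-subgroup iff the Sylow `p`-subgroups of the
`p`-solvable group `G` are abelian -/
theorem hasNormalAbelianSylow_quotient_iff (p : ℕ) [Fact p.Prime] (hsolv : IsPSolvable p G)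
    (P : Sylow p G) :
    HasNormalAbelianSylow p (G ⧸ pPrimeCore p G) ↔ IsMulCommutative P := by
  have hp : p.Prime := Fact.out
  set N := pPrimeCore p G with hN
  have hinf : (P : Subgroup G) ⊓ N = ⊥ := by
    refine (Subgroup.disjoint_of_coprime_natCard ?_).eq_bot
    obtain ⟨k, hk⟩ := IsPGroup.iff_card.1 P.isPGroup'
    rw [hk]
    exact Nat.Coprime.pow_left k ((Nat.Prime.coprime_iff_not_dvd hp).2
      (not_dvd_card_pPrimeCore (G := G) p))
  have hPbar : IsPGroup p ((P : Subgroup G).map (QuotientGroup.mk' N)) := P.isPGroup'.map _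
  have hidx : ¬ p ∣ ((P : Subgroup G).map (QuotientGroup.mk' N)).index := fun h =>
    P.not_dvd_index (dvd_trans h (Subgroup.index_map_dvd _ (QuotientGroup.mk'_surjective N)))
  constructor
  · rintro ⟨Nbar, hNn, hNp, hNidx, hNc⟩
    refine ⟨⟨?_⟩⟩
    rintro ⟨a, ha⟩ ⟨b, hb⟩
    apply Subtype.ext
    show a * b = b * a
    have hmem : ∀ x ∈ (P : Subgroup G), (QuotientGroup.mk' N x) ∈ Nbar := by
      intro x hx
      obtain ⟨j, hj⟩ := (IsPGroup.iff_orderOf.1 P.isPGroup') ⟨x, hx⟩
      rw [Subgroup.orderOf_mk] at hj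
      have h1 : orderOf (QuotientGroup.mk' N x) ∣ p ^ j := by
        rw [← hj]
        exact orderOf_map_dvd _ x
      obtain ⟨i, -, hi⟩ := (Nat.dvd_prime_pow hp).1 h1
      exact mem_of_orderOf_pow_of_not_dvd_index p Nbar hNidx _ i hi
    have h1 := hNc _ (hmem a ha) _ (hmem b hb)
    rw [← map_mul, ← map_mul] at h1
    have h2 : (b * a)⁻¹ * (a * b) ∈ N := by
      have := QuotientGroup.eq.1 h1.symm
      exact this
    have h3 : (b * a)⁻¹ * (a * b) ∈ (P : Subgroup G) :=
      mul_mem (inv_mem (mul_mem hb ha)) (mul_mem ha hb)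
    have h4 : (b * a)⁻¹ * (a * b) ∈ (P : Subgroup G) ⊓ N := ⟨h3, h2⟩
    rw [hinf, Subgroup.mem_bot] at h4
    have := eq_of_inv_mul_eq_one h4
    exact this.symm
  · intro hc
    have hq : IsPSolvable p (G ⧸ N) := Cfsg.Agent.Helper76.IsPSolvable.quotient hsolv _
    have hcore : pPrimeCore p (G ⧸ N) = ⊥ := Cfsg.Agent.Helper55.pPrimeCore_quotient_eq_bot p
    have hHH := Cfsg.Agent.Helper76.centralizer_pCore_le hq hcore
    have hQle : pCore p (G ⧸ N) ≤ (P : Subgroup G).map (QuotientGroup.mk' N) := by
      have := Cfsg.Agent.Helper55.pCore_le_sylow (hPbar.toSylow hidx)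
      rwa [IsPGroup.toSylow_coe] at this
    have hcomm : ∀ x ∈ (P : Subgroup G).map (QuotientGroup.mk' N),
        ∀ y ∈ (P : Subgroup G).map (QuotientGroup.mk' N), x * y = y * x := by
      rintro x ⟨a, ha, rfl⟩ y ⟨b, hb, rfl⟩
      have h := hc.is_comm.comm (⟨a, ha⟩ : P) ⟨b, hb⟩
      have h' : a * b = b * a := congrArg Subtype.val h
      rw [← map_mul, ← map_mul, h']
    have hle : (P : Subgroup G).map (QuotientGroup.mk' N) ≤ pCore p (G ⧸ N) := by
      intro x hx
      apply hHH
      rw [Subgroup.mem_centralizer_iff]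
      intro y hy
      exact hcomm y (hQle hy) x hx
    have heq : (P : Subgroup G).map (QuotientGroup.mk' N) = pCore p (G ⧸ N) :=
      le_antisymm hle hQle
    refine ⟨(P : Subgroup G).map (QuotientGroup.mk' N), ?_, hPbar, hidx, hcomm⟩
    rw [heq]
    infer_instance

/-- **Abelian Sylow subgroups and heights in the principal block, `p`-solvable case.** -/
theorem isMulCommutative_sylow_iff_height_zero (p : ℕ) [Fact p.Prime] (M : Ideal AlgInt)
    (hM : IsPModular p M) (hsolv : IsPSolvable p G) (P : Sylow p G) :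
    IsMulCommutative P ↔ ∀ χ ∈ principalBlock M G,
      blockHeight p (principalBlock M G) (χ : G → ℂ) = 0 := by
  have hprime := isPrime_of_isPModular hM
  have hq : IsPSolvable p (G ⧸ pPrimeCore p G) :=
    Cfsg.Agent.Helper76.IsPSolvable.quotient hsolv _
  rw [← hasNormalAbelianSylow_quotient_iff p hsolv P]
  constructor
  · intro h χ hχ
    rw [blockHeight_principalBlock_eq_zero_iff]
    rw [mem_principalBlock_iff_of_isPSolvable p M hM hsolv] at hχ
    obtain ⟨ψ, hψ⟩ := Cfsg.Agent.Helper79.exists_deflate (pPrimeCore p G) χ hχ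
    rw [← hψ, Cfsg.Agent.Helper79.charDegree_inflate]
    exact not_dvd_degree_of_hasNormalAbelianSylow p h ψ
  · intro h
    apply hasNormalAbelianSylow_of_isPSolvable p hq
    intro ψ
    have h1 : Cfsg.Agent.Helper79.inflate (pPrimeCore p G) ψ ∈ principalBlock M G := by
      rw [mem_principalBlock_iff_of_isPSolvable p M hM hsolv]
      exact Cfsg.Agent.Helper79.le_irrKer_inflate _ ψ
    have h2 := h _ h1
    rw [blockHeight_principalBlock_eq_zero_iff, Cfsg.Agent.Helper79.charDegree_inflate] at h2
    exact h2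

end Fong

end Cfsg.Agent.Helper78
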