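import Mathlib
import Cfsg.Prelude.Def_Blocks
import Cfsg.Agent.S0939
import Cfsg.Agent.Lib.Helper79.Inflation
import Cfsg.Agent.Lib.Helper78.CharCount

/-!
# Principal block sums for groups with a normal `p`-complement (helper78)
-/

set_option autoImplicit false
set_option linter.unusedSectionVars false
set_option linter.style.haveILetI false

namespace Cfsg.Agent.Helper78

open Cfsg
open scoped ComplexConjugate

universe u

/-- A `p`-regular element lies in a normal subgroup of `p`-power index. -/
theorem mem_of_index_pow_of_regular {H : Type u} [Group H] [Finite H] {p : ℕ} (hp : p.Prime)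
    (K : Subgroup H) [K.Normal] (k : ℕ) (hk : K.index = p ^ k) (y : H) (hy : ¬ p ∣ orderOf y) :
    y ∈ K := by
  have h1 : orderOf (QuotientGroup.mk y : H ⧸ K) ∣ orderOf y := by
    apply orderOf_dvd_of_pow_eq_one
    rw [← QuotientGroup.mk_pow, pow_orderOf_eq_one, QuotientGroup.mk_one]
  have h2 : orderOf (QuotientGroup.mk y : H ⧸ K) ∣ p ^ k := by
    rw [← hk, Subgroup.index_eq_card]
    exact orderOf_dvd_natCard _
  obtain ⟨j, -, hj⟩ := (Nat.dvd_prime_pow hp).1 h2
  have hj0 : j = 0 := by
    by_contra hne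
    apply hy
    refine dvd_trans ?_ h1
    rw [hj]
    exact dvd_pow_self p hne
  rw [hj0, pow_zero, orderOf_eq_one_iff] at hj
  exact (QuotientGroup.eq_one_iff y).1 hj

/-- With a normal `p`-complement, the sum of `|χ y|²` over the principal block at a `p`-regular
`y` is the `p`-part of the group order. -/
theorem sum_principal_of_normal_complement {H : Type u} [Group H] [Finite H] (p : ℕ)
    [hpf : Fact p.Prime] (M : Ideal AlgInt) (hM : IsPModular p M)
    (hnc : ∃ k : ℕ, (pPrimeCore p H).index = p ^ k) (y : H) (hy : ¬ p ∣ orderOf y) :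
    ∑ χ ∈ (Set.toFinite (principalBlock M H)).toFinset,
      (χ : H → ℂ) y * conj ((χ : H → ℂ) y) =
      ((p ^ (Nat.card H).factorization p : ℕ) : ℂ) := by
  classical
  have hp : p.Prime := hpf.out
  have := Fintype.ofFinite H
  have hNn : (pPrimeCore p H).Normal := Cfsg.Agent.Helper49.pPrimeCore_normal' p
  have hpN : ¬ p ∣ Nat.card (pPrimeCore p H) := by
    have h := Cfsg.Agent.Helper49.pPrimeCore_card_coprime (G := H) p
    intro hd
    have h1 := Nat.Coprime.eq_one_of_dvd h.symm hd
    exact hp.one_lt.ne' h1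
  have hB := Cfsg.Agent.S0939.result p M hM hnc
  obtain ⟨k, hk⟩ := hnc
  have hyK : y ∈ pPrimeCore p H := mem_of_index_pow_of_regular hp _ k hk y hy
  have hset : (Set.toFinite (principalBlock M H)).toFinset =
      Finset.univ.filter (fun χ : IrrCharacter H => pPrimeCore p H ≤ Helper79.irrKer χ) := by
    ext χ
    rw [Set.Finite.mem_toFinset, hB, Finset.mem_filter]
    simp only [Finset.mem_univ, true_and]
    rfl
  rw [hset]
  have h1 : ∀ χ ∈ Finset.univ.filter
      (fun χ : IrrCharacter H => pPrimeCore p H ≤ Helper79.irrKer χ),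
      (χ : H → ℂ) y * conj ((χ : H → ℂ) y) = (((charDegree (χ : H → ℂ)) ^ 2 : ℕ) : ℂ) := by
    intro χ hχ
    rw [Finset.mem_filter] at hχ
    have h2 : (χ : H → ℂ) y = (χ : H → ℂ) 1 := (Helper79.mem_irrKer χ y).1 (hχ.2 hyK)
    rw [h2, (irr_charDegree χ.2).1, Complex.conj_natCast]
    push_cast
    ring
  rw [Finset.sum_congr rfl h1, ← Nat.cast_sum, Helper79.sum_sq_degree_of_le_ker, hk]
  congr 2
  have h3 := Subgroup.card_mul_index (pPrimeCore p H)
  rw [hk] at h3
  rw [← h3, Nat.factorization_mul Nat.card_pos.ne' (pow_pos hp.pos k).ne', Finsupp.add_apply,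
    Nat.factorization_eq_zero_of_not_dvd hpN, hp.factorization_pow, Finsupp.single_eq_same,
    zero_add]

end Cfsg.Agent.Helper78
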