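import Mathlib
import Cfsg.Agent.Lib.Helper52.FLDefs

/-!
# FL (BAD) core for helper52's server (S3822)

`bad_mem_core`: the statement of (BAD) with (DNOR), (INT) and the conclusion of (CC2) as hypotheses.
-/

set_option autoImplicit false

namespace Cfsg.Agent.Helper78.FL

open Cfsg.Agent.Helper52.FL

variable {G : Type*} [Group G]

/-- if `A` normalises `D` then every element of `A ⊔ D` is a product `α * d` -/
theorem h78_mem_sup_of_le_normalizer {A D : Subgroup G}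
    (hAD : A ≤ Subgroup.normalizer (D : Set G)) {y : G} (hy : y ∈ A ⊔ D) :
    ∃ α ∈ A, ∃ d ∈ D, y = α * d := by
  let S : Subgroup G :=
    { carrier := {y | ∃ α ∈ A, ∃ v ∈ D, y = α * v}
      one_mem' := ⟨1, A.one_mem, 1, D.one_mem, (mul_one 1).symm⟩
      mul_mem' := by
        rintro _ _ ⟨α, hα, v, hv, rfl⟩ ⟨α', hα', v', hv', rfl⟩
        refine ⟨α * α', A.mul_mem hα hα', (α'⁻¹ * v * α'⁻¹⁻¹) * v', D.mul_mem ?_ hv', by group⟩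
        exact (Subgroup.mem_normalizer_iff.1 (hAD (A.inv_mem hα')) v).1 hv
      inv_mem' := by
        rintro _ ⟨α, hα, v, hv, rfl⟩
        refine ⟨α⁻¹, A.inv_mem hα, α * v⁻¹ * α⁻¹, ?_, by group⟩
        exact (Subgroup.mem_normalizer_iff.1 (hAD hα) v⁻¹).1 (D.inv_mem hv) }
  have hle : A ⊔ D ≤ S := by
    apply sup_le
    · intro α hα; exact ⟨α, hα, 1, D.one_mem, (mul_one α).symm⟩
    · intro v hv; exact ⟨1, A.one_mem, v, hv, (one_mul v).symm⟩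
  exact hle hy

/-- `A` normalises `D = C_V(Q)` -/
theorem h78_A_normalizes_D {A Q V : Subgroup G} {r s : ℕ} (h : Ctx A Q V r s) :
    A ≤ Subgroup.normalizer (Dsub Q V : Set G) := by
  intro α hα
  rw [Subgroup.mem_normalizer_iff]
  have key : ∀ β ∈ A, ∀ x ∈ Dsub Q V, β * x * β⁻¹ ∈ Dsub Q V := by
    intro β hβ x hx
    refine ⟨(Subgroup.mem_normalizer_iff.1 (h.hAV hβ) x).1 hx.1, ?_⟩
    show β * x * β⁻¹ ∈ Subgroup.centralizer (Q : Set G)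
    rw [Subgroup.mem_centralizer_iff]
    intro q hq
    have hq' : β⁻¹ * q * β⁻¹⁻¹ ∈ Q :=
      (Subgroup.mem_normalizer_iff.1 (h.hAQ (A.inv_mem hβ)) q).1 hq
    have hc := (Subgroup.mem_centralizer_iff.1 hx.2) _ hq'
    -- hc : β⁻¹ * q * β⁻¹⁻¹ * x = x * (β⁻¹ * q * β⁻¹⁻¹)
    calc q * (β * x * β⁻¹) = β * (β⁻¹ * q * β⁻¹⁻¹ * x) * β⁻¹ := by group
      _ = β * (x * (β⁻¹ * q * β⁻¹⁻¹)) * β⁻¹ := by rw [hc]
      _ = β * x * β⁻¹ * q := by group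
  intro x
  constructor
  · intro hx; exact key α hα x hx
  · intro hx
    have := key α⁻¹ (A.inv_mem hα) _ hx
    have e : α⁻¹ * (α * x * α⁻¹) * α⁻¹⁻¹ = x := by group
    rwa [e] at this

/-- an element of `V` lying in `A ⊔ D` lies in `D` (`D ≤ V`, `A ⊓ V ≤ D`, `A` normalises `D`) -/
theorem h78_mem_D_of_mem_sup {A V D : Subgroup G} (hAD : A ≤ Subgroup.normalizer (D : Set G))
    (hDV : D ≤ V) (hINT : A ⊓ V ≤ D) {c : G} (hcV : c ∈ V) (hc : c ∈ A ⊔ D) : c ∈ D := by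
  obtain ⟨α, hα, d, hd, rfl⟩ := h78_mem_sup_of_le_normalizer hAD hc
  have hαV : α ∈ V := by
    have : α = α * d * d⁻¹ := by group
    rw [this]
    exact V.mul_mem hcV (V.inv_mem (hDV hd))
  exact D.mul_mem (hINT ⟨hα, hαV⟩) hd

/-- (BAD) from (DNOR), (INT) and the conclusion of (CC2) as hypotheses. -/
theorem bad_mem_core {A Q V : Subgroup G} {r s : ℕ} (h : Ctx A Q V r s)
    (hDN : V ≤ Subgroup.normalizer (Dsub Q V : Set G)) (hINT : A ⊓ V ≤ Dsub Q V)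
    (P : Subgroup G) (a : G) (hgen : A = P ⊔ cj a P) (v : G) (hv : v ∈ V)
    (hCC2 : ∃ w ∈ V, (P ⊔ cj (v * a) P) ≤ cj w (A ⊔ Dsub Q V)) :
    ∃ w₁ ∈ S1 P V (Dsub Q V), ∃ w₂ ∈ S1 (cj a P) V (Dsub Q V), v = w₁ * w₂ := by
  obtain ⟨w, hwV, hB⟩ := hCC2
  have hAD := h78_A_normalizes_D h
  have hDV : Dsub Q V ≤ V := inf_le_left
  have hPA : P ≤ A := by rw [hgen]; exact le_sup_left
  have hcPA : cj a P ≤ A := by rw [hgen]; exact le_sup_right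
  have hAsup : A ≤ A ⊔ Dsub Q V := le_sup_left
  -- first part
  have h1 : ∀ y ∈ P, y⁻¹ * w⁻¹ * y * w ∈ Dsub Q V := by
    intro y hy
    have hyB : y ∈ cj w (A ⊔ Dsub Q V) := hB (Subgroup.mem_sup_left hy)
    rw [mem_cj] at hyB
    have hc : y⁻¹ * (w⁻¹ * y * w) ∈ A ⊔ Dsub Q V :=
      Subgroup.mul_mem _ (hAsup (A.inv_mem (hPA hy))) hyB
    have hcV : y⁻¹ * (w⁻¹ * y * w) ∈ V := by
      have h2 : y⁻¹ * w⁻¹ * y⁻¹⁻¹ ∈ V :=
        (Subgroup.mem_normalizer_iff.1 (h.hAV (A.inv_mem (hPA hy))) w⁻¹).1 (V.inv_mem hwV)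
      have e : y⁻¹ * (w⁻¹ * y * w) = (y⁻¹ * w⁻¹ * y⁻¹⁻¹) * w := by group
      rw [e]
      exact V.mul_mem h2 hwV
    have := h78_mem_D_of_mem_sup hAD hDV hINT hcV hc
    have e : y⁻¹ * w⁻¹ * y * w = y⁻¹ * (w⁻¹ * y * w) := by group
    rw [e]
    exact this
  have hw1 : w ∈ S1 P V (Dsub Q V) := by
    refine ⟨hwV, ?_⟩
    intro y hy
    have hc' := h1 y⁻¹ (P.inv_mem hy)
    rw [inv_inv] at hc'
    -- hc' : y * w⁻¹ * y⁻¹ * w ∈ D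
    have hinv : (y * w⁻¹ * y⁻¹ * w)⁻¹ ∈ Dsub Q V := (Dsub Q V).inv_mem hc'
    have hconj := (Subgroup.mem_normalizer_iff.1 (hDN hwV) _).1 hinv
    have e : w * (y * w⁻¹ * y⁻¹ * w)⁻¹ * w⁻¹ = y * w * y⁻¹ * w⁻¹ := by group
    rwa [e] at hconj
  -- second part
  have huV : w⁻¹ * v ∈ V := V.mul_mem (V.inv_mem hwV) hv
  have h2 : ∀ z ∈ cj a P, z⁻¹ * (w⁻¹ * v) * z * (w⁻¹ * v)⁻¹ ∈ Dsub Q V := by
    intro z hz
    have hzA : z ∈ A := hcPA hz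
    have hvz : v * z * v⁻¹ ∈ cj (v * a) P := by
      rw [mem_cj] at hz ⊢
      have e : (v * a)⁻¹ * (v * z * v⁻¹) * (v * a) = a⁻¹ * z * a := by group
      rw [e]
      exact hz
    have hyB : v * z * v⁻¹ ∈ cj w (A ⊔ Dsub Q V) := hB (Subgroup.mem_sup_right hvz)
    rw [mem_cj] at hyB
    have hc : z⁻¹ * (w⁻¹ * (v * z * v⁻¹) * w) ∈ A ⊔ Dsub Q V :=
      Subgroup.mul_mem _ (hAsup (A.inv_mem hzA)) hyB
    have hcV : z⁻¹ * (w⁻¹ * (v * z * v⁻¹) * w) ∈ V := by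
      have h3 : z⁻¹ * (w⁻¹ * v) * z⁻¹⁻¹ ∈ V :=
        (Subgroup.mem_normalizer_iff.1 (h.hAV (A.inv_mem hzA)) _).1 huV
      have e : z⁻¹ * (w⁻¹ * (v * z * v⁻¹) * w) = (z⁻¹ * (w⁻¹ * v) * z⁻¹⁻¹) * (w⁻¹ * v)⁻¹ := by
        group
      rw [e]
      exact V.mul_mem h3 (V.inv_mem huV)
    have := h78_mem_D_of_mem_sup hAD hDV hINT hcV hc
    have e : z⁻¹ * (w⁻¹ * v) * z * (w⁻¹ * v)⁻¹ = z⁻¹ * (w⁻¹ * (v * z * v⁻¹) * w) := by group
    rw [e]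
    exact this
  have hw2 : w⁻¹ * v ∈ S1 (cj a P) V (Dsub Q V) := by
    refine ⟨huV, ?_⟩
    intro z hz
    have := h2 z⁻¹ ((cj a P).inv_mem hz)
    rwa [inv_inv] at this
  exact ⟨w, hw1, w⁻¹ * v, hw2, by group⟩

end Cfsg.Agent.Helper78.FL
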