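import Mathlib
import Cfsg.Agent.Lib.Helper52.FLDefs
import Cfsg.Agent.Lib.Helper78.FLBADCore

/-!
# FL (CQ) core for helper52's server (S3822)

`mem_D_of_comm_core`: the statement of (CQ) with (COMM) and (DNOR) as hypotheses.
-/

set_option autoImplicit false

namespace Cfsg.Agent.Helper78.FL

open Cfsg.Agent.Helper52.FL

variable {G : Type*} [Group G]

/-- (CQ) from (COMM) and (DNOR) as hypotheses. -/
theorem mem_D_of_comm_core {A Q V : Subgroup G} {r s : ℕ} (h : Ctx A Q V r s)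
    (hcomm : ⁅V, Q⁆ = V) (hDN : V ≤ Subgroup.normalizer (Dsub Q V : Set G)) :
    ∀ v ∈ V, (∀ q ∈ Q, v * q * v⁻¹ * q⁻¹ ∈ Dsub Q V) → v ∈ Dsub Q V := by
  have hAD := h78_A_normalizes_D h
  let E : Subgroup G :=
    { carrier := {v | v ∈ V ∧ ∀ q ∈ Q, v * q * v⁻¹ * q⁻¹ ∈ Dsub Q V}
      one_mem' := by
        refine ⟨V.one_mem, ?_⟩
        intro q _
        have e : (1 : G) * q * 1⁻¹ * q⁻¹ = 1 := by group
        rw [e]
        exact (Dsub Q V).one_mem
      mul_mem' := by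
        rintro v v' ⟨hv, hvq⟩ ⟨hv', hvq'⟩
        refine ⟨V.mul_mem hv hv', ?_⟩
        intro q hq
        have h1 := (Subgroup.mem_normalizer_iff.1 (hDN hv) _).1 (hvq' q hq)
        have e : v * v' * q * (v * v')⁻¹ * q⁻¹ =
            (v * (v' * q * v'⁻¹ * q⁻¹) * v⁻¹) * (v * q * v⁻¹ * q⁻¹) := by group
        rw [e]
        exact (Dsub Q V).mul_mem h1 (hvq q hq)
      inv_mem' := by
        rintro v ⟨hv, hvq⟩
        refine ⟨V.inv_mem hv, ?_⟩
        intro q hq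
        have h1 := (Dsub Q V).inv_mem (hvq q hq)
        have h2 := (Subgroup.mem_normalizer_iff.1 (hDN (V.inv_mem hv)) _).1 h1
        have e : v⁻¹ * (v * q * v⁻¹ * q⁻¹)⁻¹ * v⁻¹⁻¹ = v⁻¹ * q * v⁻¹⁻¹ * q⁻¹ := by group
        rwa [e] at h2 }
  have hEV : E ≤ V := fun v hv => hv.1
  have hAE : A ≤ Subgroup.normalizer (E : Set G) := by
    have key : ∀ α ∈ A, ∀ v ∈ E, α * v * α⁻¹ ∈ E := by
      rintro α hα v ⟨hv, hvq⟩
      refine ⟨(Subgroup.mem_normalizer_iff.1 (h.hAV hα) v).1 hv, ?_⟩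
      intro q hq
      have hq' : α⁻¹ * q * α⁻¹⁻¹ ∈ Q :=
        (Subgroup.mem_normalizer_iff.1 (h.hAQ (A.inv_mem hα)) q).1 hq
      have h1 := (Subgroup.mem_normalizer_iff.1 (hAD hα) _).1 (hvq _ hq')
      have e : α * (v * (α⁻¹ * q * α⁻¹⁻¹) * v⁻¹ * (α⁻¹ * q * α⁻¹⁻¹)⁻¹) * α⁻¹ =
          α * v * α⁻¹ * q * (α * v * α⁻¹)⁻¹ * q⁻¹ := by group
      rwa [e] at h1
    intro α hα
    rw [Subgroup.mem_normalizer_iff]
    intro x
    constructor
    · intro hx; exact key α hα x hx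
    · intro hx
      have := key α⁻¹ (A.inv_mem hα) _ hx
      have e : α⁻¹ * (α * x * α⁻¹) * α⁻¹⁻¹ = x := by group
      rwa [e] at this
  have hne : E ≠ V := by
    intro hE
    apply h.hnc
    have hle : ⁅V, Q⁆ ≤ Dsub Q V := by
      rw [Subgroup.commutator_le]
      intro v hv q hq
      have hvE : v ∈ E := by rw [hE]; exact hv
      have := hvE.2 q hq
      rwa [commutatorElement_def]
    rw [hcomm] at hle
    exact hle.trans inf_le_right
  have hEC := h.hmin E hEV hne hAE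
  intro v hv hvq
  have hvE : v ∈ E := ⟨hv, hvq⟩
  exact ⟨hv, hEC hvE⟩

end Cfsg.Agent.Helper78.FL
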