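import Cfsg.Prelude.Def_DegreeGraph
import Cfsg.Agent.Lib.Helper76.CD2Basic
import Cfsg.Agent.Lib.Helper55.BlichChar1

/-!
# DG2 server (helper89, S4811), piece (C1): a nonabelian `q`-group has a nonlinear irreducible character
of degree divisible by `q`
-/

set_option autoImplicit false

namespace Cfsg.Agent.Helper78.DG2

open Cfsg

universe u

/-- (C1) a nonabelian `q`-group has an irreducible character of degree `> 1` divisible by `q`. -/
theorem pgroup_char {H : Type u} [Group H] [Finite H] (hna : ¬ ∀ a b : H, a * b = b * a)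
    (q m : ℕ) (hqp : q.Prime) (hcard : Nat.card H = q ^ m) :
    ∃ β : IrrCharacter H, 1 < charDegree (β : H → ℂ) ∧ q ∣ charDegree (β : H → ℂ) := by
  by_contra hcon
  apply hna
  apply Cfsg.Agent.Helper76.CD2.comm_of_all_linear
  intro χ
  have h1 : charDegree (χ : H → ℂ) ∣ (⊥ : Subgroup H).index :=
    Cfsg.Agent.Helper55.Blich.ito_dvd (⊥ : Subgroup H)
      (by
        intro a ha b hb
        rw [Subgroup.mem_bot] at ha hb
        rw [ha, hb]) χ
  rw [Subgroup.index_bot, hcard] at h1
  obtain ⟨k, _, hkeq⟩ := (Nat.dvd_prime_pow hqp).mp h1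
  rcases Nat.eq_zero_or_pos k with hk0 | hkpos
  · rw [hkeq, hk0, pow_zero]
  · exfalso
    apply hcon
    refine ⟨χ, ?_, ?_⟩
    · rw [hkeq]
      exact Nat.one_lt_pow hkpos.ne' hqp.one_lt
    · rw [hkeq]
      exact dvd_pow_self q hkpos.ne'

end Cfsg.Agent.Helper78.DG2
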