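import Cfsg.Prelude.Def_DegreeGraph
import Cfsg.Agent.Lib.Helper79.Inflation

/-!
# DG2 server (helper89, S4811), piece (INF): inflation keeps the degree
-/

set_option autoImplicit false

namespace Cfsg.Agent.Helper78.DG2

open Cfsg

universe u

/-- (INF) inflation: an irreducible character of `G ⧸ K` gives one of `G` of the same degree. -/
theorem inflate_deg {G : Type u} [Group G] [Finite G] (K : Subgroup G) [K.Normal]
    (β : IrrCharacter (G ⧸ K)) :
    ∃ ψ : IrrCharacter G, charDegree (ψ : G → ℂ) = charDegree (β : G ⧸ K → ℂ) :=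
  ⟨Cfsg.Agent.Helper79.inflate K β, Cfsg.Agent.Helper79.charDegree_inflate K β⟩

end Cfsg.Agent.Helper78.DG2
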