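import Cfsg.Prelude.Def_DegreeGraph
import Cfsg.Agent.Lib.Helper76.CD2Deg
import Cfsg.Agent.Lib.Helper76.CD2Struct2
import Cfsg.Agent.Lib.Helper76.CD2Struct4
import Cfsg.Agent.Lib.Helper74.LinChar

/-!
# DG2 server (helper89, S4811), piece (C2): the Frobenius case, an irreducible character of degree `|H : V|`
-/

set_option autoImplicit false

namespace Cfsg.Agent.Helper78.DG2

open Cfsg

universe u

/-- (C2) Frobenius case: an irreducible character of degree `|H : V|`. -/
theorem frob_char {H : Type u} [Group H] [Finite H] (V : Subgroup H) [V.Normal]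
    (hVb : V ≠ ⊥) (hab : ∀ a ∈ V, ∀ b ∈ V, a * b = b * a)
    (hfpf : ∀ g : H, g ∉ V → ∀ x ∈ V, g * x * g⁻¹ = x → x = 1) :
    ∃ β : IrrCharacter H, charDegree (β : H → ℂ) = V.index := by
  classical
  letI : Fintype H := Fintype.ofFinite H
  letI : Fintype V := Fintype.ofFinite V
  have hVn : V.Normal := inferInstance
  -- a nontrivial linear character of `V`
  have hnt : Nontrivial V := (Subgroup.nontrivial_iff_ne_bot V).mpr hVb
  have hcV : ∀ a b : V, a * b = b * a := by
    intro a b
    apply Subtype.ext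
    exact hab a.1 a.2 b.1 b.2
  obtain ⟨lam, hlam⟩ := Cfsg.Agent.Helper76.CD2.exists_hom_ne_one V hcV hnt
  -- its inertia group is `V`
  have hT : ∀ g : H, g ∈ V ↔
      Cfsg.Agent.Helper81.conjFun V hVn (Cfsg.Agent.Helper76.CD2.linFun lam) g =
        Cfsg.Agent.Helper76.CD2.linFun lam := by
    intro g
    constructor
    · intro hg
      funext x
      rw [Cfsg.Agent.Helper81.conjFun_apply]
      have hx : (⟨g * x * g⁻¹, hVn.conj_mem x x.2 g⟩ : V) = x := by
        apply Subtype.ext
        change g * (x : H) * g⁻¹ = x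
        rw [hab g hg x x.2, mul_assoc, mul_inv_cancel, mul_one]
      rw [hx]
    · intro hg
      by_contra hgV
      apply hlam
      apply Cfsg.Agent.Helper76.CD2.dual_fpf V hVn g (hfpf g hgV) lam
      intro x
      have := congrFun hg x
      rw [Cfsg.Agent.Helper81.conjFun_apply, Cfsg.Agent.Helper76.CD2.linFun_apply,
        Cfsg.Agent.Helper76.CD2.linFun_apply] at this
      exact Units.ext this
  -- the trivial character of `V`
  let β0 : IrrCharacter V := Cfsg.Agent.Helper74.Lin.ofHom (1 : V →* ℂˣ)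
  have hβ0 : ∀ x : V, (β0 : V → ℂ) x = 1 := by
    intro x
    change (((1 : V →* ℂˣ) x : ℂˣ) : ℂ) = 1
    simp
  obtain ⟨χ, hχ⟩ := Cfsg.Agent.Helper76.CD2.exists_irr_deg V V hVn le_rfl lam hT lam
    (fun x => rfl) β0 (fun x => by rw [hβ0, hβ0])
  refine ⟨χ, ?_⟩
  rw [hχ]
  have h1 : charDegree (β0 : V → ℂ) = 1 := by
    unfold charDegree
    rw [hβ0]
    simp
  rw [h1, mul_one]

end Cfsg.Agent.Helper78.DG2
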