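import Mathlib
import Cfsg.Agent.Lib.Helper62.SLN0

/-!
# SLN project (S2332), piece G11: a transvection `1 + e_j tᵀ` of `SL κ` (`|κ| ≥ 3`) is a commutator of
two elements fixing `e_j`.  Also the abstract commutator identity used by G12.
-/

set_option autoImplicit false

namespace Cfsg.Agent.Helper78.SLN

open Matrix Module Cfsg.Agent.Helper93.U2 Cfsg.Agent.Helper62.SLN

variable {F : Type*} [Field F] {κ : Type} [Fintype κ] [DecidableEq κ]

/-- the abstract identity `(1 + e fᵀ)(1 + y sᵀ) = (1 + e sᵀ)((1 + y sᵀ)(1 + e fᵀ))`. -/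
theorem g11_mat (e f y s : κ → F) (hfe : f ⬝ᵥ e = 0) (hsy : s ⬝ᵥ y = 0) (hse : s ⬝ᵥ e = 0)
    (hfy : f ⬝ᵥ y = 1) :
    (1 + vecMulVec e f) * (1 + vecMulVec y s)
      = (1 + vecMulVec e s) * ((1 + vecMulVec y s) * (1 + vecMulVec e f)) := by
  simp only [Matrix.add_mul, Matrix.mul_add, Matrix.one_mul, Matrix.mul_one,
    Matrix.vecMulVec_mul_vecMulVec, hfe, hsy, hse, hfy, zero_smul, one_smul,
    Matrix.vecMulVec_zero, add_zero]
  abel

/-- `1 + y sᵀ` as an element of `SL` (`s·y = 0`). -/
def g11Y (y s : κ → F) (h : s ⬝ᵥ y = 0) : SpecialLinearGroup κ F :=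
  ⟨1 + vecMulVec y s, by
    rw [vecMulVec_eq Unit, det_one_add_replicateCol_mul_replicateRow, h, add_zero]⟩

theorem g11Y_val (y s : κ → F) (h : s ⬝ᵥ y = 0) :
    (g11Y y s h : Matrix κ κ F) = 1 + vecMulVec y s := rfl

theorem g11_mulVec (v φ x : κ → F) : (1 + vecMulVec v φ) *ᵥ x = x + (φ ⬝ᵥ x) • v := by
  rw [Matrix.add_mulVec, Matrix.one_mulVec]
  congr 1
  funext i
  simp only [Matrix.mulVec, vecMulVec_apply, dotProduct, Pi.smul_apply, smul_eq_mul]
  rw [Finset.sum_mul]
  apply Finset.sum_congr rfl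
  intro k _
  ring

/-- commutator form from the matrix identity -/
theorem g11_comm (X Y T : SpecialLinearGroup κ F) (h : X.1 * Y.1 = T.1 * (Y.1 * X.1)) :
    T = X * Y * X⁻¹ * Y⁻¹ := by
  have h' : X * Y = T * (Y * X) := by
    apply Subtype.ext
    simp only [Matrix.SpecialLinearGroup.coe_mul]
    exact h
  calc T = T * (Y * X) * (Y * X)⁻¹ := by group
    _ = X * Y * (Y * X)⁻¹ := by rw [← h']
    _ = X * Y * X⁻¹ * Y⁻¹ := by group

theorem g11_update_dot_single (j : κ) (t : κ → F) :
    Function.update t j 0 ⬝ᵥ (Pi.single j 1 : κ → F) = 0 := by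
  rw [dotProduct_single, mul_one, Function.update_self]

/-- the general construction: from `f`, `y` with the orthogonality relations. -/
theorem g11_of_fy (j : κ) (t f y : κ → F) (hfj : f j = 0)
    (hty : Function.update t j 0 ⬝ᵥ y = 0) (hfy : f ⬝ᵥ y = 1) :
    tvEl j t = tvEl j f * g11Y y (Function.update t j 0) hty * (tvEl j f)⁻¹
      * (g11Y y (Function.update t j 0) hty)⁻¹ := by
  apply g11_comm
  rw [tvEl_val, tvEl_val, g11Y_val]
  have hf' : Function.update f j 0 = f := by
    rw [Function.update_eq_self_iff]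
    exact hfj.symm
  rw [hf']
  apply g11_mat
  · rw [dotProduct_single, mul_one]
    exact hfj
  · exact hty
  · exact g11_update_dot_single j t
  · exact hfy

theorem g11_tvEl_fix (j : κ) (f x : κ → F) (h : Function.update f j 0 ⬝ᵥ x = 0) :
    (tvEl j f).1 *ᵥ x = x := by
  rw [tvEl_val, g11_mulVec, h, zero_smul, add_zero]

theorem g11_Y_fix (y s x : κ → F) (h : s ⬝ᵥ y = 0) (hx : s ⬝ᵥ x = 0) :
    (g11Y y s h).1 *ᵥ x = x := by
  rw [g11Y_val, g11_mulVec, hx, zero_smul, add_zero]

/-- piece G11 -/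
theorem tvEl_comm_fix_single (hκ : 3 ≤ Fintype.card κ) (j : κ) (t : κ → F) :
    ∃ X Y : SpecialLinearGroup κ F, X.1 *ᵥ (Pi.single j 1) = Pi.single j 1 ∧
      Y.1 *ᵥ (Pi.single j 1) = Pi.single j 1 ∧ tvEl j t = X * Y * X⁻¹ * Y⁻¹ := by
  by_cases h0 : Function.update t j 0 = 0
  · refine ⟨1, 1, ?_, ?_, ?_⟩
    · rw [Matrix.SpecialLinearGroup.coe_one, Matrix.one_mulVec]
    · rw [Matrix.SpecialLinearGroup.coe_one, Matrix.one_mulVec]
    · apply Subtype.ext
      rw [tvEl_val, h0]
      simp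
  · -- an index `k` with `t̃ k ≠ 0`
    obtain ⟨k, hk⟩ : ∃ k, Function.update t j 0 k ≠ 0 := by
      by_contra hcon
      apply h0
      funext i
      by_contra hi
      exact hcon ⟨i, hi⟩
    have hkj : k ≠ j := by
      intro h
      rw [h, Function.update_self] at hk
      exact hk rfl
    -- an index `l ∉ {j, k}`
    obtain ⟨l, hlj, hlk⟩ : ∃ l : κ, l ≠ j ∧ l ≠ k := by
      by_contra hcon
      have hsub : (Finset.univ : Finset κ) ⊆ {j, k} := by
        intro l _
        by_contra hl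
        apply hcon
        refine ⟨l, ?_, ?_⟩
        · intro h; apply hl; rw [h]; exact Finset.mem_insert_self _ _
        · intro h; apply hl; rw [h]
          exact Finset.mem_insert_of_mem (Finset.mem_singleton_self _)
      have h1 := Finset.card_le_card hsub
      have h2 : ({j, k} : Finset κ).card ≤ 2 := Finset.card_le_two
      rw [Finset.card_univ] at h1
      omega
    set s := Function.update t j 0 with hs
    set y : κ → F := s k • Pi.single l 1 - s l • Pi.single k 1 with hy
    set f : κ → F := (s k)⁻¹ • Pi.single l 1 with hf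
    have hsy : s ⬝ᵥ y = 0 := by
      rw [hy, dotProduct_sub, dotProduct_smul, dotProduct_smul, dotProduct_single,
        dotProduct_single]
      simp only [smul_eq_mul, mul_one]
      ring
    have hfj : f j = 0 := by
      rw [hf, Pi.smul_apply, Pi.single_eq_of_ne hlj.symm, smul_zero]
    have hfy : f ⬝ᵥ y = 1 := by
      rw [hf, hy, smul_dotProduct, single_dotProduct, one_mul, Pi.sub_apply, Pi.smul_apply,
        Pi.smul_apply, Pi.single_eq_same, Pi.single_eq_of_ne hlk]
      simp only [smul_eq_mul, mul_one, mul_zero, sub_zero]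
      exact inv_mul_cancel₀ hk
    refine ⟨tvEl j f, g11Y y s hsy, ?_, ?_, g11_of_fy j t f y hfj hsy hfy⟩
    · apply g11_tvEl_fix
      exact g11_update_dot_single j f
    · apply g11_Y_fix
      exact g11_update_dot_single j t

end Cfsg.Agent.Helper78.SLN
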