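import Mathlib
import Cfsg.Agent.Lib.Helper93.U20

/-!
# U2 server (helper93, S2335), piece (Ra): elementary facts on a `Pairing` (second seat)
-/

set_option autoImplicit false

namespace Cfsg.Agent.Helper78.U2

open Matrix Cfsg.Agent.Helper13 Cfsg.Agent.Helper93.U2

section REP

variable {G : Type*} [Group G] {𝓐 : Type*} [AddCommGroup 𝓐] [Fintype 𝓐]
  {V : Type*} [AddCommGroup V] [Module ℂ V]
  (pr : Pairing 𝓐) (el : 𝓐 → G) (ρ : Representation ℂ G V)

omit [Fintype 𝓐] in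
/-- piece Ra (1) -/
theorem Pairing_zero_left (b : 𝓐) : pr.β 0 b = 1 := by
  rw [pr.symm, pr.zero_right]

omit [Fintype 𝓐] in
/-- piece Ra (2) -/
theorem Pairing_add_left (a a' b : 𝓐) : pr.β (a + a') b = pr.β a b * pr.β a' b := by
  rw [pr.symm (a + a') b, pr.add_right, pr.symm b a, pr.symm b a']

omit [Fintype 𝓐] in
/-- piece Ra (3) -/
theorem Pairing_neg_right (a b : 𝓐) : pr.β a (-b) * pr.β a b = 1 := by
  rw [← pr.add_right, neg_add_cancel, pr.zero_right]

/-- piece Ra (4) -/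
theorem Pairing_sum_eq_zero (a : 𝓐) (ha : a ≠ 0) : ∑ b : 𝓐, pr.β a b = 0 := by
  have hex : ∃ c : 𝓐, pr.β a c ≠ 1 := by
    by_contra hcon
    push Not at hcon
    exact ha (pr.nondeg a hcon)
  obtain ⟨c, hc⟩ := hex
  have h1 : ∑ b : 𝓐, pr.β a b = pr.β a c * ∑ b : 𝓐, pr.β a b := by
    rw [Finset.mul_sum]
    have h2 : ∑ b : 𝓐, pr.β a c * pr.β a b = ∑ b : 𝓐, pr.β a (c + b) := by
      apply Finset.sum_congr rfl
      intro b _
      rw [pr.add_right]
    rw [h2]
    exact (Equiv.sum_comp (Equiv.addLeft c) (fun b => pr.β a b)).symm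
  have h3 : (1 - pr.β a c) * ∑ b : 𝓐, pr.β a b = 0 := by
    rw [sub_mul, one_mul, ← h1, sub_self]
  rcases mul_eq_zero.mp h3 with h4 | h4
  · exact absurd (sub_eq_zero.mp h4).symm hc
  · exact h4

end REP

end Cfsg.Agent.Helper78.U2
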