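import Mathlib
import Cfsg.Agent.Lib.Helper93.U20

/-!
# U2 server (helper93, S2335), piece (K1): an irreducible representation of degree `≥ 2` is not trivial
-/

set_option autoImplicit false

namespace Cfsg.Agent.Helper78.U2

open Matrix Cfsg.Agent.Helper13 Cfsg.Agent.Helper93.U2

/-- piece K1 -/
theorem exists_ne_one_of_irreducible {G : Type*} [Group G] {k : ℕ}
    (ρ : Representation ℂ G (Fin k → ℂ)) (hρ : ρ.IsIrreducible) (hk : 2 ≤ k) :
    ∃ g : G, ρ g ≠ 1 := by
  by_contra hcon
  push Not at hcon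
  let i0 : Fin k := ⟨0, by omega⟩
  let i1 : Fin k := ⟨1, by omega⟩
  have h01 : i1 ≠ i0 := by
    intro h
    have := congrArg Fin.val h
    simp [i0, i1] at this
  let e0 : Fin k → ℂ := Pi.single i0 1
  let W : Subrepresentation ρ :=
    { toSubmodule := Submodule.span ℂ {e0}
      apply_mem_toSubmodule := by
        intro g v hv
        rw [hcon g]
        exact hv }
  have he0 : e0 ∈ W.toSubmodule := Submodule.subset_span rfl
  have he0ne : e0 ≠ 0 := by
    intro h
    have := congrFun h i0
    simp [e0] at this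
  rcases hρ.eq_bot_or_eq_top W with hW | hW
  · have h1 : e0 ∈ (⊥ : Subrepresentation ρ).toSubmodule := by rw [← hW]; exact he0
    have h2 : e0 ∈ (⊥ : Submodule ℂ (Fin k → ℂ)) := h1
    exact he0ne ((Submodule.mem_bot ℂ).mp h2)
  · have h1 : (Pi.single i1 1 : Fin k → ℂ) ∈ (⊤ : Subrepresentation ρ).toSubmodule := by
      change (Pi.single i1 1 : Fin k → ℂ) ∈ (⊤ : Submodule ℂ (Fin k → ℂ))
      exact Submodule.mem_top
    rw [← hW] at h1
    obtain ⟨c, hc⟩ := Submodule.mem_span_singleton.mp h1
    have := congrFun hc i1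
    simp [e0, h01] at this

end Cfsg.Agent.Helper78.U2
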