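import Mathlib
import Cfsg.Agent.Lib.Helper93.U20

/-!
# U2 server (helper93, S2335), pieces (R1), (R2) in parametrised form: the facts of the pieces
Ra, Rb, Rc, Rd they use enter as hypotheses.
-/

set_option autoImplicit false

namespace Cfsg.Agent.Helper78.U2

open Matrix Cfsg.Agent.Helper13 Cfsg.Agent.Helper93.U2

section REP

variable {G : Type*} [Group G] {𝓐 : Type*} [AddCommGroup 𝓐] [Fintype 𝓐]
  {V : Type*} [AddCommGroup V] [Module ℂ V]
  (pr : Pairing 𝓐) (el : 𝓐 → G) (ρ : Representation ℂ G V)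

/-- piece R1, with Ra (1), Rb, Rc as hypotheses -/
theorem trivial_of_wsp_bot_of
    (hRa1 : ∀ b : 𝓐, pr.β 0 b = 1)
    (hRb : ∑ a : 𝓐, eOp pr el ρ a = 1)
    (hRc : ∀ (a : 𝓐) (v : V), eOp pr el ρ a v ∈ wsp pr el ρ a)
    (h : ∀ a : 𝓐, a ≠ 0 → wsp pr el ρ a = ⊥) (b : 𝓐) : ρ (el b) = 1 := by
  apply LinearMap.ext
  intro v
  have hv : eOp pr el ρ 0 v = v := by
    have h1 : (∑ a : 𝓐, eOp pr el ρ a) v = v := by rw [hRb]; rfl
    rw [LinearMap.sum_apply] at h1
    have h5 : ∑ a : 𝓐, eOp pr el ρ a v = eOp pr el ρ 0 v := by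
      apply Finset.sum_eq_single (0 : 𝓐)
      · intro a _ ha
        have h2 := hRc a v
        rw [h a ha] at h2
        exact (Submodule.mem_bot ℂ).mp h2
      · intro h0
        exact absurd (Finset.mem_univ _) h0
    exact h5.symm.trans h1
  have hmem := hRc 0 v
  rw [hv] at hmem
  have h3 := (mem_wsp pr el ρ 0 v).mp hmem b
  rw [h3, hRa1 b, one_smul]
  rfl

/-- piece R2, with Rd (1), Rd (2) as hypotheses -/
theorem card_wsp_le_of [FiniteDimensional ℂ V]
    (hRd1 : ∀ (a : 𝓐) (v : V), v ∈ wsp pr el ρ a → eOp pr el ρ a v = v)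
    (hRd2 : ∀ (a a' : 𝓐), a ≠ a' → ∀ v : V, v ∈ wsp pr el ρ a' → eOp pr el ρ a v = 0) :
    Nat.card {a : 𝓐 // wsp pr el ρ a ≠ ⊥} ≤ Module.finrank ℂ V := by
  classical
  have hex : ∀ a : {a : 𝓐 // wsp pr el ρ a ≠ ⊥}, ∃ v : V, v ∈ wsp pr el ρ a.1 ∧ v ≠ 0 := by
    intro a
    exact Submodule.exists_mem_ne_zero_of_ne_bot a.2
  choose w hw hw0 using hex
  have hli : LinearIndependent ℂ w := by
    rw [linearIndependent_iff']
    intro s g hsum i hi
    have h1 : eOp pr el ρ i.1 (∑ j ∈ s, g j • w j) = 0 := by rw [hsum, map_zero]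
    rw [map_sum] at h1
    have h2 : ∑ j ∈ s, eOp pr el ρ i.1 (g j • w j) = g i • w i := by
      rw [Finset.sum_eq_single i]
      · rw [map_smul, hRd1 i.1 (w i) (hw i)]
      · intro j _ hji
        rw [map_smul, hRd2 i.1 j.1 (fun hij => hji (Subtype.ext hij).symm) (w j) (hw j), smul_zero]
      · intro hni
        exact absurd hi hni
    rw [h2] at h1
    rcases smul_eq_zero.mp h1 with h3 | h3
    · exact h3
    · exact absurd h3 (hw0 i)
  have h4 := hli.fintype_card_le_finrank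
  rwa [← Nat.card_eq_fintype_card] at h4

end REP

end Cfsg.Agent.Helper78.U2
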