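import Mathlib
import Cfsg.Agent.Lib.Helper93.U20
import Cfsg.Agent.Lib.Helper78.U2Ra

/-!
# U2 server (helper93, S2335), pieces (Rb), (Rc), (Rd): the weight-space projectors (second seat)
-/

set_option autoImplicit false

namespace Cfsg.Agent.Helper78.U2

open Matrix Cfsg.Agent.Helper13 Cfsg.Agent.Helper93.U2

section REP

variable {G : Type*} [Group G] {𝓐 : Type*} [AddCommGroup 𝓐] [Fintype 𝓐]
  {V : Type*} [AddCommGroup V] [Module ℂ V]
  (pr : Pairing 𝓐) (el : 𝓐 → G) (ρ : Representation ℂ G V)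

theorem rb_card_ne_zero : (Fintype.card 𝓐 : ℂ) ≠ 0 := by
  have : Fintype.card 𝓐 ≠ 0 := Fintype.card_ne_zero
  exact_mod_cast this

theorem rb_eOp_apply (a : 𝓐) (w : V) :
    eOp pr el ρ a w = (Fintype.card 𝓐 : ℂ)⁻¹ • ∑ b : 𝓐, pr.β a (-b) • ρ (el b) w := by
  unfold eOp
  rw [LinearMap.smul_apply, LinearMap.sum_apply]
  congr 1

/-- piece Rb (uses Ra) -/
theorem sum_eOp (hel : ∀ a b, el (a + b) = el a * el b) :
    ∑ a : 𝓐, eOp pr el ρ a = 1 := by
  classical
  have hel0 : el 0 = 1 := by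
    have h := hel 0 0
    rw [add_zero] at h
    exact mul_left_cancel (a := el 0) (by rw [← h, mul_one])
  have hN : (Fintype.card 𝓐 : ℂ) ≠ 0 := rb_card_ne_zero
  unfold eOp
  rw [← Finset.smul_sum, Finset.sum_comm]
  have h1 : ∀ b : 𝓐, ∑ a : 𝓐, pr.β a (-b) • ρ (el b) =
      (if b = 0 then (Fintype.card 𝓐 : ℂ) else 0) • ρ (el b) := by
    intro b
    rw [← Finset.sum_smul]
    congr 1
    have h2 : ∑ a : 𝓐, pr.β a (-b) = ∑ a : 𝓐, pr.β (-b) a :=
      Finset.sum_congr rfl (fun a _ => pr.symm a (-b))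
    rw [h2]
    split_ifs with hb
    · subst hb
      rw [neg_zero]
      simp [Pairing_zero_left]
    · exact Pairing_sum_eq_zero pr (-b) (neg_ne_zero.mpr hb)
  rw [Finset.sum_congr rfl (fun b _ => h1 b), Finset.sum_eq_single (0 : 𝓐)]
  · rw [if_pos rfl, hel0, map_one, smul_smul, inv_mul_cancel₀ hN, one_smul]
  · intro b _ hb
    rw [if_neg hb, zero_smul]
  · intro h
    exact absurd (Finset.mem_univ _) h

/-- piece Rc (uses Ra) -/
theorem eOp_mem_wsp (hel : ∀ a b, el (a + b) = el a * el b) (a : 𝓐) (v : V) :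
    eOp pr el ρ a v ∈ wsp pr el ρ a := by
  rw [mem_wsp]
  intro c
  rw [rb_eOp_apply, map_smul, map_sum, smul_comm (pr.β a c)]
  congr 1
  rw [Finset.smul_sum]
  have h1 : ∀ b : 𝓐, (ρ (el c)) (pr.β a (-b) • (ρ (el b)) v) =
      (fun b' : 𝓐 => pr.β a c • pr.β a (-b') • (ρ (el b')) v) (c + b) := by
    intro b
    change _ = pr.β a c • pr.β a (-(c + b)) • (ρ (el (c + b))) v
    rw [map_smul, hel c b, map_mul, Module.End.mul_apply, smul_smul, ← pr.add_right]
    congr 2
    abel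
  rw [Finset.sum_congr rfl (fun b _ => h1 b)]
  exact Equiv.sum_comp (Equiv.addLeft c) (fun b' : 𝓐 => pr.β a c • pr.β a (-b') • (ρ (el b')) v)

/-- piece Rd (1) (uses Ra) -/
theorem eOp_self (a : 𝓐) (v : V) (hv : v ∈ wsp pr el ρ a) : eOp pr el ρ a v = v := by
  have hN : (Fintype.card 𝓐 : ℂ) ≠ 0 := rb_card_ne_zero
  rw [rb_eOp_apply]
  have h1 : ∀ b : 𝓐, pr.β a (-b) • (ρ (el b)) v = v := by
    intro b
    rw [(mem_wsp pr el ρ a v).mp hv b, smul_smul, Pairing_neg_right, one_smul]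
  rw [Finset.sum_congr rfl (fun b _ => h1 b), Finset.sum_const, Finset.card_univ, ← Nat.cast_smul_eq_nsmul ℂ,
    smul_smul, inv_mul_cancel₀ hN, one_smul]

/-- piece Rd (2) (uses Ra) -/
theorem eOp_other (a a' : 𝓐) (h : a ≠ a') (v : V) (hv : v ∈ wsp pr el ρ a') :
    eOp pr el ρ a v = 0 := by
  rw [rb_eOp_apply]
  have hneg : ∀ b : 𝓐, pr.β a (-b) = pr.β (-a) b := by
    intro b
    have h1 : pr.β a (-b) * pr.β a b = 1 := Pairing_neg_right pr a b
    have h2 : pr.β (-a) b * pr.β a b = 1 := by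
      rw [← Pairing_add_left, neg_add_cancel, Pairing_zero_left]
    have h3 : pr.β a b ≠ 0 := by
      intro h0
      rw [h0, mul_zero] at h1
      exact zero_ne_one h1
    exact mul_right_cancel₀ h3 (h1.trans h2.symm)
  have h1 : ∀ b : 𝓐, pr.β a (-b) • (ρ (el b)) v = pr.β (-a + a') b • v := by
    intro b
    rw [(mem_wsp pr el ρ a' v).mp hv b, smul_smul, hneg, ← Pairing_add_left]
  rw [Finset.sum_congr rfl (fun b _ => h1 b), ← Finset.sum_smul,
    Pairing_sum_eq_zero pr (-a + a') (by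
      intro h0
      apply h
      have : a' = a := by
        have := congrArg (fun x => a + x) h0
        simpa using this
      exact this.symm), zero_smul, smul_zero]

end REP

end Cfsg.Agent.Helper78.U2
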