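import Mathlib
import Cfsg.Agent.Lib.Helper93.U20
import Cfsg.Agent.Lib.Helper78.U2ROf
import Cfsg.Agent.Lib.Helper78.U2Ra
import Cfsg.Agent.Lib.Helper78.U2Rbcd

/-!
# U2 server (helper93, S2335), pieces (R1) and (R2), verbatim
-/

set_option autoImplicit false

namespace Cfsg.Agent.Helper78.U2

open Matrix Cfsg.Agent.Helper13 Cfsg.Agent.Helper93.U2

section REP

variable {G : Type*} [Group G] {𝓐 : Type*} [AddCommGroup 𝓐] [Fintype 𝓐]
  {V : Type*} [AddCommGroup V] [Module ℂ V]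
  (pr : Pairing 𝓐) (el : 𝓐 → G) (ρ : Representation ℂ G V)

/-- piece R1 (uses Rb, Rc, Ra) -/
theorem trivial_of_wsp_bot (hel : ∀ a b, el (a + b) = el a * el b)
    (h : ∀ a : 𝓐, a ≠ 0 → wsp pr el ρ a = ⊥) (b : 𝓐) : ρ (el b) = 1 :=
  trivial_of_wsp_bot_of pr el ρ (Pairing_zero_left pr) (sum_eOp pr el ρ hel)
    (eOp_mem_wsp pr el ρ hel) h b

/-- piece R2 (uses Rd) -/
theorem card_wsp_le [FiniteDimensional ℂ V] :
    Nat.card {a : 𝓐 // wsp pr el ρ a ≠ ⊥} ≤ Module.finrank ℂ V :=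
  card_wsp_le_of pr el ρ (eOp_self pr el ρ) (eOp_other pr el ρ)

end REP

end Cfsg.Agent.Helper78.U2
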