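import Mathlib
import Cfsg.Agent.Lib.Helper62.SLN0
import Cfsg.Agent.Lib.Helper78.SLN_G11

/-!
# SLN project (S2332), piece G12: if `t·w = 0`, `w j = 0`, `|κ| ≥ 4`, the transvection `1 + e_j tᵀ` of
`SL κ` is a commutator of two elements fixing `w`.  Explicit coordinates, no dimension count.
-/

set_option autoImplicit false

namespace Cfsg.Agent.Helper78.SLN

open Matrix Module Cfsg.Agent.Helper93.U2 Cfsg.Agent.Helper62.SLN

variable {F : Type*} [Field F] {κ : Type} [Fintype κ] [DecidableEq κ]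

/-- two distinct indices outside `{j, k}` when `|κ| ≥ 4`. -/
theorem g12_exists_two (hκ : 4 ≤ Fintype.card κ) (j k : κ) :
    ∃ l m : κ, l ≠ j ∧ l ≠ k ∧ m ≠ j ∧ m ≠ k ∧ l ≠ m := by
  have hcard : 2 ≤ ((Finset.univ : Finset κ) \ {j, k}).card := by
    have h1 := Finset.card_sdiff_add_card_inter (Finset.univ : Finset κ) {j, k}
    have h2 : ((Finset.univ : Finset κ) ∩ {j, k}).card ≤ 2 :=
      le_trans (Finset.card_le_card Finset.inter_subset_right) Finset.card_le_two
    rw [Finset.card_univ] at h1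
    omega
  have hcard' : 1 < ((Finset.univ : Finset κ) \ {j, k}).card := by omega
  obtain ⟨l, hl, m, hm, hlm⟩ := Finset.one_lt_card.mp hcard'
  rw [Finset.mem_sdiff, Finset.mem_insert, Finset.mem_singleton] at hl hm
  refine ⟨l, m, ?_, ?_, ?_, ?_, hlm⟩
  · exact fun h => hl.2 (Or.inl h)
  · exact fun h => hl.2 (Or.inr h)
  · exact fun h => hm.2 (Or.inl h)
  · exact fun h => hm.2 (Or.inr h)

/-- the vectors `f`, `y`. -/
theorem g12_exists_fy (hκ : 4 ≤ Fintype.card κ) (j : κ) (w s : κ → F) (hs0 : s ≠ 0) (hsj : s j = 0) :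
    ∃ f y : κ → F, f j = 0 ∧ f ⬝ᵥ w = 0 ∧ f ⬝ᵥ y = 1 ∧ s ⬝ᵥ y = 0 := by
  obtain ⟨k, hk⟩ : ∃ k, s k ≠ 0 := by
    by_contra hcon
    apply hs0
    funext i
    by_contra hi
    exact hcon ⟨i, hi⟩
  have hkj : k ≠ j := by
    intro h
    rw [h] at hk
    exact hk hsj
  obtain ⟨l, m, hlj, hlk, hmj, hmk, hlm⟩ := g12_exists_two hκ j k
  by_cases hwl : w l = 0
  · refine ⟨(s k)⁻¹ • Pi.single l 1, s k • Pi.single l 1 - s l • Pi.single k 1, ?_, ?_, ?_, ?_⟩
    · simp [hlj.symm]
    · rw [smul_dotProduct, single_dotProduct, one_mul, hwl, smul_zero]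
    · rw [smul_dotProduct, single_dotProduct, one_mul, Pi.sub_apply, Pi.smul_apply, Pi.smul_apply,
        Pi.single_eq_same, Pi.single_eq_of_ne hlk]
      simp only [smul_eq_mul, mul_one, mul_zero, sub_zero]
      exact inv_mul_cancel₀ hk
    · rw [dotProduct_sub, dotProduct_smul, dotProduct_smul, dotProduct_single, dotProduct_single]
      simp only [smul_eq_mul, mul_one]
      ring
  · refine ⟨(w l * s k)⁻¹ • (w l • Pi.single m 1 - w m • Pi.single l 1),
      s k • Pi.single m 1 - s m • Pi.single k 1, ?_, ?_, ?_, ?_⟩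
    · simp [hlj.symm, hmj.symm]
    · rw [smul_dotProduct, sub_dotProduct, smul_dotProduct, smul_dotProduct, single_dotProduct,
        single_dotProduct]
      simp only [smul_eq_mul, one_mul]
      rw [mul_comm (w l) (w m), sub_self, mul_zero]
    · rw [smul_dotProduct, sub_dotProduct, smul_dotProduct, smul_dotProduct, single_dotProduct,
        single_dotProduct, one_mul, one_mul, Pi.sub_apply, Pi.sub_apply, Pi.smul_apply,
        Pi.smul_apply, Pi.smul_apply, Pi.smul_apply, Pi.single_eq_same,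
        Pi.single_eq_of_ne hmk, Pi.single_eq_of_ne hlm, Pi.single_eq_of_ne hlk]
      simp only [smul_eq_mul, mul_one, mul_zero, sub_zero]
      exact inv_mul_cancel₀ (mul_ne_zero hwl hk)
    · rw [dotProduct_sub, dotProduct_smul, dotProduct_smul, dotProduct_single, dotProduct_single]
      simp only [smul_eq_mul, mul_one]
      ring

/-- piece G12 -/
theorem tvEl_comm_fix_vec (hκ : 4 ≤ Fintype.card κ) (j : κ) (w t : κ → F) (hwj : w j = 0)
    (ht : t ⬝ᵥ w = 0) :
    ∃ X Y : SpecialLinearGroup κ F, X.1 *ᵥ w = w ∧ Y.1 *ᵥ w = w ∧ tvEl j t = X * Y * X⁻¹ * Y⁻¹ := by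
  have hsw : Function.update t j 0 ⬝ᵥ w = 0 := by
    rw [← ht]
    unfold dotProduct
    apply Finset.sum_congr rfl
    intro i _
    by_cases hij : i = j
    · rw [hij, hwj, mul_zero, mul_zero]
    · rw [Function.update_of_ne hij]
  by_cases h0 : Function.update t j 0 = 0
  · refine ⟨1, 1, ?_, ?_, ?_⟩
    · rw [Matrix.SpecialLinearGroup.coe_one, Matrix.one_mulVec]
    · rw [Matrix.SpecialLinearGroup.coe_one, Matrix.one_mulVec]
    · apply Subtype.ext
      rw [tvEl_val, h0]
      simp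
  · obtain ⟨f, y, hfj, hfw, hfy, hsy⟩ :=
      g12_exists_fy hκ j w (Function.update t j 0) h0 (Function.update_self j 0 t)
    refine ⟨tvEl j f, g11Y y (Function.update t j 0) hsy, ?_, ?_, g11_of_fy j t f y hfj hsy hfy⟩
    · apply g11_tvEl_fix
      have hf' : Function.update f j 0 = f := by
        rw [Function.update_eq_self_iff]
        exact hfj.symm
      rw [hf']
      exact hfw
    · apply g11_Y_fix
      exact hsw

end Cfsg.Agent.Helper78.SLN
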