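import Mathlib
import Cfsg.Agent.Lib.Helper62.SLN0

/-!
# SLN project (S2332), piece G14: for `|κ| = 2`, `q ∉ {2, 4}`, `qEl j t` is a commutator of a torus element
`dEl α diag(α, α⁻²)` fixing the weight line `F e_j` with an element of `Q`.
-/

set_option autoImplicit false

namespace Cfsg.Agent.Helper78.SLN

open Matrix Module Cfsg.Agent.Helper93.U2 Cfsg.Agent.Helper62.SLN

variable {F : Type*} [Field F] {κ : Type} [Fintype κ] [DecidableEq κ]

/-- an element `α ≠ 0` with `α³ ≠ 1` when `q ∉ {2, 4}`. -/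
theorem g14_exists_alpha [Fintype F] (hq2 : Fintype.card F ≠ 2) (hq4 : Fintype.card F ≠ 4) :
    ∃ α : F, α ≠ 0 ∧ α ^ 3 ≠ 1 := by
  classical
  obtain ⟨g, hg⟩ := IsCyclic.exists_generator (α := Fˣ)
  refine ⟨(g : F), g.ne_zero, ?_⟩
  intro h3
  have h3' : g ^ 3 = 1 := by
    apply Units.ext
    rw [Units.val_pow_eq_pow_val, h3, Units.val_one]
  have hord : orderOf g = Fintype.card Fˣ := by
    rw [← Nat.card_eq_fintype_card]
    exact orderOf_eq_card_of_forall_mem_zpowers hg
  have hdvd : orderOf g ∣ 3 := orderOf_dvd_of_pow_eq_one h3'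
  rw [hord, Fintype.card_units] at hdvd
  have hcard : 2 ≤ Fintype.card F := by
    have := Fintype.one_lt_card (α := F)
    omega
  rcases (Nat.dvd_prime Nat.prime_three).mp hdvd with h | h
  · omega
  · omega

/-- the diagonal matrix `diag(α at j, α⁻² elsewhere)`. -/
def g14D (j : κ) (α : F) : κ → F := fun i => if i = j then α else (α ^ 2)⁻¹

theorem g14_det (hκ : Fintype.card κ = 2) (j : κ) (α : F) (hα : α ≠ 0) :
    α * (Matrix.diagonal (g14D j α)).det = 1 := by
  rw [Matrix.det_diagonal, ← Finset.mul_prod_erase Finset.univ _ (Finset.mem_univ j)]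
  have h1 : g14D j α j = α := if_pos rfl
  have h2 : ∏ i ∈ Finset.univ.erase j, g14D j α i = (α ^ 2)⁻¹ := by
    have hconst : ∀ i ∈ Finset.univ.erase j, g14D j α i = (α ^ 2)⁻¹ := by
      intro i hi
      exact if_neg (Finset.ne_of_mem_erase hi)
    rw [Finset.prod_congr rfl hconst, Finset.prod_const, Finset.card_erase_of_mem (Finset.mem_univ j),
      Finset.card_univ, hκ]
    norm_num
  rw [h1, h2]
  field_simp

theorem g14_update_smul (c : F) (t : κ → F) (j : κ) :
    Function.update (c • t) j 0 = c • Function.update t j 0 := by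
  funext i
  by_cases hij : i = j
  · rw [hij, Function.update_self, Pi.smul_apply, Function.update_self, smul_zero]
  · rw [Function.update_of_ne hij, Pi.smul_apply, Pi.smul_apply, Function.update_of_ne hij]

/-- the `κ`-level identity `A (1 + e_j s'ᵀ) = (1 + e_j sᵀ)(1 + e_j s'ᵀ) A` for `s = (α³ - 1) s'`, `s j = 0`. -/
theorem g14_mat (j : κ) (α : F) (hα : α ≠ 0) (s s' : κ → F) (hsj : s' j = 0)
    (hs : s = (α ^ 3 - 1) • s') :
    Matrix.diagonal (g14D j α) * (1 + vecMulVec (Pi.single j 1) s')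
      = (1 + vecMulVec (Pi.single j 1) s) * (1 + vecMulVec (Pi.single j 1) s')
        * Matrix.diagonal (g14D j α) := by
  have hsj' : s j = 0 := by rw [hs, Pi.smul_apply, hsj, smul_zero]
  have hprod : (1 + vecMulVec (Pi.single j 1) s) * (1 + vecMulVec (Pi.single j (1 : F)) s')
      = 1 + vecMulVec (Pi.single j 1) (s + s') := by
    rw [Matrix.add_mul, Matrix.mul_add, Matrix.mul_add, Matrix.one_mul, Matrix.one_mul,
      Matrix.mul_one, Matrix.vecMulVec_mul_vecMulVec, dotProduct_single, mul_one, hsj', zero_smul,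
      Matrix.vecMulVec_zero, add_zero, Matrix.vecMulVec_add]
    abel
  rw [hprod]
  ext i i'
  rw [Matrix.diagonal_mul, Matrix.mul_diagonal, Matrix.add_apply, Matrix.add_apply,
    vecMulVec_apply, vecMulVec_apply, Pi.add_apply]
  by_cases hii : i = i'
  · subst hii
    by_cases hij : i = j
    · subst hij
      rw [hsj, hsj']
      ring
    · rw [Pi.single_eq_of_ne hij]
      ring
  · rw [Matrix.one_apply_ne hii]
    by_cases hij : i = j
    · subst hij
      have hd1 : g14D i α i = α := if_pos rfl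
      have hd2 : g14D i α i' = (α ^ 2)⁻¹ := if_neg (fun h => hii h.symm)
      rw [hd1, hd2, Pi.single_eq_same, hs, Pi.smul_apply, smul_eq_mul]
      field_simp
      ring
    · rw [Pi.single_eq_of_ne hij]
      ring

/-- piece G14 -/
theorem qEl_comm_torus_two [Fintype F] (hκ : Fintype.card κ = 2) (hq2 : Fintype.card F ≠ 2)
    (hq4 : Fintype.card F ≠ 4) (j : κ) (t : κ → F) :
    ∃ (a : F) (A : Matrix κ κ F) (t' : κ → F), a * A.det = 1 ∧
      a⁻¹ • (A *ᵥ (Pi.single j 1)) = Pi.single j 1 ∧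
      qEl j t = dEl a A * qEl j t' * (dEl a A)⁻¹ * (qEl j t')⁻¹ := by
  obtain ⟨α, hα, hα3⟩ := g14_exists_alpha (F := F) hq2 hq4
  have hc : α ^ 3 - 1 ≠ 0 := sub_ne_zero.mpr hα3
  have hdet := g14_det hκ j α hα
  refine ⟨α, Matrix.diagonal (g14D j α), (α ^ 3 - 1)⁻¹ • t, hdet, ?_, ?_⟩
  · rw [Matrix.mulVec_single_one]
    funext i
    rw [Pi.smul_apply, Matrix.col_apply, Matrix.diagonal_apply]
    by_cases hij : i = j
    · subst hij
      have hd1 : g14D i α i = α := if_pos rfl
      rw [if_pos rfl, hd1, Pi.single_eq_same, smul_eq_mul, inv_mul_cancel₀ hα]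
    · rw [if_neg hij, Pi.single_eq_of_ne hij, smul_zero]
  · -- `D * Q' = Q * Q' * D`
    have hEq : dEl α (Matrix.diagonal (g14D j α)) * qEl j ((α ^ 3 - 1)⁻¹ • t)
        = qEl j t * qEl j ((α ^ 3 - 1)⁻¹ • t) * dEl α (Matrix.diagonal (g14D j α)) := by
      apply Subtype.ext
      simp only [Matrix.SpecialLinearGroup.coe_mul]
      rw [dEl_val _ _ hdet]
      unfold qEl
      rw [lEl_val, lEl_val, tvEl_val, tvEl_val, Matrix.fromBlocks_multiply,
        Matrix.fromBlocks_multiply, Matrix.fromBlocks_multiply]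
      have hmat := g14_mat j α hα (Function.update t j 0)
        (Function.update ((α ^ 3 - 1)⁻¹ • t) j 0) (Function.update_self j 0 _) (by
          rw [g14_update_smul, smul_smul, mul_inv_cancel₀ hc, one_smul])
      simp only [Matrix.mul_zero, Matrix.zero_mul, add_zero, zero_add, Matrix.mul_one,
        Matrix.one_mul]
      rw [hmat]
    calc qEl j t
        = qEl j t * qEl j ((α ^ 3 - 1)⁻¹ • t) * dEl α (Matrix.diagonal (g14D j α))
            * (dEl α (Matrix.diagonal (g14D j α)))⁻¹ * (qEl j ((α ^ 3 - 1)⁻¹ • t))⁻¹ := by group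
      _ = dEl α (Matrix.diagonal (g14D j α)) * qEl j ((α ^ 3 - 1)⁻¹ • t)
            * (dEl α (Matrix.diagonal (g14D j α)))⁻¹ * (qEl j ((α ^ 3 - 1)⁻¹ • t))⁻¹ := by
          rw [← hEq]

end Cfsg.Agent.Helper78.SLN
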