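import Mathlib
import Cfsg.Agent.Lib.Helper40.StVal.Defs

/-!
# STV (P): equivariant maps out of a direct sum (helper40 server, S2425)
-/

set_option autoImplicit false

namespace Cfsg.Agent.Helper78.STV

open Cfsg Cfsg.Agent.Helper40.Par Cfsg.Agent.Helper40.StVal Polynomial

section Mod

variable {F V : Type*} [Field F] [AddCommGroup V] [Module F V]

/-- the isomorphism `A × B ≃ A ⊔ B` for disjoint `A`, `B` -/
noncomputable def h78SupEquiv (A B : Submodule F V) (hdisj : Disjoint A B) :
    (↥A × ↥B) ≃ₗ[F] ↥(A ⊔ B) :=
  have hinj : Function.Injective (LinearMap.coprod A.subtype B.subtype) := by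
    rw [← LinearMap.ker_eq_bot, LinearMap.ker_coprod_of_disjoint_range]
    · simp
    · simpa using hdisj
  have hrange : LinearMap.range (LinearMap.coprod A.subtype B.subtype) = A ⊔ B := by
    simp [LinearMap.range_coprod]
  (LinearEquiv.ofInjective _ hinj).trans (LinearEquiv.ofEq _ _ hrange)

theorem h78SupEquiv_coe (A B : Submodule F V) (hdisj : Disjoint A B) (x : ↥A × ↥B) :
    ((h78SupEquiv A B hdisj x : ↥(A ⊔ B)) : V) = (x.1 : V) + (x.2 : V) := by
  simp [h78SupEquiv]

theorem h78SupEquiv_symm_inl (A B : Submodule F V) (hdisj : Disjoint A B) (a : ↥A) :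
    (h78SupEquiv A B hdisj).symm (Submodule.inclusion le_sup_left a) = (a, 0) := by
  rw [LinearEquiv.symm_apply_eq]
  apply Subtype.ext
  rw [h78SupEquiv_coe]
  simp

theorem h78SupEquiv_symm_inr (A B : Submodule F V) (hdisj : Disjoint A B) (b : ↥B) :
    (h78SupEquiv A B hdisj).symm (Submodule.inclusion le_sup_right b) = (0, b) := by
  rw [LinearEquiv.symm_apply_eq]
  apply Subtype.ext
  rw [h78SupEquiv_coe]
  simp

/-- restriction of an equivariant map to the first summand -/
def h78ResL (T : Module.End F V) (A B S : Submodule F V)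
    (hA : A ∈ T.invtSubmodule) (hAB : A ⊔ B ∈ T.invtSubmodule) (hS : S ∈ T.invtSubmodule)
    (φ : EqHom T (A ⊔ B) S hAB hS) : EqHom T A S hA hS :=
  Subtype.mk ((Subtype.val φ).comp (Submodule.inclusion le_sup_left)) (by
    intro v
    have h := Subtype.property φ (Submodule.inclusion le_sup_left v)
    have e : LinearMap.restrict T (p := A ⊔ B) (q := A ⊔ B) hAB (Submodule.inclusion le_sup_left v) =
        Submodule.inclusion le_sup_left (LinearMap.restrict T (p := A) (q := A) hA v) := by
      apply Subtype.ext
      rfl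
    rw [e] at h
    simpa using h)

/-- restriction of an equivariant map to the second summand -/
def h78ResR (T : Module.End F V) (A B S : Submodule F V)
    (hB : B ∈ T.invtSubmodule) (hAB : A ⊔ B ∈ T.invtSubmodule) (hS : S ∈ T.invtSubmodule)
    (φ : EqHom T (A ⊔ B) S hAB hS) : EqHom T B S hB hS :=
  Subtype.mk ((Subtype.val φ).comp (Submodule.inclusion le_sup_right)) (by
    intro v
    have h := Subtype.property φ (Submodule.inclusion le_sup_right v)
    have e : LinearMap.restrict T (p := A ⊔ B) (q := A ⊔ B) hAB (Submodule.inclusion le_sup_right v) =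
        Submodule.inclusion le_sup_right (LinearMap.restrict T (p := B) (q := B) hB v) := by
      apply Subtype.ext
      rfl
    rw [e] at h
    simpa using h)

/-- glueing two equivariant maps -/
noncomputable def h78Glue (T : Module.End F V) (A B S : Submodule F V)
    (hA : A ∈ T.invtSubmodule) (hB : B ∈ T.invtSubmodule) (hAB : A ⊔ B ∈ T.invtSubmodule)
    (hS : S ∈ T.invtSubmodule) (hdisj : Disjoint A B)
    (φ : EqHom T A S hA hS) (ψ : EqHom T B S hB hS) : EqHom T (A ⊔ B) S hAB hS :=
  Subtype.mk (((Subtype.val φ).coprod (Subtype.val ψ)).comp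
      (h78SupEquiv A B hdisj).symm.toLinearMap) (by
    intro w
    obtain ⟨x, rfl⟩ := (h78SupEquiv A B hdisj).surjective w
    have e : LinearMap.restrict T (p := A ⊔ B) (q := A ⊔ B) hAB (h78SupEquiv A B hdisj x) =
        h78SupEquiv A B hdisj (LinearMap.restrict T (p := A) (q := A) hA x.1,
          LinearMap.restrict T (p := B) (q := B) hB x.2) := by
      apply Subtype.ext
      rw [h78SupEquiv_coe]
      have h1 : ((LinearMap.restrict T (p := A ⊔ B) (q := A ⊔ B) hAB (h78SupEquiv A B hdisj x) : ↥(A ⊔ B)) : V) =
          T ((h78SupEquiv A B hdisj x : ↥(A ⊔ B)) : V) := rfl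
      rw [h1, h78SupEquiv_coe, map_add]
      rfl
    rw [e]
    simp only [LinearMap.coe_comp, LinearEquiv.coe_coe, Function.comp_apply,
      LinearEquiv.symm_apply_apply, LinearMap.coprod_apply]
    rw [Subtype.property φ x.1, Subtype.property ψ x.2, map_add])

/-- **(P) equivariant maps out of a direct sum.** -/
theorem card_eqHom_sup [FiniteDimensional F V] (T : Module.End F V) (A B S : Submodule F V)
    (hA : A ∈ T.invtSubmodule) (hB : B ∈ T.invtSubmodule) (hAB : A ⊔ B ∈ T.invtSubmodule)
    (hS : S ∈ T.invtSubmodule) (hdisj : Disjoint A B) :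
    Nat.card (EqHom T (A ⊔ B) S hAB hS) =
      Nat.card (EqHom T A S hA hS) * Nat.card (EqHom T B S hB hS) := by
  rw [← Nat.card_prod]
  refine Nat.card_congr
    { toFun := fun φ => (h78ResL T A B S hA hAB hS φ, h78ResR T A B S hB hAB hS φ)
      invFun := fun p => h78Glue T A B S hA hB hAB hS hdisj p.1 p.2
      left_inv := ?_
      right_inv := ?_ }
  · intro φ
    apply Subtype.ext
    apply LinearMap.ext
    intro w
    obtain ⟨x, rfl⟩ := (h78SupEquiv A B hdisj).surjective w
    have hw : h78SupEquiv A B hdisj x =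
        Submodule.inclusion le_sup_left x.1 + Submodule.inclusion le_sup_right x.2 := by
      apply Subtype.ext
      rw [h78SupEquiv_coe]
      simp
    simp only [h78Glue, h78ResL, h78ResR, LinearMap.coe_comp, LinearEquiv.coe_coe,
      Function.comp_apply, LinearEquiv.symm_apply_apply, LinearMap.coprod_apply]
    rw [hw, map_add]
  · rintro ⟨φ, ψ⟩
    apply Prod.ext
    · apply Subtype.ext
      apply LinearMap.ext
      intro a
      simp only [h78Glue, h78ResL, LinearMap.coe_comp, LinearEquiv.coe_coe, Function.comp_apply,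
        h78SupEquiv_symm_inl, LinearMap.coprod_apply, map_zero, add_zero]
    · apply Subtype.ext
      apply LinearMap.ext
      intro b
      simp only [h78Glue, h78ResR, LinearMap.coe_comp, LinearEquiv.coe_coe, Function.comp_apply,
        h78SupEquiv_symm_inr, LinearMap.coprod_apply, map_zero, zero_add]

end Mod

end Cfsg.Agent.Helper78.STV
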