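import Mathlib
import Cfsg.Agent.Lib.Helper40.StVal.Defs
import Cfsg.Agent.Lib.Helper99.STVA

/-!
# STV (S1): equivariant maps between minimal invariant subspaces (helper40 server, S2425)
-/

set_option autoImplicit false

namespace Cfsg.Agent.Helper78.STV

open Cfsg Cfsg.Agent.Helper40.Par Cfsg.Agent.Helper40.StVal Polynomial

section Mod

variable {F V : Type*} [Field F] [AddCommGroup V] [Module F V] [FiniteDimensional F V]

/-- a submodule of a minimal invariant subspace that is stable under the restriction is `⊥` or `⊤` -/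
theorem h78_atom_sub (T : Module.End F V) (S : Submodule F V) (hS : S ∈ T.invtSubmodule)
    (hmin : ∀ U ∈ T.invtSubmodule, U ≤ S → U = ⊥ ∨ U = S)
    (W : Submodule F ↥S)
    (hW : ∀ w ∈ W, LinearMap.restrict T (p := S) (q := S) hS w ∈ W) : W = ⊥ ∨ W = ⊤ := by
  have hinv : W.map S.subtype ∈ T.invtSubmodule := by
    rw [Module.End.mem_invtSubmodule]
    rintro u ⟨w, hw, rfl⟩
    exact ⟨LinearMap.restrict T (p := S) (q := S) hS w, hW w hw, rfl⟩
  have hinj : Function.Injective (Submodule.map S.subtype) :=
    Submodule.map_injective_of_injective S.injective_subtype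
  rcases hmin _ hinv (Submodule.map_subtype_le S W) with h | h
  · left
    apply hinj
    rw [h, Submodule.map_bot]
  · right
    apply hinj
    rw [h, Submodule.map_subtype_top]

/-- a non-zero equivariant map between minimal invariant subspaces is bijective -/
theorem h78_bijective (T : Module.End F V) (S' S : Submodule F V)
    (hS' : S' ∈ T.invtSubmodule) (hS : S ∈ T.invtSubmodule)
    (hmin' : ∀ U ∈ T.invtSubmodule, U ≤ S' → U = ⊥ ∨ U = S')
    (hmin : ∀ U ∈ T.invtSubmodule, U ≤ S → U = ⊥ ∨ U = S)
    (φ : ↥S' →ₗ[F] ↥S)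
    (hφ : ∀ v, φ (LinearMap.restrict T (p := S') (q := S') hS' v) =
      LinearMap.restrict T (p := S) (q := S) hS (φ v))
    (h0 : φ ≠ 0) : Function.Bijective φ := by
  constructor
  · rw [← LinearMap.ker_eq_bot]
    rcases h78_atom_sub T S' hS' hmin' (LinearMap.ker φ) (by
      intro w hw
      rw [LinearMap.mem_ker] at hw ⊢
      rw [hφ, hw, map_zero]) with h | h
    · exact h
    · exfalso
      apply h0
      exact LinearMap.ker_eq_top.mp h
  · rw [← LinearMap.range_eq_top]
    rcases h78_atom_sub T S hS hmin (LinearMap.range φ) (by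
      rintro _ ⟨w, rfl⟩
      exact ⟨LinearMap.restrict T (p := S') (q := S') hS' w, hφ w⟩) with h | h
    · exfalso
      apply h0
      exact LinearMap.range_eq_bot.mp h
    · exact h

/-- a non-zero equivariant map forces equal characteristic polynomials -/
theorem h78_charpoly_eq (T : Module.End F V) (S' S : Submodule F V)
    (hS' : S' ∈ T.invtSubmodule) (hS : S ∈ T.invtSubmodule)
    (hmin' : ∀ U ∈ T.invtSubmodule, U ≤ S' → U = ⊥ ∨ U = S')
    (hmin : ∀ U ∈ T.invtSubmodule, U ≤ S → U = ⊥ ∨ U = S)
    (φ : ↥S' →ₗ[F] ↥S)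
    (hφ : ∀ v, φ (LinearMap.restrict T (p := S') (q := S') hS' v) =
      LinearMap.restrict T (p := S) (q := S) hS (φ v))
    (h0 : φ ≠ 0) :
    (LinearMap.restrict T (p := S') (q := S') hS').charpoly =
      (LinearMap.restrict T (p := S) (q := S) hS).charpoly := by
  have hb := h78_bijective T S' S hS' hS hmin' hmin φ hφ h0
  let e : ↥S' ≃ₗ[F] ↥S := LinearEquiv.ofBijective φ hb
  have hconj : e.conj (LinearMap.restrict T (p := S') (q := S') hS') =
      LinearMap.restrict T (p := S) (q := S) hS := by
    apply LinearMap.ext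
    intro s
    rw [LinearEquiv.conj_apply_apply]
    have h1 : e (LinearMap.restrict T (p := S') (q := S') hS' (e.symm s)) =
        LinearMap.restrict T (p := S) (q := S) hS (e (e.symm s)) := hφ (e.symm s)
    rw [h1, LinearEquiv.apply_symm_apply]
  rw [← hconj, LinearEquiv.charpoly_conj]

/-- evaluation of polynomials in an endomorphism at a vector, as a linear map -/
noncomputable def h78Ev {M : Type*} [AddCommGroup M] [Module F M] (f : Module.End F M) (v : M) :
    F[X] →ₗ[F] M :=
  (LinearMap.applyₗ v).comp (Polynomial.aeval f).toLinearMap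

theorem h78Ev_apply {M : Type*} [AddCommGroup M] [Module F M] (f : Module.End F M) (v : M)
    (h : F[X]) : h78Ev f v h = (Polynomial.aeval f h) v := rfl

theorem h78Ev_X_mul {M : Type*} [AddCommGroup M] [Module F M] (f : Module.End F M) (v : M)
    (h : F[X]) : h78Ev f v (X * h) = f (h78Ev f v h) := by
  rw [h78Ev_apply, h78Ev_apply, map_mul, Polynomial.aeval_X, Module.End.mul_apply]

theorem h78Ev_one {M : Type*} [AddCommGroup M] [Module F M] (f : Module.End F M) (v : M) :
    h78Ev f v 1 = v := by
  rw [h78Ev_apply, map_one, Module.End.one_apply]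

/-- existence of an equivariant map with a prescribed value at a non-zero vector -/
theorem h78_exists_eq (T : Module.End F V) (S' S : Submodule F V)
    (hS' : S' ∈ T.invtSubmodule) (hS : S ∈ T.invtSubmodule) (hS'0 : S' ≠ ⊥)
    (hmin' : ∀ U ∈ T.invtSubmodule, U ≤ S' → U = ⊥ ∨ U = S')
    (heq : (LinearMap.restrict T (p := S') (q := S') hS').charpoly =
      (LinearMap.restrict T (p := S) (q := S) hS).charpoly)
    (v₀ : ↥S') (hv₀ : v₀ ≠ 0) (s : ↥S) :
    ∃ φ : ↥S' →ₗ[F] ↥S,
      (∀ v, φ (LinearMap.restrict T (p := S') (q := S') hS' v) =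
        LinearMap.restrict T (p := S) (q := S) hS (φ v)) ∧ φ v₀ = s := by
  have hirr : Irreducible (LinearMap.restrict T (p := S') (q := S') hS').charpoly :=
    Cfsg.Agent.Helper99.STV.atom_charpoly_irreducible T S' hS' hS'0 hmin'
  generalize hT' : LinearMap.restrict T (p := S') (q := S') hS' = T' at *
  generalize hTS : LinearMap.restrict T (p := S) (q := S) hS = TS at *
  have hsub : ∀ W : Submodule F ↥S', (∀ w ∈ W, T' w ∈ W) → W = ⊥ ∨ W = ⊤ := by
    intro W hW
    subst hT'
    exact h78_atom_sub T S' hS' hmin' W hW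
  -- surjectivity of the evaluation at `v₀`
  have hsurj : Function.Surjective (h78Ev T' v₀) := by
    rw [← LinearMap.range_eq_top]
    rcases hsub (LinearMap.range (h78Ev T' v₀)) (by
      rintro _ ⟨h, rfl⟩
      exact ⟨X * h, h78Ev_X_mul T' v₀ h⟩) with h | h
    · exfalso
      apply hv₀
      have hm : v₀ ∈ LinearMap.range (h78Ev T' v₀) := ⟨1, h78Ev_one T' v₀⟩
      rw [h] at hm
      exact (Submodule.mem_bot F).mp hm
    · exact h
  -- kernel inclusion
  have hker : LinearMap.ker (h78Ev T' v₀) ≤ LinearMap.ker (h78Ev TS s) := by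
    intro h hh
    rw [LinearMap.mem_ker, h78Ev_apply] at hh
    have hzero : Polynomial.aeval T' h = 0 := by
      rcases hsub (LinearMap.ker (Polynomial.aeval T' h)) (by
        intro w hw
        rw [LinearMap.mem_ker] at hw ⊢
        have hc : Commute T' (Polynomial.aeval T' h) := by
          have hx := (Polynomial.commute_X h).map (Polynomial.aeval T')
          rwa [Polynomial.aeval_X] at hx
        have he : (Polynomial.aeval T' h) (T' w) = T' ((Polynomial.aeval T' h) w) := by
          rw [← Module.End.mul_apply, ← Module.End.mul_apply, hc.eq]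
        rw [he, hw, map_zero]) with h1 | h1
      · exfalso
        apply hv₀
        have hm : v₀ ∈ LinearMap.ker (Polynomial.aeval T' h) := hh
        rw [h1] at hm
        exact (Submodule.mem_bot F).mp hm
      · exact LinearMap.ker_eq_top.mp h1
    have hdvd1 : minpoly F T' ∣ h := minpoly.dvd F T' hzero
    have hdvd2 : minpoly F T' ∣ T'.charpoly := LinearMap.minpoly_dvd_charpoly T'
    haveI : Nontrivial ↥S' := (Submodule.nontrivial_iff_ne_bot).mpr hS'0
    have hnu : ¬ IsUnit (minpoly F T') := minpoly.not_isUnit F T'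
    obtain ⟨c, hc⟩ := hdvd2
    have hcu : IsUnit c := (hirr.isUnit_or_isUnit hc).resolve_left hnu
    have hdvd3 : T'.charpoly ∣ h := by
      have hd : T'.charpoly ∣ minpoly F T' := by
        obtain ⟨u, rfl⟩ := hcu
        exact ⟨↑u⁻¹, by rw [hc, mul_assoc, Units.mul_inv, mul_one]⟩
      exact hd.trans hdvd1
    obtain ⟨k, rfl⟩ := hdvd3
    rw [LinearMap.mem_ker, h78Ev_apply, map_mul, heq, LinearMap.aeval_self_charpoly, zero_mul,
      LinearMap.zero_apply]
  have key : ∀ h : F[X],
      (((LinearMap.ker (h78Ev T' v₀)).liftQ (h78Ev TS s) hker).comp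
        ((h78Ev T' v₀).quotKerEquivOfSurjective hsurj).symm.toLinearMap) (h78Ev T' v₀ h) =
      h78Ev TS s h := by
    intro h
    simp only [LinearMap.coe_comp, LinearEquiv.coe_coe, Function.comp_apply,
      LinearMap.quotKerEquivOfSurjective_symm_apply, Submodule.liftQ_apply]
  refine ⟨((LinearMap.ker (h78Ev T' v₀)).liftQ (h78Ev TS s) hker).comp
      ((h78Ev T' v₀).quotKerEquivOfSurjective hsurj).symm.toLinearMap, ?_, ?_⟩
  · intro v
    obtain ⟨h, rfl⟩ := hsurj v
    rw [← h78Ev_X_mul, key, key]
    exact h78Ev_X_mul TS s h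
  · have h1 := key 1
    rw [h78Ev_one, h78Ev_one] at h1
    exact h1

open Classical in
/-- **(S1) equivariant maps between minimal invariant subspaces.** -/
theorem card_eqHom_atoms [Fintype F] (T : Module.End F V) (S' S : Submodule F V)
    (hS' : S' ∈ T.invtSubmodule) (hS : S ∈ T.invtSubmodule) (hS'0 : S' ≠ ⊥) (hS0 : S ≠ ⊥)
    (hmin' : ∀ U ∈ T.invtSubmodule, U ≤ S' → U = ⊥ ∨ U = S')
    (hmin : ∀ U ∈ T.invtSubmodule, U ≤ S → U = ⊥ ∨ U = S) :
    Nat.card (EqHom T S' S hS' hS) =
      if (LinearMap.restrict T hS').charpoly = (LinearMap.restrict T hS).charpoly then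
        Fintype.card F ^ Module.finrank F S else 1 := by
  split_ifs with heq
  · obtain ⟨v, hvS, hv0⟩ := Submodule.exists_mem_ne_zero_of_ne_bot hS'0
    have hv₀ : (⟨v, hvS⟩ : ↥S') ≠ 0 := by
      intro h
      apply hv0
      exact congrArg Subtype.val h
    have hbij : Function.Bijective
        (fun φ : EqHom T S' S hS' hS => (Subtype.val φ) (⟨v, hvS⟩ : ↥S')) := by
      constructor
      · intro φ ψ hφψ
        apply Subtype.ext
        by_contra hne
        have hd : Subtype.val φ - Subtype.val ψ ≠ 0 := fun h => hne (sub_eq_zero.mp h)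
        have hb := h78_bijective T S' S hS' hS hmin' hmin (Subtype.val φ - Subtype.val ψ) (by
          intro w
          rw [LinearMap.sub_apply, LinearMap.sub_apply, Subtype.property φ w, Subtype.property ψ w,
            map_sub]) hd
        apply hv₀
        apply hb.1
        rw [map_zero, LinearMap.sub_apply]
        exact sub_eq_zero.mpr hφψ
      · intro s
        obtain ⟨φ, hφ, hφs⟩ := h78_exists_eq T S' S hS' hS hS'0 hmin' heq ⟨v, hvS⟩ hv₀ s
        exact ⟨Subtype.mk φ hφ, hφs⟩
    rw [Nat.card_congr (Equiv.ofBijective _ hbij), Module.natCard_eq_pow_finrank (K := F),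
      Nat.card_eq_fintype_card]
  · rw [Nat.card_eq_one_iff_exists]
    refine ⟨Subtype.mk 0 (by intro w; simp), ?_⟩
    intro φ
    by_contra hne
    apply heq
    exact h78_charpoly_eq T S' S hS' hS hmin' hmin (Subtype.val φ) (Subtype.property φ)
      (fun h0 => hne (Subtype.ext h0))

end Mod

end Cfsg.Agent.Helper78.STV
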