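import Mathlib
import Cfsg.Agent.Lib.Helper62.SUO0
import Cfsg.Agent.Lib.Helper66.SUOA
import Cfsg.Agent.Lib.Helper3.SUOM1
import Cfsg.Agent.Lib.Helper61.SUOM2
import Cfsg.Agent.Lib.Helper74.SUOM8a

/-!
SUO server (helper62, S2282): the whole M-chain after the seeds, (M3) (M4) (M5) (M6) (M7) (M8) (M9), in one file,
on top of the landed block A (helper66), (M1) (helper3), (M2) (helper61), (M8a) (helper74).
-/

set_option autoImplicit false
set_option linter.unusedSectionVars false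
set_option linter.unusedVariables false
set_option quotPrecheck false

namespace Cfsg.Agent.Helper78.SUO

open Matrix Cfsg Cfsg.Agent.Helper13 Cfsg.Agent.Helper87.PsuA Cfsg.Agent.Helper62.SUO

section M
variable {F : Type*} [Field F] [Fintype F] {q n : ℕ} (hF : Fintype.card F = q ^ 2)
  {Hs : Subgroup ↥(Cfsg.SU n F q)} {u l : ↥(Cfsg.SU n F q)} {e0 e1 p : Fin n → F} {c γ : F}

local notation "V" => Fin n → F
local notation "G" => ↥(Cfsg.SU n F q)
local notation "H" => Cfsg.hermForm n F q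

include hF

/-- the parts of (M0) used below -/
theorem h78_orb (hyp : Hyp hF Hs u l e0 e1 p c γ) :
    e1 ∈ Orb Hs e0 ∧ p ∈ Orb Hs e0 ∧ H e0 p = 0 ∧ H p e1 = γ ^ q := by
  refine ⟨⟨l, hyp.hl, hyp.le0⟩, ⟨l⁻¹, Hs.inv_mem hyp.hl, actv_inv l p e0 hyp.lp⟩, ?_, ?_⟩
  · have h1 : H e0 p = H (actv l e0) (actv l p) := (H_actv l e0 p).symm
    rw [h1, hyp.le0, hyp.lp]
    exact H_symm_zero hF hyp.e0e1
  · rw [← hyp.e1p, hermForm_conj hF]

/-- (M3) A7 with `w = a • e1`, `y = p` -/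
theorem to_p (hyp : Hyp hF Hs u l e0 e1 p c γ) {a m : F} (ha : a • e1 ∈ QQ hF Hs e0)
    (hm : m ∈ MM hF Hs e0) : (m * a * γ) • p ∈ QQ hF Hs e0 := by
  obtain ⟨-, hp, h0p, -⟩ := h78_orb hF hyp
  have h := Cfsg.Agent.Helper66.SUO.QQ_tv hF hyp.e0e0 ha hp h0p hm
  rw [hermForm_smul_left, hyp.e1p, ← mul_assoc] at h
  exact h

/-- (M4) A7 with `w = a • p`, `y = e1` -/
theorem to_e1 (hyp : Hyp hF Hs u l e0 e1 p c γ) {a m : F} (ha : a • p ∈ QQ hF Hs e0)
    (hm : m ∈ MM hF Hs e0) : (m * a * γ ^ q) • e1 ∈ QQ hF Hs e0 := by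
  obtain ⟨he1, -, -, hpe1⟩ := h78_orb hF hyp
  have h := Cfsg.Agent.Helper66.SUO.QQ_tv hF hyp.e0e0 ha he1 hyp.e0e1 hm
  rw [hermForm_smul_left, hpe1, ← mul_assoc] at h
  exact h

/-- (M5) `S = {a | a • e1 ∈ QQ}` is an additive subgroup (A5) containing `c` (`hyp.hc`) and
`κ = c - c^q` (M1 M2), stable under `κ^2 * (γ * γ^q)` (M3 then M4 with `m = κ`); `hyp.gen` -/
theorem S_top (hyp : Hyp hF Hs u l e0 e1 p c γ) : ∀ a : F, a • e1 ∈ QQ hF Hs e0 := by
  obtain ⟨A, hA⟩ := Cfsg.Agent.Helper66.SUO.QQ_addsub hF (Hs := Hs) (e0 := e0) hyp.e0e0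
  have hmem : ∀ w : V, w ∈ QQ hF Hs e0 ↔ w ∈ A := by
    intro w
    rw [← hA]
    exact Iff.rfl
  have hκ : c - c ^ q ∈ MM hF Hs e0 := Cfsg.Agent.Helper3.SUO.MM_of_S hF hyp hyp.hc
  let S : AddSubgroup F :=
    { carrier := {a | a • e1 ∈ QQ hF Hs e0}
      zero_mem' := by
        show (0 : F) • e1 ∈ QQ hF Hs e0
        rw [zero_smul, hmem]
        exact A.zero_mem
      add_mem' := by
        intro x y hx hy
        show (x + y) • e1 ∈ QQ hF Hs e0
        rw [add_smul, hmem]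
        exact A.add_mem ((hmem _).mp hx) ((hmem _).mp hy)
      neg_mem' := by
        intro x hx
        show (-x) • e1 ∈ QQ hF Hs e0
        rw [neg_smul, hmem]
        exact A.neg_mem ((hmem _).mp hx) }
  have hc : c ∈ S := hyp.hc
  have hκS : c - c ^ q ∈ S := Cfsg.Agent.Helper61.SUO.seed hF hyp hκ
  have hstab : ∀ a ∈ S, (c - c ^ q) ^ 2 * (γ * γ ^ q) * a ∈ S := by
    intro a ha
    have h1 := to_p hF hyp ha hκ
    have h2 := to_e1 hF hyp h1 hκ
    have e : (c - c ^ q) * ((c - c ^ q) * a * γ) * γ ^ q = (c - c ^ q) ^ 2 * (γ * γ ^ q) * a := by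
      ring
    rw [e] at h2
    exact h2
  have htop := hyp.gen S hc hκS hstab
  intro a
  have : a ∈ S := by rw [htop]; exact AddSubgroup.mem_top a
  exact this

/-- (M6) M3 with `a / (κ * γ)`, `m = κ` -/
theorem p_top (hyp : Hyp hF Hs u l e0 e1 p c γ) : ∀ a : F, a • p ∈ QQ hF Hs e0 := by
  intro a
  have hκ : c - c ^ q ∈ MM hF Hs e0 := Cfsg.Agent.Helper3.SUO.MM_of_S hF hyp hyp.hc
  have hS := S_top hF hyp (a / ((c - c ^ q) * γ))
  have h3 := to_p hF hyp hS hκ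
  have e : (c - c ^ q) * (a / ((c - c ^ q) * γ)) * γ = a := by
    have h1 := hyp.κ0
    have h2 := hyp.γ0
    field_simp
  rwa [e] at h3

/-- (M7) `{w | ∀ a, a • w ∈ QQ}` is a `u`-stable subspace (A5 A6) containing `p` (M6); `hyp.cyc` -/
theorem QQ_full (hyp : Hyp hF Hs u l e0 e1 p c γ) :
    ∀ w : V, H e0 w = 0 → w ∈ QQ hF Hs e0 := by
  obtain ⟨A, hA⟩ := Cfsg.Agent.Helper66.SUO.QQ_addsub hF (Hs := Hs) (e0 := e0) hyp.e0e0
  have hmem : ∀ w : V, w ∈ QQ hF Hs e0 ↔ w ∈ A := by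
    intro w
    rw [← hA]
    exact Iff.rfl
  let S : Submodule F V :=
    { carrier := {w | ∀ a : F, a • w ∈ QQ hF Hs e0}
      zero_mem' := by
        intro a
        rw [smul_zero, hmem]
        exact A.zero_mem
      add_mem' := by
        intro x y hx hy a
        rw [smul_add, hmem]
        exact A.add_mem ((hmem _).mp (hx a)) ((hmem _).mp (hy a))
      smul_mem' := by
        intro r x hx a
        rw [smul_smul]
        exact hx (a * r) }
  have hpS : p ∈ S := fun a => p_top hF hyp a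
  intro w hw
  have hstab' : ∀ x ∈ S, actv u x ∈ S := by
    intro x hx a
    rw [← actv_smul]
    exact Cfsg.Agent.Helper66.SUO.QQ_stab hF hyp.e0e0 (hx a) hyp.hu hyp.ue0
  have := hyp.cyc S hpS hstab' w hw
  have h1 := this 1
  rwa [one_smul] at h1

/-- (M8) M5 M1 M8a -/
theorem MM_top (hyp : Hyp hF Hs u l e0 e1 p c γ) :
    ∀ m : F, m + m ^ q = 0 → m ∈ MM hF Hs e0 := by
  intro m hm
  obtain ⟨a, ha⟩ := Cfsg.Agent.Helper74.SUO.exists_tau hF m hm
  rw [← ha]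
  exact Cfsg.Agent.Helper3.SUO.MM_of_S hF hyp (S_top hF hyp a)

/-- (M9) M7 gives some `a'`; `eich e0 w a = eich e0 w a' * eich e0 0 (a - a')` (`eich_mul`), M8 -/
theorem Q_le (hyp : Hyp hF Hs u l e0 e1 p c γ) :
    ∀ (w : V) (a : F), H e0 w = 0 → a + a ^ q + H w w = 0 → eich hF e0 w a ∈ Hs := by
  intro w a hw ha
  obtain ⟨-, a', ha', hmem⟩ := QQ_full hF hyp w hw
  have h00 := hyp.e0e0
  have hm : (a - a') + (a - a') ^ q = 0 := by
    rw [frob_sub hF]
    linear_combination ha - ha'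
  have hmM : a - a' ∈ MM hF Hs e0 := MM_top hF hyp (a - a') hm
  have h0 : H e0 (0 : V) = 0 := H_zero_right hF e0
  have hm' : (a - a') + (a - a') ^ q + H (0 : V) (0 : V) = 0 := by
    rw [H_zero_right hF, add_zero]; exact hm
  have hmul := eich_mul hF h00 hw ha' h0 hm'
  rw [add_zero, H_zero_left hF, sub_zero, show a' + (a - a') = a by ring] at hmul
  rw [← hmul]
  exact Hs.mul_mem hmem hmM.2

end M

end Cfsg.Agent.Helper78.SUO
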