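import Mathlib

/-!
# FC server (S3816), piece (ALG): a bi-additive invariant pairing with the symmetric identity
vanishes.  Pure algebra, Mathlib only.
-/

set_option autoImplicit false

namespace Cfsg.Agent.Helper78.FC

/-- the key identity `B(u, (β⁴ - 2β³ + 2β - 1) w) = 0`, written termwise -/
theorem alg_key {U W Z : Type*} [AddCommGroup U] [AddCommGroup W] [AddCommGroup Z]
    (α : AddMonoid.End U) (β : AddMonoid.End W)
    (B : U →+ W →+ Z) (hinv : ∀ u w, B (α u) (β w) = B u w)
    (hsym : ∀ (i j : ℕ) u w, B ((α ^ i) u - u) ((β ^ j) w - w)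
      = B ((α ^ j) u - u) ((β ^ i) w - w)) (u : U) (w : W) :
    B u (β (β (β w))) - B u (β (β (β (β w)))) - (B u (β w) - B u (β (β w)))
      = B u (β w) - B u (β (β (β w))) - (B u w - B u (β (β w))) := by
  have h1 := hsym 1 2 u (β (β w))
  simp only [pow_one, pow_two, AddMonoid.End.coe_mul, Function.comp_apply, map_sub,
    AddMonoidHom.sub_apply, hinv] at h1
  exact h1

theorem alg_inj1 {W : Type*} [AddCommGroup W] (β : AddMonoid.End W)
    (hfix : ∀ w : W, β w = w → w = 0) : Function.Injective (fun w : W => β w - w) := by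
  intro x y hxy
  have h : β (x - y) = x - y := by
    rw [map_sub]
    have h' : β x - x = β y - y := hxy
    rw [sub_eq_sub_iff_add_eq_add] at h' ⊢
    rw [h']
    abel
  have := hfix _ h
  exact sub_eq_zero.mp this

theorem alg_fix2 {W : Type*} [AddCommGroup W] (p : ℕ) (hp : p.Prime) (hp2 : p ≠ 2)
    (β : AddMonoid.End W) (hβ : β ^ p = 1) (w : W) (h2 : β (β w) = w) : β w = w := by
  have hpow : ∀ n : ℕ, (β ^ (2 * n)) w = w := by
    intro n
    induction n with
    | zero => simp
    | succ n ih =>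
      have e : 2 * (n + 1) = 2 * n + 2 := by ring
      rw [e, pow_add, AddMonoid.End.coe_mul, Function.comp_apply, pow_two, AddMonoid.End.coe_mul,
        Function.comp_apply, h2, ih]
  obtain ⟨k, hk⟩ := hp.odd_of_ne_two hp2
  have e : p + 1 = 2 * (k + 1) := by omega
  have h3 := hpow (k + 1)
  rw [← e, pow_succ, AddMonoid.End.coe_mul, Function.comp_apply, hβ, AddMonoid.End.coe_one,
    id_eq] at h3
  exact h3

theorem alg_inj2 {W : Type*} [AddCommGroup W] (p : ℕ) (hp : p.Prime) (hp2 : p ≠ 2)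
    (β : AddMonoid.End W) (hβ : β ^ p = 1)
    (hfix : ∀ w : W, β w = w → w = 0) : Function.Injective (fun w : W => β (β w) - w) := by
  intro x y hxy
  have h : β (β (x - y)) = x - y := by
    rw [map_sub, map_sub]
    have h' : β (β x) - x = β (β y) - y := hxy
    rw [sub_eq_sub_iff_add_eq_add] at h' ⊢
    rw [h']
    abel
  have := hfix _ (alg_fix2 p hp hp2 β hβ _ h)
  exact sub_eq_zero.mp this

/-- (ALG) -/
theorem alg_biadd {U W Z : Type*} [AddCommGroup U] [AddCommGroup W] [AddCommGroup Z] [Finite W] (p : ℕ) (hp : p.Prime) (hp2 : p ≠ 2)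
    (α : AddMonoid.End U) (β : AddMonoid.End W) (hβ : β ^ p = 1) (hfix : ∀ w : W, β w = w → w = 0)
    (B : U →+ W →+ Z) (hinv : ∀ u w, B (α u) (β w) = B u w)
    (hsym : ∀ (i j : ℕ) u w, B ((α ^ i) u - u) ((β ^ j) w - w) = B ((α ^ j) u - u) ((β ^ i) w - w)) : ∀ u w, B u w = 0 := by
  intro u w
  have s1 : Function.Surjective (fun w : W => β w - w) :=
    Finite.injective_iff_surjective.mp (alg_inj1 β hfix)
  have s2 : Function.Surjective (fun w : W => β (β w) - w) :=
    Finite.injective_iff_surjective.mp (alg_inj2 p hp hp2 β hβ hfix)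
  obtain ⟨w1, hw1⟩ := s2 w
  obtain ⟨w2, hw2⟩ := s1 w1
  obtain ⟨w3, hw3⟩ := s1 w2
  have hw1' : β (β w1) - w1 = w := hw1
  have hw2' : β w2 - w2 = w1 := hw2
  have hw3' : β w3 - w3 = w2 := hw3
  have key := alg_key α β B hinv hsym u w3
  rw [← hw1', ← hw2', ← hw3']
  simp only [map_sub]
  have key' := sub_eq_zero.mpr key
  refine Eq.trans ?_ (neg_eq_zero.mpr key')
  abel

end Cfsg.Agent.Helper78.FC
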