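import Mathlib
import Cfsg.Agent.Lib.Helper52.FCDefs

/-!
# FC server (S3816), piece (A1): a normal subgroup of `H` fixed pointwise by `a` is central
(`H = [H,P]`; direct computation on the generators instead of the three subgroups lemma).
-/

set_option autoImplicit false

namespace Cfsg.Agent.Helper78.FC

open Subgroup Cfsg.Agent.Helper52.FC
open scoped commutatorElement

universe u

variable {G : Type u} [Group G]

/-- the generators of `comm a H` centralise a normal subgroup `V ≤ Fix a`. -/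
theorem a1_gen_comm (a : G) (H V : Subgroup G) (hVn : NormBy H V) (hVa : V ≤ Fix a)
    (h : G) (hh : h ∈ H) (i : ℕ) (v : G) (hv : v ∈ V) :
    (h⁻¹ * (a ^ i * h * (a ^ i)⁻¹)) * v = v * (h⁻¹ * (a ^ i * h * (a ^ i)⁻¹)) := by
  have hcomm : ∀ w ∈ V, a ^ i * w = w * a ^ i := by
    intro w hw
    have h1 : w ∈ Subgroup.centralizer {a} := hVa hw
    rw [Subgroup.mem_centralizer_iff] at h1
    have h2 : a * w = w * a := h1 a rfl
    exact (Commute.pow_left (show Commute a w from h2) i).eq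
  have hw : h * v * h⁻¹ ∈ V := hVn h hh v hv
  have e1 : (a ^ i)⁻¹ * v = v * (a ^ i)⁻¹ := by
    have := hcomm v hv
    calc (a ^ i)⁻¹ * v = (a ^ i)⁻¹ * (v * a ^ i) * (a ^ i)⁻¹ := by group
      _ = (a ^ i)⁻¹ * (a ^ i * v) * (a ^ i)⁻¹ := by rw [this]
      _ = v * (a ^ i)⁻¹ := by group
  have e2 := hcomm _ hw
  calc (h⁻¹ * (a ^ i * h * (a ^ i)⁻¹)) * v
      = h⁻¹ * a ^ i * h * ((a ^ i)⁻¹ * v) := by group
    _ = h⁻¹ * a ^ i * h * (v * (a ^ i)⁻¹) := by rw [e1]
    _ = h⁻¹ * (a ^ i * (h * v * h⁻¹)) * h * (a ^ i)⁻¹ := by group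
    _ = h⁻¹ * ((h * v * h⁻¹) * a ^ i) * h * (a ^ i)⁻¹ := by rw [e2]
    _ = v * (h⁻¹ * (a ^ i * h * (a ^ i)⁻¹)) := by group

/-- (A1) -/
theorem le_ZZ_of_fix [Finite G] {p : ℕ} {a : G} {H : Subgroup G} (mx : MCX p G a H) (V : Subgroup G) (hVH : V ≤ H) (hVn : NormBy H V)
    (hVa : V ≤ Fix a) : V ≤ ZZ a H := by
  have hle : comm a H ≤ Subgroup.centralizer (V : Set G) := by
    unfold Cfsg.Agent.Helper52.FC.comm
    rw [Subgroup.closure_le]
    rintro c ⟨h, hh, i, rfl⟩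
    rw [SetLike.mem_coe, Subgroup.mem_centralizer_iff]
    intro v hv
    exact (a1_gen_comm a H V hVn hVa h hh i v hv).symm
  rw [mx.comm_eq] at hle
  intro v hv
  unfold ZZ
  refine ⟨⟨hVH hv, hVa hv⟩, ?_⟩
  show v ∈ Subgroup.centralizer (H : Set G)
  rw [Subgroup.mem_centralizer_iff]
  intro h hh
  have h1 := hle hh
  rw [Subgroup.mem_centralizer_iff] at h1
  exact (h1 v hv).symm

end Cfsg.Agent.Helper78.FC
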