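import Mathlib
import Cfsg.Agent.Lib.Helper52.FCDefs

/-!
# FC server (S3816), piece (A7b): a chief factor `N/Z` of an `s`-group `H` is central:
`[N,H] ≤ Z = ZZ a H`.  Quotient-free (lower central series in the ambient group).
-/

set_option autoImplicit false

namespace Cfsg.Agent.Helper78.FC

open Subgroup Cfsg.Agent.Helper52.FC
open scoped commutatorElement

universe u

variable {G : Type u} [Group G]

theorem a7b_conj_le_iff (g : G) (X : Subgroup G) :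
    X.map (MulAut.conj g).toMonoidHom ≤ X ↔ ∀ x ∈ X, g * x * g⁻¹ ∈ X := by
  rw [Subgroup.map_le_iff_le_comap]
  constructor
  · intro h x hx
    have := h hx
    rw [Subgroup.mem_comap] at this
    simpa [MulAut.conj_apply] using this
  · intro h x hx
    rw [Subgroup.mem_comap]
    simpa [MulAut.conj_apply] using h x hx

/-- the commutator of two subgroups normalised by `g` is normalised by `g`. -/
theorem a7b_conj_commutator (g : G) (A B : Subgroup G) (hA : ∀ x ∈ A, g * x * g⁻¹ ∈ A)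
    (hB : ∀ x ∈ B, g * x * g⁻¹ ∈ B) : ∀ x ∈ ⁅A, B⁆, g * x * g⁻¹ ∈ ⁅A, B⁆ := by
  rw [← a7b_conj_le_iff, Subgroup.map_commutator]
  exact Subgroup.commutator_mono ((a7b_conj_le_iff g A).mpr hA) ((a7b_conj_le_iff g B).mpr hB)

theorem a7b_conj_sup (g : G) (A B : Subgroup G) (hA : ∀ x ∈ A, g * x * g⁻¹ ∈ A)
    (hB : ∀ x ∈ B, g * x * g⁻¹ ∈ B) : ∀ x ∈ A ⊔ B, g * x * g⁻¹ ∈ A ⊔ B := by
  rw [← a7b_conj_le_iff, Subgroup.map_sup]
  exact sup_le_sup ((a7b_conj_le_iff g A).mpr hA) ((a7b_conj_le_iff g B).mpr hB)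

/-- nilpotency: `K ≤ ⁅K,H⁆`, `K ≤ H`, `H` an `s`-group `⇒ K = ⊥`. -/
theorem a7b_nil [Finite G] (H K : Subgroup G) (hKH : K ≤ H) (hK : K ≤ ⁅K, H⁆) (s : ℕ)
    (hs : s.Prime) (hHs : IsPGroup s H) : K = ⊥ := by
  have : Fact s.Prime := ⟨hs⟩
  have hnil : Group.IsNilpotent H := hHs.isNilpotent
  obtain ⟨n, hn⟩ := (Subgroup.isNilpotent_iff_lowerCentralSeries H).mp hnil
  have key : ∀ m : ℕ, K ≤ H.lowerCentralSeries m := by
    intro m
    induction m with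
    | zero => exact hKH
    | succ m ih =>
      rw [Subgroup.lowerCentralSeries_succ]
      exact le_trans hK (Subgroup.commutator_mono ih le_rfl)
  have := key n
  rw [hn] at this
  exact le_bot_iff.mp this

/-- the subgroup of `H` of elements whose commutators with `H` lie in `Q` (`Q` normalised by `H`). -/
def a7bS (Q H : Subgroup G) (hQ : ∀ h ∈ H, ∀ q ∈ Q, h * q * h⁻¹ ∈ Q) : Subgroup G where
  carrier := {n | n ∈ H ∧ ∀ h ∈ H, ⁅n, h⁆ ∈ Q}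
  one_mem' := ⟨H.one_mem, fun h _ => by rw [commutatorElement_one_left]; exact Q.one_mem⟩
  mul_mem' := by
    rintro x y ⟨hx, hx'⟩ ⟨hy, hy'⟩
    refine ⟨H.mul_mem hx hy, fun h hh => ?_⟩
    have e : ⁅x * y, h⁆ = (x * ⁅y, h⁆ * x⁻¹) * ⁅x, h⁆ := by
      simp only [commutatorElement_def]
      group
    rw [e]
    exact Q.mul_mem (hQ x hx _ (hy' h hh)) (hx' h hh)
  inv_mem' := by
    rintro x ⟨hx, hx'⟩
    refine ⟨H.inv_mem hx, fun h hh => ?_⟩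
    have e : ⁅x⁻¹, h⁆ = x⁻¹ * (⁅x, h⁆)⁻¹ * (x⁻¹)⁻¹ := by
      simp only [commutatorElement_def]
      group
    rw [e]
    exact hQ x⁻¹ (H.inv_mem hx) _ (Q.inv_mem (hx' h hh))

/-- (A7b) -/
theorem comm_le_ZZ [Finite G] {a : G} {H : Subgroup G} (hH : Inv a H) (N : Subgroup G) (hN : Chief a H N) (s : ℕ) (hs : s.Prime)
    (hHs : IsPGroup s H) : ∀ n ∈ N, ∀ h ∈ H, n * h * n⁻¹ * h⁻¹ ∈ ZZ a H := by
  -- facts on `Z`
  have hZH : ZZ a H ≤ H := fun z hz => hz.1.1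
  have hZc : ∀ z ∈ ZZ a H, ∀ h ∈ H, h * z = z * h := by
    intro z hz h hh
    have h1 : z ∈ Subgroup.centralizer (H : Set G) := hz.2
    rw [Subgroup.mem_centralizer_iff] at h1
    exact h1 h hh
  have hZa : ∀ z ∈ ZZ a H, a * z = z * a := by
    intro z hz
    have h1 : z ∈ Subgroup.centralizer ({a} : Set G) := hz.1.2
    rw [Subgroup.mem_centralizer_iff] at h1
    exact h1 a rfl
  have hZnorm : ∀ h ∈ H, ∀ z ∈ ZZ a H, h * z * h⁻¹ ∈ ZZ a H := by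
    intro h hh z hz
    rw [hZc z hz h hh, mul_inv_cancel_right]
    exact hz
  have hZinv : ∀ z ∈ ZZ a H, a * z * a⁻¹ ∈ ZZ a H := by
    intro z hz
    rw [hZa z hz, mul_inv_cancel_right]
    exact hz
  have hHnorm : ∀ h ∈ H, ∀ x ∈ H, h * x * h⁻¹ ∈ H := fun h hh x hx =>
    H.mul_mem (H.mul_mem hh hx) (H.inv_mem hh)
  -- `K = ⁅N,H⁆`
  have hKN : ⁅N, H⁆ ≤ N := by
    rw [Subgroup.commutator_le]
    intro n hn h hh
    have : ⁅n, h⁆ = n * (h * n⁻¹ * h⁻¹) := by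
      simp only [commutatorElement_def]
      group
    rw [this]
    exact N.mul_mem hn (hN.norm h hh _ (N.inv_mem hn))
  have hKnorm : ∀ h ∈ H, ∀ x ∈ ⁅N, H⁆, h * x * h⁻¹ ∈ ⁅N, H⁆ := fun h hh =>
    a7b_conj_commutator h N H (hN.norm h hh) (hHnorm h hh)
  have hKinv : ∀ x ∈ ⁅N, H⁆, a * x * a⁻¹ ∈ ⁅N, H⁆ :=
    a7b_conj_commutator a N H hN.inv hH
  -- `W`
  have hWle : ⁅N, H⁆ ⊔ ZZ a H ≤ N := sup_le hKN hN.zle
  have hWnorm : NormBy H (⁅N, H⁆ ⊔ ZZ a H) := fun h hh =>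
    a7b_conj_sup h _ _ (hKnorm h hh) (hZnorm h hh)
  have hWinv : Inv a (⁅N, H⁆ ⊔ ZZ a H) := a7b_conj_sup a _ _ hKinv hZinv
  rcases hN.min _ le_sup_right hWle hWnorm hWinv with hW | hW
  · intro n hn h hh
    have h1 : ⁅n, h⁆ ∈ ⁅N, H⁆ := Subgroup.commutator_mem_commutator hn hh
    have h2 : ⁅n, h⁆ ∈ ⁅N, H⁆ ⊔ ZZ a H := (le_sup_left : ⁅N, H⁆ ≤ _) h1
    rw [hW] at h2
    rw [commutatorElement_def] at h2
    exact h2
  · exfalso
    -- `K ≤ ⁅K,H⁆`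
    have hQnorm : ∀ h ∈ H, ∀ q ∈ ⁅⁅N, H⁆, H⁆, h * q * h⁻¹ ∈ ⁅⁅N, H⁆, H⁆ := fun h hh =>
      a7b_conj_commutator h _ H (hKnorm h hh) (hHnorm h hh)
    have hle : ⁅N, H⁆ ⊔ ZZ a H ≤ a7bS ⁅⁅N, H⁆, H⁆ H hQnorm := by
      apply sup_le
      · intro k hk
        exact ⟨hN.le (hKN hk), fun h hh => Subgroup.commutator_mem_commutator hk hh⟩
      · intro z hz
        refine ⟨hZH hz, fun h hh => ?_⟩
        have : ⁅z, h⁆ = 1 := by
          rw [commutatorElement_def, ← hZc z hz h hh]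
          group
        rw [this]
        exact Subgroup.one_mem _
    have hK : ⁅N, H⁆ ≤ ⁅⁅N, H⁆, H⁆ := by
      rw [Subgroup.commutator_le]
      intro n hn h hh
      have hn' : n ∈ ⁅N, H⁆ ⊔ ZZ a H := by rw [hW]; exact hn
      exact (hle hn').2 h hh
    have hbot := a7b_nil H ⁅N, H⁆ (le_trans hKN hN.le) hK s hs hHs
    apply hN.ne
    rw [← hW, hbot, bot_sup_eq]

end Cfsg.Agent.Helper78.FC
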