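import Mathlib
import Cfsg.Agent.Lib.Helper7.M11UDefs
import Cfsg.Agent.Lib.Helper7.NSEDefs

/-!
# NSE server (helper7, S3592), piece (M2): centralizers of elements of order `∉ {1,2,3}` have order `≤ 17`
-/

set_option autoImplicit false

namespace Cfsg.Agent.Helper78.NSE

open Subgroup Cfsg.Agent.Helper7.M11U Cfsg.Agent.Helper7.NSE
open scoped Pointwise

universe u

section M

variable {H : Type*} [Group H] [Finite H]

/-- (M2) glue.  `o(g) ∣ 7920 = 2⁴·3²·5·11`.  If 5 or 11 divides it: `ha`.  Else `o(g) ∣ 144`; if `3 ∣ o(g)`: `hb` (`o(g) ≠ 3`); else `o(g) ∣ 16`, `o(g) = 2^a` with `a ≥ 2`: `hc`. -/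
theorem cent_le_17 (B : Base H) (g : H) (h1 : orderOf g ≠ 1) (h2 : orderOf g ≠ 2) (h3 : orderOf g ≠ 3)
    (ha : ∀ g : H, (5 ∣ orderOf g ∨ 11 ∣ orderOf g) → Nat.card (centralizer ({g} : Set H)) ≤ 11)
    (hb : ∀ g : H, 3 ∣ orderOf g → orderOf g ≠ 3 → Nat.card (centralizer ({g} : Set H)) ≤ 9)
    (hc : ∀ (g : H) (a : ℕ), 2 ≤ a → orderOf g = 2 ^ a → Nat.card (centralizer ({g} : Set H)) ≤ 16) :
    Nat.card (centralizer ({g} : Set H)) ≤ 17 := by
  have hdvd : orderOf g ∣ 7920 := by
    rw [← B.card]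
    exact orderOf_dvd_natCard g
  by_cases h511 : 5 ∣ orderOf g ∨ 11 ∣ orderOf g
  · exact (ha g h511).trans (by norm_num)
  · push Not at h511
    obtain ⟨h5, h11⟩ := h511
    have hc5 : (orderOf g).Coprime 5 :=
      ((Nat.Prime.coprime_iff_not_dvd Nat.prime_five).mpr h5).symm
    have hc11 : (orderOf g).Coprime 11 :=
      ((Nat.Prime.coprime_iff_not_dvd (by norm_num : Nat.Prime 11)).mpr h11).symm
    have hc55 : (orderOf g).Coprime (5 * 11) := Nat.Coprime.mul_right hc5 hc11
    have hd144 : orderOf g ∣ 144 := by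
      have h7920 : (7920 : ℕ) = 144 * (5 * 11) := by norm_num
      rw [h7920] at hdvd
      exact hc55.dvd_of_dvd_mul_right hdvd
    by_cases h3d : 3 ∣ orderOf g
    · exact (hb g h3d h3).trans (by norm_num)
    · have hc3 : (orderOf g).Coprime 3 :=
        ((Nat.Prime.coprime_iff_not_dvd Nat.prime_three).mpr h3d).symm
      have hc9 : (orderOf g).Coprime (3 * 3) := Nat.Coprime.mul_right hc3 hc3
      have hd16 : orderOf g ∣ 2 ^ 4 := by
        have h144 : (144 : ℕ) = 2 ^ 4 * (3 * 3) := by norm_num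
        rw [h144] at hd144
        exact hc9.dvd_of_dvd_mul_right hd144
      obtain ⟨a, _, hna⟩ := (Nat.dvd_prime_pow Nat.prime_two).mp hd16
      have ha2 : 2 ≤ a := by
        by_contra hlt
        push Not at hlt
        interval_cases a
        · exact h1 (by simpa using hna)
        · exact h2 (by simpa using hna)
      exact (hc g a ha2 hna).trans (by norm_num)

end M

end Cfsg.Agent.Helper78.NSE
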