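import Mathlib

/-!
# O5760 server (helper7, S0980), piece (C36c): a Sylow 2-subgroup `T` of `N(R)` containing `K`, and
an element `g ∉ N(R)` normalising `T` with `g * g ∈ T`.  Mathlib only.
-/

set_option autoImplicit false

namespace Cfsg.Agent.Helper78.O5760

universe u

theorem c36c_fac160 : (160 : ℕ).factorization 2 = 5 := by
  have h : (160 : ℕ) = 2 ^ 5 * 5 := by norm_num
  rw [h, Nat.factorization_mul (by norm_num) (by norm_num), Nat.factorization_pow]
  simp [Nat.Prime.factorization_self Nat.prime_two, Nat.factorization_eq_zero_of_not_dvd]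

theorem c36c_fac5760 : (5760 : ℕ).factorization 2 = 7 := by
  have h : (5760 : ℕ) = 2 ^ 7 * 45 := by norm_num
  rw [h, Nat.factorization_mul (by norm_num) (by norm_num), Nat.factorization_pow]
  simp [Nat.Prime.factorization_self Nat.prime_two, Nat.factorization_eq_zero_of_not_dvd]

/-- a `p`-subgroup `K` of `N` lies in (the image of) a Sylow `p`-subgroup of `N`. -/
theorem c36c_exists_T {G : Type u} [Group G] [Finite G] (N K : Subgroup G) (hKN : K ≤ N) (p : ℕ)
    [Fact p.Prime] (hK : IsPGroup p K) :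
    ∃ T : Subgroup G, T ≤ N ∧ K ≤ T ∧ Nat.card T = p ^ (Nat.card N).factorization p := by
  have hK' : IsPGroup p (K.subgroupOf N) := hK.comap_subtype
  obtain ⟨Q, hQ⟩ := hK'.exists_le_sylow
  refine ⟨(Q : Subgroup N).map N.subtype, ?_, ?_, ?_⟩
  · exact Subgroup.map_subtype_le _
  · intro k hk
    refine ⟨⟨k, hKN hk⟩, hQ ?_, rfl⟩
    rw [Subgroup.mem_subgroupOf]
    exact hk
  · rw [Subgroup.card_map_of_injective N.subtype_injective]
    exact Q.card_eq_multiplicity

/-- in a finite `p`-group `S`, a proper subgroup `T` has an element `g ∈ N_S(T) \ T` with `g^p ∈ T`;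
here for `p = 2`. -/
theorem c36c_exists_g {G : Type u} [Group G] [Finite G] (S T : Subgroup G) (hTS : T ≤ S) (hne : T ≠ S)
    (hS : IsPGroup 2 S) :
    ∃ g : G, g ∈ S ∧ g ∉ T ∧ (∀ t : G, t ∈ T ↔ g * t * g⁻¹ ∈ T) ∧ g * g ∈ T := by
  have : Fact (Nat.Prime 2) := ⟨Nat.prime_two⟩
  have hnil : Group.IsNilpotent S := hS.isNilpotent
  have hNC : NormalizerCondition S := Group.normalizerCondition_of_isNilpotent
  have hlt : T.subgroupOf S < ⊤ := by
    rw [lt_top_iff_ne_top]
    intro h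
    rw [Subgroup.subgroupOf_eq_top] at h
    exact hne (le_antisymm hTS h)
  have h2 := hNC _ hlt
  obtain ⟨x, hxN, hxT⟩ := SetLike.exists_of_lt h2
  -- `x.1` normalises `T` in `G`
  have hxnorm : (x : G) ∈ Subgroup.normalizer (T : Set G) := by
    rw [Subgroup.mem_normalizer_iff]
    rw [Subgroup.mem_normalizer_iff] at hxN
    intro t
    constructor
    · intro ht
      have h3 := (hxN ⟨t, hTS ht⟩).mp (by rw [Subgroup.mem_subgroupOf]; exact ht)
      rw [Subgroup.mem_subgroupOf] at h3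
      exact h3
    · intro ht
      have htS : t ∈ S := by
        have h4 : (x : G)⁻¹ * ((x : G) * t * (x : G)⁻¹) * (x : G) ∈ S :=
          S.mul_mem (S.mul_mem (S.inv_mem x.2) (hTS ht)) x.2
        have e : (x : G)⁻¹ * ((x : G) * t * (x : G)⁻¹) * (x : G) = t := by group
        rw [e] at h4
        exact h4
      have h3 := (hxN ⟨t, htS⟩).mpr (by rw [Subgroup.mem_subgroupOf]; exact ht)
      rw [Subgroup.mem_subgroupOf] at h3
      exact h3
  have hxT' : (x : G) ∉ T := by
    intro h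
    apply hxT
    rw [Subgroup.mem_subgroupOf]
    exact h
  -- minimal `m` with `x^(2^m) ∈ T`
  have hex : ∃ m : ℕ, (x : G) ^ (2 ^ m) ∈ T := by
    obtain ⟨k, hk⟩ := hS x
    refine ⟨k, ?_⟩
    have : (x : G) ^ (2 ^ k) = 1 := by
      have := congrArg (fun y : S => (y : G)) hk
      simpa using this
    rw [this]
    exact T.one_mem
  classical
  have hm0 : Nat.find hex ≠ 0 := by
    intro h0
    have := Nat.find_spec hex
    rw [h0, pow_zero, pow_one] at this
    exact hxT' this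
  obtain ⟨m', hm'⟩ := Nat.exists_eq_succ_of_ne_zero hm0
  refine ⟨(x : G) ^ (2 ^ m'), S.pow_mem x.2 _, ?_, ?_, ?_⟩
  · exact Nat.find_min hex (by omega)
  · have h5 : (x : G) ^ (2 ^ m') ∈ Subgroup.normalizer (T : Set G) := Subgroup.pow_mem _ hxnorm _
    rw [Subgroup.mem_normalizer_iff] at h5
    exact h5
  · have := Nat.find_spec hex
    rw [hm', Nat.succ_eq_add_one, pow_succ, pow_mul, pow_two] at this
    exact this

/-- (C36c) -/
theorem exists_T_g {G : Type u} [Group G] [Finite G] (hG : Nat.card G = 5760) (R : Sylow 5 G)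
    (hN : Nat.card (Subgroup.normalizer ((R : Subgroup G) : Set G)) = 160)
    (K : Subgroup G) (hKN : K ≤ Subgroup.normalizer ((R : Subgroup G) : Set G))
    (hKnorm : ∀ n ∈ Subgroup.normalizer ((R : Subgroup G) : Set G), ∀ k ∈ K, n * k * n⁻¹ ∈ K)
    (hK2 : ∃ j : ℕ, Nat.card K = 2 ^ j) :
    ∃ (T : Subgroup G) (g : G), T ≤ Subgroup.normalizer ((R : Subgroup G) : Set G) ∧ Nat.card T = 32 ∧
      K ≤ T ∧ g ∉ Subgroup.normalizer ((R : Subgroup G) : Set G) ∧
      (∀ t : G, t ∈ T ↔ g * t * g⁻¹ ∈ T) ∧ g * g ∈ T := by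
  have : Fact (Nat.Prime 2) := ⟨Nat.prime_two⟩
  obtain ⟨j, hj⟩ := hK2
  have hKp : IsPGroup 2 K := IsPGroup.of_card hj
  obtain ⟨T, hTN, hKT, hTc⟩ := c36c_exists_T _ K hKN 2 hKp
  rw [hN, c36c_fac160] at hTc
  have hTc' : Nat.card T = 32 := by rw [hTc]; norm_num
  have hTp : IsPGroup 2 T := IsPGroup.of_card hTc
  obtain ⟨S, hTS⟩ := hTp.exists_le_sylow
  have hSc : Nat.card (S : Subgroup G) = 128 := by
    rw [S.card_eq_multiplicity, hG, c36c_fac5760]
    norm_num
  have hne : T ≠ (S : Subgroup G) := by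
    intro h
    rw [h] at hTc'
    omega
  obtain ⟨g, hgS, hgT, hgnorm, hgg⟩ := c36c_exists_g (S : Subgroup G) T hTS hne S.isPGroup'
  refine ⟨T, g, hTN, hTc', hKT, ?_, hgnorm, hgg⟩
  intro hgN
  -- `P := S ⊓ N(R)` has order dividing `gcd 128 160 = 32`, contains `T`, so `P = T ∋ g`
  have hP1 : Nat.card ((S : Subgroup G) ⊓ Subgroup.normalizer ((R : Subgroup G) : Set G) : Subgroup G)
      ∣ 128 := by
    rw [← hSc]
    exact Subgroup.card_dvd_of_le inf_le_left
  have hP2 : Nat.card ((S : Subgroup G) ⊓ Subgroup.normalizer ((R : Subgroup G) : Set G) : Subgroup G)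
      ∣ 160 := by
    rw [← hN]
    exact Subgroup.card_dvd_of_le inf_le_right
  have hP3 : Nat.card ((S : Subgroup G) ⊓ Subgroup.normalizer ((R : Subgroup G) : Set G) : Subgroup G)
      ∣ 32 := by
    have := Nat.dvd_gcd hP1 hP2
    norm_num at this
    exact this
  have hle : T ≤ (S : Subgroup G) ⊓ Subgroup.normalizer ((R : Subgroup G) : Set G) := le_inf hTS hTN
  have hEq : T = (S : Subgroup G) ⊓ Subgroup.normalizer ((R : Subgroup G) : Set G) := by
    apply Subgroup.eq_of_le_of_card_ge hle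
    rw [hTc']
    exact Nat.le_of_dvd (by norm_num) hP3
  apply hgT
  rw [hEq]
  exact ⟨hgS, hgN⟩

end Cfsg.Agent.Helper78.O5760
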