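import Mathlib

/-!
# N4800 server (helper73, S0983), piece (FR): `|P|` divides the number of Sylow `p`-subgroups
meeting `P` trivially (they form a union of regular `P`-orbits).  Mathlib only.
-/

set_option autoImplicit false

namespace Cfsg.Agent.Helper78.N4800

open scoped Pointwise

universe u

variable {G : Type u} [Group G] [Finite G]

/-- (FR) -/
theorem card_trivial_inter_dvd {p : ℕ} [Fact p.Prime] (P : Sylow p G) :
    Nat.card (P : Subgroup G) ∣
      Nat.card {R : Sylow p G // (P : Subgroup G) ⊓ (R : Subgroup G) = ⊥} := by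
  classical
  let S : SubMulAction (↥(P : Subgroup G)) (Sylow p G) :=
    { carrier := {R | (P : Subgroup G) ⊓ (R : Subgroup G) = ⊥}
      smul_mem' := by
        intro x R hR
        have hR' : (P : Subgroup G) ⊓ (R : Subgroup G) = ⊥ := hR
        show (P : Subgroup G) ⊓ ((x • R : Sylow p G) : Subgroup G) = ⊥
        have h1 : ((x • R : Sylow p G) : Subgroup G) = MulAut.conj (x : G) • (R : Subgroup G) := by
          rw [Subgroup.smul_def, Sylow.coe_subgroup_smul]
        have h2 : MulAut.conj (x : G) • (P : Subgroup G) = (P : Subgroup G) :=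
          Subgroup.conj_smul_eq_self_of_mem x.2
        rw [h1]
        nth_rewrite 1 [← h2]
        rw [← Subgroup.smul_inf, hR', Subgroup.smul_bot] }
  have hfree : ∀ b : S, MulAction.stabilizer (↥(P : Subgroup G)) b = ⊥ := by
    intro b
    rw [eq_bot_iff]
    intro x hx
    rw [MulAction.mem_stabilizer_iff] at hx
    have hx0 : x • (b : Sylow p G) = (b : Sylow p G) := by
      have := congrArg (fun c : S => (c : Sylow p G)) hx
      simpa using this
    have hx' : (x : G) • (b : Sylow p G) = (b : Sylow p G) := hx0
    rw [Sylow.smul_eq_iff_mem_normalizer] at hx'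
    have hnorm := IsPGroup.inf_normalizer_sylow P.2 (b : Sylow p G)
    have hmem : (x : G) ∈ (P : Subgroup G) ⊓ ((b : Sylow p G) : Subgroup G) := by
      rw [← hnorm]
      exact ⟨x.2, hx'⟩
    have hb : (P : Subgroup G) ⊓ ((b : Sylow p G) : Subgroup G) = ⊥ := b.2
    rw [hb, Subgroup.mem_bot] at hmem
    rw [Subgroup.mem_bot]
    exact Subtype.ext hmem
  have e := MulAction.selfEquivOrbitsQuotientProd hfree
  have hc : Nat.card S = Nat.card (Quotient (MulAction.orbitRel (↥(P : Subgroup G)) S))
      * Nat.card (P : Subgroup G) := by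
    rw [Nat.card_congr e, Nat.card_prod]
  have hS : Nat.card {R : Sylow p G // (P : Subgroup G) ⊓ (R : Subgroup G) = ⊥} = Nat.card S :=
    Nat.card_congr (Equiv.refl _)
  rw [hS, hc]
  exact Dvd.intro_left _ rfl

end Cfsg.Agent.Helper78.N4800
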