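import Mathlib
import Cfsg.Agent.Lib.Helper77.Radical
import Cfsg.Agent.Lib.Helper16.ConvAlg

/-!
# Nilpotent central elements of the group algebra modulo the local ideal (helper78)

`convPow a k` is the `k`-th convolution power.  If `n` is a class function with local-ring
values all of whose central character values lie in the local ideal, then all values of
`convPow n k` lie in the local ideal for `k ≥ |Irr G|` (`memLocalIdeal_convPow`), and the same
holds for `convPow (conv n b) k` for any local-ring valued `b` (`memLocalIdeal_convPow_conv`).
-/

set_option autoImplicit false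
set_option linter.unusedSectionVars false
set_option linter.style.haveILetI false

namespace Cfsg.Agent.Helper78

open Cfsg Cfsg.Agent.Helper77

section convpow

variable {G : Type*} [Group G] [Fintype G]

/-- Convolution powers. -/
noncomputable def convPow (a : G → ℂ) : ℕ → (G → ℂ)
  | 0 => delta
  | (k + 1) => conv a (convPow a k)

theorem convPow_zero (a : G → ℂ) : convPow a 0 = delta := rfl

theorem convPow_succ (a : G → ℂ) (k : ℕ) : convPow a (k + 1) = conv a (convPow a k) := rfl

theorem isClassFunction_convPow {a : G → ℂ} (ha : IsClassFunction G a) (k : ℕ) :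
    IsClassFunction G (convPow a k) := by
  induction k with
  | zero => exact isClassFunction_delta
  | succ k ih => exact isClassFunction_conv ha ih

theorem convPow_add (a : G → ℂ) (j k : ℕ) :
    convPow a (j + k) = conv (convPow a j) (convPow a k) := by
  induction j with
  | zero => rw [Nat.zero_add, convPow_zero, conv_delta_left]
  | succ j ih =>
    rw [Nat.succ_add, convPow_succ, convPow_succ, ih, Cfsg.Agent.Helper16.conv_assoc]

/-- Powers of a product with a central factor. -/
theorem convPow_conv_central {n : G → ℂ} (hn : IsClassFunction G n) (b : G → ℂ) (k : ℕ) :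
    convPow (conv n b) k = conv (convPow n k) (convPow b k) := by
  induction k with
  | zero => rw [convPow_zero, convPow_zero, convPow_zero, conv_delta_left]
  | succ k ih =>
    rw [convPow_succ, convPow_succ, convPow_succ, ih]
    have hk := isClassFunction_convPow hn k
    -- (n b)(n^k b^k) = n (b n^k) b^k = n (n^k b) b^k
    rw [Cfsg.Agent.Helper16.conv_assoc n b, ← Cfsg.Agent.Helper16.conv_assoc b,
      ← Cfsg.Agent.Helper16.conv_comm_central hk b, Cfsg.Agent.Helper16.conv_assoc (convPow n k),
      ← Cfsg.Agent.Helper16.conv_assoc n]

variable {M : Ideal AlgInt} [hp : M.IsPrime]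

theorem isRValued_convPow {a : G → ℂ} (ha : IsRValued M a) (k : ℕ) :
    IsRValued M (convPow a k) := by
  induction k with
  | zero => exact isRValued_delta
  | succ k ih => exact isRValued_conv ha ih

/-- A product of factors `n - c δ` with the `c` in the local ideal is congruent to a power
of `n`. -/
theorem eqMod_convList_convPow {n : G → ℂ} (hnR : IsRValued M n) (cs : List ℂ)
    (hcs : ∀ c ∈ cs, MemLocalIdeal M c) :
    EqMod M (convList (cs.map (fun c => n - c • (delta : G → ℂ)))) (convPow n cs.length) := by
  induction cs with
  | nil => exact EqMod.refl _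
  | cons c cs ih =>
    have hc := hcs c List.mem_cons_self
    have hcs' : ∀ d ∈ cs, MemLocalIdeal M d := fun d hd => hcs d (List.mem_cons_of_mem _ hd)
    have ih' := ih hcs'
    simp only [List.map_cons, convList, List.length_cons]
    obtain ⟨X, hX⟩ : ∃ X, X = convList (cs.map (fun c => n - c • (delta : G → ℂ))) := ⟨_, rfl⟩
    rw [← hX] at ih' ⊢
    have hXR : IsRValued M X := by
      rw [hX]
      exact isRValued_convList _ (by
        intro a ha
        obtain ⟨d, hd, rfl⟩ := List.mem_map.mp ha
        exact isRValued_sub hnR (isRValued_smul (memLocalRing_of_memLocalIdeal (hcs' d hd))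
          isRValued_delta))
    rw [conv_sub_left, conv_smul_left, conv_delta_left, convPow_succ]
    have h1 : EqMod M (conv n X - c • X) (conv n X) := by
      intro g
      simp only [Pi.sub_apply, Pi.smul_apply, smul_eq_mul, sub_sub_cancel_left]
      exact memLocalIdeal_neg (memLocalIdeal_mul_right hc (hXR g))
    exact h1.trans (EqMod.conv_right hnR ih')

/-- **Nilpotency**: if all central character values of `n` lie in the local ideal, then the
`|Irr G|`-th power of `n` has all its values in the local ideal. -/
theorem memLocalIdeal_convPow_card {n : G → ℂ} (hn : IsClassFunction G n) (hnR : IsRValued M n)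
    (hrad : ∀ χ : IrrCharacter G, MemLocalIdeal M (omega (χ : G → ℂ) n)) :
    ∀ g, MemLocalIdeal M (convPow n (Fintype.card (IrrCharacter G)) g) := by
  classical
  let cs : List ℂ := (Finset.univ : Finset (IrrCharacter G)).toList.map
    (fun χ : IrrCharacter G => omega (χ : G → ℂ) n)
  have hcs : ∀ c ∈ cs, MemLocalIdeal M c := by
    intro c hc
    obtain ⟨χ, _, rfl⟩ := List.mem_map.mp hc
    exact hrad χ
  have hlen : cs.length = Fintype.card (IrrCharacter G) := by
    simp only [cs, List.length_map, Finset.length_toList, Finset.card_univ]
  have h1 := eqMod_convList_convPow hnR cs hcs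
  have hzero : convList (cs.map (fun c => n - c • (delta : G → ℂ))) = 0 := by
    have h0 : IsClassFunction G (0 : G → ℂ) := fun _ _ => rfl
    have hl_cl : ∀ a ∈ cs.map (fun c => n - c • (delta : G → ℂ)), IsClassFunction G a := by
      intro a ha
      obtain ⟨c, _, rfl⟩ := List.mem_map.mp ha
      exact isClassFunction_sub hn (isClassFunction_smul _ isClassFunction_delta)
    apply eq_of_omega_eq (isClassFunction_convList _ hl_cl) h0
    intro ψ
    have hz0 : omega (ψ : G → ℂ) (0 : G → ℂ) = 0 := by unfold omega; simp
    rw [omega_convList ψ.2 _ hl_cl, hz0]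
    simp only [cs, List.map_map]
    rw [Finset.prod_map_toList]
    apply Finset.prod_eq_zero (i := ψ) (Finset.mem_univ _)
    simp only [Function.comp_apply]
    rw [omega_sub, omega_smul, omega_delta_of_irr ψ.2, mul_one, sub_self]
  rw [hzero, hlen] at h1
  intro g
  have := memLocalIdeal_neg (h1 g)
  simpa using this

/-- Nilpotency for all large exponents. -/
theorem memLocalIdeal_convPow {n : G → ℂ} (hn : IsClassFunction G n) (hnR : IsRValued M n)
    (hrad : ∀ χ : IrrCharacter G, MemLocalIdeal M (omega (χ : G → ℂ) n)) (k : ℕ)
    (hk : Fintype.card (IrrCharacter G) ≤ k) :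
    ∀ g, MemLocalIdeal M (convPow n k g) := by
  obtain ⟨j, rfl⟩ := Nat.exists_eq_add_of_le' hk
  rw [convPow_add]
  intro g
  unfold conv
  refine memLocalIdeal_sum _ _ fun x _ => ?_
  exact memLocalIdeal_mul_left (isRValued_convPow hnR j x)
    (memLocalIdeal_convPow_card hn hnR hrad _)

/-- Nilpotency of a product of a nilpotent central element with any element. -/
theorem memLocalIdeal_convPow_conv {n : G → ℂ} (hn : IsClassFunction G n) (hnR : IsRValued M n)
    (hrad : ∀ χ : IrrCharacter G, MemLocalIdeal M (omega (χ : G → ℂ) n)) {b : G → ℂ}
    (hbR : IsRValued M b) (k : ℕ) (hk : Fintype.card (IrrCharacter G) ≤ k) :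
    ∀ g, MemLocalIdeal M (convPow (conv n b) k g) := by
  rw [convPow_conv_central hn]
  intro g
  unfold conv
  refine memLocalIdeal_sum _ _ fun x _ => ?_
  exact memLocalIdeal_mul_right (memLocalIdeal_convPow hn hnR hrad k hk x)
    (isRValued_convPow hbR k _)

end convpow

end Cfsg.Agent.Helper78
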