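import Mathlib
import Cfsg.Agent.Lib.Helper78.CentralNilp
import Cfsg.Agent.Lib.Helper81.PrincNPC2

/-!
# Cyclic rotation of tuples and the Frobenius congruence in the group algebra (helper78)

* `memLocalIdeal_sum_sub_sum_const` : for a rotation-invariant local-ring valued function `F` on
  `p ^ m`-tuples, `∑ v, F v ≡ ∑ s, F (const s)` modulo the local ideal.
-/

set_option autoImplicit false
set_option linter.unusedSectionVars false
set_option linter.style.haveILetI false

namespace Cfsg.Agent.Helper78

open Cfsg Cfsg.Agent.Helper77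

section rot

variable {p : ℕ} [Fact p.Prime] {M : Ideal AlgInt}

/-- Generic rotation lemma. -/
theorem memLocalIdeal_sum_sub_sum_const (hM : IsPModular p M) {S : Type*} [Fintype S]
    [DecidableEq S] (k m : ℕ) (hk : k + 1 = p ^ m)
    (F : (Fin (k + 1) → S) → ℂ) (hFR : ∀ v, MemLocalRing M (F v))
    (hinv : ∀ v : Fin (k + 1) → S, F (fun i => v (i + 1)) = F v) :
    MemLocalIdeal M (∑ v, F v - ∑ s : S, F (fun _ => s)) := by
  classical
  have hpr := isPrime_of_isPModular hM
  let f : Function.End (Fin (k + 1) → S) := fun v i => v (i + 1)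
  let F' : (Fin (k + 1) → S) → ℂ := fun v => if ∀ i, v i = v 0 then 0 else F v
  have hfix : ∀ v : Fin (k + 1) → S, f v = v → ∀ i, v i = v 0 := by
    intro v hv i
    induction i using Fin.induction with
    | zero => rfl
    | succ i ih =>
      have h1 := congrFun hv i.castSucc
      simp only [f] at h1
      rw [Fin.coeSucc_eq_succ] at h1
      rw [h1, ih]
  have hpow : ∀ (j : ℕ) (v : Fin (k + 1) → S) (i : Fin (k + 1)),
      (f ^ j) v i = v (i + j • (1 : Fin (k + 1))) := by
    intro j
    induction j with
    | zero => intro v i; rw [pow_zero, zero_nsmul, add_zero]; rfl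
    | succ j ih =>
      intro v i
      rw [pow_succ]
      change (f ^ j) (f v) i = _
      rw [ih]
      simp only [f]
      congr 1
      rw [succ_nsmul]
      abel
  have hfK : f ^ p ^ m = 1 := by
    funext v i
    rw [hpow, ← hk]
    have : (k + 1) • (1 : Fin (k + 1)) = 0 := by
      have := card_nsmul_eq_zero (G := Fin (k + 1)) (x := 1)
      rwa [Fintype.card_fin] at this
    rw [this, add_zero]
    rfl
  have hF'R : ∀ v, MemLocalRing M (F' v) := by
    intro v
    simp only [F']
    split_ifs
    · exact memLocalRing_zero hpr.ne_top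
    · exact hFR v
  have hconst_iff : ∀ v : Fin (k + 1) → S, (∀ i, f v i = f v 0) ↔ ∀ i, v i = v 0 := by
    intro v
    simp only [f]
    constructor
    · intro h i
      have h1 := h (i - 1)
      have h2 := h (0 - 1)
      simp only [sub_add_cancel] at h1 h2
      rw [h1, ← h2]
    · intro h i
      rw [h (i + 1), h (0 + 1)]
  have hF'inv : ∀ v, F' (f v) = F' v := by
    intro v
    simp only [F']
    rw [if_congr (hconst_iff v) rfl rfl]
    congr 1
    exact hinv v
  have hF'fix : ∀ v, f v = v → MemLocalIdeal M (F' v) := by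
    intro v hv
    simp only [F']
    rw [if_pos (hfix v hv)]
    exact memLocalIdeal_zero hpr.ne_top
  have key := Cfsg.Agent.Helper81.memLocalIdeal_sum_of_fixedPoints hM f m hfK F' hF'R hF'inv hF'fix
  have hsum : ∑ v, F' v = ∑ v, F v - ∑ s : S, F (fun _ => s) := by
    have h1 : ∀ v, F' v = F v - (if ∀ i, v i = v 0 then F v else 0) := by
      intro v
      simp only [F']
      split_ifs <;> simp
    rw [Finset.sum_congr rfl (fun v _ => h1 v), Finset.sum_sub_distrib]
    congr 1
    rw [← Finset.sum_filter]
    have himg : (Finset.univ.filter (fun v : Fin (k + 1) → S => ∀ i, v i = v 0)) =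
        Finset.univ.image (fun s : S => fun _ : Fin (k + 1) => s) := by
      ext v
      simp only [Finset.mem_filter, Finset.mem_univ, true_and, Finset.mem_image]
      constructor
      · intro h
        exact ⟨v 0, by funext i; exact (h i).symm⟩
      · rintro ⟨s, rfl⟩ i
        rfl
    rw [himg, Finset.sum_image]
    intro s _ t _ hst
    exact congrFun hst 0
  rw [← hsum]
  exact key

end rot

end Cfsg.Agent.Helper78

namespace Cfsg.Agent.Helper78

open Cfsg Cfsg.Agent.Helper77

section tuple

variable {G : Type*} [Group G] [Fintype G]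

open scoped Classical in
/-- Sum over `K`-tuples with ordered product `y` of the product of the values of `a`. -/
noncomputable def tupleSum (a : G → ℂ) (K : ℕ) (y : G) : ℂ :=
  ∑ v : Fin K → G, if (List.ofFn v).prod = y then ∏ i, a (v i) else 0

theorem tupleSum_zero (a : G → ℂ) : tupleSum a 0 = delta := by
  classical
  funext y
  unfold tupleSum delta
  simp only [Finset.univ_unique, Finset.sum_singleton, List.ofFn_zero, List.prod_nil,
    Finset.univ_eq_empty, Finset.prod_empty]
  by_cases h : y = 1
  · rw [if_pos h, if_pos h.symm]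
  · rw [if_neg h, if_neg (fun h' => h h'.symm)]

theorem tupleSum_succ (a : G → ℂ) (K : ℕ) (y : G) :
    tupleSum a (K + 1) y = ∑ g, a g * tupleSum a K (g⁻¹ * y) := by
  classical
  unfold tupleSum
  rw [← (Fin.consEquiv (fun _ : Fin (K + 1) => G)).sum_comp, Fintype.sum_prod_type]
  refine Finset.sum_congr rfl fun g _ => ?_
  rw [Finset.mul_sum]
  refine Finset.sum_congr rfl fun w _ => ?_
  change (if (List.ofFn (Fin.cons g w : Fin (K + 1) → G)).prod = y then
    ∏ i, a ((Fin.cons g w : Fin (K + 1) → G) i) else 0) = _
  rw [List.ofFn_succ, List.prod_cons, Fin.prod_univ_succ]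
  simp only [Fin.cons_zero, Fin.cons_succ]
  by_cases h : g * (List.ofFn w).prod = y
  · rw [if_pos h, if_pos (by rw [← h]; group)]
  · rw [if_neg h, if_neg, mul_zero]
    intro h'
    apply h
    rw [h']
    group

theorem tupleSum_eq_convPow (a : G → ℂ) (K : ℕ) : tupleSum a K = convPow a K := by
  induction K with
  | zero => rw [tupleSum_zero, convPow_zero]
  | succ K ih =>
    funext y
    rw [tupleSum_succ, convPow_succ, ih]
    rfl

end tuple

end Cfsg.Agent.Helper78

namespace Cfsg.Agent.Helper78

open Cfsg Cfsg.Agent.Helper77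

section frob

variable {G : Type*} [Group G] [Fintype G] {p : ℕ} [Fact p.Prime] {M : Ideal AlgInt}

/-- Rotation on tuples with product one: the coefficient at `1` of the `p ^ m`-th convolution
power is congruent to the sum of the `p ^ m`-th powers of the coefficients at the solutions of
`g ^ p ^ m = 1`. -/
theorem memLocalIdeal_tupleSum_one_sub [DecidableEq G] (hM : IsPModular p M) {a : G → ℂ}
    (haR : IsRValued M a) (k m : ℕ) (hk : k + 1 = p ^ m) :
    MemLocalIdeal M (tupleSum a (k + 1) 1 -
      ∑ g : G, if g ^ (k + 1) = 1 then a g ^ (k + 1) else 0) := by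
  classical
  have hpr := isPrime_of_isPModular hM
  have h := memLocalIdeal_sum_sub_sum_const hM (S := G) k m hk
    (fun v => if (List.ofFn v).prod = 1 then ∏ i, a (v i) else 0) ?_ ?_
  · have e1 : tupleSum a (k + 1) 1 =
        ∑ v : Fin (k + 1) → G, if (List.ofFn v).prod = 1 then ∏ i, a (v i) else 0 := by
      unfold tupleSum
      refine Finset.sum_congr rfl fun v _ => ?_
      congr
    have e2 : ∀ g : G, (if g ^ (k + 1) = 1 then a g ^ (k + 1) else 0) =
        (fun v : Fin (k + 1) → G => if (List.ofFn v).prod = 1 then ∏ i, a (v i) else 0)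
          (fun _ => g) := by
      intro g
      simp only [List.ofFn_const, List.prod_replicate, Finset.prod_const, Finset.card_univ,
        Fintype.card_fin]
    rw [e1, Finset.sum_congr rfl (fun g _ => e2 g)]
    exact h
  · intro v
    split_ifs
    · exact memLocalRing_prod _ _ (fun i _ => haR (v i))
    · exact memLocalRing_zero hpr.ne_top
  · intro v
    have hprod : ∏ i, a (v (i + 1)) = ∏ i, a (v i) :=
      Equiv.prod_comp (Equiv.addRight (1 : Fin (k + 1))) (fun i => a (v i))
    have hlist : (List.ofFn (fun i => v (i + 1))).prod = 1 ↔ (List.ofFn v).prod = 1 := by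
      rw [List.ofFn_succ' (fun i => v (i + 1)), List.ofFn_succ (f := v), List.prod_concat,
        List.prod_cons]
      simp only [Fin.coeSucc_eq_succ, Fin.last_add_one]
      rw [mul_eq_one_iff_eq_inv, mul_eq_one_iff_inv_eq, eq_comm]
    simp only [hprod]
    by_cases h1 : (List.ofFn v).prod = 1
    · rw [if_pos h1, if_pos (hlist.2 h1)]
    · rw [if_neg h1, if_neg (fun h' => h1 (hlist.1 h'))]

/-- Frobenius: `(∑ b) ^ p ^ m ≡ ∑ b ^ p ^ m`. -/
theorem memLocalIdeal_sum_pow_sub (hM : IsPModular p M) {S : Type*} [Fintype S] (b : S → ℂ)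
    (hbR : ∀ s, MemLocalRing M (b s)) (k m : ℕ) (hk : k + 1 = p ^ m) :
    MemLocalIdeal M ((∑ s, b s) ^ (k + 1) - ∑ s, b s ^ (k + 1)) := by
  classical
  have hpr := isPrime_of_isPModular hM
  have h := memLocalIdeal_sum_sub_sum_const hM (S := S) k m hk
    (fun v => ∏ i, b (v i)) ?_ ?_
  · have e1 : (∑ s, b s) ^ (k + 1) = ∑ v : Fin (k + 1) → S, ∏ i, b (v i) := by
      have := Finset.prod_univ_sum (fun _ : Fin (k + 1) => (Finset.univ : Finset S))
        (fun _ s => b s)
      rw [Fintype.piFinset_univ] at this
      rw [← this, Finset.prod_const, Finset.card_univ, Fintype.card_fin]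
    have e2 : ∀ s : S, b s ^ (k + 1) = (fun v : Fin (k + 1) → S => ∏ i, b (v i)) (fun _ => s) := by
      intro s
      simp only [Finset.prod_const, Finset.card_univ, Fintype.card_fin]
    rw [e1, Finset.sum_congr rfl (fun s _ => e2 s)]
    exact h
  · intro v
    exact memLocalRing_prod _ _ (fun i _ => hbR (v i))
  · intro v
    exact Equiv.prod_comp (Equiv.addRight (1 : Fin (k + 1))) (fun i => b (v i))

theorem memLocalIdeal_of_pow [hpr : M.IsPrime] {z : ℂ} (hz : MemLocalRing M z) (k : ℕ)
    (h : MemLocalIdeal M (z ^ k)) : MemLocalIdeal M z := by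
  induction k with
  | zero =>
    rw [pow_zero] at h
    exact absurd h not_memLocalIdeal_one
  | succ k ih =>
    rw [pow_succ] at h
    rcases memLocalIdeal_or_of_mul (memLocalRing_pow hz k) hz h with h1 | h1
    · exact ih h1
    · exact h1

open scoped Classical in
/-- **Key lemma** (the sum of the `p`-elements annihilates the radical of the centre): if `n` is
a central element of the group algebra over the local ring all of whose central character values
lie in the local ideal, then for every `h` the sum of `n (u * h)` over the `p`-elements `u` lies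
in the local ideal. -/
theorem memLocalIdeal_sum_pElements (hM : IsPModular p M) {n : G → ℂ}
    (hn : IsClassFunction G n) (hnR : IsRValued M n)
    (hrad : ∀ χ : IrrCharacter G, MemLocalIdeal M (omega (χ : G → ℂ) n)) (h : G) :
    MemLocalIdeal M (∑ u : G, if (∃ j : ℕ, orderOf u = p ^ j) then n (u * h) else 0) := by
  classical
  have hpr := isPrime_of_isPModular hM
  have hp2 : 2 ≤ p := (Fact.out : p.Prime).two_le
  -- the non-central element `a = n * h⁻¹`
  let b : G → ℂ := fun y => if y = h⁻¹ then 1 else 0
  have hbR : IsRValued M b := by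
    intro y
    simp only [b]
    split_ifs
    · exact memLocalRing_one hpr.ne_top
    · exact memLocalRing_zero hpr.ne_top
  have ha : ∀ u, conv n b u = n (u * h) := by
    intro u
    unfold conv
    rw [Finset.sum_eq_single (u * h)]
    · simp [b]
    · intro y _ hy
      simp only [b]
      rw [if_neg, mul_zero]
      intro h'
      apply hy
      have : u = y * h⁻¹ := by rw [← h']; group
      rw [this]; group
    · intro h'; exact absurd (Finset.mem_univ _) h'
  have haR : IsRValued M (conv n b) := isRValued_conv hnR hbR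
  -- the exponent
  let m : ℕ := Fintype.card G + Fintype.card (IrrCharacter G)
  have hm : m < p ^ m := lt_of_lt_of_le (Nat.lt_two_pow_self) (Nat.pow_le_pow_left hp2 m)
  obtain ⟨k, hk⟩ : ∃ k, k + 1 = p ^ m := ⟨p ^ m - 1, by omega⟩
  have hIrr : Fintype.card (IrrCharacter G) ≤ k + 1 := by omega
  have h1 := memLocalIdeal_convPow_conv hn hnR hrad hbR (k + 1) hIrr 1
  rw [← tupleSum_eq_convPow] at h1
  have h2 := memLocalIdeal_tupleSum_one_sub hM haR k m hk
  have h3 : MemLocalIdeal M (∑ g : G, if g ^ (k + 1) = 1 then (conv n b) g ^ (k + 1) else 0) := by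
    have := memLocalIdeal_sub h1 h2
    rwa [sub_sub_cancel] at this
  -- characterization of the solutions
  have hiff : ∀ g : G, g ^ (k + 1) = 1 ↔ ∃ j : ℕ, orderOf g = p ^ j := by
    intro g
    rw [hk]
    constructor
    · intro hg
      obtain ⟨j, -, hj⟩ := (Nat.dvd_prime_pow (Fact.out : p.Prime)).1 (orderOf_dvd_of_pow_eq_one hg)
      exact ⟨j, hj⟩
    · rintro ⟨j, hj⟩
      have hle : p ^ j ≤ Fintype.card G := by
        rw [← hj]
        exact orderOf_le_card_univ
      have hjm : j ≤ m := by
        by_contra hcon
        push Not at hcon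
        have : p ^ m < p ^ j := Nat.pow_lt_pow_right (by omega) hcon
        omega
      apply orderOf_dvd_iff_pow_eq_one.1
      rw [hj]
      exact pow_dvd_pow p hjm
  -- pass to the subtype of solutions
  let S := {g : G // g ^ (k + 1) = 1}
  have h4 : (∑ g : G, if g ^ (k + 1) = 1 then (conv n b) g ^ (k + 1) else 0) =
      ∑ s : S, (conv n b) s.1 ^ (k + 1) := by
    rw [← Finset.sum_filter]
    exact (Finset.sum_subtype (Finset.univ.filter fun g : G => g ^ (k + 1) = 1)
      (by intro x; simp) (fun g => (conv n b) g ^ (k + 1)))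
  rw [h4] at h3
  have h5 := memLocalIdeal_sum_pow_sub hM (fun s : S => (conv n b) s.1) (fun s => haR s.1) k m hk
  have h6 : MemLocalIdeal M ((∑ s : S, (conv n b) s.1) ^ (k + 1)) := by
    have := memLocalIdeal_add h5 h3
    rwa [sub_add_cancel] at this
  have h7 : MemLocalIdeal M (∑ s : S, (conv n b) s.1) :=
    memLocalIdeal_of_pow (memLocalRing_sum _ _ (fun s _ => haR s.1)) _ h6
  have h8 : (∑ s : S, (conv n b) s.1) =
      ∑ u : G, if (∃ j : ℕ, orderOf u = p ^ j) then n (u * h) else 0 := by
    rw [← Finset.sum_filter]
    have : ∑ g ∈ Finset.univ.filter (fun g : G => g ^ (k + 1) = 1), (conv n b) g =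
        ∑ s : S, (conv n b) s.1 :=
      Finset.sum_subtype (Finset.univ.filter fun g : G => g ^ (k + 1) = 1)
        (by intro x; simp) (fun g => (conv n b) g)
    rw [← this]
    apply Finset.sum_congr
    · ext g
      simp only [Finset.mem_filter, Finset.mem_univ, true_and]
      exact hiff g
    · intro g _
      exact ha g
  rw [← h8]
  exact h7

end frob

end Cfsg.Agent.Helper78
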