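import Cfsg.Agent.Lib.Helper78.ItoMichler
import Cfsg.Agent.Lib.Helper76.PSolvable
import Cfsg.Agent.Lib.Helper69.PSolvSub
import Cfsg.Agent.S0169

/-!
# Ito-Michler for `p`-solvable groups

A finite `p`-solvable group has a normal abelian Sylow `p`-subgroup if and only if all its
irreducible character degrees are prime to `p`.
-/

set_option autoImplicit false
set_option linter.unusedSectionVars false
set_option linter.style.haveILetI false

namespace Cfsg.Agent.Helper78

open Cfsg

universe u

/-- the `p`-solvable groups form a good class -/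
theorem goodClass_isPSolvable (p : ℕ) [Fact p.Prime] :
    GoodClass.{u} p (fun G _ => IsPSolvable p G) where
  quot := fun G _ _ K _ hG => Cfsg.Agent.Helper76.IsPSolvable.quotient hG K
  sub := fun G _ _ H _ hG => Cfsg.Agent.Helper69.IsPSolvable.subgroup' hG H
  step := by
    intro G _ _ hG hnt
    have hp : p.Prime := Fact.out
    have hlt : (⊥ : Subgroup G) < ⊤ := bot_lt_top
    obtain ⟨L, hLn, hBL, -, hL⟩ := Cfsg.Agent.Helper76.IsPSolvable.exists_step hG ⊥ ⊤ hlt
    refine ⟨L, hLn, hBL.ne', ?_⟩
    rw [Subgroup.relIndex_bot_left] at hL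
    rcases hL with ⟨m, hm⟩ | hco
    · left
      exact IsPGroup.of_card hm
    · right
      exact (Nat.Prime.coprime_iff_not_dvd hp).1 hco.symm

/-- **Ito-Michler, `p`-solvable case.** -/
theorem hasNormalAbelianSylow_of_isPSolvable (p : ℕ) [Fact p.Prime] {G : Type u} [Group G]
    [Finite G] (hG : IsPSolvable p G)
    (hdeg : ∀ χ : IrrCharacter G, ¬ p ∣ charDegree (χ : G → ℂ)) : HasNormalAbelianSylow p G :=
  hasNormalAbelianSylow_of_good p (fun G _ => IsPSolvable p G) (goodClass_isPSolvable p)
    _ G rfl hG hdeg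

/-- a normal `p`-subgroup of index prime to `p` is the Sylow `p`-subgroup -/
theorem sylow_eq_of_normal_pgroup (p : ℕ) [Fact p.Prime] {G : Type u} [Group G] [Finite G]
    (N : Subgroup G) (hN : N.Normal) (hNp : IsPGroup p N) (hidx : ¬ p ∣ N.index)
    (P : Sylow p G) : (P : Subgroup G) = N := by
  have hp : p.Prime := Fact.out
  have hsup : IsPGroup p (↥((P : Subgroup G) ⊔ N)) :=
    IsPGroup.to_sup_of_normal_right P.isPGroup' hNp
  have h1 : (P : Subgroup G) ⊔ N = P := P.is_maximal' hsup le_sup_left
  have hle : N ≤ (P : Subgroup G) := by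
    rw [← h1]
    exact le_sup_right
  -- `|P : N|` is a power of `p` dividing `|G : N|`
  have h2 : N.relIndex (P : Subgroup G) * (P : Subgroup G).index = N.index :=
    Subgroup.relIndex_mul_index hle
  have h3 : N.relIndex (P : Subgroup G) = 1 := by
    obtain ⟨k, hk⟩ := IsPGroup.iff_card.1 P.isPGroup'
    have hdvd : N.relIndex (P : Subgroup G) ∣ p ^ k := by
      rw [← hk]
      exact Subgroup.relIndex_dvd_card N (P : Subgroup G)
    obtain ⟨j, -, hj⟩ := (Nat.dvd_prime_pow hp).1 hdvd
    rcases Nat.eq_zero_or_pos j with rfl | hjpos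
    · simpa using hj
    · exfalso
      apply hidx
      rw [← h2, hj]
      exact Dvd.dvd.mul_right (dvd_pow_self p hjpos.ne') _
  exact le_antisymm (Subgroup.relIndex_eq_one.1 h3) hle

/-- **Ito.** With a normal abelian Sylow `p`-subgroup all irreducible degrees are prime to `p`. -/
theorem not_dvd_degree_of_hasNormalAbelianSylow (p : ℕ) {G : Type u} [Group G] [Finite G]
    (h : HasNormalAbelianSylow p G) (χ : IrrCharacter G) : ¬ p ∣ charDegree (χ : G → ℂ) := by
  obtain ⟨N, hN, -, hidx, hcomm⟩ := h
  obtain ⟨n, ρ, hirr, hχ⟩ := χ.2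
  have h1 := Cfsg.Agent.S0169.result ρ N hcomm
  have h2 : charDegree (χ : G → ℂ) = Module.finrank ℂ (Fin n → ℂ) := by
    unfold charDegree
    rw [← hχ, Representation.char_one]
    simp
  intro hdvd
  rw [h2] at hdvd
  exact hidx (dvd_trans hdvd h1)

end Cfsg.Agent.Helper78
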