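import Mathlib
import Cfsg.Agent.Lib.Helper16.IdemFun
import Cfsg.Agent.Lib.Helper16.NormalSub
import Cfsg.Agent.Lib.Helper79.Convolution
import Cfsg.Agent.Lib.Helper81.CharInd
import Cfsg.Agent.Lib.Helper81.CharProd
import Cfsg.Agent.Lib.Helper78.CharOrtho

/-!
# Fong–Reynolds, part 1: idempotent functions of a normal subgroup and a Mackey-type
orthogonality (helper78)

`N ⊴ G`, `C` a finite set of irreducible characters of `N`, `idemFun N C` (helper16) the sum of the
central primitive idempotents as a function on `G`.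

* `idemFun_conv` : convolution of two idempotent functions is the idempotent function of the
  intersection.
* `sum_conj_eq_zero_of_proj` : two functions on `G`, left-projected by idempotent functions of
  disjoint sets, are orthogonal.
-/

set_option autoImplicit false
set_option linter.unusedSectionVars false
set_option linter.style.haveILetI false

namespace Cfsg.Agent.Helper78

open Cfsg Cfsg.Agent.Helper77 Cfsg.Agent.Helper16
open scoped ComplexConjugate

section idem

variable {G : Type*} [Group G] [Fintype G] (N : Subgroup G) [hN : N.Normal] [Fintype N]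

theorem irr_one_conj (θ : IrrCharacter N) : conj ((θ : N → ℂ) 1) = (θ : N → ℂ) 1 := by
  rw [← Cfsg.Agent.Helper79.irr_inv, inv_one]

theorem idemFun_inv (C : Finset (IrrCharacter N)) (g : G) :
    idemFun N C g⁻¹ = conj (idemFun N C g) := by
  by_cases hg : g ∈ N
  · have e1 : idemFun N C g⁻¹ = idemFun N C (((⟨g, hg⟩ : N)⁻¹ : N) : G) := rfl
    have e2 : idemFun N C g = idemFun N C ((⟨g, hg⟩ : N) : G) := rfl
    rw [e1, e2, idemFun_coe, idemFun_coe, map_sum]
    refine Finset.sum_congr rfl fun θ _ => ?_
    rw [map_div₀, map_mul, Complex.conj_conj, irr_one_conj, Complex.conj_natCast,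
      Cfsg.Agent.Helper79.irr_inv, Complex.conj_conj]
  · have hg' : g⁻¹ ∉ N := fun h => hg (by simpa using N.inv_mem h)
    rw [idemFun_of_not_mem N C hg, idemFun_of_not_mem N C hg', map_zero]

theorem idemFun_eq_sum_singleton (C : Finset (IrrCharacter N)) (g : G) :
    idemFun N C g = ∑ θ ∈ C, idemFun N {θ} g := by
  by_cases hg : g ∈ N
  · have e2 : ∀ E, idemFun N E g = idemFun N E ((⟨g, hg⟩ : N) : G) := fun _ => rfl
    rw [e2 C, idemFun_coe]
    refine Finset.sum_congr rfl fun θ _ => ?_
    rw [e2 {θ}, idemFun_coe, Finset.sum_singleton]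
  · rw [idemFun_of_not_mem N C hg]
    symm
    apply Finset.sum_eq_zero
    intro θ _
    exact idemFun_of_not_mem N {θ} hg

open scoped Classical in
/-- Convolution of the primitive idempotent functions. -/
theorem idemFun_singleton_conv (θ' θ : IrrCharacter N) (k : G) :
    ∑ z : G, idemFun N {θ'} z * idemFun N {θ} (z⁻¹ * k) =
      if θ' = θ then idemFun N {θ} k else 0 := by
  by_cases hk : k ∈ N
  · have hsupp : ∀ z : G, z ∉ N → idemFun N {θ'} z * idemFun N {θ} (z⁻¹ * k) = 0 := by
      intro z hz
      rw [idemFun_of_not_mem N _ hz, zero_mul]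
    rw [sum_eq_sum_subgroup N _ hsupp]
    have h1 : ∀ z : N, idemFun N {θ'} (z : G) * idemFun N {θ} ((z : G)⁻¹ * k) =
        (θ' : N → ℂ) 1 * (θ : N → ℂ) 1 / (Nat.card N : ℂ) ^ 2 *
          conj ((θ' : N → ℂ) z * (θ : N → ℂ) (z⁻¹ * ⟨k, hk⟩)) := by
      intro z
      have e1 : idemFun N {θ} ((z : G)⁻¹ * k) = idemFun N {θ} ((z⁻¹ * ⟨k, hk⟩ : N) : G) := rfl
      rw [e1, idemFun_coe, idemFun_coe, Finset.sum_singleton, Finset.sum_singleton, map_mul]
      ring
    simp only [h1]
    rw [← Finset.mul_sum, ← map_sum, Cfsg.Agent.Helper79.irr_convolution]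
    have e2 : idemFun N {θ} k = idemFun N {θ} ((⟨k, hk⟩ : N) : G) := rfl
    by_cases h : θ' = θ
    · subst h
      rw [if_pos rfl, if_pos rfl, e2, idemFun_coe, Finset.sum_singleton, map_div₀, map_mul,
        Complex.conj_natCast, irr_one_conj]
      have h1 : (θ' : N → ℂ) 1 ≠ 0 := Cfsg.Agent.Helper79.irr_one_ne_zero θ'
      have hN0 : (Nat.card N : ℂ) ≠ 0 := by exact_mod_cast Nat.card_pos.ne'
      field_simp
    · rw [if_neg h, if_neg h, map_zero, mul_zero]
  · have hsupp : ∀ z : G, idemFun N {θ'} z * idemFun N {θ} (z⁻¹ * k) = 0 := by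
      intro z
      by_cases hz : z ∈ N
      · have : z⁻¹ * k ∉ N := by
          intro h
          apply hk
          have := N.mul_mem hz h
          simpa using this
        rw [idemFun_of_not_mem N _ this, mul_zero]
      · rw [idemFun_of_not_mem N _ hz, zero_mul]
    rw [Finset.sum_eq_zero (fun z _ => hsupp z), idemFun_of_not_mem N _ hk]
    simp

open scoped Classical in
/-- Convolution of idempotent functions: the idempotent function of the intersection. -/
theorem idemFun_conv (C' C : Finset (IrrCharacter N)) (k : G) :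
    ∑ z : G, idemFun N C' z * idemFun N C (z⁻¹ * k) = idemFun N (C' ∩ C) k := by
  have h1 : ∀ z : G, idemFun N C' z * idemFun N C (z⁻¹ * k) =
      ∑ θ' ∈ C', ∑ θ ∈ C, idemFun N {θ'} z * idemFun N {θ} (z⁻¹ * k) := by
    intro z
    rw [idemFun_eq_sum_singleton N C', idemFun_eq_sum_singleton N C, Finset.sum_mul_sum]
  simp only [h1]
  rw [Finset.sum_comm]
  have h2 : ∀ θ' ∈ C', ∑ z : G, ∑ θ ∈ C, idemFun N {θ'} z * idemFun N {θ} (z⁻¹ * k) =
      if θ' ∈ C then idemFun N {θ'} k else 0 := by
    intro θ' _
    rw [Finset.sum_comm]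
    simp only [idemFun_singleton_conv]
    rw [Finset.sum_ite_eq C θ' (fun θ => idemFun N {θ} k)]
  rw [Finset.sum_congr rfl h2, ← Finset.sum_filter, idemFun_eq_sum_singleton N (C' ∩ C)]
  refine Finset.sum_congr ?_ fun _ _ => rfl
  ext θ
  simp [Finset.mem_inter]

end idem

section proj

variable {G : Type*} [Group G] [Fintype G] (N : Subgroup G) [hN : N.Normal] [Fintype N]

theorem idemFun_empty (g : G) : idemFun N (∅ : Finset (IrrCharacter N)) g = 0 := by
  rw [idemFun_eq_sum_singleton, Finset.sum_empty]

open scoped Classical in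
/-- Convolution of idempotent functions, second form. -/
theorem idemFun_conv' (C C' : Finset (IrrCharacter N)) (k : G) :
    ∑ m : G, idemFun N C m * idemFun N C' (k * m⁻¹) = idemFun N (C' ∩ C) k := by
  rw [← Equiv.sum_comp ((Equiv.inv G).trans (Equiv.mulRight k))]
  have h3 : ∀ z : G, idemFun N C (((Equiv.inv G).trans (Equiv.mulRight k)) z) *
      idemFun N C' (k * (((Equiv.inv G).trans (Equiv.mulRight k)) z)⁻¹) =
      idemFun N C' z * idemFun N C (z⁻¹ * k) := by
    intro z
    simp only [Equiv.trans_apply, Equiv.inv_apply, Equiv.coe_mulRight]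
    rw [mul_comm]
    congr 2
    group
  simp only [h3]
  rw [idemFun_conv]

open scoped Classical in
/-- Projecting with the idempotent functions of two disjoint sets gives zero. -/
theorem sum_idemFun_proj_eq_zero (C C' : Finset (IrrCharacter N)) (hd : C' ∩ C = ∅)
    (B : G → ℂ) (hB : ∀ u, B u = ∑ m : G, idemFun N C' m * B (m * u)) (v : G) :
    ∑ m : G, idemFun N C m * B (m * v) = 0 := by
  have h1 : ∀ m : G, idemFun N C m * B (m * v) =
      ∑ k : G, idemFun N C m * idemFun N C' (k * m⁻¹) * B (k * v) := by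
    intro m
    rw [hB (m * v), Finset.mul_sum, ← Equiv.sum_comp (Equiv.mulRight m⁻¹)]
    refine Finset.sum_congr rfl fun k _ => ?_
    simp only [Equiv.coe_mulRight]
    have e : k * m⁻¹ * (m * v) = k * v := by group
    rw [e]
    ring
  simp only [h1]
  rw [Finset.sum_comm]
  apply Finset.sum_eq_zero
  intro k _
  rw [← Finset.sum_mul]
  rw [idemFun_conv' N C C' k, hd, idemFun_empty, zero_mul]

open scoped Classical in
/-- Two functions on `G`, left-projected by idempotent functions of disjoint sets of characters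
of `N`, are orthogonal. -/
theorem sum_mul_conj_eq_zero_of_proj (C C' : Finset (IrrCharacter N)) (hd : C' ∩ C = ∅)
    (A B : G → ℂ) (hA : ∀ u, A u = ∑ m : G, idemFun N C m * A (m * u))
    (hB : ∀ u, B u = ∑ m : G, idemFun N C' m * B (m * u)) :
    ∑ u : G, A u * conj (B u) = 0 := by
  have h1 : ∑ u : G, A u * conj (B u) =
      ∑ v : G, A v * conj (∑ m : G, idemFun N C m * B (m * v)) := by
    have h2 : ∀ u : G, A u * conj (B u) = ∑ m : G, idemFun N C m * A (m * u) * conj (B u) := by
      intro u
      conv_lhs => rw [hA u]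
      rw [Finset.sum_mul]
    simp only [h2]
    rw [Finset.sum_comm]
    have h3 : ∀ m : G, ∑ u : G, idemFun N C m * A (m * u) * conj (B u) =
        ∑ v : G, idemFun N C m * A v * conj (B (m⁻¹ * v)) := by
      intro m
      rw [← Equiv.sum_comp (Equiv.mulLeft m)
        (fun v => idemFun N C m * A v * conj (B (m⁻¹ * v)))]
      refine Finset.sum_congr rfl fun u _ => ?_
      simp only [Equiv.coe_mulLeft]
      rw [inv_mul_cancel_left]
    simp only [h3]
    rw [Finset.sum_comm]
    refine Finset.sum_congr rfl fun v _ => ?_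
    rw [map_sum, Finset.mul_sum, ← Equiv.sum_comp (Equiv.inv G)]
    refine Finset.sum_congr rfl fun m _ => ?_
    simp only [Equiv.inv_apply]
    rw [map_mul, ← idemFun_inv, inv_inv]
    ring
  rw [h1]
  apply Finset.sum_eq_zero
  intro v _
  rw [sum_idemFun_proj_eq_zero N C C' hd B hB v, map_zero, mul_zero]

end proj

end Cfsg.Agent.Helper78
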