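import Mathlib
import Cfsg.Agent.Lib.Helper78.CentralNilp
import Cfsg.Agent.Lib.Helper16.NormalSub

/-!
# Coset-graded convolution products (helper78)

`N ⊴ G`.  Functions on `G` are graded by the cosets of `N`.  Tools for the argument
"a graded algebra whose identity component is nilpotent is nilpotent":

* `exists_segment_prod_eq_one` : pigeonhole, a long list in a finite group has a nonempty
  contiguous segment with product one.
* `cosetPart`, `SuppIn`, `IsNInv` and their behaviour under convolution.
* `memLocalIdeal_convList_of_radical` : a product of `|Irr H|` class functions all of whose central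
  character values lie in the local ideal has all values in the local ideal.
* `exists_factor_segments` : a long product of coset parts of an `N`-invariant function factors as
  a product of `j` segment products supported on `N` times another product.
-/

set_option autoImplicit false
set_option linter.unusedSectionVars false
set_option linter.style.haveILetI false

namespace Cfsg.Agent.Helper78

open Cfsg Cfsg.Agent.Helper77

section seg

/-- Pigeonhole: a list of elements of a finite group that is at least as long as the group order
has a nonempty contiguous segment with product one. -/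
theorem exists_segment_prod_eq_one {Q : Type*} [Group Q] [Fintype Q] (L : List Q)
    (hL : Fintype.card Q ≤ L.length) :
    ∃ pre S post : List Q, L = pre ++ S ++ post ∧ S ≠ [] ∧ S.prod = 1 := by
  classical
  let f : Fin (Fintype.card Q + 1) → Q := fun i => (L.take i).prod
  have hcard : Fintype.card Q < Fintype.card (Fin (Fintype.card Q + 1)) := by simp
  obtain ⟨i, j, hij, hf⟩ := Fintype.exists_ne_map_eq_of_card_lt f hcard
  have key : ∀ i j : Fin (Fintype.card Q + 1), i < j → f i = f j →
      ∃ pre S post : List Q, L = pre ++ S ++ post ∧ S ≠ [] ∧ S.prod = 1 := by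
    intro i j hlt hf
    have hij' : (i : ℕ) < (j : ℕ) := hlt
    have hjL : (j : ℕ) ≤ L.length := le_trans (Nat.lt_succ_iff.1 j.2) hL
    have hsplit : L.take j = L.take i ++ (L.drop i).take (j - i) := by
      have : (j : ℕ) = i + (j - i) := by omega
      conv_lhs => rw [this]
      rw [List.take_add]
    refine ⟨L.take i, (L.drop i).take (j - i), L.drop j, ?_, ?_, ?_⟩
    · rw [← hsplit, List.take_append_drop]
    · apply List.ne_nil_of_length_pos
      rw [List.length_take, List.length_drop]
      omega
    · have h1 : f j = f i * ((L.drop i).take (j - i)).prod := by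
        simp only [f]
        rw [hsplit, List.prod_append]
      rw [← hf] at h1
      have h2 : f i * 1 = f i * ((L.drop i).take (j - i)).prod := by rw [mul_one]; exact h1
      exact (mul_left_cancel h2).symm
  rcases lt_or_gt_of_ne hij with h | h
  · exact key i j h hf
  · exact key j i h hf.symm

end seg

section convlist

variable {G : Type*} [Group G] [Fintype G]

theorem convList_append (l₁ l₂ : List (G → ℂ)) :
    convList (l₁ ++ l₂) = conv (convList l₁) (convList l₂) := by
  induction l₁ with
  | nil => rw [List.nil_append, convList, conv_delta_left]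
  | cons a l ih =>
    rw [List.cons_append, convList, convList, ih, Cfsg.Agent.Helper16.conv_assoc]

theorem conv_zero_left (b : G → ℂ) : conv (0 : G → ℂ) b = 0 := by
  funext g
  unfold conv
  simp

theorem conv_zero_right (a : G → ℂ) : conv a (0 : G → ℂ) = 0 := by
  funext g
  unfold conv
  simp

theorem conv_finsum_left {ι : Type*} (s : Finset ι) (f : ι → G → ℂ) (b : G → ℂ) :
    conv (∑ i ∈ s, f i) b = ∑ i ∈ s, conv (f i) b := by
  funext g
  unfold conv
  simp only [Finset.sum_apply, Finset.sum_mul]
  rw [Finset.sum_comm]

theorem conv_finsum_right {ι : Type*} (a : G → ℂ) (s : Finset ι) (f : ι → G → ℂ) :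
    conv a (∑ i ∈ s, f i) = ∑ i ∈ s, conv a (f i) := by
  funext g
  unfold conv
  simp only [Finset.sum_apply, Finset.mul_sum]
  rw [Finset.sum_comm]

variable {M : Ideal AlgInt} [hp : M.IsPrime]

/-- All values in the local ideal. -/
def IsMValued (M : Ideal AlgInt) (a : G → ℂ) : Prop := ∀ g, MemLocalIdeal M (a g)

theorem isMValued_conv_left {a b : G → ℂ} (ha : IsMValued M a) (hb : IsRValued M b) :
    IsMValued M (conv a b) := fun g =>
  memLocalIdeal_sum _ _ fun x _ => memLocalIdeal_mul_right (ha x) (hb _)

theorem isMValued_conv_right {a b : G → ℂ} (ha : IsRValued M a) (hb : IsMValued M b) :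
    IsMValued M (conv a b) := fun g =>
  memLocalIdeal_sum _ _ fun x _ => memLocalIdeal_mul_left (ha x) (hb _)

theorem isMValued_finsum {ι : Type*} (s : Finset ι) (f : ι → G → ℂ)
    (h : ∀ i ∈ s, IsMValued M (f i)) : IsMValued M (∑ i ∈ s, f i) := fun g => by
  rw [Finset.sum_apply]
  exact memLocalIdeal_sum _ _ fun i hi => h i hi g

/-- **Radical products**: along a list `S` of irreducible characters, a product of radical class
functions is congruent to a class function killed by the central characters of `S`. -/
theorem exists_eqMod_of_radical (S : List (IrrCharacter G)) :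
    ∀ l : List (G → ℂ), l.length = S.length → (∀ σ ∈ l, IsClassFunction G σ) →
      (∀ σ ∈ l, IsRValued M σ) →
      (∀ σ ∈ l, ∀ θ : IrrCharacter G, MemLocalIdeal M (omega (θ : G → ℂ) σ)) →
      ∃ z : G → ℂ, IsClassFunction G z ∧ IsRValued M z ∧ EqMod M (convList l) z ∧
        ∀ θ ∈ S, omega (θ : G → ℂ) z = 0 := by
  induction S with
  | nil =>
    intro l hlen _ _ _
    have : l = [] := List.length_eq_zero_iff.1 (by simpa using hlen)
    subst this
    exact ⟨delta, isClassFunction_delta, isRValued_delta, EqMod.refl _, fun θ hθ => by simp at hθ⟩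
  | cons θ₀ S ih =>
    intro l hlen hcl hR hrad
    cases l with
    | nil => simp at hlen
    | cons σ l =>
      have hlen' : l.length = S.length := by simpa using hlen
      obtain ⟨z', hz'cl, hz'R, hz'eq, hz'ω⟩ := ih l hlen'
        (fun a ha => hcl a (List.mem_cons_of_mem _ ha))
        (fun a ha => hR a (List.mem_cons_of_mem _ ha))
        (fun a ha => hrad a (List.mem_cons_of_mem _ ha))
      have hσcl := hcl σ List.mem_cons_self
      have hσR := hR σ List.mem_cons_self
      have hc := hrad σ List.mem_cons_self θ₀
      obtain ⟨c, hcdef⟩ : ∃ c, c = omega (θ₀ : G → ℂ) σ := ⟨_, rfl⟩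
      rw [← hcdef] at hc
      have hfcl : IsClassFunction G (σ - c • (delta : G → ℂ)) :=
        isClassFunction_sub hσcl (isClassFunction_smul _ isClassFunction_delta)
      refine ⟨conv (σ - c • (delta : G → ℂ)) z', isClassFunction_conv hfcl hz'cl,
        isRValued_conv (isRValued_sub hσR (isRValued_smul (memLocalRing_of_memLocalIdeal hc)
          isRValued_delta)) hz'R, ?_, ?_⟩
      · have h1 : EqMod M (convList (σ :: l)) (conv σ z') := by
          rw [convList]
          exact EqMod.conv_right hσR hz'eq
        refine h1.trans ?_
        rw [conv_sub_left, conv_smul_left, conv_delta_left]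
        intro g
        simp only [Pi.sub_apply, Pi.smul_apply, smul_eq_mul, sub_sub_cancel]
        exact memLocalIdeal_mul_right hc (hz'R g)
      · intro θ hθ
        rw [omega_conv θ.2 hfcl hz'cl]
        rcases List.mem_cons.1 hθ with h | h
        · rw [h, omega_sub, omega_smul, omega_delta_of_irr θ₀.2, mul_one, ← hcdef, sub_self,
            zero_mul]
        · rw [hz'ω θ h, mul_zero]

/-- **Radical products vanish**: a product of at least `|Irr G|` radical class functions has all
its values in the local ideal. -/
theorem isMValued_convList_of_radical (l : List (G → ℂ))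
    (hlen : Nat.card (IrrCharacter G) ≤ l.length) (hcl : ∀ σ ∈ l, IsClassFunction G σ)
    (hR : ∀ σ ∈ l, IsRValued M σ)
    (hrad : ∀ σ ∈ l, ∀ θ : IrrCharacter G, MemLocalIdeal M (omega (θ : G → ℂ) σ)) :
    IsMValued M (convList l) := by
  classical
  rw [Nat.card_eq_fintype_card] at hlen
  obtain ⟨m, hm⟩ : ∃ m, m = Fintype.card (IrrCharacter G) := ⟨_, rfl⟩
  rw [← hm] at hlen
  have hsplit : l = l.take m ++ l.drop m := (List.take_append_drop m l).symm
  have hlen1 : (l.take m).length = ((Finset.univ : Finset (IrrCharacter G)).toList).length := by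
    rw [List.length_take, Finset.length_toList, Finset.card_univ, ← hm]
    omega
  obtain ⟨z, hzcl, _, hzeq, hzω⟩ := exists_eqMod_of_radical (M := M)
    ((Finset.univ : Finset (IrrCharacter G)).toList) (l.take m) hlen1
    (fun a ha => hcl a (List.mem_of_mem_take ha)) (fun a ha => hR a (List.mem_of_mem_take ha))
    (fun a ha => hrad a (List.mem_of_mem_take ha))
  have hz0 : z = 0 := by
    have h0 : IsClassFunction G (0 : G → ℂ) := fun _ _ => rfl
    apply eq_of_omega_eq hzcl h0
    intro ψ
    have hz0 : omega (ψ : G → ℂ) (0 : G → ℂ) = 0 := by unfold omega; simp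
    rw [hz0]
    exact hzω ψ (Finset.mem_toList.2 (Finset.mem_univ _))
  rw [hz0] at hzeq
  have h1 : IsMValued M (convList (l.take m)) := fun g => by
    have := hzeq g
    simpa using this
  rw [hsplit, convList_append]
  exact isMValued_conv_left h1 (isRValued_convList _ fun a ha => hR a (List.mem_of_mem_drop ha))

end convlist

section graded

variable {G : Type*} [Group G] [Fintype G] (N : Subgroup G) [hN : N.Normal]

/-- `f` vanishes off `N`. -/
def SuppIn (f : G → ℂ) : Prop := ∀ g, g ∉ N → f g = 0

/-- `f` is invariant under conjugation by `N`. -/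
def IsNInv (f : G → ℂ) : Prop := ∀ n ∈ N, ∀ g, f (n * g * n⁻¹) = f g

open scoped Classical in
/-- The part of `f` supported on the coset `q`. -/
noncomputable def cosetPart (q : G ⧸ N) (f : G → ℂ) : G → ℂ :=
  fun g => if (QuotientGroup.mk g : G ⧸ N) = q then f g else 0

open scoped Classical in
theorem cosetPart_apply (q : G ⧸ N) (f : G → ℂ) (g : G) :
    cosetPart N q f g = if (QuotientGroup.mk g : G ⧸ N) = q then f g else 0 := rfl

theorem sum_cosetPart [Fintype (G ⧸ N)] (f : G → ℂ) : ∑ q : G ⧸ N, cosetPart N q f = f := by
  classical
  funext g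
  rw [Finset.sum_apply]
  simp only [cosetPart_apply]
  rw [Finset.sum_ite_eq]
  simp

theorem isNInv_of_isClassFunction {f : G → ℂ} (hf : IsClassFunction G f) : IsNInv N f :=
  fun n _ g => hf g n

theorem mk_conj_of_mem {n : G} (hn : n ∈ N) (g : G) :
    (QuotientGroup.mk (n * g * n⁻¹) : G ⧸ N) = QuotientGroup.mk g := by
  have h1 : (QuotientGroup.mk n : G ⧸ N) = 1 := (QuotientGroup.eq_one_iff n).2 hn
  rw [QuotientGroup.mk_mul, QuotientGroup.mk_mul, QuotientGroup.mk_inv, h1]
  simp

theorem isNInv_cosetPart {f : G → ℂ} (hf : IsNInv N f) (q : G ⧸ N) :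
    IsNInv N (cosetPart N q f) := by
  intro n hn g
  rw [cosetPart_apply, cosetPart_apply, mk_conj_of_mem N hn, hf n hn]

theorem isNInv_conv {a b : G → ℂ} (ha : IsNInv N a) (hb : IsNInv N b) : IsNInv N (conv a b) := by
  intro n hn g
  unfold conv
  rw [← Equiv.sum_comp (MulAut.conj n).toEquiv (fun y => a y * b (y⁻¹ * (n * g * n⁻¹)))]
  refine Finset.sum_congr rfl fun y _ => ?_
  have h1 : (MulAut.conj n).toEquiv y = n * y * n⁻¹ := by simp [MulAut.conj_apply]
  rw [h1]
  have : (n * y * n⁻¹)⁻¹ * (n * g * n⁻¹) = n * (y⁻¹ * g) * n⁻¹ := by group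
  rw [this, ha n hn, hb n hn]

theorem isNInv_convList (l : List (G → ℂ)) (h : ∀ a ∈ l, IsNInv N a) : IsNInv N (convList l) := by
  induction l with
  | nil => exact isNInv_of_isClassFunction N isClassFunction_delta
  | cons a l ih =>
    exact isNInv_conv N (h a List.mem_cons_self) (ih fun b hb => h b (List.mem_cons_of_mem _ hb))

/-- A function supported on `N` commutes with every `N`-invariant function. -/
theorem conv_comm_of_suppIn {s d : G → ℂ} (hs : SuppIn N s) (hd : IsNInv N d) :
    conv s d = conv d s := by
  funext g
  unfold conv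
  rw [← Equiv.sum_comp ((Equiv.inv G).trans (Equiv.mulLeft g)) (fun y => d y * s (y⁻¹ * g))]
  refine Finset.sum_congr rfl fun x _ => ?_
  simp only [Equiv.trans_apply, Equiv.inv_apply, Equiv.coe_mulLeft]
  have e1 : (g * x⁻¹)⁻¹ * g = x := by group
  rw [e1, mul_comm]
  by_cases hx : x ∈ N
  · have e2 : g * x⁻¹ = x * (x⁻¹ * g) * x⁻¹ := by group
    rw [e2, hd x hx]
  · rw [hs x hx, mul_zero, mul_zero]

theorem suppIn_conv {a b : G → ℂ} (ha : SuppIn N a) (hb : SuppIn N b) : SuppIn N (conv a b) := by
  intro g hg
  unfold conv
  apply Finset.sum_eq_zero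
  intro x _
  by_cases hx : x ∈ N
  · have : x⁻¹ * g ∉ N := by
      intro h
      apply hg
      have := N.mul_mem hx h
      simpa using this
    rw [hb _ this, mul_zero]
  · rw [ha x hx, zero_mul]

theorem suppIn_delta : SuppIn N (delta : G → ℂ) := by
  classical
  intro g hg
  unfold delta
  rw [if_neg]
  intro h
  exact hg (h ▸ N.one_mem)

theorem suppIn_convList (l : List (G → ℂ)) (h : ∀ a ∈ l, SuppIn N a) : SuppIn N (convList l) := by
  induction l with
  | nil => exact suppIn_delta N
  | cons a l ih =>
    exact suppIn_conv N (h a List.mem_cons_self) (ih fun b hb => h b (List.mem_cons_of_mem _ hb))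

/-- Convolution with a function supported on `N` preserves coset parts. -/
theorem conv_cosetPart {h : G → ℂ} (hh : SuppIn N h) (q : G ⧸ N) (f : G → ℂ) :
    conv (cosetPart N q f) h = cosetPart N q (conv f h) := by
  classical
  funext g
  rw [cosetPart_apply]
  unfold conv
  split_ifs with hg
  · refine Finset.sum_congr rfl fun x _ => ?_
    by_cases hx : x⁻¹ * g ∈ N
    · have : (QuotientGroup.mk x : G ⧸ N) = q := by
        rw [← hg]
        exact QuotientGroup.eq.2 hx
      rw [cosetPart_apply, if_pos this]
    · rw [hh _ hx, mul_zero, mul_zero]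
  · apply Finset.sum_eq_zero
    intro x _
    by_cases hx : x⁻¹ * g ∈ N
    · have : (QuotientGroup.mk x : G ⧸ N) ≠ q := by
        intro hxq
        apply hg
        rw [← hxq]
        exact (QuotientGroup.eq.2 hx).symm
      rw [cosetPart_apply, if_neg this, zero_mul]
    · rw [hh _ hx, mul_zero]

/-- A product of coset parts is supported on the product coset. -/
theorem convList_cosetPart_eq_zero (E : G → ℂ) :
    ∀ (S : List (G ⧸ N)) (g : G), (QuotientGroup.mk g : G ⧸ N) ≠ S.prod →
      convList (S.map (fun q => cosetPart N q E)) g = 0 := by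
  classical
  intro S
  induction S with
  | nil =>
    intro g hg
    rw [List.map_nil, convList]
    unfold delta
    rw [if_neg]
    intro h
    apply hg
    rw [h, List.prod_nil]
    rfl
  | cons q S ih =>
    intro g hg
    rw [List.map_cons, convList]
    unfold conv
    apply Finset.sum_eq_zero
    intro x _
    by_cases hx : (QuotientGroup.mk x : G ⧸ N) = q
    · have : (QuotientGroup.mk (x⁻¹ * g) : G ⧸ N) ≠ S.prod := by
        intro h
        apply hg
        rw [List.prod_cons, ← h, ← hx, QuotientGroup.mk_mul, QuotientGroup.mk_inv]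
        simp
      rw [ih _ this, mul_zero]
    · rw [cosetPart_apply, if_neg hx, zero_mul]

theorem suppIn_convList_cosetPart (E : G → ℂ) (S : List (G ⧸ N)) (hS : S.prod = 1) :
    SuppIn N (convList (S.map (fun q => cosetPart N q E))) := by
  intro g hg
  apply convList_cosetPart_eq_zero
  rw [hS]
  intro h
  exact hg ((QuotientGroup.eq_one_iff g).1 h)

/-- **Factoring out segments**: a product of at least `j * |G/N|` coset parts of an `N`-invariant
function is a product of `j` nonempty segment products of total degree one (hence supported on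
`N`) times a further product of coset parts. -/
theorem exists_factor_segments [Fintype (G ⧸ N)] {E : G → ℂ} (hE : IsNInv N E) (j : ℕ) :
    ∀ L : List (G ⧸ N), j * Fintype.card (G ⧸ N) ≤ L.length →
      ∃ (Ss : List (List (G ⧸ N))) (L' : List (G ⧸ N)), Ss.length = j ∧
        (∀ S ∈ Ss, S ≠ [] ∧ S.prod = 1) ∧
        convList (L.map (fun q => cosetPart N q E)) =
          conv (convList (Ss.map (fun S => convList (S.map (fun q => cosetPart N q E)))))
            (convList (L'.map (fun q => cosetPart N q E))) := by
  induction j with
  | zero =>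
    intro L _
    refine ⟨[], L, rfl, fun S hS => by simp at hS, ?_⟩
    rw [List.map_nil, convList, conv_delta_left]
  | succ j ih =>
    intro L hL
    obtain ⟨n, hn⟩ : ∃ n, n = Fintype.card (G ⧸ N) := ⟨_, rfl⟩
    rw [← hn] at hL ih
    have hnL : n ≤ L.length := by
      have : n ≤ (j + 1) * n := Nat.le_mul_of_pos_left n (Nat.succ_pos j)
      omega
    have htake : (L.take n).length = n := by rw [List.length_take]; omega
    obtain ⟨pre, S, post, hsplit, hSne, hSprod⟩ :=
      exists_segment_prod_eq_one (L.take n) (by rw [htake, hn])
    have hSlen : S.length ≤ n := by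
      have := congrArg List.length hsplit
      rw [htake, List.length_append, List.length_append] at this
      omega
    have hLeq : L = pre ++ S ++ (post ++ L.drop n) := by
      conv_lhs => rw [← List.take_append_drop n L, hsplit]
      simp [List.append_assoc]
    have hlen2 : j * n ≤ (pre ++ (post ++ L.drop n)).length := by
      have h1 := congrArg List.length hLeq
      simp only [List.length_append] at h1 ⊢
      have h2 : (j + 1) * n = j * n + n := by ring
      omega
    obtain ⟨Ss', L', hlen', hSs', heq'⟩ := ih (pre ++ (post ++ L.drop n)) hlen2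
    refine ⟨S :: Ss', L', by rw [List.length_cons, hlen'], ?_, ?_⟩
    · intro S' hS'
      rcases List.mem_cons.1 hS' with h | h
      · rw [h]; exact ⟨hSne, hSprod⟩
      · exact hSs' S' h
    · have hβ : ∀ a ∈ pre.map (fun q => cosetPart N q E), IsNInv N a := by
        intro a ha
        obtain ⟨q, _, rfl⟩ := List.mem_map.1 ha
        exact isNInv_cosetPart N hE q
      have hcomm := conv_comm_of_suppIn N (suppIn_convList_cosetPart N E S hSprod)
        (isNInv_convList N _ hβ)
      rw [List.map_cons, convList]
      conv_lhs => rw [hLeq]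
      rw [List.map_append, List.map_append, convList_append, convList_append, ← hcomm,
        Cfsg.Agent.Helper16.conv_assoc, Cfsg.Agent.Helper16.conv_assoc, ← convList_append,
        ← List.map_append, heq']

end graded

end Cfsg.Agent.Helper78
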