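import Mathlib
import Cfsg.Agent.Lib.Helper78.GradedNilp
import Cfsg.Agent.Lib.Helper78.FongReynolds1
import Cfsg.Agent.Lib.Helper16.BlockConj
import Cfsg.Agent.Lib.Helper77.BrauerMap

/-!
# Every character of a covered block lies under the covering block (helper78)

`N ⊴ G`, `B` a block of `G` covering the block `b` of `N`.  Then every `θ ∈ b` lies under some
`χ ∈ B` (`exists_over_of_covers`, Navarro Theorem 9.4).  The proof is ring-theoretic: if `θ`
lies under no member of `B`, the coset parts of the block idempotent of `B` generate, modulo the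
local ideal, a graded algebra whose identity component is nilpotent; hence the idempotent would be
zero modulo the local ideal.
-/

set_option autoImplicit false
set_option linter.unusedSectionVars false
set_option linter.style.haveILetI false

namespace Cfsg.Agent.Helper78

open Cfsg Cfsg.Agent.Helper77 Cfsg.Agent.Helper16
open scoped ComplexConjugate

section restrict

variable {G : Type*} [Group G] [Fintype G] (N : Subgroup G) [Fintype N]

theorem conv_coe_of_suppIn {a : G → ℂ} (ha : SuppIn N a) (b : G → ℂ) (n : N) :
    conv a b (n : G) = conv (fun m : N => a m) (fun m : N => b m) n := by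
  unfold conv
  rw [sum_eq_sum_subgroup N (fun x => a x * b (x⁻¹ * (n : G)))
    (fun g hg => by rw [ha g hg, zero_mul])]
  refine Finset.sum_congr rfl fun m _ => ?_
  simp

theorem convList_coe (l : List (G → ℂ)) (h : ∀ a ∈ l, SuppIn N a) (n : N) :
    convList l (n : G) = convList (l.map (fun a => fun m : N => a m)) n := by
  classical
  induction l generalizing n with
  | nil =>
    rw [List.map_nil, convList, convList]
    unfold delta
    simp
  | cons a l ih =>
    rw [List.map_cons, convList, convList, conv_coe_of_suppIn N (h a List.mem_cons_self)]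
    have : (fun m : N => convList l (m : G)) =
        convList (l.map (fun a => fun m : N => a m)) := by
      funext m
      exact ih (fun b hb => h b (List.mem_cons_of_mem _ hb)) m
    rw [this]

theorem isClassFunction_coe_of_isNInv {s : G → ℂ} (hs : IsNInv N s) :
    IsClassFunction N (fun m : N => s m) := by
  intro g x
  have := hs (x : G) x.2 (g : G)
  simpa using this

end restrict

section cover

variable {G : Type*} [Group G] [Fintype G] {p : ℕ} [Fact p.Prime] {M : Ideal AlgInt}
  (N : Subgroup G) [hN : N.Normal] [Fintype N]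

/-- **Navarro, Theorem 9.4.**  If the block `B` of `G` covers the block `b` of the normal subgroup
`N`, then every member of `b` lies under some member of `B`. -/
theorem exists_over_of_covers (hM : IsPModular p M) {B : Set (IrrCharacter G)}
    (hB : IsPBlock M B) {b : Set (IrrCharacter N)} (hb : IsPBlock M b) (χ₀ : IrrCharacter G)
    (hχ₀ : χ₀ ∈ B) (θ₀ : IrrCharacter N) (hθ₀ : θ₀ ∈ b)
    (hcon₀ : classInner (fun n : N => (χ₀ : G → ℂ) n) (θ₀ : N → ℂ) ≠ 0)
    (θ : IrrCharacter N) (hθ : θ ∈ b) :
    ∃ χ ∈ B, classInner (fun n : N => (χ : G → ℂ) n) (θ : N → ℂ) ≠ 0 := by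
  classical
  have hpr := isPrime_of_isPModular hM
  haveI : Fintype (G ⧸ N) := Fintype.ofFinite _
  by_contra hno
  push Not at hno
  -- the characters of `N` not under `B`
  obtain ⟨Y, hY⟩ : ∃ Y : Finset (IrrCharacter N), Y = Finset.univ.filter
      (fun θ' : IrrCharacter N => ∀ χ ∈ B,
        classInner (fun n : N => (χ : G → ℂ) n) (θ' : N → ℂ) = 0) := ⟨_, rfl⟩
  have hmemY : ∀ θ' : IrrCharacter N, θ' ∈ Y ↔ ∀ χ ∈ B,
      classInner (fun n : N => (χ : G → ℂ) n) (θ' : N → ℂ) = 0 := by
    intro θ'
    rw [hY, Finset.mem_filter]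
    exact ⟨fun h => h.2, fun h => ⟨Finset.mem_univ _, h⟩⟩
  have hθY : θ ∈ Y := (hmemY θ).2 hno
  have hYst : ∀ x : G, ∀ θ' ∈ Y, conjIrr N x θ' ∈ Y := by
    intro x θ' hθ'
    rw [hmemY] at hθ' ⊢
    intro χ hχ
    rw [classInner_restrict_conjIrr]
    exact hθ' χ hχ
  have hfYcl : IsClassFunction G (idemFun N Y) := isClassFunction_idemFun N Y hYst
  have hfYsupp : SuppIn N (idemFun N Y) := fun g hg => idemFun_of_not_mem N Y hg
  -- the block idempotent
  obtain ⟨E, hEdef⟩ : ∃ E : G → ℂ, E = blockCoeff B := ⟨_, rfl⟩
  have hEcl : IsClassFunction G E := by rw [hEdef]; exact isClassFunction_blockCoeff B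
  have hER : IsRValued M E := by rw [hEdef]; exact isRValued_blockCoeff hB
  have hidem : conv E E = E := by rw [hEdef]; exact conv_blockCoeff_self B
  have hEinv : IsNInv N E := isNInv_of_isClassFunction N hEcl
  have hEfY : conv E (idemFun N Y) = 0 := by
    have h0 : IsClassFunction G (0 : G → ℂ) := fun _ _ => rfl
    apply eq_of_omega_eq (isClassFunction_conv hEcl hfYcl) h0
    intro χ
    have hz0 : omega (χ : G → ℂ) (0 : G → ℂ) = 0 := by unfold omega; simp
    rw [hz0, omega_conv χ.2 hEcl hfYcl, hEdef, omega_blockCoeff]
    by_cases hχ : χ ∈ B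
    · obtain ⟨θ₁, hθ₁⟩ := exists_constituent N χ
      have hθ₁Y : θ₁ ∉ Y := fun h => hθ₁ ((hmemY θ₁).1 h χ hχ)
      rw [omega_idemFun_of_constituent N Y hYst χ θ₁ hθ₁, if_neg hθ₁Y, mul_zero]
    · rw [if_neg hχ, zero_mul]
  have hβfY : ∀ q : G ⧸ N, conv (cosetPart N q E) (idemFun N Y) = 0 := by
    intro q
    rw [conv_cosetPart N hfYsupp, hEfY]
    funext g
    rw [cosetPart_apply]
    simp
  have hβinv : ∀ q : G ⧸ N, IsNInv N (cosetPart N q E) := fun q => isNInv_cosetPart N hEinv q
  have hβR : ∀ q : G ⧸ N, IsRValued M (cosetPart N q E) := by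
    intro q g
    rw [cosetPart_apply]
    split_ifs
    · exact hER g
    · exact memLocalRing_zero hpr.ne_top
  -- radical property of the segment products
  have hrad : ∀ s : G → ℂ, SuppIn N s → IsNInv N s → IsRValued M s →
      conv s (idemFun N Y) = 0 →
      ∀ θ' : IrrCharacter N, MemLocalIdeal M (omega (θ' : N → ℂ) (fun m : N => s m)) := by
    intro s hs1 hs2 hs3 hs4
    have hsNcl := isClassFunction_coe_of_isNInv N hs2
    have hcase1 : ∀ θ' ∈ Y, omega (θ' : N → ℂ) (fun m : N => s m) = 0 := by
      intro θ' hθ'
      have hfNcl : IsClassFunction N (fun m : N => idemFun N Y (m : G)) :=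
        Cfsg.Agent.Helper16.isClassFunction_restrict N hfYcl
      have h1 : conv (fun m : N => s m) (fun m : N => idemFun N Y (m : G)) = 0 := by
        funext n
        rw [← conv_coe_of_suppIn N hs1, hs4]
        rfl
      have h2 := omega_conv θ'.2 hsNcl hfNcl
      rw [h1, omega_idemFun_restrict, if_pos hθ', mul_one] at h2
      rw [← h2]
      unfold omega
      simp
    intro θ'
    by_cases hθ' : θ' ∈ Y
    · rw [hcase1 θ' hθ']
      exact memLocalIdeal_zero hpr.ne_top
    · rw [hmemY] at hθ'
      push Not at hθ'
      obtain ⟨χ, hχ, hcon⟩ := hθ'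
      have hcl := mem_conjClosure_of_sameBlock N hM hb χ₀ χ (sameBlock_of_mem hB hχ₀ hχ) θ₀ θ'
        hθ₀ hcon₀ hcon
      obtain ⟨g, hg⟩ := (mem_conjClosure N b θ').1 hcl
      have hsame : SameBlock M (conjIrr N g θ' : N → ℂ) (θ : N → ℂ) := sameBlock_of_mem hb hg hθ
      have hsame' := sameBlock_conjIrr N g⁻¹ _ _ hsame
      rw [conjIrr_inv_conjIrr] at hsame'
      have hstar : conjIrr N g⁻¹ θ ∈ Y := hYst g⁻¹ θ hθY
      have h3 := omega_sub_memLocalIdeal hM (isClassFunction_of_isIrrCharacter' θ'.2)
        (isClassFunction_of_isIrrCharacter' (conjIrr N g⁻¹ θ).2) hsame' hsNcl (fun n => hs3 n)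
      rw [hcase1 _ hstar, sub_zero] at h3
      exact h3
  -- segment products are radical
  have hseg : ∀ S : List (G ⧸ N), S ≠ [] → S.prod = 1 →
      ∀ θ' : IrrCharacter N, MemLocalIdeal M (omega (θ' : N → ℂ)
        (fun m : N => convList (S.map (fun q => cosetPart N q E)) m)) := by
    intro S hSne hSprod
    apply hrad _ (suppIn_convList_cosetPart N E S hSprod)
    · apply isNInv_convList
      intro a ha
      obtain ⟨q, _, rfl⟩ := List.mem_map.1 ha
      exact hβinv q
    · apply isRValued_convList
      intro a ha
      obtain ⟨q, _, rfl⟩ := List.mem_map.1 ha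
      exact hβR q
    · cases S with
      | nil => exact absurd rfl hSne
      | cons q S' =>
        rw [List.map_cons, convList, ← conv_comm_central hfYcl, ← conv_assoc,
          conv_comm_central hfYcl, hβfY, conv_zero_left]
  -- long products vanish modulo the local ideal
  have hlong : ∀ L : List (G ⧸ N),
      Nat.card (IrrCharacter N) * Fintype.card (G ⧸ N) ≤ L.length →
      IsMValued M (convList (L.map (fun q => cosetPart N q E))) := by
    intro L hL
    obtain ⟨Ss, L', hlen, hSs, heq⟩ := exists_factor_segments N hEinv _ L hL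
    rw [heq]
    apply isMValued_conv_left
    · have hsupp : ∀ a ∈ Ss.map (fun S => convList (S.map (fun q => cosetPart N q E))),
          SuppIn N a := by
        intro a ha
        obtain ⟨S, hS, rfl⟩ := List.mem_map.1 ha
        exact suppIn_convList_cosetPart N E S (hSs S hS).2
      intro g
      by_cases hg : g ∈ N
      · have h1 := convList_coe N _ hsupp ⟨g, hg⟩
        rw [show ((⟨g, hg⟩ : N) : G) = g from rfl] at h1
        rw [h1]
        apply isMValued_convList_of_radical
        · rw [List.length_map, List.length_map, hlen]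
        · intro σ hσ
          obtain ⟨a, ha, rfl⟩ := List.mem_map.1 hσ
          obtain ⟨S, hS, rfl⟩ := List.mem_map.1 ha
          apply isClassFunction_coe_of_isNInv
          apply isNInv_convList
          intro a ha
          obtain ⟨q, _, rfl⟩ := List.mem_map.1 ha
          exact hβinv q
        · intro σ hσ
          obtain ⟨a, ha, rfl⟩ := List.mem_map.1 hσ
          obtain ⟨S, hS, rfl⟩ := List.mem_map.1 ha
          intro m
          apply isRValued_convList
          intro a ha
          obtain ⟨q, _, rfl⟩ := List.mem_map.1 ha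
          exact hβR q
        · intro σ hσ
          obtain ⟨a, ha, rfl⟩ := List.mem_map.1 hσ
          obtain ⟨S, hS, rfl⟩ := List.mem_map.1 ha
          exact hseg S (hSs S hS).1 (hSs S hS).2
      · rw [suppIn_convList N _ hsupp g hg]
        exact memLocalIdeal_zero hpr.ne_top
    · apply isRValued_convList
      intro a ha
      obtain ⟨q, _, rfl⟩ := List.mem_map.1 ha
      exact hβR q
  -- expand the idempotent
  have hP : ∀ j : ℕ, ∀ L : List (G ⧸ N),
      Nat.card (IrrCharacter N) * Fintype.card (G ⧸ N) ≤ L.length + j →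
      IsMValued M (conv E (convList (L.map (fun q => cosetPart N q E)))) := by
    intro j
    induction j with
    | zero =>
      intro L hL
      exact isMValued_conv_right hER (hlong L (by omega))
    | succ j ih =>
      intro L hL
      obtain ⟨A, hA⟩ : ∃ A, A = convList (L.map (fun q => cosetPart N q E)) := ⟨_, rfl⟩
      rw [← hA]
      have h1 : conv E A = conv (conv E E) A := by rw [hidem]
      have h2 : conv E A = conv (∑ q : G ⧸ N, cosetPart N q E) A := by rw [sum_cosetPart N E]
      have h3 : conv E A = ∑ q : G ⧸ N, conv E (conv (cosetPart N q E) A) := by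
        rw [h1, conv_assoc, h2, conv_finsum_left, conv_finsum_right]
      rw [h3]
      apply isMValued_finsum
      intro q _
      have := ih (q :: L) (by rw [List.length_cons]; omega)
      rw [List.map_cons, convList, ← hA] at this
      exact this
  have hEM : IsMValued M E := by
    have := hP (Nat.card (IrrCharacter N) * Fintype.card (G ⧸ N)) [] (by simp)
    rw [List.map_nil, convList, conv_delta_right] at this
    exact this
  have h5 := memLocalIdeal_omega_of_eqMod_zero χ₀.2 hEcl hEM
  rw [hEdef, omega_blockCoeff, if_pos hχ₀] at h5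
  exact not_memLocalIdeal_one h5

end cover

end Cfsg.Agent.Helper78
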