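import Mathlib
import Cfsg.Agent.Lib.Helper32.C3Defs
import Cfsg.Agent.Lib.Helper9.C3M3Defs

/-!
# C3M3 (K3) `card_D` for helper9's sub-server (C3 (M3), S4415)
-/

set_option autoImplicit false

namespace Cfsg.Agent.Helper78.C3M3

open Cfsg.Agent.Helper32.C3 Cfsg.Agent.Helper9.C3M3

universe u v

/-- the number of sign vectors of product one -/
theorem h78_card_sign_vectors :
    Fintype.card {ε : Fin 4 → (ZMod 3)ˣ // ∏ i, ε i = 1} = 8 := by
  decide

section Mono

variable {G : Type u} [Group G] [Finite G] {V : Type v} [AddCommGroup V] [Module (ZMod 3) V]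
  [Finite V] (ρ : Representation (ZMod 3) G V) (R Q : Subgroup G) (b : G)
  (e : Module.Basis (Fin 4) (ZMod 3) V) (π : G →* Equiv.Perm (Fin 4))
  (s : G → Fin 4 → (ZMod 3)ˣ)

/-- (K3) [M] `|D| = 8` when every sign vector of product one is realised: `d ↦ s d` is a bijection from
`↥(R ⊓ π.ker)` onto `{ε // ∏ i, ε i = 1}` (injective by `hinj`, `π d = 1`; card 8 by `decide`). -/
theorem card_D (hinj : ∀ g h : G, π g = π h → (∀ i, s g i = s h i) → g = h)
    (hprod : ∀ r ∈ R, ∏ i, s r i = 1)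
    (hall : ∀ ε : Fin 4 → (ZMod 3)ˣ, ∏ i, ε i = 1 → ∃ d ∈ R ⊓ π.ker, ∀ i, s d i = ε i) :
    Nat.card ↥(R ⊓ π.ker) = 8 := by
  let f : ↥(R ⊓ π.ker) → {ε : Fin 4 → (ZMod 3)ˣ // ∏ i, ε i = 1} :=
    fun d => ⟨s (d : G), hprod (d : G) d.2.1⟩
  have hf : Function.Bijective f := by
    constructor
    · intro d d' h
      have h1 : s (d : G) = s (d' : G) := congrArg Subtype.val h
      have hd : π (d : G) = 1 := MonoidHom.mem_ker.1 d.2.2
      have hd' : π (d' : G) = 1 := MonoidHom.mem_ker.1 d'.2.2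
      exact Subtype.ext (hinj _ _ (hd.trans hd'.symm) (fun i => congrFun h1 i))
    · rintro ⟨ε, hε⟩
      obtain ⟨d, hd, hds⟩ := hall ε hε
      exact ⟨⟨d, hd⟩, Subtype.ext (funext hds)⟩
  rw [Nat.card_congr (Equiv.ofBijective f hf), Nat.card_eq_fintype_card, h78_card_sign_vectors]

end Mono

end Cfsg.Agent.Helper78.C3M3
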