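import Cfsg.Agent.Lib.Helper1.CD3.Defs
import Cfsg.Agent.Lib.Helper74.LinChar
import Mathlib

/-!
# CD3B (P4) `taketa` for helper1's server (S4460)

`Φ'` fixes every irreducible character of the normal subgroup `R` of `p`-power index, when every
nonlinear irreducible character of `Φ` has degree with `p`-part exactly `p ^ a`, `a > 0`.
-/

set_option autoImplicit false

namespace Cfsg.Agent.Helper78.CD3B

open Cfsg Cfsg.Agent.Helper81 Cfsg.Agent.Helper1.CD3

universe u

/-- The trivial function is an irreducible character. -/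
theorem isIrr_const_one (G : Type u) [Group G] : IsIrrCharacter G (fun _ => (1 : ℂ)) := by
  have h := (Cfsg.Agent.Helper74.Lin.ofHom (1 : G →* ℂˣ)).2
  have e : ((Cfsg.Agent.Helper74.Lin.ofHom (1 : G →* ℂˣ)) : G → ℂ) = fun _ => (1 : ℂ) := by
    funext g
    simp
  rwa [e] at h

/-- A linear irreducible character is constant on the commutator subgroup. -/
theorem linear_const_on_commutator {G : Type u} [Group G] {χ : G → ℂ} (hχ : IsIrrCharacter G χ)
    (h1 : χ 1 = 1) {x : G} (hx : x ∈ commutator G) : χ x = 1 := by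
  let f : G →* ℂˣ := Cfsg.Agent.Helper74.Lin.toHom ⟨χ, hχ⟩ h1
  have hk : x ∈ f.ker := Abelianization.commutator_subset_ker f hx
  rw [MonoidHom.mem_ker] at hk
  have h2 : ((f x : ℂˣ) : ℂ) = χ x := rfl
  rw [← h2, hk]
  simp

/-- A conjugation-stable value of the induced trivial character forces membership. -/
theorem mem_of_indFun_one_eq {G : Type u} [Group G] [Fintype G] (T : Subgroup G) (x : G)
    (h : indFun T (fun _ : T => (1 : ℂ)) x = indFun T (fun _ : T => (1 : ℂ)) 1) : x ∈ T := by
  classical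
  rw [indFun_apply, indFun_apply] at h
  have hT0 : (Nat.card T : ℂ) ≠ 0 := by exact_mod_cast (Nat.card_pos (α := T)).ne'
  have h' := mul_left_cancel₀ (inv_ne_zero hT0) h
  have e : ∀ y : G, extendByZero T (fun _ : T => (1 : ℂ)) y = ((if y ∈ T then 1 else 0 : ℕ) : ℂ) := by
    intro y
    by_cases hy : y ∈ T
    · rw [extendByZero_apply_mem T _ hy, if_pos hy]; simp
    · rw [extendByZero_apply_not_mem T _ hy, if_neg hy]; simp
  simp only [e] at h'
  rw [← Nat.cast_sum, ← Nat.cast_sum] at h'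
  have h'' : ∑ g : G, (if g⁻¹ * x * g ∈ T then 1 else 0 : ℕ) =
      ∑ g : G, (if g⁻¹ * 1 * g ∈ T then 1 else 0 : ℕ) := by exact_mod_cast h'
  have h1 : ∀ g : G, g⁻¹ * 1 * g ∈ T := by intro g; simp
  simp only [h1, if_true] at h''
  rw [Finset.sum_boole, Finset.sum_const, smul_eq_mul, mul_one] at h''
  have h3 := (Finset.card_filter_eq_iff).1 (by exact_mod_cast h'')
  have := h3 1 (Finset.mem_univ _)
  simpa using this

/-- (P4) Taketa-type step: `Φ'` fixes every irreducible character of `R`. -/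
theorem taketa {Φ : Type u} [Group Φ] [Finite Φ] (p a : ℕ) [Fact p.Prime] (ha : 0 < a)
    (h2 : ∀ θ : Φ → ℂ, IsIrrCharacter Φ θ → θ 1 ≠ 1 → ∃ d : ℕ, θ 1 = (d : ℂ) ∧ d.factorization p = a)
    (R : Subgroup Φ) (hR : R.Normal) (hRi : ∃ k : ℕ, R.index = p ^ k)
    (ρ : R → ℂ) (hρ : IsIrrCharacter R ρ) :
    ∀ x ∈ commutator Φ, conjFun R hR ρ x = ρ := by
  classical
  letI : Fintype Φ := Fintype.ofFinite Φ
  have hp : p.Prime := Fact.out
  set T := stab R hR ρ with hTdef
  have hρc : IsClassFunction R ρ := isClassFunction_of_isCharacter (IsIrrCharacter.isCharacter hρ)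
  have hRT : R ≤ T := by
    intro r hr
    rw [hTdef, mem_stab]
    funext n
    rw [conjFun_apply]
    have := hρc n ⟨r, hr⟩
    rw [← this]
    rfl
  obtain ⟨k, hk⟩ := hRi
  have hTdvd : T.index ∣ p ^ k := hk ▸ Subgroup.index_dvd_of_le hRT
  obtain ⟨b, -, hb⟩ := (Nat.dvd_prime_pow hp).1 hTdvd
  letI : Fintype R := Fintype.ofFinite R
  letI : Fintype T := Fintype.ofFinite T
  -- an irreducible character of `Φ` over `ρ`
  have hind : IsCharacter Φ (indFun R ρ) := isCharacter_indFun R (IsIrrCharacter.isCharacter hρ)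
  obtain ⟨nρ, hnρ, hnρ1⟩ := irr_one_pos hρ
  have hind0 : indFun R ρ ≠ 0 := by
    intro h
    have h1 := congrFun h 1
    rw [indFun_one, hnρ1, Pi.zero_apply] at h1
    have hi : R.index ≠ 0 := by rw [hk]; exact pow_ne_zero _ hp.ne_zero
    have : (R.index * nρ : ℕ) = 0 := by exact_mod_cast h1
    rcases Nat.mul_eq_zero.1 this with h | h
    · exact hi h
    · omega
  obtain ⟨θ, hθ, hθne⟩ := exists_irr_constituent hind hind0
  have hθc := isClassFunction_of_isCharacter (IsIrrCharacter.isCharacter hθ)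
  rw [frobenius_reciprocity R ρ hθc] at hθne
  have hθne' : classInner (fun h : R => θ h) ρ ≠ 0 := by
    rw [classInner_conj_symm]
    intro h0
    apply hθne
    simpa using h0
  obtain ⟨ψ, hψ, hψθ, -⟩ := clifford_corr_surj R T hR hRT hρ (fun g => Iff.rfl) hθ hθne'
  obtain ⟨m, hm, hψ1⟩ := irr_one_pos hψ
  have hdeg : θ 1 = ((p ^ b * m : ℕ) : ℂ) := by
    rw [← hψθ, indFun_one, hb, hψ1]; push_cast; ring
  have hba : b ≤ a := by
    by_cases h1 : θ 1 = 1
    · rw [hdeg] at h1
      have h1' : p ^ b * m = 1 := by exact_mod_cast h1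
      have h1'' : p ^ b = 1 := Nat.eq_one_of_mul_eq_one_right h1'
      have : b = 0 := by
        by_contra hb0
        have := Nat.one_lt_pow hb0 hp.one_lt
        omega
      omega
    · obtain ⟨d, hd, hda⟩ := h2 θ hθ h1
      have hdd : d = p ^ b * m := by
        rw [hdeg] at hd
        exact_mod_cast hd.symm
      have hd0 : d ≠ 0 := by
        rw [hdd]; exact Nat.mul_ne_zero (pow_ne_zero _ hp.ne_zero) (by omega)
      have hdvd : p ^ b ∣ d := ⟨m, hdd⟩
      rw [← hda]
      exact (hp.pow_dvd_iff_le_factorization hd0).1 hdvd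
  -- the permutation character on the cosets of `T`
  set π := indFun T (fun _ : T => (1 : ℂ)) with hπdef
  have hπc : IsCharacter Φ π := isCharacter_indFun T (IsIrrCharacter.isCharacter (isIrr_const_one T))
  have hπ1 : π 1 = ((p ^ b : ℕ) : ℂ) := by
    rw [hπdef, indFun_one, hb]; simp
  letI : Fintype (IrrCharacter Φ) := @Fintype.ofFinite _ irr_finite
  obtain ⟨mult, hmult⟩ := exists_nat_decomp hπc
  let triv : IrrCharacter Φ := ⟨fun _ => 1, isIrr_const_one Φ⟩
  have hmt : mult triv = 1 := by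
    have h := classInner_nat_decomp (fun χ' => (mult χ' : ℂ)) triv
    rw [← hmult, hπdef, frobenius_reciprocity T _
      (isClassFunction_of_isCharacter (IsIrrCharacter.isCharacter triv.2))] at h
    have h' : classInner (fun _ : T => (1 : ℂ)) (fun _ : T => (1 : ℂ)) = 1 := by
      rw [irr_orthonormal (isIrr_const_one T) (isIrr_const_one T), if_pos rfl]
    have : (mult triv : ℂ) = 1 := by rw [← h]; exact h'
    exact_mod_cast this
  -- degrees as natural numbers
  have hdegs : ∀ χ : IrrCharacter Φ, ∃ n : ℕ, 0 < n ∧ (χ : Φ → ℂ) 1 = (n : ℂ) :=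
    fun χ => irr_one_pos χ.2
  choose deg hdegpos hdegeq using hdegs
  have hsum : p ^ b = ∑ χ : IrrCharacter Φ, mult χ * deg χ := by
    have h := congrFun hmult 1
    rw [hπ1] at h
    simp only [Finset.sum_apply, Pi.smul_apply, smul_eq_mul, hdegeq] at h
    exact_mod_cast h
  have hlin : ∀ χ : IrrCharacter Φ, mult χ ≠ 0 → (χ : Φ → ℂ) 1 = 1 := by
    intro χ hχ0
    by_contra hne
    obtain ⟨d, hd, hda⟩ := h2 χ χ.2 hne
    have hdd : d = deg χ := by
      rw [hdegeq] at hd
      exact_mod_cast hd.symm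
    have hd0 : d ≠ 0 := by rw [hdd]; exact (hdegpos χ).ne'
    have hpa : p ^ a ∣ d := by rw [← hda]; exact Nat.ordProj_dvd d p
    have hdge : p ^ a ≤ d := Nat.le_of_dvd (Nat.pos_of_ne_zero hd0) hpa
    have hpab : p ^ b ≤ p ^ a := Nat.pow_le_pow_right hp.pos hba
    have hχt : χ ≠ triv := by
      intro h
      apply hne
      rw [h]
    have hdegt : deg triv = 1 := by
      have := hdegeq triv
      have h1 : (triv : Φ → ℂ) 1 = 1 := rfl
      rw [h1] at this
      exact_mod_cast this.symm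
    have hle : ∑ χ' ∈ ({triv, χ} : Finset (IrrCharacter Φ)), mult χ' * deg χ' ≤
        ∑ χ' : IrrCharacter Φ, mult χ' * deg χ' :=
      Finset.sum_le_sum_of_subset (Finset.subset_univ _)
    rw [Finset.sum_pair (Ne.symm hχt), hmt, hdegt, ← hsum, ← hdd] at hle
    have : d ≤ mult χ * d := Nat.le_mul_of_pos_left d (Nat.pos_of_ne_zero hχ0)
    omega
  intro x hx
  have hπx : π x = π 1 := by
    rw [hmult]
    simp only [Finset.sum_apply, Pi.smul_apply]
    apply Finset.sum_congr rfl
    intro χ _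
    by_cases h0 : mult χ = 0
    · simp [h0]
    · have h1 := hlin χ h0
      rw [linear_const_on_commutator χ.2 h1 hx, h1]
  have hxT : x ∈ T := mem_of_indFun_one_eq T x hπx
  exact (mem_stab R hR ρ x).1 hxT

end Cfsg.Agent.Helper78.CD3B
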