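import Mathlib
import Cfsg.Agent.Lib.Helper52.FLDefs
import Cfsg.Agent.Lib.Helper52.Coprime
import Cfsg.Agent.Lib.Helper9.WielandtBasic
import Cfsg.Agent.Lib.Helper97.FXDefs
import Cfsg.Agent.Lib.Helper22.FLCC2
import Cfsg.Agent.Lib.Helper33.FLINT
import Cfsg.Agent.Lib.Helper45.FLGENV
import Cfsg.Agent.Lib.Helper47.FLDNOR
import Cfsg.Agent.Lib.Helper78.FLBADCore

/-!
# FL (BAD) `bad_mem` for helper52's server (S3822)
-/

set_option autoImplicit false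

namespace Cfsg.Agent.Helper78.FL

open Cfsg.Agent.Helper52.FL Cfsg.Agent.Helper97.FX

variable {G : Type*} [Group G] [Finite G]

section CTX
variable {A Q V : Subgroup G} {r s : ℕ} [Fact r.Prime] [Fact s.Prime]

/-- **(BAD) [M-L]** uses (CC2), (INT), (GENV). -/
theorem bad_mem (h : Ctx A Q V r s) (P : Subgroup G) (a : G) (ha : a ∈ A) (hgen : A = P ⊔ cj a P)
    (v : G) (hv : v ∈ V) (hbad : (P ⊔ cj (v * a) P) ⊓ V ≤ Dsub Q V) :
    ∃ w₁ ∈ S1 P V (Dsub Q V), ∃ w₂ ∈ S1 (cj a P) V (Dsub Q V), v = w₁ * w₂ := by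
  have hBV : (P ⊔ cj (v * a) P) ⊔ V = A ⊔ V :=
    Cfsg.Agent.Helper45.FL.gen_sup_V h.hAV P a ha hgen v hv
  have hBY : (P ⊔ cj (v * a) P) ≤ A ⊔ V := by
    rw [← hBV]; exact le_sup_left
  have hCC2 := Cfsg.Agent.Helper22.FL.le_conj h (P ⊔ cj (v * a) P) hBY hBV hbad
  exact bad_mem_core h (Cfsg.Agent.Helper47.FL.D_normal h)
    (Cfsg.Agent.Helper33.FL.inter_facts h).2.2 P a hgen v hv hCC2

end CTX

end Cfsg.Agent.Helper78.FL
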