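import Mathlib
import Cfsg.Agent.Lib.Helper78.FongReynolds1

/-!
# Fong–Reynolds, part 2: characters of an intermediate subgroup lying over a stable set
(helper78)

`N ⊴ G`, `N ≤ T ≤ G`, `C` a finite set of irreducible characters of `N` with `C^x = C` for
`x ∈ T` and `C^x ∩ C = ∅` for `x ∉ T`.
-/

set_option autoImplicit false
set_option linter.unusedSectionVars false
set_option linter.style.haveILetI false

namespace Cfsg.Agent.Helper78

open Cfsg Cfsg.Agent.Helper77 Cfsg.Agent.Helper16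
open scoped ComplexConjugate

section FR2

variable {G : Type*} [Group G] [Fintype G] (N : Subgroup G) [hN : N.Normal] [Fintype N]
  (T : Subgroup G) [Fintype T] (hNT : N ≤ T)

/-- Restriction of a function on `T` to `N ≤ T`. -/
def resN (ψ : T → ℂ) : N → ℂ := fun n => ψ ⟨(n : G), hNT n.2⟩

theorem resN_apply (ψ : T → ℂ) (n : N) : resN N T hNT ψ n = ψ ⟨(n : G), hNT n.2⟩ := rfl

theorem isCharacter_resN {ψ : T → ℂ} (hψ : IsCharacter T ψ) : IsCharacter N (resN N T hNT ψ) := by
  obtain ⟨k, ρ, rfl⟩ := hψ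
  exact ⟨k, ρ.comp (Subgroup.inclusion hNT), rfl⟩

theorem conjIrr_injective (x : G) : Function.Injective (conjIrr N x) := by
  intro θ θ' h
  have := congrArg (conjIrr N x⁻¹) h
  rwa [conjIrr_inv_conjIrr, conjIrr_inv_conjIrr] at this

open scoped Classical in
/-- Conjugating the idempotent function. -/
theorem idemFun_conj (C : Finset (IrrCharacter N)) (x g : G) :
    idemFun N C (x⁻¹ * g * x) = idemFun N (C.image (conjIrr N x)) g := by
  by_cases hg : g ∈ N
  · have hg' : x⁻¹ * g * x ∈ N := by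
      have := hN.conj_mem g hg x⁻¹
      simpa using this
    have e1 : idemFun N C (x⁻¹ * g * x) = idemFun N C ((⟨x⁻¹ * g * x, hg'⟩ : N) : G) := rfl
    have e2 : idemFun N (C.image (conjIrr N x)) g =
        idemFun N (C.image (conjIrr N x)) ((⟨g, hg⟩ : N) : G) := rfl
    rw [e1, e2, idemFun_coe, idemFun_coe, Finset.sum_image (fun a _ b _ h => conjIrr_injective N x h)]
    refine Finset.sum_congr rfl fun θ _ => ?_
    rw [conjIrr_one_apply, conjIrr_apply' N x θ ⟨g, hg⟩ hg']
  · have hg' : x⁻¹ * g * x ∉ N := by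
      intro h
      apply hg
      have := hN.conj_mem _ h x
      simpa [mul_assoc] using this
    rw [idemFun_of_not_mem N _ hg, idemFun_of_not_mem N _ hg']

open scoped Classical in
theorem image_conjIrr_eq (C : Finset (IrrCharacter N))
    (hCT : ∀ x ∈ T, ∀ θ ∈ C, conjIrr N x θ ∈ C) {x : G} (hx : x ∈ T) :
    C.image (conjIrr N x) = C := by
  ext θ
  rw [Finset.mem_image]
  constructor
  · rintro ⟨θ', hθ', rfl⟩
    exact hCT x hx θ' hθ'
  · intro hθ
    exact ⟨conjIrr N x⁻¹ θ, hCT x⁻¹ (T.inv_mem hx) θ hθ, conjIrr_conjIrr_inv N x θ⟩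

/-- The idempotent function restricted to `T`. -/
noncomputable def idemT (C : Finset (IrrCharacter N)) : T → ℂ := fun t => idemFun N C (t : G)

theorem isClassFunction_idemT (C : Finset (IrrCharacter N))
    (hCT : ∀ x ∈ T, ∀ θ ∈ C, conjIrr N x θ ∈ C) : IsClassFunction T (idemT N T C) := by
  classical
  intro g h
  unfold idemT
  have h1 := idemFun_conj N C ((h : G)⁻¹) (g : G)
  rw [inv_inv, image_conjIrr_eq N T C hCT (T.inv_mem h.2)] at h1
  simpa using h1

theorem omega_idemT (C : Finset (IrrCharacter N)) (ψ : T → ℂ) :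
    omega ψ (idemT N T C) =
      (∑ θ ∈ C, (θ : N → ℂ) 1 * classInner (resN N T hNT ψ) (θ : N → ℂ)) / ψ 1 := by
  unfold omega
  congr 1
  have hsupp : ∀ t : T, t ∉ N.subgroupOf T → idemT N T C t * ψ t = 0 := by
    intro t ht
    unfold idemT
    rw [idemFun_of_not_mem N C (fun h => ht (Subgroup.mem_subgroupOf.2 h)), zero_mul]
  have h1 : ∑ t : T, idemT N T C t * ψ t = ∑ n : N, idemFun N C (n : G) * resN N T hNT ψ n := by
    classical
    symm
    refine Finset.sum_bij_ne_zero (fun n _ _ => (⟨(n : G), hNT n.2⟩ : T)) ?_ ?_ ?_ ?_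
    · intro n _ _; exact Finset.mem_univ _
    · intro n₁ _ _ n₂ _ _ h
      apply Subtype.ext
      exact congrArg (fun t : T => (t : G)) h
    · intro t _ ht
      have htN : (t : G) ∈ N := by
        by_contra hcon
        apply ht
        unfold idemT
        rw [idemFun_of_not_mem N C hcon, zero_mul]
      exact ⟨⟨(t : G), htN⟩, Finset.mem_univ _, ht, rfl⟩
    · intro n _ _
      rfl
  rw [h1]
  simp only [idemFun_coe, Finset.sum_mul]
  rw [Finset.sum_comm]
  refine Finset.sum_congr rfl fun θ _ => ?_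
  unfold classInner
  rw [Finset.mul_sum, Finset.mul_sum]
  refine Finset.sum_congr rfl fun n _ => ?_
  ring

end FR2

section FR3

variable {G : Type*} [Group G] [Fintype G] (N : Subgroup G) [hN : N.Normal] [Fintype N]
  (T : Subgroup G) [Fintype T] (hNT : N ≤ T)

include hNT

/-- Translation by the idempotent function, on `G`, for the extension by zero of an irreducible
character of `T`. -/
theorem sum_idemFun_mul_extend (C : Finset (IrrCharacter N))
    (hCT : ∀ x ∈ T, ∀ θ ∈ C, conjIrr N x θ ∈ C) (ψ : IrrCharacter T) (g : G) :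
    ∑ m : G, idemFun N C m * extendByZero T (ψ : T → ℂ) (m * g) =
      omega (ψ : T → ℂ) (idemT N T C) * extendByZero T (ψ : T → ℂ) g := by
  by_cases hg : g ∈ T
  · have hsupp : ∀ m : G, m ∉ T → idemFun N C m * extendByZero T (ψ : T → ℂ) (m * g) = 0 := by
      intro m hm
      rw [idemFun_of_not_mem N C (fun h => hm (hNT h)), zero_mul]
    rw [sum_eq_sum_subgroup T _ hsupp, extendByZero_of_mem T _ hg,
      ← sum_mul_char_translate ψ.2 (isClassFunction_idemT N T C hCT) ⟨g, hg⟩]
    refine Finset.sum_congr rfl fun t _ => ?_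
    have e : (t : G) * g = ((t * ⟨g, hg⟩ : T) : G) := rfl
    rw [e, extendByZero_coe]
    rfl
  · rw [extendByZero_of_not_mem T _ hg, mul_zero]
    apply Finset.sum_eq_zero
    intro m _
    by_cases hm : m ∈ N
    · have : m * g ∉ T := by
        intro h
        apply hg
        have := T.mul_mem (T.inv_mem (hNT hm)) h
        simpa using this
      rw [extendByZero_of_not_mem T _ this, mul_zero]
    · rw [idemFun_of_not_mem N C hm, zero_mul]

open scoped Classical in
/-- The central character value of an irreducible character of `T` at the idempotent function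
is `0` or `1`. -/
theorem omega_idemT_sq (C : Finset (IrrCharacter N))
    (hCT : ∀ x ∈ T, ∀ θ ∈ C, conjIrr N x θ ∈ C) (ψ : IrrCharacter T) :
    omega (ψ : T → ℂ) (idemT N T C) ^ 2 = omega (ψ : T → ℂ) (idemT N T C) := by
  obtain ⟨ω, hω⟩ : ∃ ω : ℂ, ω = omega (ψ : T → ℂ) (idemT N T C) := ⟨_, rfl⟩
  rw [← hω]
  have h1 : ∀ g : G, ∑ m : G, idemFun N C m * extendByZero T (ψ : T → ℂ) (m * g) =
      ω * extendByZero T (ψ : T → ℂ) g := by
    intro g
    rw [hω]
    exact sum_idemFun_mul_extend N T hNT C hCT ψ g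
  -- apply twice at `g = 1`
  have h2 : ∑ m : G, idemFun N C m * (∑ m' : G, idemFun N C m' *
      extendByZero T (ψ : T → ℂ) (m' * (m * 1))) = ω ^ 2 * extendByZero T (ψ : T → ℂ) 1 := by
    simp only [h1]
    simp only [← mul_assoc, mul_comm _ ω]
    simp only [mul_assoc]
    rw [← Finset.mul_sum, h1 1]
    ring
  have h3 : ∑ m : G, idemFun N C m * (∑ m' : G, idemFun N C m' *
      extendByZero T (ψ : T → ℂ) (m' * (m * 1))) = ω * extendByZero T (ψ : T → ℂ) 1 := by
    have h4 : ∀ m : G, idemFun N C m * (∑ m' : G, idemFun N C m' *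
        extendByZero T (ψ : T → ℂ) (m' * (m * 1))) =
        ∑ k : G, idemFun N C m * idemFun N C (k * m⁻¹) * extendByZero T (ψ : T → ℂ) (k * 1) := by
      intro m
      rw [Finset.mul_sum, ← Equiv.sum_comp (Equiv.mulRight m⁻¹)]
      refine Finset.sum_congr rfl fun k _ => ?_
      simp only [Equiv.coe_mulRight]
      have e : k * m⁻¹ * (m * 1) = k * 1 := by group
      rw [e]
      ring
    simp only [h4]
    rw [Finset.sum_comm]
    simp only [← Finset.sum_mul, idemFun_conv', Finset.inter_self]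
    exact h1 1
  have h5 : extendByZero T (ψ : T → ℂ) 1 ≠ 0 := by
    have e : (1 : G) = ((1 : T) : G) := rfl
    rw [e, extendByZero_coe]
    exact Cfsg.Agent.Helper79.irr_one_ne_zero ψ
  have h6 := h2.symm.trans h3
  exact mul_right_cancel₀ h5 h6

end FR3

section FR4

variable {G : Type*} [Group G] [Fintype G] (N : Subgroup G) [hN : N.Normal] [Fintype N]
  (T : Subgroup G) [Fintype T] (hNT : N ≤ T)

include hNT

open scoped Classical in
/-- Natural number description of the central character value at the idempotent function. -/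
theorem exists_mult (ψ : IrrCharacter T) :
    ∃ m : IrrCharacter N → ℕ,
      (∀ θ : IrrCharacter N, classInner (resN N T hNT (ψ : T → ℂ)) (θ : N → ℂ) = (m θ : ℂ)) ∧
      charDegree (ψ : T → ℂ) = ∑ θ : IrrCharacter N, m θ * charDegree (θ : N → ℂ) ∧
      ∀ C : Finset (IrrCharacter N), omega (ψ : T → ℂ) (idemT N T C) =
        ((∑ θ ∈ C, m θ * charDegree (θ : N → ℂ) : ℕ) : ℂ) / (charDegree (ψ : T → ℂ) : ℂ) := by
  have hres : IsCharacter N (resN N T hNT (ψ : T → ℂ)) :=
    isCharacter_resN N T hNT (IsIrrCharacter.isCharacter ψ.2)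
  obtain ⟨m, hm⟩ := IsCharacter.exists_irr_decomp hres
  have hmθ : ∀ θ : IrrCharacter N,
      classInner (resN N T hNT (ψ : T → ℂ)) (θ : N → ℂ) = (m θ : ℂ) := by
    intro θ
    rw [hm]
    exact classInner_decomp (fun θ' => (m θ' : ℂ)) θ
  have hdN : ∀ θ : IrrCharacter N, (θ : N → ℂ) 1 = (charDegree (θ : N → ℂ) : ℂ) :=
    fun θ => (Cfsg.Agent.Helper79.irr_one_eq θ).1
  have hdT : (ψ : T → ℂ) 1 = (charDegree (ψ : T → ℂ) : ℂ) := (Cfsg.Agent.Helper79.irr_one_eq ψ).1
  refine ⟨m, hmθ, ?_, ?_⟩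
  · have h1 := congrFun hm 1
    simp only [Finset.sum_apply, Pi.smul_apply, smul_eq_mul] at h1
    have h2 : resN N T hNT (ψ : T → ℂ) 1 = (ψ : T → ℂ) 1 := rfl
    rw [h2, hdT] at h1
    simp only [hdN] at h1
    exact_mod_cast h1
  · intro C
    rw [omega_idemT N T hNT C, hdT]
    congr 1
    push_cast
    refine Finset.sum_congr rfl fun θ _ => ?_
    rw [hmθ, hdN, mul_comm]

open scoped Classical in
/-- If some constituent of `ψ_N` lies in the `T`-stable set `C`, then all do. -/
theorem omega_idemT_eq_one_of_liesOver (C : Finset (IrrCharacter N))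
    (hCT : ∀ x ∈ T, ∀ θ ∈ C, conjIrr N x θ ∈ C) (ψ : IrrCharacter T)
    (h : ∃ θ ∈ C, classInner (resN N T hNT (ψ : T → ℂ)) (θ : N → ℂ) ≠ 0) :
    omega (ψ : T → ℂ) (idemT N T C) = 1 := by
  obtain ⟨m, hmθ, hdeg, hom⟩ := exists_mult N T hNT ψ
  obtain ⟨θ₀, hθ₀, hne⟩ := h
  have hsq := omega_idemT_sq N T hNT C hCT ψ
  have hne0 : omega (ψ : T → ℂ) (idemT N T C) ≠ 0 := by
    rw [hom C]
    have hpos : 0 < charDegree (ψ : T → ℂ) := (Cfsg.Agent.Helper79.irr_one_eq ψ).2
    have hm0 : m θ₀ ≠ 0 := by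
      intro h0
      apply hne
      rw [hmθ, h0, Nat.cast_zero]
    have hpos0 : 0 < charDegree (θ₀ : N → ℂ) := (Cfsg.Agent.Helper79.irr_one_eq θ₀).2
    have h1 : 0 < ∑ θ ∈ C, m θ * charDegree (θ : N → ℂ) := by
      apply lt_of_lt_of_le _ (Finset.single_le_sum (f := fun θ => m θ * charDegree (θ : N → ℂ))
        (fun _ _ => Nat.zero_le _) hθ₀)
      exact Nat.mul_pos (Nat.pos_of_ne_zero hm0) hpos0
    apply div_ne_zero
    · exact_mod_cast h1.ne'
    · exact_mod_cast hpos.ne'
  rw [sq] at hsq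
  exact mul_left_cancel₀ hne0 (by rw [hsq, mul_one])

open scoped Classical in
theorem mem_of_omega_idemT_eq_one (C : Finset (IrrCharacter N)) (ψ : IrrCharacter T)
    (h : omega (ψ : T → ℂ) (idemT N T C) = 1) (θ : IrrCharacter N)
    (hθ : classInner (resN N T hNT (ψ : T → ℂ)) (θ : N → ℂ) ≠ 0) : θ ∈ C := by
  obtain ⟨m, hmθ, hdeg, hom⟩ := exists_mult N T hNT ψ
  by_contra hcon
  have hpos : 0 < charDegree (ψ : T → ℂ) := (Cfsg.Agent.Helper79.irr_one_eq ψ).2
  rw [hom C, div_eq_one_iff_eq (by exact_mod_cast hpos.ne')] at h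
  have h1 : ∑ θ ∈ C, m θ * charDegree (θ : N → ℂ) = charDegree (ψ : T → ℂ) := by
    exact_mod_cast h
  rw [hdeg] at h1
  have hm0 : m θ ≠ 0 := by
    intro h0
    apply hθ
    rw [hmθ, h0, Nat.cast_zero]
  have hpos0 : 0 < charDegree (θ : N → ℂ) := (Cfsg.Agent.Helper79.irr_one_eq θ).2
  have h2 : m θ * charDegree (θ : N → ℂ) + ∑ θ' ∈ C, m θ' * charDegree (θ' : N → ℂ) ≤
      ∑ θ' : IrrCharacter N, m θ' * charDegree (θ' : N → ℂ) := by
    have := Finset.sum_le_sum_of_subset (f := fun θ' : IrrCharacter N =>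
      m θ' * charDegree (θ' : N → ℂ)) (Finset.subset_univ (insert θ C))
    rwa [Finset.sum_insert hcon] at this
  have h3 : 0 < m θ * charDegree (θ : N → ℂ) := Nat.mul_pos (Nat.pos_of_ne_zero hm0) hpos0
  omega

open scoped Classical in
theorem omega_idemT_eq_zero_of_not_liesOver (C : Finset (IrrCharacter N)) (ψ : IrrCharacter T)
    (h : ∀ θ ∈ C, classInner (resN N T hNT (ψ : T → ℂ)) (θ : N → ℂ) = 0) :
    omega (ψ : T → ℂ) (idemT N T C) = 0 := by
  rw [omega_idemT N T hNT C]
  rw [Finset.sum_eq_zero, zero_div]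
  intro θ hθ
  rw [h θ hθ, mul_zero]

end FR4

end Cfsg.Agent.Helper78
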