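import Mathlib
import Cfsg.Agent.Lib.Helper78.FongReynolds2
import Cfsg.Agent.Lib.Helper81.CharCorr

/-!
# Fong–Reynolds, part 3: induction from the stabilizer of a set of characters of a normal subgroup
(helper78)

`N ⊴ G`, `N ≤ T ≤ G`, `C` a finite set of irreducible characters of `N` with `C^x = C` for
`x ∈ T` and `C^x ∩ C = ∅` for `x ∉ T`.  For irreducible characters `ψ₁, ψ₂` of `T` lying over `C`
(in the form `omega ψ (idemT N T C) = 1`):

* `classInner_indFun_indFun` : `[ψ₁^G, ψ₂^G] = [ψ₁, ψ₂]`;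
* `isIrrCharacter_indFun_of_over`, `indFun_injective_of_over`, `exists_over_of_constituent`.
-/

set_option autoImplicit false
set_option linter.unusedSectionVars false
set_option linter.style.haveILetI false

namespace Cfsg.Agent.Helper78

open Cfsg Cfsg.Agent.Helper77 Cfsg.Agent.Helper16
open scoped ComplexConjugate

section FR5

variable {G : Type*} [Group G] [Fintype G] (N : Subgroup G) [hN : N.Normal] [Fintype N]
  (T : Subgroup G) [Fintype T] (hNT : N ≤ T)

include hNT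

open scoped Classical in
/-- The conjugated extension by zero is projected by the conjugated idempotent function. -/
theorem sum_idemFun_image_mul_extend (C : Finset (IrrCharacter N))
    (hCT : ∀ x ∈ T, ∀ θ ∈ C, conjIrr N x θ ∈ C) (ψ : IrrCharacter T)
    (h : omega (ψ : T → ℂ) (idemT N T C) = 1) (x u : G) :
    extendByZero T (ψ : T → ℂ) (x⁻¹ * u * x) =
      ∑ m : G, idemFun N (C.image (conjIrr N x)) m *
        extendByZero T (ψ : T → ℂ) (x⁻¹ * (m * u) * x) := by
  have h1 := sum_idemFun_mul_extend N T hNT C hCT ψ (x⁻¹ * u * x)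
  rw [h, one_mul] at h1
  rw [← h1, ← Equiv.sum_comp (MulAut.conj x⁻¹).toEquiv]
  refine Finset.sum_congr rfl fun m _ => ?_
  have e1 : (MulAut.conj x⁻¹).toEquiv m = x⁻¹ * m * x := by
    simp
  rw [e1, ← idemFun_conj]
  congr 2
  group

open scoped Classical in
/-- **Mackey-type orthogonality.** -/
theorem classInner_indFun_indFun (C : Finset (IrrCharacter N))
    (hCT : ∀ x ∈ T, ∀ θ ∈ C, conjIrr N x θ ∈ C)
    (hCd : ∀ x : G, x ∉ T → ∀ θ ∈ C, conjIrr N x θ ∉ C)
    (ψ₁ ψ₂ : IrrCharacter T)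
    (h₁ : omega (ψ₁ : T → ℂ) (idemT N T C) = 1) (h₂ : omega (ψ₂ : T → ℂ) (idemT N T C) = 1) :
    classInner (indFun T (ψ₁ : T → ℂ)) (indFun T (ψ₂ : T → ℂ)) =
      classInner (ψ₁ : T → ℂ) (ψ₂ : T → ℂ) := by
  rw [Cfsg.Agent.Helper81.frobenius_reciprocity T _
    (Cfsg.Agent.Helper81.indFun_isClassFunction T (ψ₂ : T → ℂ))]
  unfold classInner
  congr 1
  have hT0 : (Nat.card T : ℂ) ≠ 0 := by exact_mod_cast Nat.card_pos.ne'
  -- the inner sums
  have hS : ∀ x : G, ∑ t : T, (ψ₁ : T → ℂ) t *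
      conj (extendByZero T (ψ₂ : T → ℂ) (x⁻¹ * (t : G) * x)) =
      if x ∈ T then ∑ t : T, (ψ₁ : T → ℂ) t * conj ((ψ₂ : T → ℂ) t) else 0 := by
    intro x
    by_cases hx : x ∈ T
    · rw [if_pos hx]
      refine Finset.sum_congr rfl fun t _ => ?_
      have e : x⁻¹ * (t : G) * x = (((⟨x, hx⟩ : T)⁻¹ * t * (⟨x, hx⟩ : T)⁻¹⁻¹ : T) : G) := by
        simp
      rw [e, extendByZero_coe]
      have hcl := isClassFunction_of_isIrrCharacter' ψ₂.2
      rw [hcl t (⟨x, hx⟩ : T)⁻¹]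
    · rw [if_neg hx]
      rw [← Cfsg.Agent.Helper81.sum_extendByZero_mul T (ψ₁ : T → ℂ)
        (fun y => conj (extendByZero T (ψ₂ : T → ℂ) (x⁻¹ * y * x)))]
      have hd : C.image (conjIrr N x) ∩ C = ∅ := by
        rw [Finset.eq_empty_iff_forall_notMem]
        intro θ hθ
        rw [Finset.mem_inter, Finset.mem_image] at hθ
        obtain ⟨⟨θ', hθ', rfl⟩, hθC⟩ := hθ
        exact hCd x hx θ' hθ' hθC
      refine sum_mul_conj_eq_zero_of_proj N C (C.image (conjIrr N x)) hd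
        (extendByZero T (ψ₁ : T → ℂ))
        (fun y => extendByZero T (ψ₂ : T → ℂ) (x⁻¹ * y * x)) ?_ ?_
      · intro u
        have := sum_idemFun_mul_extend N T hNT C hCT ψ₁ u
        rw [h₁, one_mul] at this
        exact this.symm
      · intro u
        exact sum_idemFun_image_mul_extend N T hNT C hCT ψ₂ h₂ x u
  have h3 : ∀ t : T, (ψ₁ : T → ℂ) t * conj (indFun T (ψ₂ : T → ℂ) (t : G)) =
      (Nat.card T : ℂ)⁻¹ * ∑ x : G, (ψ₁ : T → ℂ) t *
        conj (extendByZero T (ψ₂ : T → ℂ) (x⁻¹ * (t : G) * x)) := by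
    intro t
    rw [Cfsg.Agent.Helper81.indFun_apply, map_mul, map_inv₀, Complex.conj_natCast, map_sum,
      Finset.mul_sum, Finset.mul_sum, Finset.mul_sum]
    refine Finset.sum_congr rfl fun x _ => ?_
    ring
  simp only [h3]
  rw [← Finset.mul_sum, Finset.sum_comm]
  simp only [hS]
  rw [Finset.sum_ite, Finset.sum_const_zero, add_zero, Finset.sum_const, nsmul_eq_mul]
  have hcard : ((Finset.univ.filter (fun x : G => x ∈ T)).card : ℂ) = (Nat.card T : ℂ) := by
    congr 1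
    rw [Nat.card_eq_fintype_card, Fintype.card_subtype]
  rw [hcard, ← mul_assoc, inv_mul_cancel₀ hT0, one_mul]

/-- Induction from `T` of a character over `C` is irreducible. -/
theorem isIrrCharacter_indFun_of_over (C : Finset (IrrCharacter N))
    (hCT : ∀ x ∈ T, ∀ θ ∈ C, conjIrr N x θ ∈ C)
    (hCd : ∀ x : G, x ∉ T → ∀ θ ∈ C, conjIrr N x θ ∉ C)
    (ψ : IrrCharacter T) (h : omega (ψ : T → ℂ) (idemT N T C) = 1) :
    IsIrrCharacter G (indFun T (ψ : T → ℂ)) := by
  classical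
  apply Cfsg.Agent.Helper81.isIrrCharacter_of_classInner_self_eq_one
    (Cfsg.Agent.Helper81.isCharacter_indFun T (Cfsg.Agent.Helper81.IsIrrCharacter.isCharacter ψ.2))
  rw [classInner_indFun_indFun N T hNT C hCT hCd ψ ψ h h, classInner_irr, if_pos rfl]

/-- Induction from `T` is injective on the characters over `C`. -/
theorem indFun_injective_of_over (C : Finset (IrrCharacter N))
    (hCT : ∀ x ∈ T, ∀ θ ∈ C, conjIrr N x θ ∈ C)
    (hCd : ∀ x : G, x ∉ T → ∀ θ ∈ C, conjIrr N x θ ∉ C)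
    (ψ₁ ψ₂ : IrrCharacter T)
    (h₁ : omega (ψ₁ : T → ℂ) (idemT N T C) = 1) (h₂ : omega (ψ₂ : T → ℂ) (idemT N T C) = 1)
    (heq : indFun T (ψ₁ : T → ℂ) = indFun T (ψ₂ : T → ℂ)) : ψ₁ = ψ₂ := by
  classical
  have h1 := classInner_indFun_indFun N T hNT C hCT hCd ψ₁ ψ₂ h₁ h₂
  have h2 := classInner_indFun_indFun N T hNT C hCT hCd ψ₁ ψ₁ h₁ h₁
  rw [← heq, h2, classInner_irr, classInner_irr, if_pos rfl] at h1
  by_contra hne
  rw [if_neg hne] at h1
  exact one_ne_zero h1

end FR5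

section FR6

variable {G : Type*} [Group G] [Fintype G] (N : Subgroup G) [hN : N.Normal] [Fintype N]
  (T : Subgroup G) [Fintype T] (hNT : N ≤ T)

include hNT

open scoped Classical in
/-- Every irreducible character of `G` lying over `C` is induced from a character of `T` over
`C`. -/
theorem exists_over_of_constituent (C : Finset (IrrCharacter N))
    (hCT : ∀ x ∈ T, ∀ θ ∈ C, conjIrr N x θ ∈ C)
    (hCd : ∀ x : G, x ∉ T → ∀ θ ∈ C, conjIrr N x θ ∉ C)
    (χ : IrrCharacter G) (θ : IrrCharacter N) (hθ : θ ∈ C)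
    (hne : classInner (fun n : N => (χ : G → ℂ) n) (θ : N → ℂ) ≠ 0) :
    ∃ ψ : IrrCharacter T, omega (ψ : T → ℂ) (idemT N T C) = 1 ∧
      classInner (resN N T hNT (ψ : T → ℂ)) (θ : N → ℂ) ≠ 0 ∧
      indFun T (ψ : T → ℂ) = (χ : G → ℂ) := by
  have hχT : IsCharacter T (fun t : T => (χ : G → ℂ) t) :=
    Cfsg.Agent.Helper16.isCharacter_restrict T (IsIrrCharacter.isCharacter χ.2)
  obtain ⟨m, hm⟩ := IsCharacter.exists_irr_decomp hχT
  have h1 : (fun n : N => (χ : G → ℂ) n) =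
      ∑ ψ : IrrCharacter T, (m ψ : ℂ) • resN N T hNT (ψ : T → ℂ) := by
    funext n
    have := congrFun hm ⟨(n : G), hNT n.2⟩
    simp only [Finset.sum_apply, Pi.smul_apply] at this ⊢
    exact this
  have h2 : ∃ ψ : IrrCharacter T, m ψ ≠ 0 ∧
      classInner (resN N T hNT (ψ : T → ℂ)) (θ : N → ℂ) ≠ 0 := by
    by_contra hcon
    push Not at hcon
    apply hne
    rw [h1, classInner_sum_left]
    apply Finset.sum_eq_zero
    intro ψ _
    rw [classInner_smul_left]
    by_cases h0 : m ψ = 0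
    · rw [h0]; simp
    · rw [hcon ψ h0, mul_zero]
  obtain ⟨ψ, hmψ, hψθ⟩ := h2
  have hω : omega (ψ : T → ℂ) (idemT N T C) = 1 :=
    omega_idemT_eq_one_of_liesOver N T hNT C hCT ψ ⟨θ, hθ, hψθ⟩
  refine ⟨ψ, hω, hψθ, ?_⟩
  have hirr := isIrrCharacter_indFun_of_over N T hNT C hCT hCd ψ hω
  apply Cfsg.Agent.Helper81.eq_of_classInner_ne_zero hirr χ.2
  rw [Cfsg.Agent.Helper81.frobenius_reciprocity T _
    (Cfsg.Agent.Helper81.isClassFunction_of_isCharacter
      (Cfsg.Agent.Helper81.IsIrrCharacter.isCharacter χ.2))]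
  rw [← classInner_conj_symm, hm, classInner_decomp]
  simpa using hmψ

end FR6

end Cfsg.Agent.Helper78
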