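import Mathlib
import Cfsg.Agent.Lib.Helper78.FongReynolds3
import Cfsg.Agent.Lib.Helper81.CharRam
import Cfsg.Agent.Lib.Helper16.BlockBasic
import Cfsg.Agent.Lib.Helper77.BlockIdem

/-!
# Fong–Reynolds, part 4: central characters of induced characters (helper78)

* `centralChar_indFun` : the central character of an induced function is the induced central
  character.
-/

set_option autoImplicit false
set_option linter.unusedSectionVars false
set_option linter.style.haveILetI false

namespace Cfsg.Agent.Helper78

open Cfsg Cfsg.Agent.Helper77 Cfsg.Agent.Helper16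
open scoped ComplexConjugate

section cc

variable {G : Type*} [Group G] [Fintype G]

open scoped Classical in
/-- The central character of an induced function is the induced central character. -/
theorem centralChar_indFun (H : Subgroup G) [Fintype H] (ξ : H → ℂ) (hξ : ξ 1 ≠ 0) (g : G) :
    centralChar (indFun H ξ) g = inducedCentralChar H ξ g := by
  have hcl := Cfsg.Agent.Helper81.indFun_isClassFunction H ξ
  rw [← omega_classInd hcl g, Cfsg.Agent.Helper16.inducedCentralChar_eq_omega]
  unfold omega
  rw [Cfsg.Agent.Helper81.indFun_one]
  have hG0 : (Nat.card G : ℂ) ≠ 0 := by exact_mod_cast Nat.card_pos.ne'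
  have hH0 : (Nat.card H : ℂ) ≠ 0 := by exact_mod_cast Nat.card_pos.ne'
  have hidx : (H.index : ℂ) ≠ 0 := by
    have : H.index ≠ 0 := Subgroup.index_ne_zero_of_finite
    exact_mod_cast this
  -- Frobenius reciprocity against the class indicator
  have h1 := Cfsg.Agent.Helper81.frobenius_reciprocity H ξ (isClassFunction_classInd g)
  unfold classInner at h1
  have hreal : ∀ y : G, conj (classInd g y) = classInd g y := by
    intro y
    unfold classInd
    split_ifs <;> simp
  simp only [hreal] at h1
  have h2 : ∑ y : G, classInd g y * indFun H ξ y = ∑ y : G, indFun H ξ y * classInd g y := by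
    refine Finset.sum_congr rfl fun y _ => ?_
    ring
  have h3 : ∑ h : H, fusInd H g h * ξ h = ∑ h : H, ξ h * classInd g (h : G) := by
    refine Finset.sum_congr rfl fun h _ => ?_
    unfold fusInd classInd
    ring
  rw [h2, h3]
  have h4 : ∑ y : G, indFun H ξ y * classInd g y =
      (Nat.card G : ℂ) * ((Nat.card H : ℂ)⁻¹ * ∑ h : H, ξ h * classInd g (h : G)) := by
    rw [← h1, ← mul_assoc, mul_inv_cancel₀ hG0, one_mul]
  rw [h4]
  have h5 : (Nat.card G : ℂ) = (H.index : ℂ) * (Nat.card H : ℂ) := by
    rw [← Subgroup.index_mul_card H]
    push_cast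
    ring
  rw [h5]
  field_simp

end cc

end Cfsg.Agent.Helper78
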