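import Mathlib
import Cfsg.Agent.Lib.Helper78.FongReynolds4
import Cfsg.Agent.Lib.Helper77.LocalRing

/-!
# Fong–Reynolds, part 5: the block idempotent of a set of induced characters (helper78)

* `sum_eq_card_mul_sum_coset` : summing a right `T`-invariant function over `G`.
* `memLocalRing_sum_conj_extend` : `|T|⁻¹ ∑_x f°(x⁻¹ g x)` is a local integer for a local-integer
  valued class function `f` of `T`.
* `blockCoeff_indSet` : the idempotent coefficients of a set of induced characters.
-/

set_option autoImplicit false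
set_option linter.unusedSectionVars false
set_option linter.style.haveILetI false

namespace Cfsg.Agent.Helper78

open Cfsg Cfsg.Agent.Helper77 Cfsg.Agent.Helper16
open scoped ComplexConjugate

section coset

variable {G : Type*} [Group G] [Fintype G]

/-- The decomposition `G = ⋃ out q * T` for an arbitrary subgroup. -/
theorem outMul_bijective' (D : Subgroup G) :
    Function.Bijective (fun qz : (G ⧸ D) × D => (Quotient.out qz.1 : G) * (qz.2 : G)) := by
  classical
  haveI : Fintype (G ⧸ D) := Fintype.ofFinite _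
  haveI : Fintype D := Fintype.ofFinite _
  have hinj : Function.Injective
      (fun qz : (G ⧸ D) × D => (Quotient.out qz.1 : G) * (qz.2 : G)) := by
    rintro ⟨q, z⟩ ⟨q', z'⟩ h
    have hq : q = q' := by
      have h1 := congrArg (fun x : G => (QuotientGroup.mk x : G ⧸ D)) h
      simp only at h1
      rw [QuotientGroup.mk_mul_of_mem _ z.2, QuotientGroup.mk_mul_of_mem _ z'.2] at h1
      rw [QuotientGroup.out_eq', QuotientGroup.out_eq'] at h1
      exact h1
    subst hq
    have h2 : (z : G) = (z' : G) := mul_left_cancel h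
    rw [Subtype.ext h2]
  rw [Fintype.bijective_iff_injective_and_card]
  refine ⟨hinj, ?_⟩
  rw [Fintype.card_prod, ← Nat.card_eq_fintype_card, ← Nat.card_eq_fintype_card,
    ← Nat.card_eq_fintype_card]
  exact (Subgroup.card_eq_card_quotient_mul_card_subgroup D).symm

/-- Summing a right `D`-invariant function over `G`. -/
theorem sum_eq_card_mul_sum_coset (D : Subgroup G) [Fintype (G ⧸ D)] (F : G → ℂ)
    (hF : ∀ u : G, ∀ z ∈ D, F (u * z) = F u) :
    ∑ u : G, F u = (Nat.card D : ℂ) * ∑ q : G ⧸ D, F (Quotient.out q) := by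
  classical
  haveI : Fintype D := Fintype.ofFinite _
  rw [← Equiv.sum_comp (Equiv.ofBijective _ (outMul_bijective' D)), Fintype.sum_prod_type,
    Finset.mul_sum]
  refine Finset.sum_congr rfl fun q _ => ?_
  have : ∀ z : D, F ((Equiv.ofBijective _ (outMul_bijective' D)) (q, z)) = F (Quotient.out q) := by
    intro z
    exact hF _ z z.2
  simp only [this, Finset.sum_const, Finset.card_univ, nsmul_eq_mul]
  rw [Nat.card_eq_fintype_card]

end coset

section rval

variable {G : Type*} [Group G] [Fintype G] {M : Ideal AlgInt}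

/-- Averaging a local-integer valued class function of `T` over conjugates. -/
theorem memLocalRing_sum_conj_extend [hpr : M.IsPrime] (T : Subgroup G) [Fintype T] {f : T → ℂ}
    (hf : IsClassFunction T f) (hR : ∀ t, MemLocalRing M (f t)) (g : G) :
    MemLocalRing M ((Nat.card T : ℂ)⁻¹ * ∑ x : G, extendByZero T f (x⁻¹ * g * x)) := by
  classical
  haveI : Fintype (G ⧸ T) := Fintype.ofFinite _
  have hT0 : (Nat.card T : ℂ) ≠ 0 := by exact_mod_cast Nat.card_pos.ne'
  have hinv : ∀ u : G, ∀ z ∈ T, extendByZero T f ((u * z)⁻¹ * g * (u * z)) =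
      extendByZero T f (u⁻¹ * g * u) := by
    intro u z hz
    have e : (u * z)⁻¹ * g * (u * z) = z⁻¹ * (u⁻¹ * g * u) * z := by group
    rw [e]
    by_cases hu : u⁻¹ * g * u ∈ T
    · have hu' : z⁻¹ * (u⁻¹ * g * u) * z ∈ T := T.mul_mem (T.mul_mem (T.inv_mem hz) hu) hz
      rw [extendByZero_of_mem T f hu, extendByZero_of_mem T f hu']
      have := hf ⟨u⁻¹ * g * u, hu⟩ (⟨z, hz⟩ : T)⁻¹
      rw [← this]
      congr 1
      apply Subtype.ext
      simp
    · have hu' : z⁻¹ * (u⁻¹ * g * u) * z ∉ T := by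
        intro h
        apply hu
        have := T.mul_mem (T.mul_mem hz h) (T.inv_mem hz)
        simpa [mul_assoc] using this
      rw [extendByZero_of_not_mem T f hu, extendByZero_of_not_mem T f hu']
  rw [sum_eq_card_mul_sum_coset T (fun x => extendByZero T f (x⁻¹ * g * x)) hinv,
    ← mul_assoc, inv_mul_cancel₀ hT0, one_mul]
  apply memLocalRing_sum
  intro q _
  by_cases hq : (Quotient.out q)⁻¹ * g * Quotient.out q ∈ T
  · rw [extendByZero_of_mem T f hq]
    exact hR _
  · rw [extendByZero_of_not_mem T f hq]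
    exact memLocalRing_zero hpr.ne_top

end rval

section indset

variable {G : Type*} [Group G] [Fintype G]

/-- The set of irreducible characters of `G` induced from members of `B'`. -/
def indSet (T : Subgroup G) (B' : Set (IrrCharacter T)) : Set (IrrCharacter G) :=
  {χ | ∃ ψ ∈ B', (χ : G → ℂ) = indFun T (ψ : T → ℂ)}

theorem extendByZero_blockCoeff (T : Subgroup G) [Fintype T] (B' : Set (IrrCharacter T)) (y : G) :
    extendByZero T (blockCoeff B') y = (Nat.card T : ℂ)⁻¹ *
      ∑ ψ ∈ (Set.toFinite B').toFinset, (ψ : T → ℂ) 1 * conj (extendByZero T (ψ : T → ℂ) y) := by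
  by_cases hy : y ∈ T
  · rw [extendByZero_of_mem T _ hy, blockCoeff_eq_sum]
    congr 1
    refine Finset.sum_congr rfl fun ψ _ => ?_
    rw [extendByZero_of_mem T _ hy]
  · rw [extendByZero_of_not_mem T _ hy]
    symm
    rw [Finset.sum_eq_zero, mul_zero]
    intro ψ _
    rw [extendByZero_of_not_mem T _ hy, map_zero, mul_zero]

/-- The idempotent coefficients of a set of induced characters. -/
theorem blockCoeff_indSet (T : Subgroup G) [Fintype T] (B' : Set (IrrCharacter T))
    (hirr : ∀ ψ ∈ B', IsIrrCharacter G (indFun T (ψ : T → ℂ)))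
    (hinj : ∀ ψ₁ ∈ B', ∀ ψ₂ ∈ B', indFun T (ψ₁ : T → ℂ) = indFun T (ψ₂ : T → ℂ) → ψ₁ = ψ₂)
    (g : G) :
    blockCoeff (indSet T B') g =
      (Nat.card T : ℂ)⁻¹ * ∑ x : G, extendByZero T (blockCoeff B') (x⁻¹ * g * x) := by
  classical
  rw [blockCoeff_eq_sum]
  have key : ∑ χ ∈ (Set.toFinite (indSet T B')).toFinset, (χ : G → ℂ) 1 * conj ((χ : G → ℂ) g) =
      ∑ ψ ∈ (Set.toFinite B').toFinset,
        indFun T (ψ : T → ℂ) 1 * conj (indFun T (ψ : T → ℂ) g) := by
    symm
    refine Finset.sum_bij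
      (fun ψ hψ => (⟨indFun T (ψ : T → ℂ), hirr ψ ((Set.Finite.mem_toFinset _).1 hψ)⟩ :
        IrrCharacter G)) ?_ ?_ ?_ ?_
    · intro ψ hψ
      rw [Set.Finite.mem_toFinset]
      exact ⟨ψ, (Set.Finite.mem_toFinset _).1 hψ, rfl⟩
    · intro ψ₁ h₁ ψ₂ h₂ h
      exact hinj ψ₁ ((Set.Finite.mem_toFinset _).1 h₁) ψ₂ ((Set.Finite.mem_toFinset _).1 h₂)
        (congrArg Subtype.val h)
    · intro χ hχ
      rw [Set.Finite.mem_toFinset] at hχ
      obtain ⟨ψ, hψ, h⟩ := hχ
      exact ⟨ψ, (Set.Finite.mem_toFinset _).2 hψ, Subtype.ext h.symm⟩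
    · intro ψ _
      rfl
  rw [key]
  have hG0 : (Nat.card G : ℂ) ≠ 0 := by exact_mod_cast Nat.card_pos.ne'
  have hT0 : (Nat.card T : ℂ) ≠ 0 := by exact_mod_cast Nat.card_pos.ne'
  have h5 : (Nat.card G : ℂ) = (T.index : ℂ) * (Nat.card T : ℂ) := by
    rw [← Subgroup.index_mul_card T]
    push_cast
    ring
  have hidx : (T.index : ℂ) ≠ 0 := by
    have : T.index ≠ 0 := Subgroup.index_ne_zero_of_finite
    exact_mod_cast this
  have h7 : ∀ ψ : IrrCharacter T, indFun T (ψ : T → ℂ) 1 * conj (indFun T (ψ : T → ℂ) g) =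
      (T.index : ℂ) * (Nat.card T : ℂ)⁻¹ *
        ∑ x : G, (ψ : T → ℂ) 1 * conj (extendByZero T (ψ : T → ℂ) (x⁻¹ * g * x)) := by
    intro ψ
    rw [Cfsg.Agent.Helper81.indFun_one, Cfsg.Agent.Helper81.indFun_apply T _ g,
      map_mul, map_inv₀, Complex.conj_natCast, map_sum, Finset.mul_sum, Finset.mul_sum,
      Finset.mul_sum]
    refine Finset.sum_congr rfl fun x _ => ?_
    ring
  simp only [h7, extendByZero_blockCoeff]
  rw [← Finset.mul_sum, ← Finset.mul_sum, Finset.sum_comm, h5]
  field_simp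

end indset

end Cfsg.Agent.Helper78
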