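import Mathlib
import Cfsg.Agent.Lib.Helper78.FongReynolds5
import Cfsg.Agent.Lib.Helper16.BlockConj

/-!
# Fong–Reynolds, part 6: the block correspondence (helper78)

`N ⊴ G`, `b` a block of `N`, `T` its stabilizer.  For a block `B'` of `T` covering `b`:
every `ψ ∈ B'` induces irreducibly, the induced characters form a block `B` of `G`, and `B'`
induces `B` (`fongReynolds_induced`).
-/

set_option autoImplicit false
set_option linter.unusedSectionVars false
set_option linter.style.haveILetI false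

namespace Cfsg.Agent.Helper78

open Cfsg Cfsg.Agent.Helper77 Cfsg.Agent.Helper16
open scoped ComplexConjugate

section FRblock

variable {G : Type*} [Group G] [Fintype G] (N : Subgroup G) [hN : N.Normal] [Fintype N]
  (T : Subgroup G) [Fintype T] (hNT : N ≤ T) {p : ℕ} [Fact p.Prime] {M : Ideal AlgInt}

/-- The stabilizer of a block permutes its members. -/
theorem stab_closed {b : Set (IrrCharacter N)}
    (hT : ∀ g : G, g ∈ T ↔ ∀ θ ∈ b, conjIrr N g⁻¹ θ ∈ b) :
    ∀ x ∈ T, ∀ θ ∈ (Set.toFinite b).toFinset, conjIrr N x θ ∈ (Set.toFinite b).toFinset := by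
  intro x hx θ hθ
  rw [Set.Finite.mem_toFinset] at hθ ⊢
  have := (hT x⁻¹).1 (T.inv_mem hx) θ hθ
  rwa [inv_inv] at this

/-- Outside the stabilizer the conjugate block is disjoint from the block. -/
theorem stab_disjoint (hM : IsPModular p M) {b : Set (IrrCharacter N)} (hb : IsPBlock M b)
    (hT : ∀ g : G, g ∈ T ↔ ∀ θ ∈ b, conjIrr N g⁻¹ θ ∈ b) :
    ∀ x : G, x ∉ T → ∀ θ ∈ (Set.toFinite b).toFinset,
      conjIrr N x θ ∉ (Set.toFinite b).toFinset := by
  have hpr := isPrime_of_isPModular hM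
  intro x hx θ hθ hcon
  rw [Set.Finite.mem_toFinset] at hθ hcon
  have hx' : x⁻¹ ∉ T := fun h => hx (by simpa using T.inv_mem h)
  rw [hT x⁻¹] at hx'
  push Not at hx'
  obtain ⟨θ₁, hθ₁, hθ₁'⟩ := hx'
  rw [inv_inv] at hθ₁'
  apply hθ₁'
  have hs : SameBlock M (θ : N → ℂ) (θ₁ : N → ℂ) := sameBlock_of_mem hb hθ hθ₁
  exact mem_of_sameBlock hb hcon (sameBlock_conjIrr N x θ θ₁ hs)

theorem idemFun_block_rvalued (hM : IsPModular p M) {b : Set (IrrCharacter N)}
    (hb : IsPBlock M b) (g : G) : MemLocalRing M (idemFun N (Set.toFinite b).toFinset g) := by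
  have hpr := isPrime_of_isPModular hM
  apply memLocalRing_idemFun_of_blockClosed N hM
  intro θ hθ θ' h
  rw [Set.Finite.mem_toFinset] at hθ ⊢
  exact mem_of_sameBlock hb hθ h

include hNT

/-- All members of a block of `T` covering `b` lie over `b`. -/
theorem omega_eq_one_of_mem (hM : IsPModular p M) {b : Set (IrrCharacter N)}
    (hb : IsPBlock M b) (hT : ∀ g : G, g ∈ T ↔ ∀ θ ∈ b, conjIrr N g⁻¹ θ ∈ b)
    {B' : Set (IrrCharacter T)} (hB' : IsPBlock M B') {ψ₀ ψ : IrrCharacter T} (hψ₀ : ψ₀ ∈ B')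
    (hψ : ψ ∈ B') (h₀ : omega (ψ₀ : T → ℂ) (idemT N T (Set.toFinite b).toFinset) = 1) :
    omega (ψ : T → ℂ) (idemT N T (Set.toFinite b).toFinset) = 1 := by
  have hpr := isPrime_of_isPModular hM
  have hCT := stab_closed N T hT
  have hsq := omega_idemT_sq N T hNT _ hCT ψ
  have h1 := memLocalIdeal_omega_sub (M := M) ψ.2 ψ₀.2 (sameBlock_of_mem hB' hψ hψ₀)
    (isClassFunction_idemT N T _ hCT) (fun t => idemFun_block_rvalued N hM hb (t : G))
  rw [h₀] at h1
  have h2 : omega (ψ : T → ℂ) (idemT N T (Set.toFinite b).toFinset) = 0 ∨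
      omega (ψ : T → ℂ) (idemT N T (Set.toFinite b).toFinset) = 1 := by
    have : omega (ψ : T → ℂ) (idemT N T (Set.toFinite b).toFinset) *
        (omega (ψ : T → ℂ) (idemT N T (Set.toFinite b).toFinset) - 1) = 0 := by
      rw [mul_sub, mul_one, ← sq, hsq, sub_self]
    rcases mul_eq_zero.1 this with h | h
    · exact Or.inl h
    · exact Or.inr (sub_eq_zero.1 h)
  rcases h2 with h | h
  · exfalso
    rw [h, zero_sub] at h1
    have := memLocalIdeal_neg h1
    rw [neg_neg] at this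
    exact not_memLocalIdeal_one this
  · exact h

end FRblock

section FRmain

variable {G : Type*} [Group G] [Fintype G] (N : Subgroup G) [hN : N.Normal] [Fintype N]
  (T : Subgroup G) [Fintype T] (hNT : N ≤ T) {p : ℕ} [Fact p.Prime] {M : Ideal AlgInt}

include hNT

open scoped Classical in
/-- **Fong–Reynolds**: a block `B'` of the stabilizer `T` of `b` lying over `b` induces a block
of `G` consisting exactly of the (irreducible) characters induced from `B'`. -/
theorem fongReynolds_induced (hM : IsPModular p M) {b : Set (IrrCharacter N)}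
    (hb : IsPBlock M b) (hT : ∀ g : G, g ∈ T ↔ ∀ θ ∈ b, conjIrr N g⁻¹ θ ∈ b)
    {B' : Set (IrrCharacter T)} (hB' : IsPBlock M B') {ψ₀ : IrrCharacter T} (hψ₀ : ψ₀ ∈ B')
    (h₀ : omega (ψ₀ : T → ℂ) (idemT N T (Set.toFinite b).toFinset) = 1) :
    ∃ B : Set (IrrCharacter G), IsInducedBlock M T B' B ∧
      (∀ ψ ∈ B', IsIrrCharacter G (indFun T (ψ : T → ℂ))) ∧
      (∀ χ : IrrCharacter G, χ ∈ B ↔ ∃ ψ ∈ B', (χ : G → ℂ) = indFun T (ψ : T → ℂ)) ∧
      (∀ ψ ∈ B', omega (ψ : T → ℂ) (idemT N T (Set.toFinite b).toFinset) = 1) := by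
  have hpr := isPrime_of_isPModular hM
  have hCT := stab_closed N T hT
  have hCd := stab_disjoint N T hM hb hT
  have hω : ∀ ψ ∈ B', omega (ψ : T → ℂ) (idemT N T (Set.toFinite b).toFinset) = 1 :=
    fun ψ hψ => omega_eq_one_of_mem N T hNT hM hb hT hB' hψ₀ hψ h₀
  have hirr : ∀ ψ ∈ B', IsIrrCharacter G (indFun T (ψ : T → ℂ)) :=
    fun ψ hψ => isIrrCharacter_indFun_of_over N T hNT _ hCT hCd ψ (hω ψ hψ)
  have hinj : ∀ ψ₁ ∈ B', ∀ ψ₂ ∈ B',
      indFun T (ψ₁ : T → ℂ) = indFun T (ψ₂ : T → ℂ) → ψ₁ = ψ₂ :=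
    fun ψ₁ h₁ ψ₂ h₂ h => indFun_injective_of_over N T hNT _ hCT hCd ψ₁ ψ₂ (hω ψ₁ h₁) (hω ψ₂ h₂) h
  obtain ⟨χ₀, hχ₀⟩ : ∃ χ₀ : IrrCharacter G, (χ₀ : G → ℂ) = indFun T (ψ₀ : T → ℂ) :=
    ⟨⟨_, hirr ψ₀ hψ₀⟩, rfl⟩
  -- central characters of induced characters from `B'` are congruent
  have hcong : ∀ ψ ∈ B', ∀ g : G, MemLocalIdeal M
      (centralChar (χ₀ : G → ℂ) g - centralChar (indFun T (ψ : T → ℂ)) g) := by
    intro ψ hψ g
    rw [hχ₀, centralChar_indFun T _ (Cfsg.Agent.Helper79.irr_one_ne_zero ψ₀),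
      centralChar_indFun T _ (Cfsg.Agent.Helper79.irr_one_ne_zero ψ)]
    exact inducedCentralChar_sub_memLocalIdeal hM T
      (isClassFunction_of_isIrrCharacter' ψ₀.2) (isClassFunction_of_isIrrCharacter' ψ.2)
      (sameBlock_of_mem hB' hψ₀ hψ) g
  refine ⟨blockOf M (χ₀ : G → ℂ), ⟨hB', isPBlock_blockOf χ₀, ?_⟩, hirr, ?_, hω⟩
  · intro ξ hξ χ hχ g
    have h1 : MemLocalIdeal M (inducedCentralChar T (ξ : T → ℂ) g -
        inducedCentralChar T (ψ₀ : T → ℂ) g) :=
      inducedCentralChar_sub_memLocalIdeal hM T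
        (isClassFunction_of_isIrrCharacter' ξ.2) (isClassFunction_of_isIrrCharacter' ψ₀.2)
        (sameBlock_of_mem hB' hξ hψ₀) g
    have h2 : MemLocalIdeal M (centralChar (χ₀ : G → ℂ) g - centralChar (χ : G → ℂ) g) := hχ g
    have e : centralChar (χ₀ : G → ℂ) g = inducedCentralChar T (ψ₀ : T → ℂ) g := by
      rw [hχ₀, centralChar_indFun T _ (Cfsg.Agent.Helper79.irr_one_ne_zero ψ₀)]
    have := memLocalIdeal_add h1 h2
    rw [e] at this
    convert this using 1
    ring
  · intro χ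
    constructor
    · intro hχ
      -- union of blocks argument
      have hS : ∀ g : G, MemLocalRing M (blockCoeff (indSet T B') g) := by
        intro g
        rw [blockCoeff_indSet T B' hirr hinj g]
        exact memLocalRing_sum_conj_extend T (isClassFunction_blockCoeff B')
          (fun t => memLocalRing_blockCoeff hB' t) g
      have h1 := memLocalIdeal_omega_sub (M := M) χ.2 χ₀.2
        (Cfsg.Agent.Helper77.sameBlock_symm hχ) (isClassFunction_blockCoeff (indSet T B')) hS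
      rw [omega_blockCoeff, omega_blockCoeff] at h1
      have hχ₀S : χ₀ ∈ indSet T B' := ⟨ψ₀, hψ₀, hχ₀⟩
      rw [if_pos hχ₀S] at h1
      by_contra hcon
      have hχS : χ ∉ indSet T B' := hcon
      rw [if_neg hχS, zero_sub] at h1
      have := memLocalIdeal_neg h1
      rw [neg_neg] at this
      exact not_memLocalIdeal_one this
    · rintro ⟨ψ, hψ, h⟩
      intro g
      rw [h]
      exact hcong ψ hψ g

end FRmain

end Cfsg.Agent.Helper78
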