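import Mathlib
import Cfsg.Agent.Lib.Helper78.FongReynolds6
import Cfsg.Agent.Lib.Helper74.DefectOrder
import Cfsg.Agent.Lib.Helper77.DefectInd

/-!
# Fong–Reynolds, part 7: degrees, heights and defect groups (helper78)

If the members of a set `B` of irreducible characters of `G` are exactly the characters induced
from the members of a set `B'` of irreducible characters of a subgroup `T`, then degrees are
multiplied by the index, so heights and defects agree (`blockHeight_indFun`, `blockDefect_ind`);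
together with `exists_isDefectGroup_of_isInducedBlock` this gives equality of defect groups
(`isDefectGroup_map_of_ind`).
-/

set_option autoImplicit false
set_option linter.unusedSectionVars false
set_option linter.style.haveILetI false

namespace Cfsg.Agent.Helper78

open Cfsg Cfsg.Agent.Helper77 Cfsg.Agent.Helper16
open scoped ComplexConjugate

section FRheight

variable {G : Type*} [Group G] [Fintype G] (T : Subgroup G) [Fintype T]

/-- Degree of an induced character. -/
theorem charDegree_indFun (ψ : IrrCharacter T) :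
    charDegree (indFun T (ψ : T → ℂ)) = T.index * charDegree (ψ : T → ℂ) := by
  have h1 : indFun T (ψ : T → ℂ) 1 = ((T.index * charDegree (ψ : T → ℂ) : ℕ) : ℂ) := by
    rw [Cfsg.Agent.Helper81.indFun_one, (Cfsg.Agent.Helper79.irr_one_eq ψ).1]
    push_cast
    ring
  unfold charDegree at h1 ⊢
  rw [h1, Complex.natCast_re, Nat.floor_natCast]

variable {T} (p : ℕ) [hp : Fact p.Prime]

/-- Under induction from `B'` onto `B` the least valuation shifts by the valuation of the
index. -/
theorem minVal_ind {B' : Set (IrrCharacter T)} {B : Set (IrrCharacter G)}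
    (hne : B'.Nonempty)
    (h1 : ∀ ψ ∈ B', ∃ χ ∈ B, (χ : G → ℂ) = indFun T (ψ : T → ℂ))
    (h2 : ∀ χ ∈ B, ∃ ψ ∈ B', (χ : G → ℂ) = indFun T (ψ : T → ℂ)) :
    Cfsg.Agent.Helper74.DO.minVal p B =
      T.index.factorization p + Cfsg.Agent.Helper74.DO.minVal p B' := by
  have hidx : T.index ≠ 0 := Subgroup.index_ne_zero_of_finite
  have hdeg : ∀ (ψ : IrrCharacter T) (χ : IrrCharacter G),
      (χ : G → ℂ) = indFun T (ψ : T → ℂ) →
      (charDegree (χ : G → ℂ)).factorization p =
        T.index.factorization p + (charDegree (ψ : T → ℂ)).factorization p := by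
    intro ψ χ h
    rw [h, charDegree_indFun, Nat.factorization_mul hidx (Cfsg.Agent.Helper79.irr_one_eq ψ).2.ne']
    rfl
  have hneB : B.Nonempty := by
    obtain ⟨ψ, hψ⟩ := hne
    obtain ⟨χ, hχ, -⟩ := h1 ψ hψ
    exact ⟨χ, hχ⟩
  apply le_antisymm
  · obtain ⟨ψ, hψ, hmin⟩ := Cfsg.Agent.Helper74.DO.exists_minVal (p := p) hne
    obtain ⟨χ, hχ, hχψ⟩ := h1 ψ hψ
    rw [← hmin, ← hdeg ψ χ hχψ]
    exact Cfsg.Agent.Helper74.DO.minVal_le hχ
  · obtain ⟨χ, hχ, hmin⟩ := Cfsg.Agent.Helper74.DO.exists_minVal (p := p) hneB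
    obtain ⟨ψ, hψ, hχψ⟩ := h2 χ hχ
    rw [← hmin, hdeg ψ χ hχψ]
    exact Nat.add_le_add_left (Cfsg.Agent.Helper74.DO.minVal_le hψ) _

/-- Heights are preserved. -/
theorem blockHeight_indFun {B' : Set (IrrCharacter T)} {B : Set (IrrCharacter G)}
    (h1 : ∀ ψ ∈ B', ∃ χ ∈ B, (χ : G → ℂ) = indFun T (ψ : T → ℂ))
    (h2 : ∀ χ ∈ B, ∃ ψ ∈ B', (χ : G → ℂ) = indFun T (ψ : T → ℂ))
    (ψ : IrrCharacter T) (hψ : ψ ∈ B') :
    blockHeight p B (indFun T (ψ : T → ℂ)) = blockHeight p B' (ψ : T → ℂ) := by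
  have hidx : T.index ≠ 0 := Subgroup.index_ne_zero_of_finite
  have hmv := minVal_ind p ⟨ψ, hψ⟩ h1 h2
  unfold Cfsg.Agent.Helper74.DO.minVal at hmv
  unfold blockHeight
  rw [hmv, charDegree_indFun, Nat.factorization_mul hidx (Cfsg.Agent.Helper79.irr_one_eq ψ).2.ne']
  simp only [Finsupp.coe_add, Pi.add_apply]
  omega

/-- Defects are preserved. -/
theorem blockDefect_ind {B' : Set (IrrCharacter T)} {B : Set (IrrCharacter G)}
    (hne : B'.Nonempty)
    (h1 : ∀ ψ ∈ B', ∃ χ ∈ B, (χ : G → ℂ) = indFun T (ψ : T → ℂ))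
    (h2 : ∀ χ ∈ B, ∃ ψ ∈ B', (χ : G → ℂ) = indFun T (ψ : T → ℂ)) :
    blockDefect p B = blockDefect p B' := by
  have hidx : T.index ≠ 0 := Subgroup.index_ne_zero_of_finite
  have hmv := minVal_ind p hne h1 h2
  rw [Cfsg.Agent.Helper74.DO.blockDefect_eq, Cfsg.Agent.Helper74.DO.blockDefect_eq, hmv]
  have hcard : Nat.card G = Nat.card T * T.index := (Subgroup.card_mul_index T).symm
  rw [hcard, Nat.factorization_mul Nat.card_pos.ne' hidx]
  simp only [Finsupp.coe_add, Pi.add_apply]
  omega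

/-- Defect groups of `B'` are defect groups of `B`. -/
theorem isDefectGroup_map_of_ind {M : Ideal AlgInt} (hM : IsPModular p M)
    {B' : Set (IrrCharacter T)} {B : Set (IrrCharacter G)}
    (hind : IsInducedBlock M T B' B)
    (h1 : ∀ ψ ∈ B', ∃ χ ∈ B, (χ : G → ℂ) = indFun T (ψ : T → ℂ))
    (h2 : ∀ χ ∈ B, ∃ ψ ∈ B', (χ : G → ℂ) = indFun T (ψ : T → ℂ))
    (D : Subgroup T) (hD : IsDefectGroup p M B' D) :
    IsDefectGroup p M B (D.map T.subtype) := by
  have hpr := isPrime_of_isPModular hM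
  obtain ⟨E, hE, hle⟩ := exists_isDefectGroup_of_isInducedBlock hM T hind D hD
  have hne : B'.Nonempty := nonempty_of_isPBlock hind.1
  have hcE := Cfsg.Agent.Helper74.DO.card_defectGroup hM hind.2.1 E hE
  have hcD := Cfsg.Agent.Helper74.DO.card_defectGroup hM hind.1 D hD
  rw [← blockDefect_ind p hne h1 h2, ← hcE] at hcD
  have hcm : Nat.card (D.map T.subtype) = Nat.card E := by
    rw [Subgroup.card_map_of_injective (Subgroup.subtype_injective _), hcD]
  have : D.map T.subtype = E := Subgroup.eq_of_le_of_card_ge hle (le_of_eq hcm.symm)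
  rw [this]
  exact hE

end FRheight

end Cfsg.Agent.Helper78
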