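import Mathlib
import Cfsg.Agent.Lib.Helper78.CoverAll

/-!
# Graded idempotents with radical identity component vanish modulo the local ideal (helper78)

`N ⊴ G`, `ε : G → ℂ` an `N`-invariant convolution idempotent with values in the local ring.  If
every nonempty product of coset parts of `ε` of total degree one (a class function of `N`) has all
its central character values in the local ideal, then all values of `ε` lie in the local ideal
(`isMValued_of_graded_radical`).  `isMValued_of_graded_radical'` is the same with the hypothesis
stated for the products `c * ε_q`, `c` any local-ring valued `N`-invariant function supported on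
the coset `q⁻¹`.
-/

set_option autoImplicit false
set_option linter.unusedSectionVars false
set_option linter.style.haveILetI false

namespace Cfsg.Agent.Helper78

open Cfsg Cfsg.Agent.Helper77 Cfsg.Agent.Helper16

section gradedidem

variable {G : Type*} [Group G] [Fintype G] {M : Ideal AlgInt} [hpr : M.IsPrime]
  (N : Subgroup G) [hN : N.Normal] [Fintype N]

theorem isRValued_cosetPart {ε : G → ℂ} (hεR : IsRValued M ε) (q : G ⧸ N) :
    IsRValued M (cosetPart N q ε) := by
  classical
  intro g
  rw [cosetPart_apply]
  split_ifs
  · exact hεR g
  · exact memLocalRing_zero hpr.ne_top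

/-- **Graded nilpotency.**  An `N`-invariant idempotent with local-ring values all of whose
degree-one segment products are radical has all its values in the local ideal. -/
theorem isMValued_of_graded_radical {ε : G → ℂ} (hεR : IsRValued M ε) (hεinv : IsNInv N ε)
    (hidem : conv ε ε = ε)
    (H : ∀ S : List (G ⧸ N), S ≠ [] → S.prod = 1 → ∀ θ : IrrCharacter N,
      MemLocalIdeal M (omega (θ : N → ℂ)
        (fun m : N => convList (S.map (fun q => cosetPart N q ε)) m))) :
    IsMValued M ε := by
  classical
  haveI : Fintype (G ⧸ N) := Fintype.ofFinite _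
  have hβinv : ∀ q : G ⧸ N, IsNInv N (cosetPart N q ε) := fun q => isNInv_cosetPart N hεinv q
  have hβR : ∀ q : G ⧸ N, IsRValued M (cosetPart N q ε) := fun q => isRValued_cosetPart N hεR q
  have hlong : ∀ L : List (G ⧸ N),
      Nat.card (IrrCharacter N) * Fintype.card (G ⧸ N) ≤ L.length →
      IsMValued M (convList (L.map (fun q => cosetPart N q ε))) := by
    intro L hL
    obtain ⟨Ss, L', hlen, hSs, heq⟩ := exists_factor_segments N hεinv _ L hL
    rw [heq]
    apply isMValued_conv_left
    · have hsupp : ∀ a ∈ Ss.map (fun S => convList (S.map (fun q => cosetPart N q ε))),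
          SuppIn N a := by
        intro a ha
        obtain ⟨S, hS, rfl⟩ := List.mem_map.1 ha
        exact suppIn_convList_cosetPart N ε S (hSs S hS).2
      intro g
      by_cases hg : g ∈ N
      · have h1 := convList_coe N _ hsupp ⟨g, hg⟩
        rw [show ((⟨g, hg⟩ : N) : G) = g from rfl] at h1
        rw [h1]
        apply isMValued_convList_of_radical
        · rw [List.length_map, List.length_map, hlen]
        · intro σ hσ
          obtain ⟨a, ha, rfl⟩ := List.mem_map.1 hσ
          obtain ⟨S, hS, rfl⟩ := List.mem_map.1 ha
          apply isClassFunction_coe_of_isNInv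
          apply isNInv_convList
          intro a ha
          obtain ⟨q, _, rfl⟩ := List.mem_map.1 ha
          exact hβinv q
        · intro σ hσ
          obtain ⟨a, ha, rfl⟩ := List.mem_map.1 hσ
          obtain ⟨S, hS, rfl⟩ := List.mem_map.1 ha
          intro m
          apply isRValued_convList
          intro a ha
          obtain ⟨q, _, rfl⟩ := List.mem_map.1 ha
          exact hβR q
        · intro σ hσ
          obtain ⟨a, ha, rfl⟩ := List.mem_map.1 hσ
          obtain ⟨S, hS, rfl⟩ := List.mem_map.1 ha
          exact H S (hSs S hS).1 (hSs S hS).2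
      · rw [suppIn_convList N _ hsupp g hg]
        exact memLocalIdeal_zero hpr.ne_top
    · apply isRValued_convList
      intro a ha
      obtain ⟨q, _, rfl⟩ := List.mem_map.1 ha
      exact hβR q
  have hP : ∀ j : ℕ, ∀ L : List (G ⧸ N),
      Nat.card (IrrCharacter N) * Fintype.card (G ⧸ N) ≤ L.length + j →
      IsMValued M (conv ε (convList (L.map (fun q => cosetPart N q ε)))) := by
    intro j
    induction j with
    | zero =>
      intro L hL
      exact isMValued_conv_right hεR (hlong L (by omega))
    | succ j ih =>
      intro L hL
      obtain ⟨A, hA⟩ : ∃ A, A = convList (L.map (fun q => cosetPart N q ε)) := ⟨_, rfl⟩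
      rw [← hA]
      have h1 : conv ε A = conv (conv ε ε) A := by rw [hidem]
      have h2 : conv ε A = conv (∑ q : G ⧸ N, cosetPart N q ε) A := by rw [sum_cosetPart N ε]
      have h3 : conv ε A = ∑ q : G ⧸ N, conv ε (conv (cosetPart N q ε) A) := by
        rw [h1, conv_assoc, h2, conv_finsum_left, conv_finsum_right]
      rw [h3]
      apply isMValued_finsum
      intro q _
      have := ih (q :: L) (by rw [List.length_cons]; omega)
      rw [List.map_cons, convList, ← hA] at this
      exact this
  have := hP (Nat.card (IrrCharacter N) * Fintype.card (G ⧸ N)) [] (by simp)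
  rw [List.map_nil, convList, conv_delta_right] at this
  exact this

/-- **Graded nilpotency**, second form: it suffices that the products `c * ε_q` are radical, for
`c` local-ring valued, `N`-invariant and supported on the coset `q⁻¹`. -/
theorem isMValued_of_graded_radical' {ε : G → ℂ} (hεR : IsRValued M ε) (hεinv : IsNInv N ε)
    (hidem : conv ε ε = ε)
    (H : ∀ (q : G ⧸ N) (c : G → ℂ), IsRValued M c → IsNInv N c →
      (∀ g : G, (QuotientGroup.mk g : G ⧸ N) ≠ q⁻¹ → c g = 0) → ∀ θ : IrrCharacter N,
      MemLocalIdeal M (omega (θ : N → ℂ) (fun m : N => conv c (cosetPart N q ε) m))) :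
    IsMValued M ε := by
  classical
  apply isMValued_of_graded_radical N hεR hεinv hidem
  intro S hSne hSprod θ
  have hsplit : S = S.dropLast ++ [S.getLast hSne] := (List.dropLast_append_getLast hSne).symm
  obtain ⟨S', hS'⟩ : ∃ S', S' = S.dropLast := ⟨_, rfl⟩
  obtain ⟨x, hx⟩ : ∃ x, x = S.getLast hSne := ⟨_, rfl⟩
  rw [← hS', ← hx] at hsplit
  have hprod : S'.prod = x⁻¹ := by
    rw [hsplit, List.prod_append, List.prod_singleton] at hSprod
    exact eq_inv_of_mul_eq_one_left hSprod
  have heq : convList (S.map (fun q => cosetPart N q ε)) =
      conv (convList (S'.map (fun q => cosetPart N q ε))) (cosetPart N x ε) := by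
    rw [hsplit, List.map_append, convList_append, List.map_cons, List.map_nil, convList, convList,
      conv_delta_right]
  rw [heq]
  apply H x
  · apply isRValued_convList
    intro a ha
    obtain ⟨q, _, rfl⟩ := List.mem_map.1 ha
    exact isRValued_cosetPart N hεR q
  · apply isNInv_convList
    intro a ha
    obtain ⟨q, _, rfl⟩ := List.mem_map.1 ha
    exact isNInv_cosetPart N hεinv q
  · intro g hg
    apply convList_cosetPart_eq_zero
    rw [hprod]
    exact hg

end gradedidem

end Cfsg.Agent.Helper78
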