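import Mathlib
import Cfsg.Agent.Lib.Helper77.Extended
import Cfsg.Agent.Lib.Helper79.LinearDeg
import Cfsg.Agent.Lib.Helper79.Inflation
import Cfsg.Agent.Lib.Helper78.FongReynolds5
import Cfsg.Agent.Lib.Helper74.DefectOrder
import Cfsg.Agent.Lib.Helper74.DefectZero

/-!
# Characters vanishing on the elements of order `p` have defect zero (helper78)

Knörr's theorem, by central characters.  Let `a` be the indicator function of
`{g : g ^ p = 1}`.

* `memLocalIdeal_omega_powEqOne` : if `H` has a central element `z` of order `p`, then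
  `ω_ξ(a)` lies in the local ideal for every irreducible character `ξ` of `H` (the set is stable
  under multiplication by `z`).
* `blockDefect_eq_zero_of_vanish` : if `χ` vanishes on all elements of order `p`, its block has
  defect zero: otherwise `ω_χ(a) = 1` would be congruent to `ω_ξ(a)` for a block of `C_G(z)`
  inducing the block of `χ`, `z` of order `p` in a defect group.
-/

set_option autoImplicit false
set_option linter.unusedSectionVars false
set_option linter.style.haveILetI false

namespace Cfsg.Agent.Helper78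

open Cfsg Cfsg.Agent.Helper77

section omegaPow

variable {H : Type*} [Group H] [Fintype H] {p : ℕ} [Fact p.Prime] {M : Ideal AlgInt}

open scoped Classical in
/-- Indicator function of the solutions of `x ^ p = 1`. -/
noncomputable def powEqOneInd (H : Type*) [Group H] (p : ℕ) : H → ℂ :=
  fun x => if x ^ p = 1 then 1 else 0

open scoped Classical in
theorem powEqOneInd_apply (x : H) : powEqOneInd H p x = if x ^ p = 1 then 1 else 0 := rfl

theorem isClassFunction_powEqOneInd : IsClassFunction H (powEqOneInd H p) := by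
  classical
  intro g x
  rw [powEqOneInd_apply, powEqOneInd_apply]
  have : (x * g * x⁻¹) ^ p = 1 ↔ g ^ p = 1 := by
    rw [conj_pow]
    constructor
    · intro h
      have := congrArg (fun t => x⁻¹ * t * x) h
      simpa [mul_assoc] using this
    · intro h
      rw [h]
      group
  simp only [this]

theorem isRValued_powEqOneInd [hpr : M.IsPrime] : IsRValued M (powEqOneInd H p) := by
  classical
  intro x
  rw [powEqOneInd_apply]
  split_ifs
  · exact memLocalRing_one hpr.ne_top
  · exact memLocalRing_zero hpr.ne_top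

theorem powEqOneInd_mul_central {w : H} (hw : w ∈ Subgroup.center H) (hwp : w ^ p = 1) (x : H) :
    powEqOneInd H p (x * w) = powEqOneInd H p x := by
  classical
  rw [powEqOneInd_apply, powEqOneInd_apply]
  have hc : Commute x w := Subgroup.mem_center_iff.1 hw x
  rw [hc.mul_pow, hwp, mul_one]

/-- If `H` has a central element of order `p`, the central character of every irreducible
character of `H` sends the sum of the solutions of `x ^ p = 1` into the local ideal. -/
theorem memLocalIdeal_omega_powEqOne (hM : IsPModular p M) {z : H}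
    (hz : z ∈ Subgroup.center H) (hzo : orderOf z = p) (ξ : IrrCharacter H) :
    MemLocalIdeal M (omega (ξ : H → ℂ) (powEqOneInd H p)) := by
  classical
  have hpr := isPrime_of_isPModular hM
  have hzp : z ^ p = 1 := by rw [← hzo]; exact pow_orderOf_eq_one z
  have hξ1 : (ξ : H → ℂ) 1 ≠ 0 := irrChar_one_ne_zero ξ.2
  obtain ⟨S, hS⟩ : ∃ S, S = ∑ x : H, powEqOneInd H p x * (ξ : H → ℂ) x := ⟨_, rfl⟩
  have hom : omega (ξ : H → ℂ) (powEqOneInd H p) = S / (ξ : H → ℂ) 1 := by
    rw [hS]; rfl
  by_cases hker : (ξ : H → ℂ) z = (ξ : H → ℂ) 1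
  · -- `z` in the kernel: pass to the quotient
    have hzker : z ∈ Cfsg.Agent.Helper79.irrKer ξ := (Cfsg.Agent.Helper79.mem_irrKer ξ z).2 hker
    obtain ⟨Z, hZ⟩ : ∃ Z : Subgroup H, Z = Subgroup.zpowers z := ⟨_, rfl⟩
    have hZc : Z ≤ Subgroup.center H := by
      rw [hZ, Subgroup.zpowers_le]; exact hz
    have hZk : Z ≤ Cfsg.Agent.Helper79.irrKer ξ := by
      rw [hZ, Subgroup.zpowers_le]; exact hzker
    haveI hZn : Z.Normal := by
      constructor
      intro n hn g
      have hc := Subgroup.mem_center_iff.1 (hZc hn) g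
      have : g * n * g⁻¹ = n := by rw [hc, mul_assoc, mul_inv_cancel, mul_one]
      rw [this]
      exact hn
    have hZcard : Nat.card Z = p := by rw [hZ, Nat.card_zpowers, hzo]
    have hZpow : ∀ w ∈ Z, w ^ p = 1 := by
      intro w hw
      rw [hZ] at hw
      obtain ⟨k, rfl⟩ := Subgroup.mem_zpowers_iff.1 hw
      rw [← zpow_natCast, ← zpow_mul, mul_comm, zpow_mul, zpow_natCast, hzp, one_zpow]
    obtain ⟨ψ, hψ⟩ := Cfsg.Agent.Helper79.exists_deflate Z ξ hZk
    have hξψ : ∀ x : H, (ξ : H → ℂ) x = (ψ : H ⧸ Z → ℂ) (QuotientGroup.mk x) := by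
      intro x
      rw [← hψ, Cfsg.Agent.Helper79.inflate_apply]
    haveI : Fintype (H ⧸ Z) := Fintype.ofFinite _
    have hF : ∀ u : H, ∀ w ∈ Z, powEqOneInd H p (u * w) * (ξ : H → ℂ) (u * w) =
        powEqOneInd H p u * (ξ : H → ℂ) u := by
      intro u w hw
      rw [powEqOneInd_mul_central (hZc hw) (hZpow w hw),
        Cfsg.Agent.Helper79.irr_mul_of_mem_irrKer ξ u w (hZk hw)]
    have hsum := sum_eq_card_mul_sum_coset Z
      (fun x => powEqOneInd H p x * (ξ : H → ℂ) x) hF
    -- the function on the quotient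
    obtain ⟨abar, habar⟩ : ∃ abar : H ⧸ Z → ℂ,
        abar = fun q => powEqOneInd H p (Quotient.out q) := ⟨_, rfl⟩
    have habar_mk : ∀ x : H, abar (QuotientGroup.mk x) = powEqOneInd H p x := by
      intro x
      rw [habar]
      obtain ⟨w, hw⟩ := QuotientGroup.mk_out_eq_mul Z x
      show powEqOneInd H p (Quotient.out (QuotientGroup.mk x : H ⧸ Z)) = _
      rw [hw]
      exact powEqOneInd_mul_central (hZc w.2) (hZpow w w.2) x
    have habar_cl : IsClassFunction (H ⧸ Z) abar := by
      intro g x
      induction g using QuotientGroup.induction_on with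
      | H g =>
        induction x using QuotientGroup.induction_on with
        | H x =>
          rw [← QuotientGroup.mk_inv, ← QuotientGroup.mk_mul, ← QuotientGroup.mk_mul, habar_mk,
            habar_mk]
          exact isClassFunction_powEqOneInd g x
    have habar_R : IsRValued M abar := by
      intro q
      rw [habar]
      exact isRValued_powEqOneInd _
    have hωψ := memLocalRing_omega ψ.2 habar_cl habar_R
    have hrel : omega (ξ : H → ℂ) (powEqOneInd H p) =
        (p : ℂ) * omega (ψ : H ⧸ Z → ℂ) abar := by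
      rw [hom, hS, hsum, hZcard]
      unfold omega
      have h1 : (ξ : H → ℂ) 1 = (ψ : H ⧸ Z → ℂ) 1 := by
        rw [hξψ 1, QuotientGroup.mk_one]
      rw [h1, mul_div_assoc]
      congr 2
      refine Finset.sum_congr rfl fun q _ => ?_
      rw [habar, hξψ (Quotient.out q), QuotientGroup.out_eq']
    rw [hrel]
    exact memLocalIdeal_mul_right (memLocalIdeal_natCast_self hM) hωψ
  · -- `z` acts by a nontrivial scalar: the sum vanishes
    have hS2 : S * (ξ : H → ℂ) 1 = (ξ : H → ℂ) z * S := by
      rw [hS, Finset.sum_mul, Finset.mul_sum]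
      rw [← Equiv.sum_comp (Equiv.mulLeft z)
        (fun x => powEqOneInd H p x * (ξ : H → ℂ) x * (ξ : H → ℂ) 1)]
      refine Finset.sum_congr rfl fun x _ => ?_
      simp only [Equiv.coe_mulLeft]
      have hzx : z * x = x * z := Subgroup.mem_center_iff.1 hz x |>.symm
      rw [hzx, powEqOneInd_mul_central hz hzp, ← hzx, mul_assoc,
        Cfsg.Agent.Helper79.irr_central_mul ξ z hz x]
      ring
    have hS0 : S = 0 := by
      have : ((ξ : H → ℂ) 1 - (ξ : H → ℂ) z) * S = 0 := by
        rw [sub_mul, ← hS2]; ring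
      rcases mul_eq_zero.1 this with h | h
      · exact absurd (sub_eq_zero.1 h).symm hker
      · exact h
    rw [hom, hS0, zero_div]
    exact memLocalIdeal_zero hpr.ne_top

end omegaPow

section knorr

variable {G : Type*} [Group G] [Fintype G] {p : ℕ} [Fact p.Prime] {M : Ideal AlgInt}

/-- **Knörr.**  If `χ` vanishes on all elements of order `p`, then its block has defect zero. -/
theorem blockDefect_eq_zero_of_vanish (hM : IsPModular p M) (χ : IrrCharacter G)
    (hvan : ∀ g : G, orderOf g = p → (χ : G → ℂ) g = 0) :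
    blockDefect p (blockOf M (χ : G → ℂ)) = 0 := by
  classical
  have hpr := isPrime_of_isPModular hM
  have hp : p.Prime := Fact.out
  obtain ⟨B, hBdef⟩ : ∃ B, B = blockOf M (χ : G → ℂ) := ⟨_, rfl⟩
  rw [← hBdef]
  have hB : IsPBlock M B := by rw [hBdef]; exact isPBlock_blockOf χ
  have hχB : χ ∈ B := by rw [hBdef]; exact mem_blockOf_self χ
  obtain ⟨D, hD⟩ := exists_isDefectGroup (M := M) p hB
  have hcard := Cfsg.Agent.Helper74.DO.card_defectGroup hM hB D hD
  by_contra hd
  have hdpos : 0 < blockDefect p B := Nat.pos_of_ne_zero hd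
  have hpD : p ∣ Nat.card D := by
    rw [hcard]; exact dvd_pow_self p hd
  haveI : Fintype D := Fintype.ofFinite _
  obtain ⟨zD, hzD⟩ := exists_prime_orderOf_dvd_card' (G := D) p hpD
  obtain ⟨z, hzdef⟩ : ∃ z : G, z = (zD : G) := ⟨_, rfl⟩
  have hzo : orderOf z = p := by rw [hzdef, Subgroup.orderOf_coe]; exact hzD
  have hzDm : z ∈ D := by rw [hzdef]; exact zD.2
  obtain ⟨P, hPdef⟩ : ∃ P : Subgroup G, P = Subgroup.zpowers z := ⟨_, rfl⟩
  have hPcard : Nat.card P = p := by rw [hPdef, Nat.card_zpowers, hzo]
  have hP : IsPGroup p P := IsPGroup.of_card (n := 1) (by rw [hPcard, pow_one])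
  have hPD : P ≤ D := by rw [hPdef, Subgroup.zpowers_le]; exact hzDm
  obtain ⟨H, hHdef⟩ : ∃ H : Subgroup G, H = Subgroup.centralizer (P : Set G) := ⟨_, rfl⟩
  have hzP : z ∈ P := by rw [hPdef]; exact Subgroup.mem_zpowers z
  have hHmem : ∀ g : G, g ∈ H → g ∈ Subgroup.centralizer (P : Set G) := by
    intro g hg
    rw [hHdef] at hg
    exact hg
  have hPH : P ≤ H := by
    rw [hHdef, hPdef]
    intro x hx
    rw [Subgroup.mem_centralizer_iff]
    intro y hy
    obtain ⟨i, rfl⟩ := Subgroup.mem_zpowers_iff.1 hx
    obtain ⟨j, rfl⟩ := Subgroup.mem_zpowers_iff.1 hy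
    exact (Commute.zpow_zpow_self z j i).eq
  have hCH : Subgroup.centralizer (P : Set G) ≤ H := by rw [hHdef]
  have hHN : H ≤ Subgroup.normalizer (P : Set G) := by
    rw [hHdef]; exact Subgroup.centralizer_le_normalizer _
  haveI : Fintype H := Fintype.ofFinite _
  obtain ⟨b, hind⟩ := exists_isInducedBlock_of_le_defect hM P H hP hPH hCH hHN hB hD hPD
  obtain ⟨ξ, hξ⟩ := nonempty_of_isPBlock hind.1
  have h1 := omega_restr_congr_of_isInducedBlock H hind hξ hχB
    (isClassFunction_powEqOneInd (H := G) (p := p)) (isRValued_powEqOneInd (M := M))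
  -- the value at `χ`
  have hχ1 : (χ : G → ℂ) 1 ≠ 0 := irrChar_one_ne_zero χ.2
  have hωχ : omega (χ : G → ℂ) (powEqOneInd G p) = 1 := by
    unfold omega
    rw [Finset.sum_eq_single 1]
    · rw [powEqOneInd_apply, one_pow, if_pos rfl, one_mul, div_self hχ1]
    · intro g _ hg
      rw [powEqOneInd_apply]
      split_ifs with hgp
      · rw [hvan g (orderOf_eq_prime hgp hg), mul_zero]
      · rw [zero_mul]
    · intro h; exact absurd (Finset.mem_univ _) h
  -- the value at `ξ`
  have hzH : z ∈ H := hPH hzP
  have hzc : (⟨z, hzH⟩ : H) ∈ Subgroup.center H := by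
    rw [Subgroup.mem_center_iff]
    intro x
    apply Subtype.ext
    have hx : (x : G) ∈ Subgroup.centralizer (P : Set G) := hHmem _ x.2
    have := Subgroup.mem_centralizer_iff.1 hx z hzP
    simpa using this.symm
  have hzHo : orderOf (⟨z, hzH⟩ : H) = p := by
    rw [← Subgroup.orderOf_coe]; exact hzo
  have hrestr : restr H (powEqOneInd G p) = powEqOneInd H p := by
    funext x
    unfold restr
    rw [powEqOneInd_apply, powEqOneInd_apply]
    have : ((x : G)) ^ p = 1 ↔ x ^ p = 1 := by
      rw [← Subgroup.coe_pow, OneMemClass.coe_eq_one]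
    by_cases h : x ^ p = 1
    · rw [if_pos h, if_pos (this.2 h)]
    · rw [if_neg h, if_neg (fun h' => h (this.1 h'))]
  have h2 := memLocalIdeal_omega_powEqOne hM hzc hzHo ξ
  rw [hrestr, hωχ] at h1
  have h3 := memLocalIdeal_sub h2 h1
  rw [sub_sub_cancel] at h3
  exact not_memLocalIdeal_one h3

/-- **Knörr.**  An irreducible character vanishing on all elements of order `p` has `p`-defect
zero. -/
theorem factorization_charDegree_of_vanish (χ : IrrCharacter G)
    (hvan : ∀ g : G, orderOf g = p → (χ : G → ℂ) g = 0) :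
    (charDegree (χ : G → ℂ)).factorization p = (Nat.card G).factorization p := by
  have hp : p.Prime := Fact.out
  obtain ⟨M, hM⟩ := Cfsg.Agent.Helper74.DZ.exists_isPModular p hp
  have hpr := isPrime_of_isPModular hM
  have h0 := blockDefect_eq_zero_of_vanish hM χ hvan
  unfold blockDefect at h0
  have hmem : (charDegree (χ : G → ℂ)).factorization p ∈
      (fun ψ : IrrCharacter G => (charDegree (ψ : G → ℂ)).factorization p) ''
        blockOf M (χ : G → ℂ) := ⟨χ, mem_blockOf_self χ, rfl⟩
  have h1 := Nat.sInf_le hmem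
  have h2 : (charDegree (χ : G → ℂ)).factorization p ≤ (Nat.card G).factorization p := by
    have hdvd := Cfsg.Agent.Helper79.irr_degree_dvd_card χ
    exact (Nat.factorization_le_iff_dvd
      (by
        intro h
        rw [h, zero_dvd_iff] at hdvd
        exact Nat.card_pos.ne' hdvd) Nat.card_pos.ne').2 hdvd p
  omega

end knorr

end Cfsg.Agent.Helper78
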