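import Mathlib
import Cfsg.Agent.Lib.Helper78.FrobRotation
import Cfsg.Agent.Lib.Helper16.PRegPart
import Cfsg.Agent.Lib.Helper16.BlockBasic
import Cfsg.Agent.Lib.Helper77.BrauerMap

/-!
# Külshammer's formula for the principal block idempotent (helper78)

For `p`-regular `g`, the coefficient of the principal block idempotent at `g` is congruent to
`N / R`, `N` the number of factorizations `g = x y` with `x` a `p`-element and `y` a
`p'`-element and `R` the number of `p'`-elements (`kulshammer`).
-/

set_option autoImplicit false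
set_option linter.unusedSectionVars false
set_option linter.style.haveILetI false

namespace Cfsg.Agent.Helper78

open Cfsg Cfsg.Agent.Helper77
open scoped ComplexConjugate

section kul

variable {G : Type*} [Group G] [Fintype G] {p : ℕ} [Fact p.Prime] {M : Ideal AlgInt}

open scoped Classical in
/-- Indicator of the `p`-regular elements. -/
noncomputable def regInd (p : ℕ) : G → ℂ := fun y => if p ∣ orderOf y then 0 else 1

theorem isClassFunction_regInd : IsClassFunction G (regInd p : G → ℂ) := by
  intro g h
  unfold regInd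
  have : orderOf (h * g * h⁻¹) = orderOf g := by
    have := orderOf_injective (MulAut.conj h).toMonoidHom (MulAut.conj h).injective g
    simpa using this
  rw [this]

theorem isRValued_regInd [hpr : M.IsPrime] : IsRValued M (regInd p : G → ℂ) := by
  intro y
  unfold regInd
  split_ifs
  · exact memLocalRing_zero hpr.ne_top
  · exact memLocalRing_one hpr.ne_top

/-- Central character values of the indicator of `p`-regular elements outside the principal
block vanish. -/
theorem omega_regInd_of_not_mem (hM : IsPModular p M) (χ : IrrCharacter G)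
    (hχ : χ ∉ principalBlock M G) : omega (χ : G → ℂ) (regInd p) = 0 := by
  classical
  have hpr := isPrime_of_isPModular hM
  have hns : ¬ SameBlock M (χ : G → ℂ) ((trivIrr G : IrrCharacter G) : G → ℂ) := by
    intro h
    exact hχ (sameBlock_symm h)
  have h1 := Cfsg.Agent.Helper16.sum_regular_eq_zero_of_not_sameBlock hM χ (trivIrr G) hns
  unfold omega
  rw [div_eq_zero_iff]
  left
  rw [← h1, Finset.sum_filter]
  refine Finset.sum_congr rfl fun x _ => ?_
  unfold regInd
  by_cases hx : p ∣ orderOf x
  · simp [hx]
  · simp [hx, trivIrr_apply]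

/-- Central character values of the indicator of `p`-regular elements on the principal block
are congruent to the number of `p`-regular elements. -/
theorem omega_regInd_of_mem (hM : IsPModular p M) (χ : IrrCharacter G)
    (hχ : χ ∈ principalBlock M G) :
    MemLocalIdeal M (omega (χ : G → ℂ) (regInd p) - ∑ y : G, regInd p y) := by
  have hpr := isPrime_of_isPModular hM
  have h1 := Cfsg.Agent.Helper16.omega_sub_memLocalIdeal hM
    (isClassFunction_of_isIrrCharacter (trivIrr G).2) (isClassFunction_of_isIrrCharacter χ.2) hχ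
    (isClassFunction_regInd (p := p)) (isRValued_regInd (p := p) (M := M))
  have h2 : omega ((trivIrr G : IrrCharacter G) : G → ℂ) (regInd p) = ∑ y : G, regInd p y := by
    unfold omega
    simp [trivIrr_apply]
  rw [h2] at h1
  have := memLocalIdeal_neg h1
  rwa [neg_sub] at this

open scoped Classical in
/-- The number of `p`-regular elements is prime to `p`. -/
theorem not_dvd_card_regular (hM : IsPModular p M) :
    ¬ p ∣ (Finset.univ.filter (fun y : G => ¬ p ∣ orderOf y)).card := by
  have hpr := isPrime_of_isPModular hM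
  intro hdvd
  have hR : (∑ y : G, regInd p y) = ((Finset.univ.filter (fun y : G => ¬ p ∣ orderOf y)).card : ℂ) := by
    unfold regInd
    rw [Finset.card_filter]
    push_cast
    refine Finset.sum_congr rfl fun y _ => ?_
    by_cases hy : p ∣ orderOf y <;> simp [hy]
  have hRI : MemLocalIdeal M (∑ y : G, regInd p y) := by
    rw [hR, memLocalIdeal_natCast_iff hM]
    exact hdvd
  have hrad : ∀ χ : IrrCharacter G, MemLocalIdeal M (omega (χ : G → ℂ) (regInd p)) := by
    intro χ
    by_cases hχ : χ ∈ principalBlock M G
    · have := memLocalIdeal_add (omega_regInd_of_mem hM χ hχ) hRI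
      rwa [sub_add_cancel] at this
    · rw [omega_regInd_of_not_mem hM χ hχ]
      exact memLocalIdeal_zero hpr.ne_top
  have key := memLocalIdeal_sum_pElements hM (isClassFunction_regInd (p := p))
    (isRValued_regInd (p := p) (M := M)) hrad (1 : G)
  have hone : (∑ u : G, if (∃ j : ℕ, orderOf u = p ^ j) then regInd p (u * 1) else 0) = 1 := by
    rw [Finset.sum_eq_single (1 : G)]
    · rw [if_pos ⟨0, by simp⟩]
      unfold regInd
      rw [mul_one, orderOf_one, if_neg]
      exact (Fact.out : p.Prime).one_lt.ne' ∘ Nat.dvd_one.1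
    · intro u _ hu
      by_cases hj : ∃ j : ℕ, orderOf u = p ^ j
      · rw [if_pos hj]
        obtain ⟨j, hj⟩ := hj
        unfold regInd
        rw [mul_one, if_pos]
        rw [hj]
        apply dvd_pow_self
        rintro rfl
        rw [pow_zero, orderOf_eq_one_iff] at hj
        exact hu hj
      · rw [if_neg hj]
    · intro h; exact absurd (Finset.mem_univ _) h
  rw [hone] at key
  exact not_memLocalIdeal_one key

open scoped Classical in
/-- **Külshammer's formula**, sum form. -/
theorem kulshammer_sum (hM : IsPModular p M) (g : G) (hg : ¬ p ∣ orderOf g) :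
    MemLocalIdeal M ((∑ x : G, if (∃ j : ℕ, orderOf x = p ^ j) then regInd p (x⁻¹ * g) else 0) -
      (∑ y : G, regInd p y) * blockCoeff (principalBlock M G) g) := by
  have hpr := isPrime_of_isPModular hM
  have hB := isPBlock_principalBlock (G := G) M
  obtain ⟨e, he⟩ : ∃ e, e = blockCoeff (principalBlock M G) := ⟨_, rfl⟩
  have hecl : IsClassFunction G e := he ▸ isClassFunction_blockCoeff _
  have heR : IsRValued M e := he ▸ isRValued_blockCoeff hB
  have hidem : conv e e = e := he ▸ conv_blockCoeff_self _
  obtain ⟨R, hR⟩ : ∃ R, R = ∑ y : G, regInd p y := ⟨_, rfl⟩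
  have hRR : MemLocalRing M R := by
    rw [hR]
    exact memLocalRing_sum _ _ (fun y _ => isRValued_regInd (p := p) (M := M) y)
  -- the nilpotent part
  obtain ⟨n, hn⟩ : ∃ n : G → ℂ, n = regInd p - R • e := ⟨_, rfl⟩
  have hncl : IsClassFunction G n := by
    rw [hn]
    exact isClassFunction_sub isClassFunction_regInd (isClassFunction_smul _ hecl)
  have hnR : IsRValued M n := by
    rw [hn]
    exact isRValued_sub isRValued_regInd (isRValued_smul hRR heR)
  have hrad : ∀ χ : IrrCharacter G, MemLocalIdeal M (omega (χ : G → ℂ) n) := by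
    intro χ
    rw [hn, omega_sub, omega_smul, he, omega_blockCoeff]
    by_cases hχ : χ ∈ principalBlock M G
    · rw [if_pos hχ, mul_one, hR]
      exact omega_regInd_of_mem hM χ hχ
    · rw [if_neg hχ, mul_zero, sub_zero, omega_regInd_of_not_mem hM χ hχ]
      exact memLocalIdeal_zero hpr.ne_top
  have key := memLocalIdeal_sum_pElements hM hncl hnR hrad g
  -- decompose
  have hdec : ∀ x : G, regInd p (x⁻¹ * g) = n (x⁻¹ * g) + R * e (x⁻¹ * g) := by
    intro x
    rw [hn]
    simp only [Pi.sub_apply, Pi.smul_apply, smul_eq_mul, sub_add_cancel]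
  have h1 : (∑ x : G, if (∃ j : ℕ, orderOf x = p ^ j) then regInd p (x⁻¹ * g) else 0) =
      (∑ x : G, if (∃ j : ℕ, orderOf x = p ^ j) then n (x⁻¹ * g) else 0) +
      R * ∑ x : G, if (∃ j : ℕ, orderOf x = p ^ j) then e (x⁻¹ * g) else 0 := by
    rw [Finset.mul_sum, ← Finset.sum_add_distrib]
    refine Finset.sum_congr rfl fun x _ => ?_
    by_cases hx : ∃ j : ℕ, orderOf x = p ^ j
    · rw [if_pos hx, if_pos hx, if_pos hx, hdec]
    · rw [if_neg hx, if_neg hx, if_neg hx, mul_zero, add_zero]
  -- first part: reindex by inversion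
  have h2 : (∑ x : G, if (∃ j : ℕ, orderOf x = p ^ j) then n (x⁻¹ * g) else 0) =
      ∑ u : G, if (∃ j : ℕ, orderOf u = p ^ j) then n (u * g) else 0 := by
    rw [← Equiv.sum_comp (Equiv.inv G)]
    refine Finset.sum_congr rfl fun x _ => ?_
    simp only [Equiv.inv_apply, orderOf_inv, inv_inv]
  -- second part: weak block orthogonality
  have h3 : (∑ x : G, if (∃ j : ℕ, orderOf x = p ^ j) then e (x⁻¹ * g) else 0) = e g := by
    have hsplit : ∀ x : G, (if (∃ j : ℕ, orderOf x = p ^ j) then e (x⁻¹ * g) else 0) =
        (if x = 1 then e g else 0) +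
          (if ((∃ j : ℕ, orderOf x = p ^ j) ∧ x ≠ 1) then e (x⁻¹ * g) else 0) := by
      intro x
      by_cases hx1 : x = 1
      · subst hx1
        rw [if_pos ⟨0, by simp⟩, if_pos rfl, if_neg (by simp)]
        simp
      · rw [if_neg hx1, zero_add]
        by_cases hx : ∃ j : ℕ, orderOf x = p ^ j
        · rw [if_pos hx, if_pos ⟨hx, hx1⟩]
        · rw [if_neg hx, if_neg (fun h => hx h.1)]
    rw [Finset.sum_congr rfl (fun x _ => hsplit x), Finset.sum_add_distrib,
      Finset.sum_ite_eq' Finset.univ (1 : G) (fun _ => e g), if_pos (Finset.mem_univ _)]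
    -- the remaining sum vanishes
    obtain ⟨f, hf⟩ : ∃ f : G → ℂ, f = fun x =>
        if ((∃ j : ℕ, orderOf x = p ^ j) ∧ x ≠ 1) then e (x⁻¹ * g) else 0 := ⟨_, rfl⟩
    have hzero : ∑ x : G, f x = 0 := by
      have hcard : (Fintype.card G : ℂ) ≠ 0 := by exact_mod_cast Fintype.card_ne_zero
      have havg : (Fintype.card G : ℂ) * ∑ x : G, f x = ∑ x : G, ∑ z : G, f (z * x * z⁻¹) := by
        rw [Finset.sum_comm]
        have : ∀ z : G, ∑ x : G, f (z * x * z⁻¹) = ∑ x : G, f x := fun z =>
          Equiv.sum_comp (MulAut.conj z).toEquiv f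
        rw [Finset.sum_congr rfl (fun z _ => this z), Finset.sum_const, Finset.card_univ,
          nsmul_eq_mul]
      have hinner : ∀ x : G, ∑ z : G, f (z * x * z⁻¹) = 0 := by
        intro x
        have hord : ∀ z : G, orderOf (z * x * z⁻¹) = orderOf x := by
          intro z
          have := orderOf_injective (MulAut.conj z).toMonoidHom (MulAut.conj z).injective x
          simpa using this
        by_cases hx : (∃ j : ℕ, orderOf x = p ^ j) ∧ x ≠ 1
        · have hy : p ∣ orderOf x⁻¹ := by
            obtain ⟨⟨j, hj⟩, hx1⟩ := hx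
            rw [orderOf_inv, hj]
            apply dvd_pow_self
            rintro rfl
            rw [pow_zero, orderOf_eq_one_iff] at hj
            exact hx1 hj
          have hgi : ¬ p ∣ orderOf g⁻¹ := by rwa [orderOf_inv]
          have hw := Cfsg.Agent.Helper16.sum_conj_translate_eq_zero hM e hecl heR hidem g⁻¹ x⁻¹
            hgi hy
          rw [← hw]
          refine Finset.sum_congr rfl fun z _ => ?_
          rw [hf]
          have hc : (∃ j : ℕ, orderOf (z * x * z⁻¹) = p ^ j) ∧ z * x * z⁻¹ ≠ 1 := by
            refine ⟨by rw [hord]; exact hx.1, ?_⟩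
            intro h1
            apply hx.2
            have : x = z⁻¹ * (z * x * z⁻¹) * z := by group
            rw [this, h1]; group
          simp only
          rw [if_pos hc, inv_inv, Cfsg.Agent.Helper16.classFunction_comm hecl]
          congr 1
          group
        · apply Finset.sum_eq_zero
          intro z _
          rw [hf]
          simp only
          rw [if_neg]
          rintro ⟨h1, h2⟩
          apply hx
          refine ⟨by rwa [hord] at h1, ?_⟩
          rintro rfl
          apply h2
          group
      rw [Finset.sum_congr rfl (fun x _ => hinner x), Finset.sum_const_zero] at havg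
      exact (mul_eq_zero.1 havg).resolve_left hcard
    rw [hf] at hzero
    rw [hzero, add_zero]
  rw [h1, h2, h3, ← he, ← hR, add_sub_cancel_right]
  exact key

open scoped Classical in
/-- **Külshammer's formula** for the principal block idempotent. -/
theorem kulshammer (hM : IsPModular p M) (g : G) (hg : ¬ p ∣ orderOf g) :
    MemLocalIdeal M (blockCoeff (principalBlock M G) g -
      (Nat.card {xy : G × G // (∃ k : ℕ, orderOf xy.1 = p ^ k) ∧ ¬ p ∣ orderOf xy.2 ∧
        xy.1 * xy.2 = g} : ℂ) / (Nat.card {y : G // ¬ p ∣ orderOf y} : ℂ)) := by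
  have hpr := isPrime_of_isPModular hM
  have hsum := kulshammer_sum hM g hg
  have hRcard : (Nat.card {y : G // ¬ p ∣ orderOf y} : ℂ) = ∑ y : G, regInd p y := by
    rw [Nat.card_eq_fintype_card, Fintype.card_subtype, Finset.card_filter]
    push_cast
    refine Finset.sum_congr rfl fun y _ => ?_
    unfold regInd
    by_cases hy : p ∣ orderOf y <;> simp [hy]
  have hRnat : (∑ y : G, regInd p y) =
      ((Finset.univ.filter (fun y : G => ¬ p ∣ orderOf y)).card : ℂ) := by
    rw [← hRcard, Nat.card_eq_fintype_card, Fintype.card_subtype]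
  have hNcard : (Nat.card {xy : G × G // (∃ k : ℕ, orderOf xy.1 = p ^ k) ∧
      ¬ p ∣ orderOf xy.2 ∧ xy.1 * xy.2 = g} : ℂ) =
      ∑ x : G, if (∃ j : ℕ, orderOf x = p ^ j) then regInd p (x⁻¹ * g) else 0 := by
    rw [Nat.card_eq_fintype_card, Fintype.card_subtype, Finset.card_filter]
    push_cast
    rw [Fintype.sum_prod_type]
    refine Finset.sum_congr rfl fun x _ => ?_
    by_cases hx : ∃ j : ℕ, orderOf x = p ^ j
    · rw [if_pos hx, Finset.sum_eq_single (x⁻¹ * g)]
      · unfold regInd
        by_cases hy : p ∣ orderOf (x⁻¹ * g)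
        · rw [if_pos hy, if_neg]
          rintro ⟨-, h, -⟩
          exact h hy
        · rw [if_neg hy, if_pos]
          exact ⟨hx, hy, by group⟩
      · intro y _ hy
        rw [if_neg]
        rintro ⟨-, -, h⟩
        apply hy
        rw [← h]; group
      · intro h; exact absurd (Finset.mem_univ _) h
    · rw [if_neg hx]
      apply Finset.sum_eq_zero
      intro y _
      rw [if_neg]
      rintro ⟨h, -⟩
      exact hx h
  rw [hRcard, hNcard]
  obtain ⟨R, hR⟩ : ∃ R, R = ∑ y : G, regInd p y := ⟨_, rfl⟩
  obtain ⟨N, hN⟩ : ∃ N, N = ∑ x : G,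
      if (∃ j : ℕ, orderOf x = p ^ j) then regInd p (x⁻¹ * g) else 0 := ⟨_, rfl⟩
  rw [← hR, ← hN] at hsum ⊢
  have hRR : MemLocalRing M R := by
    rw [hR]
    exact memLocalRing_sum _ _ (fun y _ => isRValued_regInd (p := p) (M := M) y)
  have hRne : ¬ MemLocalIdeal M R := by
    rw [hR, hRnat, memLocalIdeal_natCast_iff hM]
    exact not_dvd_card_regular hM
  have hR0 : R ≠ 0 := by
    rintro rfl
    exact hRne (memLocalIdeal_zero hpr.ne_top)
  have hRinv := memLocalRing_inv hRR hRne
  have e1 : blockCoeff (principalBlock M G) g - N / R =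
      -(N - R * blockCoeff (principalBlock M G) g) * R⁻¹ := by
    field_simp
    ring
  rw [e1]
  exact memLocalIdeal_mul_right (memLocalIdeal_neg hsum) hRinv

end kul

end Cfsg.Agent.Helper78
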