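import Mathlib
import Cfsg.Prelude.Def_Blocks
import Cfsg.Agent.Lib.Helper78.DefectClass

/-!
# Valuations of natural numbers from local-ring congruences (helper78)

* `factorization_eq_of_unit` : `n = m * u` with `u ≡ 1` mod the local ideal gives `ν_p n = ν_p m`.
* `factorization_lt_of_memLocalIdeal` : `n = m * u` with `u` in the local ideal gives `n = 0` or
  `ν_p m < ν_p n`.
* `blockPart_apply` : unfolding `blockPart` with the ambient `Fintype` instance.
-/

set_option autoImplicit false
set_option linter.unusedSectionVars false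

namespace Cfsg.Agent.Helper78

open Cfsg
open Cfsg.Agent.Helper77
open Cfsg.Agent.Helper74.DO

universe u

section numeric

variable {p : ℕ} {M : Ideal AlgInt}

theorem factorization_eq_of_unit (hM : IsPModular p M) (n m : ℕ) (hm : m ≠ 0) (u : ℂ)
    (hu : MemLocalIdeal M (u - 1)) (h : (n : ℂ) = (m : ℂ) * u) :
    n ≠ 0 ∧ n.factorization p = m.factorization p := by
  have hpr := isPrime_of_isPModular hM
  have hne := ne_top_of_isPModular hM
  have hm0 : (m : ℂ) ≠ 0 := by exact_mod_cast hm
  have huR : MemLocalRing M u := by
    have := memLocalRing_add (memLocalRing_of_memLocalIdeal hu) (memLocalRing_one (M := M) hne)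
    simpa using this
  have hunot : ¬ MemLocalIdeal M u := by
    intro hcon
    have := memLocalIdeal_sub hcon hu
    rw [sub_sub_cancel] at this
    exact not_memLocalIdeal_one this
  have hn : n ≠ 0 := by
    rintro rfl
    apply hunot
    have : u = 0 := by
      have h' : (m : ℂ) * u = 0 := by rw [← h]; simp
      exact (mul_eq_zero.mp h').resolve_left hm0
    rw [this]
    exact memLocalIdeal_zero hne
  have hn0 : (n : ℂ) ≠ 0 := by exact_mod_cast hn
  have hu0 : u ≠ 0 := by
    rintro rfl
    rw [mul_zero] at h
    exact hn0 h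
  refine ⟨hn, ?_⟩
  rcases lt_trichotomy (n.factorization p) (m.factorization p) with hlt | heq | hgt
  · exfalso
    have h1 := memLocalIdeal_natCast_div hM m n hm hn hlt
    have h2 := memLocalIdeal_mul_right h1 huR
    have e : (m : ℂ) / (n : ℂ) * u = 1 := by
      rw [h]
      field_simp
    rw [e] at h2
    exact not_memLocalIdeal_one h2
  · exact heq
  · exfalso
    have h1 := memLocalIdeal_natCast_div hM n m hn hm hgt
    have e : (n : ℂ) / (m : ℂ) = u := by
      rw [h]
      field_simp
    rw [e] at h1
    exact hunot h1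

theorem factorization_lt_of_memLocalIdeal (hM : IsPModular p M) (n m : ℕ) (hm : m ≠ 0) (u : ℂ)
    (hu : MemLocalIdeal M u) (h : (n : ℂ) = (m : ℂ) * u) :
    n = 0 ∨ m.factorization p < n.factorization p := by
  have hpr := isPrime_of_isPModular hM
  have hm0 : (m : ℂ) ≠ 0 := by exact_mod_cast hm
  by_cases hn : n = 0
  · exact Or.inl hn
  · right
    by_contra hle
    push Not at hle
    have hn0 : (n : ℂ) ≠ 0 := by exact_mod_cast hn
    have hu0 : u ≠ 0 := by
      rintro rfl
      rw [mul_zero] at h
      exact hn0 h
    have h1 := memLocalRing_natCast_div hM m n hn hle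
    have h2 := memLocalIdeal_mul_left h1 hu
    have e : (m : ℂ) / (n : ℂ) * u = 1 := by
      rw [h]
      field_simp
    rw [e] at h2
    exact not_memLocalIdeal_one h2

end numeric

section bp

variable {G : Type u} [Group G] [Fintype G]

theorem blockPart_apply (B : Set (IrrCharacter G)) (ϑ : G → ℂ) (g : G) :
    blockPart B ϑ g =
      ∑ χ ∈ (Set.toFinite B).toFinset, classInner ϑ (χ : G → ℂ) * (χ : G → ℂ) g := by
  unfold blockPart
  rw [finsum_mem_eq_finite_toFinset_sum _ (Set.toFinite B)]
  refine Finset.sum_congr rfl fun χ _ => ?_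
  congr 2
  exact Subsingleton.elim _ _

end bp

end Cfsg.Agent.Helper78
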