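import Mathlib
import Cfsg.Agent.Lib.Helper17.Simple

/-!
# O175560 server (helper24, S4274), piece (N11704): no simple group of order `11704 = 2^3 * 7 * 11 * 19`.
`n_19 = 77` (so `|N(Q)| = 152`), `n_7 = 22` (`8` is excluded by `19 ∤ 8!`), so `N = N(P₇)` has order
`532 = 4 * 7 * 19`; `N` has a normal Sylow `19`-subgroup (`n_19(N) ∣ 28`), which is a Sylow
`19`-subgroup of `G`, so `N ≤ N(Q)` and `532 ∣ 152`: absurd.
-/

set_option autoImplicit false

namespace Cfsg.Agent.Helper78.O175560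

universe u

theorem n11704_count19 : ∀ n ∈ Nat.divisors 616, n % 19 = 1 → n ≠ 1 → n = 77 := by
  decide +kernel

theorem n11704_count7 : ∀ n ∈ Nat.divisors 1672, n % 7 = 1 → n ≠ 1 → n = 8 ∨ n = 22 := by
  decide +kernel

theorem n11704_count19N : ∀ n ∈ Nat.divisors 28, n % 19 = 1 → n = 1 := by
  decide +kernel

theorem n11704_fact : ¬ (2 * 11704 ∣ Nat.factorial 8) := by
  decide +kernel

/-- a subgroup `N` of order `532 = 4 * 7 * 19` of a group of order `11704` normalises a Sylow
`19`-subgroup of `G`. -/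
theorem n11704_key {G : Type u} [Group G] [Finite G] (hG : Nat.card G = 11704) (N : Subgroup G)
    (hNcard : Nat.card N = 532) :
    ∃ Q : Sylow 19 G, N ≤ Subgroup.normalizer ((Q : Subgroup G) : Set G) := by
  have h19 : Fact (Nat.Prime 19) := ⟨by norm_num⟩
  have hG19 : Nat.card G = 19 ^ 1 * 616 := by rw [hG]; norm_num
  have hm19 : ¬ 19 ∣ 616 := by norm_num
  have hN19 : Nat.card N = 19 ^ 1 * 28 := by rw [hNcard]; norm_num
  have hmN : ¬ 19 ∣ 28 := by norm_num
  obtain ⟨hdN, hmodN⟩ := Cfsg.Agent.Helper17.sylow_count (G := N) (p := 19) hN19 hmN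
  have hnN : Nat.card (Sylow 19 N) = 1 :=
    n11704_count19N _ (Nat.mem_divisors.2 ⟨hdN, by norm_num⟩) hmodN
  obtain ⟨Q₀⟩ : Nonempty (Sylow 19 N) := inferInstance
  have hQ₀c : Nat.card (Q₀ : Subgroup N) = 19 := by
    have := Cfsg.Agent.Helper17.sylow_card_eq Q₀ hN19 hmN
    rw [pow_one] at this
    exact this
  have hQ₀n : Subgroup.normalizer ((Q₀ : Subgroup N) : Set N) = ⊤ := by
    have := Q₀.card_eq_index_normalizer
    rw [hnN] at this
    exact Subgroup.index_eq_one.mp this.symm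
  have hQ'c : Nat.card ((Q₀ : Subgroup N).map N.subtype) = 19 := by
    rw [Subgroup.card_map_of_injective N.subtype_injective, hQ₀c]
  have hQ'p : IsPGroup 19 ((Q₀ : Subgroup N).map N.subtype) :=
    IsPGroup.of_card (n := 1) (by rw [hQ'c, pow_one])
  obtain ⟨Q, hQ⟩ := hQ'p.exists_le_sylow
  have hQc : Nat.card (Q : Subgroup G) = 19 := by
    have := Cfsg.Agent.Helper17.sylow_card_eq Q hG19 hm19
    rw [pow_one] at this
    exact this
  have hQeq : (Q₀ : Subgroup N).map N.subtype = (Q : Subgroup G) :=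
    Subgroup.eq_of_le_of_card_ge hQ (by rw [hQc, hQ'c])
  refine ⟨Q, ?_⟩
  have h1 := Subgroup.le_normalizer_map (H := (Q₀ : Subgroup N)) N.subtype
  rw [hQ₀n, ← MonoidHom.range_eq_map, Subgroup.range_subtype, hQeq] at h1
  exact h1

theorem no_11704 {G : Type u} [Group G] [Finite G] [IsSimpleGroup G] : Nat.card G ≠ 11704 := by
  intro hG
  have h19 : Fact (Nat.Prime 19) := ⟨by norm_num⟩
  have h7 : Fact (Nat.Prime 7) := ⟨by norm_num⟩
  have hnc : ¬ IsMulCommutative G :=
    Cfsg.Agent.Helper17.not_comm_of_not_prime (by rw [hG]; norm_num)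
  -- `n_19 = 77`
  have hG19 : Nat.card G = 19 ^ 1 * 616 := by rw [hG]; norm_num
  have hm19 : ¬ 19 ∣ 616 := by norm_num
  obtain ⟨hd19, hmod19⟩ := Cfsg.Agent.Helper17.sylow_count (G := G) (p := 19) hG19 hm19
  have hne19 := Cfsg.Agent.Helper17.sylow_count_ne_one (G := G) (p := 19) hG19 hm19 one_ne_zero
    (by norm_num)
  have hn19 : Nat.card (Sylow 19 G) = 77 :=
    n11704_count19 _ (Nat.mem_divisors.2 ⟨hd19, by norm_num⟩) hmod19 hne19
  -- `n_7 = 22`
  have hG7 : Nat.card G = 7 ^ 1 * 1672 := by rw [hG]; norm_num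
  have hm7 : ¬ 7 ∣ 1672 := by norm_num
  obtain ⟨hd7, hmod7⟩ := Cfsg.Agent.Helper17.sylow_count (G := G) (p := 7) hG7 hm7
  have hne7 := Cfsg.Agent.Helper17.sylow_count_ne_one (G := G) (p := 7) hG7 hm7 one_ne_zero
    (by norm_num)
  have hn7 : Nat.card (Sylow 7 G) = 22 := by
    rcases n11704_count7 _ (Nat.mem_divisors.2 ⟨hd7, by norm_num⟩) hmod7 hne7 with h | h
    · exfalso
      have := Cfsg.Agent.Helper17.sylow_count_factorial hnc (p := 7) hne7
      rw [h, hG] at this
      exact n11704_fact this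
    · exact h
  obtain ⟨P⟩ : Nonempty (Sylow 7 G) := inferInstance
  have hNcard : Nat.card (Subgroup.normalizer ((P : Subgroup G) : Set G)) = 532 := by
    have hidx : (Subgroup.normalizer ((P : Subgroup G) : Set G)).index = Nat.card (Sylow 7 G) :=
      P.card_eq_index_normalizer.symm
    have hmul := (Subgroup.normalizer ((P : Subgroup G) : Set G)).card_mul_index
    rw [hidx, hn7, hG] at hmul
    omega
  obtain ⟨Q, hle⟩ := n11704_key hG _ hNcard
  have hNQ : Nat.card (Subgroup.normalizer ((Q : Subgroup G) : Set G)) = 152 := by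
    have hidx : (Subgroup.normalizer ((Q : Subgroup G) : Set G)).index = Nat.card (Sylow 19 G) :=
      Q.card_eq_index_normalizer.symm
    have hmul := (Subgroup.normalizer ((Q : Subgroup G) : Set G)).card_mul_index
    rw [hidx, hn19, hG] at hmul
    omega
  have hdvd := Subgroup.card_dvd_of_le hle
  rw [hNcard, hNQ] at hdvd
  revert hdvd
  decide

end Cfsg.Agent.Helper78.O175560
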