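import Mathlib
import Cfsg.Agent.S0071

/-!
O2520 server (helper55, S0984), piece (C5a) of helper23's split of (C5): a finite group whose Sylow 2-subgroup is
dihedral of order 8 with central `a ^ 2` has a normal 2-complement (Frobenius criterion, S0071).
-/

set_option autoImplicit false

namespace Cfsg.Agent.Helper78.O2520

universe u

/-- an element of odd order commutes with whatever its square commutes with -/
theorem h78_commute_of_sq {J : Type u} [Group J] (g x : J) (hodd : Nat.Coprime (orderOf g) 2)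
    (h : Commute (g ^ 2) x) : Commute g x := by
  have h2 : ¬ 2 ∣ orderOf g := by
    intro hd
    have := Nat.Coprime.eq_one_of_dvd hodd.symm hd
    omega
  obtain ⟨k, hk⟩ : ∃ k, orderOf g = 2 * k + 1 := ⟨orderOf g / 2, by omega⟩
  have hg : g = (g ^ 2) ^ (k + 1) := by
    rw [← pow_mul, show 2 * (k + 1) = orderOf g + 1 by omega, pow_succ, pow_orderOf_eq_one, one_mul]
  rw [hg]
  exact h.pow_left (k + 1)

theorem frobD8 {J : Type u} [Group J] [Finite J] (a w : J) (ha : orderOf a = 4) (hw : orderOf w = 2)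
    (hwa : w * a * w⁻¹ = a⁻¹) (hz : ∀ x : J, x * a ^ 2 = a ^ 2 * x) (P : Sylow 2 J)
    (hP : Nat.card (P : Subgroup J) = 8) (haP : a ∈ (P : Subgroup J)) (hwP : w ∈ (P : Subgroup J)) :
    ∃ N : Subgroup J, N.Normal ∧ N.IsComplement' (P : Subgroup J) := by
  classical
  set Z : Subgroup J := Subgroup.zpowers a with hZdef
  have ha4 : a ^ 4 = 1 := by rw [← ha]; exact pow_orderOf_eq_one a
  have hw2 : w * w = 1 := by
    have : w ^ 2 = 1 := by rw [← hw]; exact pow_orderOf_eq_one w
    rwa [pow_two] at this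
  have hwinv : w⁻¹ = w := inv_eq_of_mul_eq_one_left hw2
  have ha2 : a ^ 2 ≠ 1 := by
    intro h
    have := orderOf_dvd_of_pow_eq_one h
    rw [ha] at this
    omega
  have ha1 : a ≠ 1 := by
    intro h
    rw [h, orderOf_one] at ha
    omega
  have hZP : Z ≤ (P : Subgroup J) := by
    rw [hZdef, Subgroup.zpowers_le]
    exact haP
  have hZcard : Nat.card Z = 4 := by rw [hZdef, Nat.card_zpowers, ha]
  -- elements of `Z`
  have hZel : ∀ v ∈ Z, v = 1 ∨ v = a ∨ v = a ^ 2 ∨ v = a ^ 3 := by
    intro v hv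
    rw [hZdef, mem_zpowers_iff_mem_range_orderOf, ha] at hv
    obtain ⟨i, hi, rfl⟩ := Finset.mem_image.mp hv
    have hi4 : i < 4 := Finset.mem_range.mp hi
    interval_cases i
    · left; simp
    · right; left; simp
    · right; right; left; rfl
    · right; right; right; rfl
  have hwZ : w ∉ Z := by
    intro hwZ'
    -- `w` commutes with `a`, so `a = a⁻¹`
    have hc : w * a = a * w := by
      obtain ⟨k, hk⟩ := Subgroup.mem_zpowers_iff.mp hwZ'
      rw [← hk]
      exact ((Commute.refl a).zpow_left k).eq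
    have : a = a⁻¹ := by
      rw [← hwa, hc, mul_assoc, mul_inv_cancel, mul_one]
    have h2 : a ^ 2 = 1 := by
      rw [pow_two]
      nth_rewrite 2 [this]
      exact mul_inv_cancel a
    exact ha2 h2
  -- index two
  have hidx : (Z.subgroupOf (P : Subgroup J)).index = 2 := by
    have h1 : Nat.card (Z.subgroupOf (P : Subgroup J)) = 4 := by
      rw [Nat.card_congr (Subgroup.subgroupOfEquivOfLe hZP).toEquiv, hZcard]
    have h2 := Subgroup.card_mul_index (Z.subgroupOf (P : Subgroup J))
    rw [h1, hP] at h2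
    omega
  have hmul : ∀ x y : J, x ∈ (P : Subgroup J) → y ∈ (P : Subgroup J) → (x * y ∈ Z ↔ (x ∈ Z ↔ y ∈ Z)) := by
    intro x y hx hy
    have := Subgroup.mul_mem_iff_of_index_two hidx (a := (⟨x, hx⟩ : (P : Subgroup J)))
      (b := (⟨y, hy⟩ : (P : Subgroup J)))
    simpa [Subgroup.mem_subgroupOf] using this
  -- `w` inverts `Z`
  have hwinvZ : ∀ v ∈ Z, w * v * w⁻¹ = v⁻¹ := by
    intro v hv
    obtain ⟨k, hk⟩ := Subgroup.mem_zpowers_iff.mp hv
    rw [← hk]
    have : w * a ^ k * w⁻¹ = (w * a * w⁻¹) ^ k := conj_zpow.symm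
    rw [this, hwa, inv_zpow]
  -- elements of `P` outside `Z` are involutions
  have hinvol : ∀ x ∈ (P : Subgroup J), x ∉ Z → x * x = 1 := by
    intro x hx hxZ
    have hv : w * x ∈ Z := (hmul w x hwP hx).mpr ⟨fun h => absurd h hwZ, fun h => absurd h hxZ⟩
    set v := w * x with hvdef
    have hxv : x = w * v := by rw [hvdef, ← mul_assoc, hw2, one_mul]
    have h1 := hwinvZ v hv
    rw [hwinv] at h1
    -- `w v w = v⁻¹`
    calc x * x = (w * v * w) * v := by rw [hxv]; group
      _ = v⁻¹ * v := by rw [h1]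
      _ = 1 := inv_mul_cancel v
  refine (Cfsg.Agent.S0071.result P).mpr ?_
  intro Q hQP g hg hgo
  have hconjQ : ∀ x ∈ Q, g * x * g⁻¹ ∈ Q := fun x hx => (Subgroup.mem_normalizer_iff.mp hg x).mp hx
  -- Lemma A
  have hA : a ∈ Q → Commute g a := by
    intro haQ
    have hyQ := hconjQ a haQ
    have hyP := hQP hyQ
    have hyZ : g * a * g⁻¹ ∈ Z := by
      by_contra hyZ
      have := hinvol _ hyP hyZ
      have h2 : g * a ^ 2 * g⁻¹ = 1 := by
        rw [← this, pow_two]; group
      have : a ^ 2 = 1 := by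
        have h3 : a ^ 2 = g⁻¹ * (g * a ^ 2 * g⁻¹) * g := by group
        rw [h3, h2]; group
      exact ha2 this
    rcases hZel _ hyZ with h | h | h | h
    · exfalso
      have : a = g⁻¹ * (g * a * g⁻¹) * g := by group
      rw [h] at this
      apply ha1
      rw [this]; group
    · have : g * a = a * g := by
        calc g * a = (g * a * g⁻¹) * g := by group
          _ = a * g := by rw [h]
      exact this
    · exfalso
      have h2 : g * a ^ 2 * g⁻¹ = (g * a * g⁻¹) ^ 2 := conj_pow.symm
      rw [h, ← pow_mul, ha4] at h2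
      have : a ^ 2 = g⁻¹ * (g * a ^ 2 * g⁻¹) * g := by group
      rw [h2] at this
      apply ha2
      rw [this]; group
    · -- `g a g⁻¹ = a³ = a⁻¹`
      have hinv : a ^ 3 = a⁻¹ := by
        rw [eq_inv_iff_mul_eq_one, ← pow_succ]
        exact ha4
      rw [hinv] at h
      apply h78_commute_of_sq g a hgo
      have : g ^ 2 * a = a * g ^ 2 := by
        have h2 : g * a⁻¹ * g⁻¹ = a := by
          have : g * a⁻¹ * g⁻¹ = (g * a * g⁻¹)⁻¹ := by group
          rw [this, h, inv_inv]
        calc g ^ 2 * a = g * (g * a * g⁻¹) * g := by rw [pow_two]; group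
          _ = (g * a⁻¹ * g⁻¹) * g ^ 2 := by rw [h, pow_two]; group
          _ = a * g ^ 2 := by rw [h2]
      exact this
  -- Lemma B
  have hB : ∀ v ∈ Q, v ∈ Z → Commute g v := by
    intro v hvQ hvZ
    rcases hZel v hvZ with h | h | h | h
    · rw [h]; exact Commute.one_right g
    · rw [h]; exact hA (h ▸ hvQ)
    · rw [h]; exact hz g
    · rw [h]
      have haQ : a ∈ Q := by
        have h9 : a = (a ^ 3) ^ 3 := by
          rw [← pow_mul, show 3 * 3 = 4 * 2 + 1 by norm_num, pow_succ, pow_mul, ha4, one_pow, one_mul]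
        rw [h9, ← h]
        exact Q.pow_mem hvQ 3
      exact (hA haQ).pow_right 3
  rw [Subgroup.mem_centralizer_iff]
  intro x hxQ
  by_cases hxZ : x ∈ Z
  · exact ((hB x hxQ hxZ).eq).symm
  · have hxP := hQP hxQ
    have hyQ := hconjQ x hxQ
    have hyP := hQP hyQ
    have hyZ : g * x * g⁻¹ ∉ Z := by
      intro hyZ
      have hc := hB _ hyQ hyZ
      apply hxZ
      have : x = g * x * g⁻¹ := by
        have h1 : g * (g * x * g⁻¹) = (g * x * g⁻¹) * g := hc.eq
        have h2 : g * x * g⁻¹ = g⁻¹ * (g * (g * x * g⁻¹)) := by group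
        rw [h1] at h2
        rw [h2]; group
      rw [this]
      exact hyZ
    set v := x⁻¹ * (g * x * g⁻¹) with hvdef
    have hvQ : v ∈ Q := Q.mul_mem (Q.inv_mem hxQ) hyQ
    have hxinvZ : x⁻¹ ∉ Z := fun h => hxZ (by simpa using Z.inv_mem h)
    have hvZ : v ∈ Z :=
      (hmul x⁻¹ _ (Subgroup.inv_mem _ hxP) hyP).mpr ⟨fun h => absurd h hxinvZ, fun h => absurd h hyZ⟩
    have hcv := hB v hvQ hvZ
    have hy : g * x * g⁻¹ = x * v := by rw [hvdef]; group
    have hpow : ∀ j : ℕ, g ^ j * x * (g ^ j)⁻¹ = x * v ^ j := by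
      intro j
      induction j with
      | zero => simp
      | succ j ih =>
        have hcj : g * v ^ j = v ^ j * g := (hcv.pow_right j).eq
        calc g ^ (j + 1) * x * (g ^ (j + 1))⁻¹ = g * (g ^ j * x * (g ^ j)⁻¹) * g⁻¹ := by
              rw [pow_succ']; group
          _ = g * (x * v ^ j) * g⁻¹ := by rw [ih]
          _ = (g * x * g⁻¹) * (g * v ^ j) * g⁻¹ := by group
          _ = (x * v) * (v ^ j * g) * g⁻¹ := by rw [hy, hcj]
          _ = x * v ^ (j + 1) := by rw [pow_succ']; group
    have hr := hpow (orderOf g)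
    rw [pow_orderOf_eq_one, one_mul, inv_one, mul_one] at hr
    have hvr : v ^ orderOf g = 1 := by
      have : x * v ^ orderOf g = x * 1 := by rw [mul_one]; exact hr.symm
      exact mul_left_cancel this
    have hv4 : v ^ 4 = 1 := by
      rcases hZel v hvZ with h | h | h | h
      · rw [h, one_pow]
      · rw [h, ha4]
      · rw [h, ← pow_mul, show 2 * 4 = 4 * 2 by norm_num, pow_mul, ha4, one_pow]
      · rw [h, ← pow_mul, show 3 * 4 = 4 * 3 by norm_num, pow_mul, ha4, one_pow]
    have hv1 : v = 1 := by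
      have h1 : orderOf v ∣ orderOf g := orderOf_dvd_of_pow_eq_one hvr
      have h2 : orderOf v ∣ 4 := orderOf_dvd_of_pow_eq_one hv4
      have hcop : Nat.Coprime (orderOf g) 4 := by
        have : (4 : ℕ) = 2 ^ 2 := by norm_num
        rw [this]
        exact Nat.Coprime.pow_right 2 hgo
      have h3 : orderOf v ∣ 1 := by
        have := Nat.dvd_gcd h1 h2
        rwa [hcop.gcd_eq_one] at this
      exact orderOf_eq_one_iff.mp (Nat.dvd_one.mp h3)
    rw [hv1, mul_one] at hy
    calc x * g = (g * x * g⁻¹) * g := by rw [hy]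
      _ = g * x := by group

end Cfsg.Agent.Helper78.O2520
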