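import Mathlib
import Cfsg.Agent.Lib.Helper18.O3K0
import Cfsg.Agent.S0294

/-!
O3K server (helper18, S2363) piece (OMINUS): `Concl p (POmega^-_{2m}(q))`, pure arithmetic on top of S0294.
-/

set_option autoImplicit false

namespace Cfsg.Agent.Helper78.O3K

open Cfsg Cfsg.Agent.Helper18.O3K

variable {p : ℕ}

/-- `∑_{i<k} 2 (i+1) = k (k+1)` -/
theorem h78_sum_two_succ (k : ℕ) : ∑ i ∈ Finset.range k, 2 * (i + 1) = k * (k + 1) := by
  induction k with
  | zero => simp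
  | succ k ih => rw [Finset.sum_range_succ, ih]; ring

theorem concl_pomega_minus (hp : p.Prime) (F : Type) [Field F] [Fintype F] [CharP F p] (m : ℕ) (a b : F)
    (hm : 4 ≤ m) (hab : ∀ z₁ z₂ : F, z₁ ^ 2 + a * z₁ * z₂ + b * z₂ ^ 2 = 0 → z₁ = 0 ∧ z₂ = 0) :
    Concl p (POmega F (quadFormMinus (m - 1) F a b)) := by
  obtain ⟨f, hf, hq⟩ := card_eq_pow hp F
  have hcard := Cfsg.Agent.S0294.result (F := F) (q := p ^ f) hq m hm a b hab
  set q := p ^ f with hqdef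
  have hq2 : 2 ≤ q := by
    calc 2 ≤ p := hp.two_le
      _ = p ^ 1 := (pow_one p).symm
      _ ≤ p ^ f := Nat.pow_le_pow_right hp.pos hf
  have hq1 : 1 ≤ q := by omega
  have hfin : Finite (POmega F (quadFormMinus (m - 1) F a b)) := by
    refine Nat.finite_of_card_ne_zero ?_
    intro h0
    rw [h0, mul_zero] at hcard
    have hpos : 0 < q ^ (m * (m - 1)) * (q ^ m + 1) * ∏ i ∈ Finset.range (m - 1), (q ^ (2 * (i + 1)) - 1) := by
      refine Nat.mul_pos (Nat.mul_pos (pow_pos hq1 _) (Nat.succ_pos _)) ?_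
      refine Finset.prod_pos fun i _ => ?_
      have : 2 ≤ q ^ (2 * (i + 1)) := by
        calc 2 ≤ q := hq2
          _ = q ^ 1 := (pow_one q).symm
          _ ≤ q ^ (2 * (i + 1)) := Nat.pow_le_pow_right hq1 (by omega)
      omega
    omega
  set Pr := ∏ i ∈ Finset.range (m - 1), (q ^ (2 * (i + 1)) - 1) with hPr
  refine concl_of_mul hp (Nat.gcd 4 (q ^ m + 1)) (f * (m * (m - 1))) ((q ^ m + 1) * Pr) ?_ ?_ ?_ ?_
  · rw [hcard, show p ^ (f * (m * (m - 1))) = q ^ (m * (m - 1)) from by rw [hqdef, ← pow_mul], mul_assoc]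
  · intro h
    exact not_dvd_pow_add_one hp hqdef hf (by omega : 1 ≤ m) (h.trans (Nat.gcd_dvd_right _ _))
  · intro h
    rcases (Nat.Prime.dvd_mul hp).mp h with h | h
    · exact not_dvd_pow_add_one hp hqdef hf (by omega : 1 ≤ m) h
    · exact not_dvd_prod_sub_one hp hqdef hf (fun i => 2 * (i + 1)) (fun i => by omega) (m - 1) h
  · have h1 : Pr < q ^ ((m - 1) * (m - 1 + 1)) := by
      have := prod_sub_one_lt hq1 (fun i => 2 * (i + 1)) (m := m - 1) (by omega)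
      rwa [h78_sum_two_succ] at this
    have h2 : q ^ m + 1 ≤ q ^ (m + 1) := pow_add_one_le hq2 m
    have h3 : (q ^ m + 1) * Pr < q ^ (m + 1) * q ^ ((m - 1) * (m - 1 + 1)) :=
      Nat.mul_lt_mul_of_le_of_lt h2 h1 (pow_pos hq1 _)
    have hd1 : 1 ≤ Nat.gcd 4 (q ^ m + 1) := Nat.gcd_pos_of_pos_left _ (by norm_num)
    have hexp : 3 * (m + 1 + (m - 1) * (m - 1 + 1)) ≤ 5 * (m * (m - 1)) := by
      obtain ⟨k, rfl⟩ : ∃ k, m = k + 4 := ⟨m - 4, by omega⟩
      have : k + 4 - 1 = k + 3 := by omega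
      rw [this]
      nlinarith
    calc ((q ^ m + 1) * Pr) ^ 3 < (q ^ (m + 1) * q ^ ((m - 1) * (m - 1 + 1))) ^ 3 :=
          Nat.pow_lt_pow_left h3 (by norm_num)
      _ = q ^ (3 * (m + 1 + (m - 1) * (m - 1 + 1))) := by rw [← pow_add, ← pow_mul, mul_comm]
      _ ≤ q ^ (5 * (m * (m - 1))) := Nat.pow_le_pow_right hq1 hexp
      _ = p ^ (5 * (f * (m * (m - 1)))) := by rw [hqdef, ← pow_mul]; congr 1; ring
      _ = 1 * p ^ (5 * (f * (m * (m - 1)))) := (one_mul _).symm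
      _ ≤ Nat.gcd 4 (q ^ m + 1) ^ 3 * p ^ (5 * (f * (m * (m - 1)))) :=
          Nat.mul_le_mul_right _ (Nat.one_le_pow _ _ hd1)

end Cfsg.Agent.Helper78.O3K
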