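import Mathlib
import Cfsg.Agent.Lib.Helper18.O3K0
import Cfsg.Agent.S0245
import Cfsg.Agent.S0246

/-!
O3K server (helper18, S2363) piece (PSP): `Concl p (PSp m F)`, pure arithmetic on top of S0245 + S0246.
-/

set_option autoImplicit false

namespace Cfsg.Agent.Helper78.O3K

open Cfsg Cfsg.Agent.Helper18.O3K

variable {p : ℕ}

/-- `∑_{i<k} 2 (i+1) = k (k+1)` -/
theorem h78_sum_two_succ' (k : ℕ) : ∑ i ∈ Finset.range k, 2 * (i + 1) = k * (k + 1) := by
  induction k with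
  | zero => simp
  | succ k ih => rw [Finset.sum_range_succ, ih]; ring

theorem concl_psp (hp : p.Prime) (F : Type) [Field F] [Fintype F] [CharP F p] (m : ℕ) (hm : 2 ≤ m) :
    Concl p (PSp m F) := by
  obtain ⟨f, hf, hq⟩ := card_eq_pow hp F
  have hcard := Cfsg.Agent.S0245.result (F := F) (q := p ^ f) hq m
  have hcen := Cfsg.Agent.S0246.result (F := F) (q := p ^ f) hq m (by omega)
  set q := p ^ f with hqdef
  have hq2 : 2 ≤ q := by
    calc 2 ≤ p := hp.two_le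
      _ = p ^ 1 := (pow_one p).symm
      _ ≤ p ^ f := Nat.pow_le_pow_right hp.pos hf
  have hq1 : 1 ≤ q := by omega
  have hidx : Nat.card (Matrix.symplecticGroup (Fin m) F) =
      Nat.card (PSp m F) * Nat.card (Subgroup.center (Matrix.symplecticGroup (Fin m) F)) :=
    Subgroup.card_eq_card_quotient_mul_card_subgroup _
  set Pr := ∏ i ∈ Finset.range m, (q ^ (2 * (i + 1)) - 1) with hPr
  refine concl_of_mul hp (Nat.gcd 2 (q - 1)) (f * (m ^ 2)) Pr ?_ ?_ ?_ ?_
  · rw [← hcen, mul_comm, ← hidx, hcard,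
      show p ^ (f * (m ^ 2)) = q ^ (m ^ 2) from by rw [hqdef, ← pow_mul]]
  · intro h
    have h1 : p ∣ q ^ 1 - 1 := by
      rw [pow_one]
      exact h.trans (Nat.gcd_dvd_right _ _)
    exact not_dvd_pow_sub_one hp hqdef hf (le_refl 1) h1
  · exact not_dvd_prod_sub_one hp hqdef hf (fun i => 2 * (i + 1)) (fun i => by omega) m
  · have h1 : Pr < q ^ (m * (m + 1)) := by
      have := prod_sub_one_lt hq1 (fun i => 2 * (i + 1)) (m := m) (by omega)
      rwa [h78_sum_two_succ'] at this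
    have hd1 : 1 ≤ Nat.gcd 2 (q - 1) := Nat.gcd_pos_of_pos_left _ (by norm_num)
    have hexp : 3 * (m * (m + 1)) ≤ 5 * (m ^ 2) := by
      obtain ⟨k, rfl⟩ : ∃ k, m = k + 2 := ⟨m - 2, by omega⟩
      nlinarith
    calc Pr ^ 3 < (q ^ (m * (m + 1))) ^ 3 := Nat.pow_lt_pow_left h1 (by norm_num)
      _ = q ^ (3 * (m * (m + 1))) := by rw [← pow_mul, mul_comm]
      _ ≤ q ^ (5 * (m ^ 2)) := Nat.pow_le_pow_right hq1 hexp
      _ = p ^ (5 * (f * (m ^ 2))) := by rw [hqdef, ← pow_mul]; congr 1; ring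
      _ = 1 * p ^ (5 * (f * (m ^ 2))) := (one_mul _).symm
      _ ≤ Nat.gcd 2 (q - 1) ^ 3 * p ^ (5 * (f * (m ^ 2))) :=
          Nat.mul_le_mul_right _ (Nat.one_le_pow _ _ hd1)

end Cfsg.Agent.Helper78.O3K
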