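import Mathlib
import Cfsg.Agent.Lib.Helper84.O7Defs

/-!
# O7F (PERF) `perfect_A1` for helper84's server (S1686)

The presented group `A1G` (level `A1` of helper27's `Fi22` tower, generators `b, …, i` and the
relator `a`) is perfect: in the abelianization all generators `b, …, i` have the same image `t`
(the diagram is connected), `t * t = 1`, and the relator of length 63 gives `t ^ 63 = 1`.
-/

set_option autoImplicit false

namespace Cfsg.Agent.Helper78.O7F

open Cfsg.Agent.Helper84.O7
open Cfsg.Spor.Fi22 (Gen)
open Cfsg.Agent.Helper28 Cfsg.Agent.Helper27.Fi22TC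

/-- image of a generator in the abelianization -/
noncomputable def ab (x : Gen) : Abelianization A1G := Abelianization.of (PresentedGroup.of x)

/-- the image of a positive word in the abelianization -/
theorem ab_word (l : List Gen) :
    Abelianization.of (wG A1.D.rels (l.map (fun x => (x, true)))) = (l.map ab).prod := by
  induction l with
  | nil => simp [wG_nil]
  | cons x l ih =>
    rw [List.map_cons, wG_cons, map_mul, ih, lG_true, List.map_cons, List.prod_cons]
    rfl

theorem ab_sq (x : Gen) : ab x * ab x = 1 := by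
  have h := congrArg (Abelianization.of (G := A1G)) (A1.hinv x)
  have e : ([(x, true), (x, true)] : Word Gen) = [x, x].map (fun x => (x, true)) := rfl
  rw [e, ab_word, map_one] at h
  simpa using h

theorem eq_of_braid {M : Type*} [CommGroup M] {x y : M} (hx : x * x = 1) (hy : y * y = 1)
    (h : x * (y * (x * (y * (x * (y * 1))))) = 1) : x = y := by
  have e : x * (y * (x * (y * (x * (y * 1))))) = (x * x) * (y * y) * (x * y) := by
    rw [mul_one]; ac_rfl
  rw [e, hx, hy, one_mul, one_mul] at h
  calc x = x * (y * y) := by rw [hy, mul_one]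
    _ = (x * y) * y := by rw [mul_assoc]
    _ = y := by rw [h, one_mul]

theorem ab_eq_of_rel (x y : Gen)
    (h : wG A1.D.rels ([x, y, x, y, x, y].map (fun x => (x, true))) = 1) : ab x = ab y := by
  have h' := congrArg (Abelianization.of (G := A1G)) h
  rw [ab_word, map_one] at h'
  simp only [List.map_cons, List.map_nil, List.prod_cons, List.prod_nil] at h'
  exact eq_of_braid (ab_sq x) (ab_sq y) h'

theorem ab_bc : ab Gen.b = ab Gen.c := ab_eq_of_rel _ _ A1.relone_9
theorem ab_cd : ab Gen.c = ab Gen.d := ab_eq_of_rel _ _ A1.relone_16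
theorem ab_de : ab Gen.d = ab Gen.e := ab_eq_of_rel _ _ A1.relone_22
theorem ab_dh : ab Gen.d = ab Gen.h := ab_eq_of_rel _ _ A1.relone_25
theorem ab_ef : ab Gen.e = ab Gen.f := ab_eq_of_rel _ _ A1.relone_27
theorem ab_fg : ab Gen.f = ab Gen.g := ab_eq_of_rel _ _ A1.relone_31
theorem ab_hi : ab Gen.h = ab Gen.i := ab_eq_of_rel _ _ A1.relone_36

theorem ab_a : ab Gen.a = 1 := by
  have h := congrArg (Abelianization.of (G := A1G)) A1.relone_0
  have e : A1.R0 = [Gen.a].map (fun x => (x, true)) := rfl
  rw [e, ab_word, map_one] at h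
  simpa using h

theorem ab_all (x : Gen) (hx : x ≠ Gen.a) : ab x = ab Gen.d := by
  have hc : ab Gen.c = ab Gen.d := ab_cd
  have hb : ab Gen.b = ab Gen.d := ab_bc.trans hc
  have he : ab Gen.e = ab Gen.d := ab_de.symm
  have hf : ab Gen.f = ab Gen.d := ab_ef.symm.trans he
  have hg : ab Gen.g = ab Gen.d := ab_fg.symm.trans hf
  have hh : ab Gen.h = ab Gen.d := ab_dh.symm
  have hi : ab Gen.i = ab Gen.d := ab_hi.symm.trans hh
  cases x <;> first | rfl | assumption | exact absurd rfl hx

theorem prod_eq_pow (l : List Gen) (hl : ∀ x ∈ l, x ≠ Gen.a) :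
    (l.map ab).prod = ab Gen.d ^ l.length := by
  induction l with
  | nil => simp
  | cons x l ih =>
    rw [List.map_cons, List.prod_cons, ih (fun y hy => hl y (List.mem_cons_of_mem _ hy)),
      ab_all x (hl x List.mem_cons_self), List.length_cons, pow_succ']

/-- the generator list of the long relator -/
def l38 : List Gen :=
  (List.replicate 9 [Gen.b, Gen.c, Gen.d, Gen.e, Gen.f, Gen.g, Gen.h]).flatten

theorem ab_d : ab Gen.d = 1 := by
  have h := congrArg (Abelianization.of (G := A1G)) A1.relone_38
  have e : A1.R38 = l38.map (fun x => (x, true)) := by decide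
  rw [e, ab_word, map_one, prod_eq_pow l38 (by decide)] at h
  have hlen : l38.length = 63 := by decide
  rw [hlen] at h
  set t := ab Gen.d with ht
  have hsq : t * t = 1 := ab_sq _
  have : t ^ 63 = t := by
    rw [show 63 = 2 * 31 + 1 from rfl, pow_succ, pow_mul, pow_two, hsq, one_pow, one_mul]
  rw [← this, h]

theorem ab_one (x : Gen) : ab x = 1 := by
  by_cases hx : x = Gen.a
  · rw [hx, ab_a]
  · rw [ab_all x hx, ab_d]

theorem ab_mem (w : FreeGroup Gen) :
    Abelianization.of (PresentedGroup.mk A1.D.rels w) = (1 : Abelianization A1G) := by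
  induction w using FreeGroup.induction_on with
  | C1 => rw [MonoidHom.map_one, MonoidHom.map_one]
  | of x =>
    have : Abelianization.of (PresentedGroup.mk A1.D.rels (FreeGroup.of x)) = ab x := rfl
    rw [this, ab_one x]
  | inv_of x h =>
    rw [MonoidHom.map_inv, MonoidHom.map_inv, h, inv_one]
  | mul x y hx hy =>
    rw [MonoidHom.map_mul, MonoidHom.map_mul, hx, hy, one_mul]

/-- (PERF) `A1G` is perfect. -/
theorem perfect_A1 : commutator A1G = ⊤ := by
  rw [eq_top_iff]
  intro g _
  obtain ⟨w, rfl⟩ := PresentedGroup.mk_surjective _ g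
  have h := ab_mem w
  rw [← QuotientGroup.eq_one_iff]
  exact h

end Cfsg.Agent.Helper78.O7F
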