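import Mathlib
import Cfsg.Prelude.Def_Blocks
import Cfsg.Prelude.Def_BlockRank
import Cfsg.Agent.Lib.Helper78.PCentral
import Cfsg.Agent.Lib.Helper78.ProdIrr
import Cfsg.Agent.Lib.Helper78.NormalDefect
import Cfsg.Agent.Lib.Helper78.CentralDefect
import Cfsg.Agent.Lib.Helper74.BrauerFeit2
import Cfsg.Agent.Lib.Helper74.LinStab
import Cfsg.Agent.Lib.Helper16.PPart

/-!
# Blocks of `G = P C_G(P)` with defect group `P` (helper78)

The structure of a block `B` with defect group `P` when `G = P C_G(P)`: there is a unique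
`θ₀ ∈ B` with `P` in its kernel, and `χ ↦ ζ_χ` (the irreducible constituent of `χ` on `P`) is a
bijection from `B` onto the irreducible characters of `P`, with `χ (y x) = ζ_χ y * θ₀ x` for
`y ∈ P` and `x` `p`-regular, and `χ` vanishing at the elements whose image in `G ⧸ P` is
`p`-singular.
-/

set_option autoImplicit false
set_option linter.unusedSectionVars false

namespace Cfsg.Agent.Helper78

open Cfsg
open Cfsg.Agent.Helper77
open Cfsg.Agent.Helper74.DO
open scoped ComplexConjugate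

universe u

section cprod

variable {G : Type u} [Group G]

/-- the multiplication map `P × C_G(P) → G` -/
def cprodHom (P : Subgroup G) : P × Subgroup.centralizer (P : Set G) →* G where
  toFun x := (x.1 : G) * (x.2 : G)
  map_one' := by simp
  map_mul' := fun x y => by
    have h : (y.1 : G) * (x.2 : G) = (x.2 : G) * (y.1 : G) :=
      Subgroup.mem_centralizer_iff.1 x.2.2 y.1 y.1.2
    simp only [Prod.fst_mul, Prod.snd_mul, Subgroup.coe_mul]
    calc (x.1 : G) * (y.1 : G) * ((x.2 : G) * (y.2 : G))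
        = (x.1 : G) * ((y.1 : G) * (x.2 : G)) * (y.2 : G) := by group
      _ = (x.1 : G) * ((x.2 : G) * (y.1 : G)) * (y.2 : G) := by rw [h]
      _ = _ := by group

theorem cprodHom_apply (P : Subgroup G) (x : P × Subgroup.centralizer (P : Set G)) :
    cprodHom P x = (x.1 : G) * (x.2 : G) := rfl

theorem cprodHom_surjective (P : Subgroup G)
    (hG : P ⊔ Subgroup.centralizer (P : Set G) = ⊤) : Function.Surjective (cprodHom P) := by
  rw [← MonoidHom.range_eq_top, eq_top_iff, ← hG, sup_le_iff]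
  constructor
  · intro y hy
    exact ⟨(⟨y, hy⟩, 1), by simp [cprodHom_apply]⟩
  · intro x hx
    exact ⟨(1, ⟨x, hx⟩), by simp [cprodHom_apply]⟩

theorem normal_of_sup_centralizer (P : Subgroup G)
    (hG : P ⊔ Subgroup.centralizer (P : Set G) = ⊤) : P.Normal := by
  rw [← Subgroup.normalizer_eq_top_iff, eq_top_iff, ← hG, sup_le_iff]
  exact ⟨Subgroup.le_normalizer, Subgroup.centralizer_le_normalizer _⟩

end cprod

section cstructure

variable {G : Type u} [Group G] [Fintype G]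

/-- For `G = P C_G(P)`, an irreducible character `χ` of `G` restricts to `P` as a multiple `e ζ`
of an irreducible character, `χ (y x) ζ(1) = ζ(y) χ(x)` for `y ∈ P`, `x ∈ C_G(P)`, and
`χ(x) / ζ(1)` is an algebraic integer for `x ∈ C_G(P)`. -/
theorem exists_cprod_decomp (P : Subgroup G)
    (hG : P ⊔ Subgroup.centralizer (P : Set G) = ⊤) (χ : IrrCharacter G) :
    ∃ (ζ : IrrCharacter P) (e : ℕ), 0 < e ∧
      charDegree (χ : G → ℂ) = charDegree (ζ : P → ℂ) * e ∧
      (∀ (y : P) (x : G), x ∈ Subgroup.centralizer (P : Set G) →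
        (χ : G → ℂ) ((y : G) * x) * (ζ : P → ℂ) 1 = (ζ : P → ℂ) y * (χ : G → ℂ) x) ∧
      (∀ x : G, x ∈ Subgroup.centralizer (P : Set G) →
        ∃ z : ℂ, IsIntegral ℤ z ∧ (χ : G → ℂ) x = (ζ : P → ℂ) 1 * z) := by
  classical
  have : Fintype P := Fintype.ofFinite _
  have : Fintype (Subgroup.centralizer (P : Set G)) := Fintype.ofFinite _
  have hirr := isIrrCharacter_comp_surjective χ.2 (cprodHom P) (cprodHom_surjective P hG)
  obtain ⟨ζ, ψ, hdec⟩ := exists_prod_decomp hirr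
  have hdec' : ∀ (y : P) (x : Subgroup.centralizer (P : Set G)),
      (χ : G → ℂ) ((y : G) * (x : G)) = (ζ : P → ℂ) y * (ψ : Subgroup.centralizer (P : Set G) → ℂ) x := fun y x => hdec y x
  have hζ1 := Cfsg.Agent.Helper79.irr_one_eq ζ
  have hψ1 := Cfsg.Agent.Helper79.irr_one_eq ψ
  have hχ1 := Cfsg.Agent.Helper79.irr_one_eq χ
  refine ⟨ζ, charDegree (ψ : Subgroup.centralizer (P : Set G) → ℂ), hψ1.2, ?_, ?_, ?_⟩
  · have h := hdec' 1 1
    simp only [Subgroup.coe_one, mul_one] at h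
    rw [hχ1.1, hζ1.1, hψ1.1] at h
    exact_mod_cast h
  · intro y x hx
    have h1 := hdec' y ⟨x, hx⟩
    have h2 := hdec' 1 ⟨x, hx⟩
    simp only [Subgroup.coe_one, one_mul] at h2
    simp only at h1
    rw [h1, h2]
    ring
  · intro x hx
    refine ⟨(ψ : Subgroup.centralizer (P : Set G) → ℂ) ⟨x, hx⟩, Cfsg.Agent.Helper79.irr_isIntegral ψ _, ?_⟩
    have h2 := hdec' 1 ⟨x, hx⟩
    simp only [Subgroup.coe_one, one_mul] at h2
    exact h2

end cstructure

section canon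

variable {G : Type u} [Group G] [Fintype G] {p : ℕ} [hpf : Fact p.Prime] {M : Ideal AlgInt}

/-- A block with defect group `Q`, where all `p`-regular elements centralize the normal
`p`-subgroup `Q`, contains at most one character with `Q` in its kernel. -/
theorem eq_of_inflate_mem' (hM : IsPModular p M) (Q : Subgroup G) [hQn : Q.Normal]
    (hreg : ∀ x : G, ¬ p ∣ orderOf x → x ∈ Subgroup.centralizer (Q : Set G))
    {b : Set (IrrCharacter G)} (hb : IsPBlock M b)
    (hQ : IsDefectGroup p M b Q) (ψ₁ ψ₂ : IrrCharacter (G ⧸ Q))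
    (h₁ : Cfsg.Agent.Helper79.inflate Q ψ₁ ∈ b) (h₂ : Cfsg.Agent.Helper79.inflate Q ψ₂ ∈ b) :
    ψ₂ = ψ₁ := by
  classical
  have hp : p.Prime := hpf.out
  have hpr := isPrime_of_isPModular hM
  have : Fintype (G ⧸ Q) := Fintype.ofFinite _
  have hcard := card_defectGroup hM hb Q hQ
  have hQp : IsPGroup p Q := IsPGroup.of_card hcard
  have hdz := defect_zero_of_inflate_mem hM Q hb hQ ψ₁ h₁
  -- the block of `ψ₁` is a singleton
  have hdvd := Cfsg.Agent.Helper79.irr_degree_dvd_card ψ₁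
  have hpos := (Cfsg.Agent.Helper79.irr_one_eq ψ₁).2
  have hnot : ¬ p ∣ Nat.card (G ⧸ Q) / charDegree (ψ₁ : G ⧸ Q → ℂ) := by
    obtain ⟨c, hc⟩ := hdvd
    have hq0 : Nat.card (G ⧸ Q) ≠ 0 := Nat.card_pos.ne'
    have hc0 : c ≠ 0 := by
      rintro rfl
      rw [mul_zero] at hc
      exact hq0 hc
    rw [hc, Nat.mul_div_cancel_left c hpos]
    intro hpc
    have h1 : (Nat.card (G ⧸ Q)).factorization p =
        (charDegree (ψ₁ : G ⧸ Q → ℂ)).factorization p + c.factorization p := by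
      rw [hc, Nat.factorization_mul hpos.ne' hc0, Finsupp.coe_add, Pi.add_apply]
    have h2 : (Nat.card (G ⧸ Q)).factorization p ≤
        (charDegree (ψ₁ : G ⧸ Q → ℂ)).factorization p :=
      (hp.pow_dvd_iff_le_factorization hpos.ne').1 hdz
    have h3 : 0 < c.factorization p := hp.factorization_pos_of_dvd hc0 hpc
    omega
  have hsingle := (Cfsg.Agent.S0914.result p M hM ψ₁).1 hnot
  -- `ψ₂` lies in that block
  have hsame : SameBlock M (ψ₁ : G ⧸ Q → ℂ) (ψ₂ : G ⧸ Q → ℂ) := by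
    apply Cfsg.Agent.Helper16.sameBlock_of_regular hM
    intro q hq
    obtain ⟨x, rfl, hx⟩ := Cfsg.Agent.Helper16.exists_regular_lift Q hQp q hq
    rw [centralChar_inflate_of_regular' Q hQp ψ₁ x hx (hreg x hx),
      centralChar_inflate_of_regular' Q hQp ψ₂ x hx (hreg x hx)]
    exact sameBlock_of_mem hb h₁ h₂ x
  have hmem : ψ₂ ∈ blockOf M (ψ₁ : G ⧸ Q → ℂ) := hsame
  rw [hsingle] at hmem
  exact hmem

/-- Every member of a block with defect group `Q` (all `p`-regular elements centralizing the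
normal `p`-subgroup `Q`) is, on `p`-regular elements, a scalar multiple of the member having `Q`
in its kernel (form with the sum over the `p`-regular elements). -/
theorem scalar_regular_key (hM : IsPModular p M) (Q : Subgroup G) [hQn : Q.Normal]
    (hreg : ∀ x : G, ¬ p ∣ orderOf x → x ∈ Subgroup.centralizer (Q : Set G))
    {b : Set (IrrCharacter G)} (hb : IsPBlock M b)
    (hQ : IsDefectGroup p M b Q) (ψ₀ : IrrCharacter (G ⧸ Q))
    (h₀ : Cfsg.Agent.Helper79.inflate Q ψ₀ ∈ b) (χ : IrrCharacter G) (hχ : χ ∈ b) (z : G)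
    (hz : ¬ p ∣ orderOf z) :
    (Nat.card (G ⧸ Q) : ℂ) * (χ : G → ℂ) z =
      (∑ y ∈ Finset.univ.filter (fun y : G => ¬ p ∣ orderOf y),
        (χ : G → ℂ) y * conj ((Cfsg.Agent.Helper79.inflate Q ψ₀ : G → ℂ) y)) *
        (Cfsg.Agent.Helper79.inflate Q ψ₀ : G → ℂ) z := by
  classical
  have hp : p.Prime := hpf.out
  have hpr := isPrime_of_isPModular hM
  have : Fintype (G ⧸ Q) := Fintype.ofFinite _
  have hcard := card_defectGroup hM hb Q hQ
  have hQp : IsPGroup p Q := IsPGroup.of_card hcard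
  rw [regular_expansion Q hQp hreg χ z hz]
  apply Finset.sum_eq_single ψ₀
  · intro ψ _ hne
    by_cases hsame : SameBlock M (χ : G → ℂ) (Cfsg.Agent.Helper79.inflate Q ψ : G → ℂ)
    · exfalso
      apply hne
      exact eq_of_inflate_mem' hM Q hreg hb hQ ψ₀ ψ h₀ (mem_of_sameBlock hb hχ hsame)
    · rw [Cfsg.Agent.Helper16.sum_regular_eq_zero_of_not_sameBlock hM χ _ hsame, zero_mul]
  · intro h; exact absurd (Finset.mem_univ _) h

/-- `χ(x) ψ₀(1) = χ(1) ψ₀(x̄)` for `x` `p`-regular. -/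
theorem scalar_regular' (hM : IsPModular p M) (Q : Subgroup G) [hQn : Q.Normal]
    (hreg : ∀ x : G, ¬ p ∣ orderOf x → x ∈ Subgroup.centralizer (Q : Set G))
    {b : Set (IrrCharacter G)} (hb : IsPBlock M b)
    (hQ : IsDefectGroup p M b Q) (ψ₀ : IrrCharacter (G ⧸ Q))
    (h₀ : Cfsg.Agent.Helper79.inflate Q ψ₀ ∈ b) (χ : IrrCharacter G) (hχ : χ ∈ b) (x : G)
    (hx : ¬ p ∣ orderOf x) :
    (χ : G → ℂ) x * (ψ₀ : G ⧸ Q → ℂ) 1 =
      (χ : G → ℂ) 1 * (ψ₀ : G ⧸ Q → ℂ) (QuotientGroup.mk x) := by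
  classical
  have hp : p.Prime := hpf.out
  have h1 := scalar_regular_key hM Q hreg hb hQ ψ₀ h₀ χ hχ x hx
  have h2 := scalar_regular_key hM Q hreg hb hQ ψ₀ h₀ χ hχ 1
    (by rw [orderOf_one]; exact hp.not_dvd_one)
  rw [Cfsg.Agent.Helper79.inflate_apply] at h1 h2
  rw [QuotientGroup.mk_one] at h2
  have hq0 : (Nat.card (G ⧸ Q) : ℂ) ≠ 0 := by exact_mod_cast Nat.card_pos.ne'
  apply mul_left_cancel₀ hq0
  calc (Nat.card (G ⧸ Q) : ℂ) * ((χ : G → ℂ) x * (ψ₀ : G ⧸ Q → ℂ) 1)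
      = ((Nat.card (G ⧸ Q) : ℂ) * (χ : G → ℂ) x) * (ψ₀ : G ⧸ Q → ℂ) 1 := by ring
    _ = ((Nat.card (G ⧸ Q) : ℂ) * (χ : G → ℂ) 1) * (ψ₀ : G ⧸ Q → ℂ) (QuotientGroup.mk x) := by
        rw [h1, h2]; ring
    _ = _ := by ring

/-- The degree of the member with `Q` in its kernel divides the degrees of all the members of
the block. -/
theorem degree_dvd_of_mem (hM : IsPModular p M) (Q : Subgroup G) [hQn : Q.Normal]
    (hreg : ∀ x : G, ¬ p ∣ orderOf x → x ∈ Subgroup.centralizer (Q : Set G))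
    {b : Set (IrrCharacter G)} (hb : IsPBlock M b)
    (hQ : IsDefectGroup p M b Q) (ψ₀ : IrrCharacter (G ⧸ Q))
    (h₀ : Cfsg.Agent.Helper79.inflate Q ψ₀ ∈ b) (χ : IrrCharacter G) (hχ : χ ∈ b) :
    charDegree (ψ₀ : G ⧸ Q → ℂ) ∣ charDegree (χ : G → ℂ) := by
  classical
  have hp : p.Prime := hpf.out
  have : Fintype (G ⧸ Q) := Fintype.ofFinite _
  have hcard := card_defectGroup hM hb Q hQ
  obtain ⟨n, hn⟩ := Cfsg.Agent.Helper74.BF.exists_contrib hM hb
  have h1 := hn.cast_eq χ hχ (Cfsg.Agent.Helper79.inflate Q ψ₀)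
  have h2 := scalar_regular_key hM Q hreg hb hQ ψ₀ h₀ χ hχ 1
    (by rw [orderOf_one]; exact hp.not_dvd_one)
  rw [Cfsg.Agent.Helper79.inflate_apply, QuotientGroup.mk_one] at h2
  have hreg_eq : Cfsg.Agent.Helper74.BF.regSum p (χ : G → ℂ)
      (Cfsg.Agent.Helper79.inflate Q ψ₀ : G → ℂ) =
      ∑ y ∈ Finset.univ.filter (fun y : G => ¬ p ∣ orderOf y),
        (χ : G → ℂ) y * conj ((Cfsg.Agent.Helper79.inflate Q ψ₀ : G → ℂ) y) := by
    unfold Cfsg.Agent.Helper74.BF.regSum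
    rfl
  rw [hreg_eq] at h1
  have hcardmul : Nat.card G = Nat.card (G ⧸ Q) * Nat.card Q :=
    Subgroup.card_eq_card_quotient_mul_card_subgroup Q
  have hχ1 := (Cfsg.Agent.Helper79.irr_one_eq χ).1
  have hψ1 := Cfsg.Agent.Helper79.irr_one_eq ψ₀
  have hq0 : (Nat.card (G ⧸ Q) : ℂ) ≠ 0 := by exact_mod_cast Nat.card_pos.ne'
  have hQ0 : (Nat.card Q : ℂ) ≠ 0 := by exact_mod_cast Nat.card_pos.ne'
  have ht0 : ((charDegree (ψ₀ : G ⧸ Q → ℂ) : ℕ) : ℂ) ≠ 0 := by exact_mod_cast hψ1.2.ne'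
  -- `χ(1) = n θ₀(1)`
  have h3 : ((charDegree (χ : G → ℂ) : ℕ) : ℂ) =
      ((n χ (Cfsg.Agent.Helper79.inflate Q ψ₀) : ℤ) : ℂ) *
        ((charDegree (ψ₀ : G ⧸ Q → ℂ) : ℕ) : ℂ) := by
    rw [h1, hcardmul, hcard]
    rw [hχ1, hψ1.1] at h2
    push_cast
    rw [hcard] at hQ0
    push_cast at hQ0
    have h4 : (∑ y ∈ Finset.univ.filter (fun y : G => ¬ p ∣ orderOf y),
        (χ : G → ℂ) y * conj ((Cfsg.Agent.Helper79.inflate Q ψ₀ : G → ℂ) y)) =
        (Nat.card (G ⧸ Q) : ℂ) * ((charDegree (χ : G → ℂ) : ℕ) : ℂ) /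
          ((charDegree (ψ₀ : G ⧸ Q → ℂ) : ℕ) : ℂ) := by
      rw [h2]
      field_simp
    rw [h4]
    field_simp
  have h5 : ((charDegree (χ : G → ℂ) : ℕ) : ℤ) =
      n χ (Cfsg.Agent.Helper79.inflate Q ψ₀) * ((charDegree (ψ₀ : G ⧸ Q → ℂ) : ℕ) : ℤ) := by
    exact_mod_cast h3
  apply Int.natCast_dvd_natCast.1
  exact ⟨n χ (Cfsg.Agent.Helper79.inflate Q ψ₀), by rw [h5]; ring⟩

end canon

section sections

variable {G : Type u} [Group G] [Fintype G] {p : ℕ} [hpf : Fact p.Prime]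

/-- Summation over `G` along a section of `G → G ⧸ P`. -/
theorem sum_eq_sum_section {α : Type*} [AddCommMonoid α] (P : Subgroup G) [hPn : P.Normal]
    [Fintype P] [Fintype (G ⧸ P)] (σ : G ⧸ P → G)
    (hσ : ∀ q, (QuotientGroup.mk (σ q) : G ⧸ P) = q) (F : G → α) :
    ∑ g : G, F g = ∑ q : G ⧸ P, ∑ y : P, F ((y : G) * σ q) := by
  classical
  rw [← Fintype.sum_prod_type']
  symm
  apply Fintype.sum_bijective (fun x : (G ⧸ P) × P => (x.2 : G) * σ x.1)
  · constructor
    · rintro ⟨q, y⟩ ⟨q', y'⟩ h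
      simp only at h
      have h1 := congrArg (QuotientGroup.mk : G → G ⧸ P) h
      rw [QuotientGroup.mk_mul, QuotientGroup.mk_mul, hσ, hσ,
        (QuotientGroup.eq_one_iff (y : G)).2 y.2, (QuotientGroup.eq_one_iff (y' : G)).2 y'.2,
        one_mul, one_mul] at h1
      subst h1
      have h2 := mul_right_cancel h
      rw [Subtype.ext h2]
    · intro g
      have hmem : g * (σ (QuotientGroup.mk g))⁻¹ ∈ P := by
        rw [← QuotientGroup.eq_one_iff, QuotientGroup.mk_mul, QuotientGroup.mk_inv, hσ,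
          mul_inv_cancel]
      refine ⟨(QuotientGroup.mk g, ⟨_, hmem⟩), ?_⟩
      simp
  · intro x
    rfl

/-- A section of `G → G ⧸ P` taking `p`-regular elements to `p`-regular elements. -/
theorem exists_regular_section (P : Subgroup G) [hPn : P.Normal] (hP : IsPGroup p P) :
    ∃ σ : G ⧸ P → G, (∀ q, (QuotientGroup.mk (σ q) : G ⧸ P) = q) ∧
      ∀ q, ¬ p ∣ orderOf q → ¬ p ∣ orderOf (σ q) := by
  have h : ∀ q : G ⧸ P, ∃ x : G, (QuotientGroup.mk x : G ⧸ P) = q ∧
      (¬ p ∣ orderOf q → ¬ p ∣ orderOf x) := by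
    intro q
    by_cases hq : p ∣ orderOf q
    · obtain ⟨x, hx⟩ := QuotientGroup.mk_surjective q
      exact ⟨x, hx, fun h => absurd hq h⟩
    · obtain ⟨x, hx1, hx2⟩ := Cfsg.Agent.Helper16.exists_regular_lift P hP q hq
      exact ⟨x, hx1, fun _ => hx2⟩
  choose σ hσ using h
  exact ⟨σ, fun q => (hσ q).1, fun q => (hσ q).2⟩

end sections

section decomp

variable {G : Type u} [Group G] [Fintype G] {p : ℕ} [hpf : Fact p.Prime] {M : Ideal AlgInt}

/-- If `χ` lies in a block with defect group `P` and `χ(x) / ζ(1)` is an algebraic integer for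
all `x ∈ C_G(P)`, where `χ(1) = ζ(1) e`, then the `p`-part of `[G : P]` divides `e`. -/
theorem index_factorization_le (hM : IsPModular p M) (P : Subgroup G)
    {b : Set (IrrCharacter G)} (hb : IsPBlock M b) (hD : IsDefectGroup p M b P)
    (χ : IrrCharacter G) (hχ : χ ∈ b) (c : ℂ) (hc : c ≠ 0) (e : ℕ) (he : 0 < e)
    (hdeg : (χ : G → ℂ) 1 = c * (e : ℂ))
    (hint : ∀ x : G, x ∈ Subgroup.centralizer (P : Set G) →
      ∃ z : ℂ, IsIntegral ℤ z ∧ (χ : G → ℂ) x = c * z) :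
    P.index.factorization p ≤ e.factorization p := by
  classical
  have hp : p.Prime := hpf.out
  have hpr := isPrime_of_isPModular hM
  have hcard := card_defectGroup hM hb P hD
  obtain ⟨g, hg, S, hS⟩ := hD
  have hdef := defect_of_isDefectClass hM hb hg
  -- `g` centralizes `P`
  have hgC : g ∈ Subgroup.centralizer (P : Set G) := by
    rw [Subgroup.mem_centralizer_iff]
    intro y hy
    rw [hS] at hy
    obtain ⟨y', -, rfl⟩ := hy
    have := Subgroup.mem_centralizer_iff.1 y'.2 g (Set.mem_singleton g)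
    exact this.symm
  obtain ⟨z, hz, hχg⟩ := hint g hgC
  have hnot := hg.2.2 χ hχ
  -- valuations
  have hidx : (Subgroup.centralizer ({g} : Set G)).index.factorization p =
      P.index.factorization p := by
    have h1 := Subgroup.card_mul_index (Subgroup.centralizer ({g} : Set G))
    have h2 := Subgroup.card_mul_index P
    have hc0 : Nat.card (Subgroup.centralizer ({g} : Set G)) ≠ 0 := Nat.card_pos.ne'
    have hi0 : (Subgroup.centralizer ({g} : Set G)).index ≠ 0 := Subgroup.index_ne_zero_of_finite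
    have hP0 : Nat.card P ≠ 0 := Nat.card_pos.ne'
    have hPi0 : P.index ≠ 0 := Subgroup.index_ne_zero_of_finite
    have h3 : (Nat.card G).factorization p =
        (Nat.card (Subgroup.centralizer ({g} : Set G))).factorization p +
          (Subgroup.centralizer ({g} : Set G)).index.factorization p := by
      rw [← h1, Nat.factorization_mul hc0 hi0, Finsupp.coe_add, Pi.add_apply]
    have h4 : (Nat.card G).factorization p =
        (Nat.card P).factorization p + P.index.factorization p := by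
      rw [← h2, Nat.factorization_mul hP0 hPi0, Finsupp.coe_add, Pi.add_apply]
    rw [hcard, hp.factorization_pow, Finsupp.single_eq_same] at h4
    omega
  by_contra hlt
  push Not at hlt
  rw [← hidx] at hlt
  apply hnot
  have h5 := memLocalIdeal_natCast_div hM (Subgroup.centralizer ({g} : Set G)).index e
    Subgroup.index_ne_zero_of_finite he.ne' hlt
  have h6 : centralChar (χ : G → ℂ) g =
      ((Subgroup.centralizer ({g} : Set G)).index : ℂ) / (e : ℂ) * z := by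
    unfold centralChar
    rw [hχg, hdeg]
    have he0 : (e : ℂ) ≠ 0 := by exact_mod_cast he.ne'
    field_simp
  rw [h6]
  exact memLocalIdeal_mul_right h5 (memLocalRing_of_isIntegral hz)

end decomp

section shape

variable {G : Type u} [Group G] [Fintype G] {p : ℕ} [hpf : Fact p.Prime] {M : Ideal AlgInt}

/-- The shape of the members of a block with defect group `P` when all `p`-regular elements
centralize the normal subgroup `P`. -/
theorem pcentral_char (hM : IsPModular p M) (P : Subgroup G) [hPn : P.Normal]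
    (hreg : ∀ x : G, ¬ p ∣ orderOf x → x ∈ Subgroup.centralizer (P : Set G))
    {B : Set (IrrCharacter G)} (hB : IsPBlock M B) (hD : IsDefectGroup p M B P)
    (ψ₀ : IrrCharacter (G ⧸ P)) (h₀ : Cfsg.Agent.Helper79.inflate P ψ₀ ∈ B)
    (χ : IrrCharacter G) (hχ : χ ∈ B) (ζ : IrrCharacter P) (e : ℕ) (he : 0 < e)
    (hdeg : charDegree (χ : G → ℂ) = charDegree (ζ : P → ℂ) * e)
    (hmul : ∀ (y : P) (x : G), x ∈ Subgroup.centralizer (P : Set G) →
        (χ : G → ℂ) ((y : G) * x) * (ζ : P → ℂ) 1 = (ζ : P → ℂ) y * (χ : G → ℂ) x)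
    (hint : ∀ x : G, x ∈ Subgroup.centralizer (P : Set G) →
        ∃ z : ℂ, IsIntegral ℤ z ∧ (χ : G → ℂ) x = (ζ : P → ℂ) 1 * z) :
    e = charDegree (ψ₀ : G ⧸ P → ℂ) ∧
    (∀ (y : P) (x : G), ¬ p ∣ orderOf x →
      (χ : G → ℂ) ((y : G) * x) = (ζ : P → ℂ) y * (ψ₀ : G ⧸ P → ℂ) (QuotientGroup.mk x)) ∧
    (∀ g : G, p ∣ orderOf (QuotientGroup.mk g : G ⧸ P) → (χ : G → ℂ) g = 0) := by
  classical
  have hp : p.Prime := hpf.out
  have hpr := isPrime_of_isPModular hM
  have : Fintype (G ⧸ P) := Fintype.ofFinite _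
  have : Fintype P := Fintype.ofFinite _
  have hcard := card_defectGroup hM hB P hD
  have hPp : IsPGroup p P := IsPGroup.of_card hcard
  have hψ1 := Cfsg.Agent.Helper79.irr_one_eq ψ₀
  have hζ1 := Cfsg.Agent.Helper79.irr_one_eq ζ
  have hχ1 := Cfsg.Agent.Helper79.irr_one_eq χ
  have hdz := defect_zero_of_inflate_mem hM P hB hD ψ₀ h₀
  have hζ0 : (ζ : P → ℂ) 1 ≠ 0 := by
    rw [hζ1.1]; exact_mod_cast hζ1.2.ne'
  have ht0 : ((charDegree (ψ₀ : G ⧸ P → ℂ) : ℕ) : ℂ) ≠ 0 := by exact_mod_cast hψ1.2.ne'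
  -- `t₀ ∣ e`
  have hdiv : charDegree (ψ₀ : G ⧸ P → ℂ) ∣ e := by
    have h1 := degree_dvd_of_mem hM P hreg hB hD ψ₀ h₀ χ hχ
    rw [hdeg] at h1
    have h2 := index_factorization_le hM P hB hD χ hχ ((ζ : P → ℂ) 1) hζ0 e he
      (by rw [hχ1.1, hdeg, hζ1.1]; push_cast; rfl) hint
    have hζdvd := Cfsg.Agent.Helper79.irr_degree_dvd_card ζ
    rw [hcard] at hζdvd
    obtain ⟨k, -, hk⟩ := (Nat.dvd_prime_pow hp).1 hζdvd
    rw [← Nat.factorization_le_iff_dvd hψ1.2.ne' he.ne']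
    intro q
    by_cases hq : q = p
    · subst hq
      have h3 : (charDegree (ψ₀ : G ⧸ P → ℂ)).factorization q ≤
          (Nat.card (G ⧸ P)).factorization q :=
        (Nat.factorization_le_iff_dvd hψ1.2.ne' Nat.card_pos.ne').2
          (Cfsg.Agent.Helper79.irr_degree_dvd_card ψ₀) q
      have h4 : Nat.card (G ⧸ P) = P.index := (Subgroup.index_eq_card P).symm
      rw [h4] at h3
      exact le_trans h3 h2
    · have hk0 : charDegree (ζ : P → ℂ) ≠ 0 := hζ1.2.ne'
      have h3 := (Nat.factorization_le_iff_dvd hψ1.2.ne' (mul_ne_zero hk0 he.ne')).2 h1 q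
      rw [Nat.factorization_mul hk0 he.ne', Finsupp.coe_add, Pi.add_apply, hk,
        hp.factorization_pow] at h3
      have h5 : (Finsupp.single p k) q = 0 := by
        rw [Finsupp.single_apply, if_neg (fun h => hq h.symm)]
      rw [h5, zero_add] at h3
      exact h3
  obtain ⟨σ, hσ, hσreg⟩ := exists_regular_section P hPp
  -- formula on regular cosets
  have hA : ∀ (y : P) (x : G), ¬ p ∣ orderOf x → (χ : G → ℂ) ((y : G) * x) =
      (ζ : P → ℂ) y * (((e : ℂ) / ((charDegree (ψ₀ : G ⧸ P → ℂ) : ℕ) : ℂ)) *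
        (ψ₀ : G ⧸ P → ℂ) (QuotientGroup.mk x)) := by
    intro y x hx
    have hxC := hreg x hx
    have h1 := hmul y x hxC
    have h2 := scalar_regular' hM P hreg hB hD ψ₀ h₀ χ hχ x hx
    rw [hψ1.1, hχ1.1, hdeg] at h2
    push_cast at h2
    rw [← hζ1.1] at h2
    have h3 : (χ : G → ℂ) x = (ζ : P → ℂ) 1 *
        (((e : ℂ) / ((charDegree (ψ₀ : G ⧸ P → ℂ) : ℕ) : ℂ)) *
          (ψ₀ : G ⧸ P → ℂ) (QuotientGroup.mk x)) := by
      field_simp
      linear_combination h2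
    apply mul_right_cancel₀ hζ0
    rw [h1, h3]
    ring
  -- norms
  have hsum : (Nat.card G : ℝ) =
      ∑ q : G ⧸ P, ∑ y : P, Complex.normSq ((χ : G → ℂ) ((y : G) * σ q)) := by
    rw [← Cfsg.Agent.Helper74.Lin.irr_sum_normSq χ]
    exact sum_eq_sum_section P σ hσ (fun g => Complex.normSq ((χ : G → ℂ) g))
  have hζsum : ∑ y : P, Complex.normSq ((ζ : P → ℂ) y) = (Nat.card P : ℝ) :=
    Cfsg.Agent.Helper74.Lin.irr_sum_normSq ζ
  have hψsum : ∑ q : G ⧸ P, Complex.normSq ((ψ₀ : G ⧸ P → ℂ) q) = (Nat.card (G ⧸ P) : ℝ) :=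
    Cfsg.Agent.Helper74.Lin.irr_sum_normSq ψ₀
  have hvan : ∀ q : G ⧸ P, p ∣ orderOf q → (ψ₀ : G ⧸ P → ℂ) q = 0 := fun q hq =>
    Cfsg.Agent.Helper74.DZ.irr_vanish_of_defect_zero ψ₀ p hp hdz q hq
  set c : ℝ := (e : ℝ) / ((charDegree (ψ₀ : G ⧸ P → ℂ) : ℕ) : ℝ) with hc
  have hrc : Complex.normSq ((e : ℂ) / ((charDegree (ψ₀ : G ⧸ P → ℂ) : ℕ) : ℂ)) = c ^ 2 := by
    rw [Complex.normSq_div, Complex.normSq_natCast, Complex.normSq_natCast, hc]
    have : ((charDegree (ψ₀ : G ⧸ P → ℂ) : ℕ) : ℝ) ≠ 0 := by exact_mod_cast hψ1.2.ne'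
    field_simp
  set Dq : G ⧸ P → ℝ := fun q =>
    (∑ y : P, Complex.normSq ((χ : G → ℂ) ((y : G) * σ q))) -
      (Nat.card P : ℝ) * c ^ 2 * Complex.normSq ((ψ₀ : G ⧸ P → ℂ) q) with hDq
  have hDreg : ∀ q : G ⧸ P, ¬ p ∣ orderOf q → Dq q = 0 := by
    intro q hq
    have h1 : ∀ y : P, Complex.normSq ((χ : G → ℂ) ((y : G) * σ q)) =
        Complex.normSq ((ζ : P → ℂ) y) * (c ^ 2 * Complex.normSq ((ψ₀ : G ⧸ P → ℂ) q)) := by
      intro y
      rw [hA y (σ q) (hσreg q hq), hσ q, Complex.normSq_mul, Complex.normSq_mul, hrc]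
    simp only [hDq, h1]
    rw [← Finset.sum_mul, hζsum]
    ring
  have hDsing : ∀ q : G ⧸ P, p ∣ orderOf q →
      Dq q = ∑ y : P, Complex.normSq ((χ : G → ℂ) ((y : G) * σ q)) := by
    intro q hq
    simp only [hDq]
    rw [hvan q hq, map_zero, mul_zero, sub_zero]
  have hDnonneg : ∀ q : G ⧸ P, 0 ≤ Dq q := by
    intro q
    by_cases hq : p ∣ orderOf q
    · rw [hDsing q hq]
      exact Finset.sum_nonneg (fun y _ => Complex.normSq_nonneg _)
    · rw [hDreg q hq]
  have hGcard : (Nat.card G : ℝ) = (Nat.card (G ⧸ P) : ℝ) * (Nat.card P : ℝ) := by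
    exact_mod_cast Subgroup.card_eq_card_quotient_mul_card_subgroup P
  have hDsum : ∑ q : G ⧸ P, Dq q = (Nat.card G : ℝ) * (1 - c ^ 2) := by
    simp only [hDq]
    rw [Finset.sum_sub_distrib, ← hsum, ← Finset.mul_sum, hψsum, hGcard]
    ring
  have ht0' : (0 : ℝ) < ((charDegree (ψ₀ : G ⧸ P → ℂ) : ℕ) : ℝ) := by exact_mod_cast hψ1.2
  have hc1 : 1 ≤ c := by
    have hle : charDegree (ψ₀ : G ⧸ P → ℂ) ≤ e := Nat.le_of_dvd he hdiv
    rw [hc, one_le_div ht0']
    exact_mod_cast hle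
  have hG0 : (0 : ℝ) < (Nat.card G : ℝ) := by exact_mod_cast Nat.card_pos
  have hDsum0 : ∑ q : G ⧸ P, Dq q = 0 := by
    apply le_antisymm
    · rw [hDsum]
      have : 1 - c ^ 2 ≤ 0 := by nlinarith
      exact mul_nonpos_of_nonneg_of_nonpos hG0.le this
    · exact Finset.sum_nonneg (fun q _ => hDnonneg q)
  have hc_eq : c = 1 := by
    rw [hDsum] at hDsum0
    have : 1 - c ^ 2 = 0 := by
      rcases mul_eq_zero.1 hDsum0 with h | h
      · exact absurd h hG0.ne'
      · exact h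
    nlinarith
  have he_eq : e = charDegree (ψ₀ : G ⧸ P → ℂ) := by
    rw [hc, div_eq_one_iff_eq ht0'.ne'] at hc_eq
    exact_mod_cast hc_eq
  have hDzero : ∀ q : G ⧸ P, Dq q = 0 := fun q =>
    (Finset.sum_eq_zero_iff_of_nonneg (fun q _ => hDnonneg q)).1 hDsum0 q (Finset.mem_univ q)
  refine ⟨he_eq, ?_, ?_⟩
  · intro y x hx
    rw [hA y x hx, he_eq, div_self ht0, one_mul]
  · intro g hg
    have h1 := hDzero (QuotientGroup.mk g)
    rw [hDsing _ hg] at h1
    have h2 := (Finset.sum_eq_zero_iff_of_nonneg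
      (fun (y : P) _ => Complex.normSq_nonneg ((χ : G → ℂ) ((y : G) * σ (QuotientGroup.mk g))))).1 h1
    have hmem : g * (σ (QuotientGroup.mk g))⁻¹ ∈ P := by
      rw [← QuotientGroup.eq_one_iff, QuotientGroup.mk_mul, QuotientGroup.mk_inv, hσ,
        mul_inv_cancel]
    have h3 := h2 ⟨_, hmem⟩ (Finset.mem_univ _)
    rw [Complex.normSq_eq_zero] at h3
    simpa using h3

end shape

section main

variable {G : Type u} [Group G] [Fintype G] {p : ℕ} [hpf : Fact p.Prime] {M : Ideal AlgInt}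

/-- **Blocks of `G = P C_G(P)` with defect group `P`.** -/
theorem pcentral_main (hM : IsPModular p M) (P : Subgroup G) [hPn : P.Normal] (hP : IsPGroup p P)
    (hG : P ⊔ Subgroup.centralizer (P : Set G) = ⊤) {B : Set (IrrCharacter G)}
    (hB : IsPBlock M B) (hD : IsDefectGroup p M B P) :
    ∃ (ψ₀ : IrrCharacter (G ⧸ P)) (f : IrrCharacter G → IrrCharacter P),
      Cfsg.Agent.Helper79.inflate P ψ₀ ∈ B ∧
      (∀ θ ∈ B, (∀ y ∈ P, (θ : G → ℂ) y = (θ : G → ℂ) 1) →
        θ = Cfsg.Agent.Helper79.inflate P ψ₀) ∧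
      (charDegree (ψ₀ : G ⧸ P → ℂ)).factorization p = P.index.factorization p ∧
      Set.BijOn f B Set.univ ∧
      (∀ χ ∈ B, ∀ (y : P) (x : G), ¬ p ∣ orderOf x →
        (χ : G → ℂ) ((y : G) * x) =
          (f χ : P → ℂ) y * (ψ₀ : G ⧸ P → ℂ) (QuotientGroup.mk x)) ∧
      (∀ χ ∈ B, ∀ g : G, p ∣ orderOf (QuotientGroup.mk g : G ⧸ P) → (χ : G → ℂ) g = 0) := by
  classical
  have hp : p.Prime := hpf.out
  have hpr := isPrime_of_isPModular hM
  have : Fintype (G ⧸ P) := Fintype.ofFinite _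
  have : Fintype P := Fintype.ofFinite _
  have hreg := regular_mem_centralizer_of_sup (p := p) P hP hG
  have hcard := card_defectGroup hM hB P hD
  -- the canonical character
  obtain ⟨ξ, hξB, hξker⟩ := exists_mem_block_const_on_normal_pgroup hM P hP hB
  obtain ⟨ψ₀, hψ₀⟩ := Cfsg.Agent.Helper79.exists_deflate P ξ (by
    intro y hy
    rw [Cfsg.Agent.Helper79.mem_irrKer]
    exact hξker ⟨y, hy⟩)
  have h₀ : Cfsg.Agent.Helper79.inflate P ψ₀ ∈ B := by rw [hψ₀]; exact hξB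
  have hψ1 := Cfsg.Agent.Helper79.irr_one_eq ψ₀
  have hdz := defect_zero_of_inflate_mem hM P hB hD ψ₀ h₀
  -- decomposition data
  have hdec := fun χ : IrrCharacter G => exists_cprod_decomp P hG χ
  choose f e he hdeg hmul hint using hdec
  have hshape := fun (χ : IrrCharacter G) (hχ : χ ∈ B) =>
    pcentral_char hM P hreg hB hD ψ₀ h₀ χ hχ (f χ) (e χ) (he χ) (hdeg χ) (hmul χ) (hint χ)
  refine ⟨ψ₀, f, h₀, ?_, ?_, ?_, fun χ hχ => (hshape χ hχ).2.1, fun χ hχ => (hshape χ hχ).2.2⟩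
  · -- uniqueness
    intro θ hθ hker
    obtain ⟨ψ, hψ⟩ := Cfsg.Agent.Helper79.exists_deflate P θ (by
      intro y hy
      rw [Cfsg.Agent.Helper79.mem_irrKer]
      exact hker y hy)
    have := eq_of_inflate_mem' hM P hreg hB hD ψ₀ ψ h₀ (by rw [hψ]; exact hθ)
    rw [← hψ, this]
  · -- the degree
    have h1 : (charDegree (ψ₀ : G ⧸ P → ℂ)).factorization p ≤
        (Nat.card (G ⧸ P)).factorization p :=
      (Nat.factorization_le_iff_dvd hψ1.2.ne' Nat.card_pos.ne').2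
        (Cfsg.Agent.Helper79.irr_degree_dvd_card ψ₀) p
    have h2 : (Nat.card (G ⧸ P)).factorization p ≤
        (charDegree (ψ₀ : G ⧸ P → ℂ)).factorization p :=
      (hp.pow_dvd_iff_le_factorization hψ1.2.ne').1 hdz
    have h4 : Nat.card (G ⧸ P) = P.index := (Subgroup.index_eq_card P).symm
    rw [h4] at h1 h2
    exact le_antisymm h1 h2
  · -- bijectivity
    have hinj : Set.InjOn f B := by
      intro χ hχ χ' hχ' hff
      apply Subtype.ext
      funext g
      by_cases hg : p ∣ orderOf (QuotientGroup.mk g : G ⧸ P)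
      · rw [(hshape χ hχ).2.2 g hg, (hshape χ' hχ').2.2 g hg]
      · obtain ⟨x, hx1, hx2⟩ := Cfsg.Agent.Helper16.exists_regular_lift P hP _ hg
        have hmem : g * x⁻¹ ∈ P := by
          rw [← QuotientGroup.eq_one_iff, QuotientGroup.mk_mul, QuotientGroup.mk_inv, hx1,
            mul_inv_cancel]
        have h1 := (hshape χ hχ).2.1 ⟨_, hmem⟩ x hx2
        have h2 := (hshape χ' hχ').2.1 ⟨_, hmem⟩ x hx2
        have h3 : g * x⁻¹ * x = g := by group
        simp only [h3] at h1 h2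
        rw [h1, h2, hff]
    refine ⟨fun _ _ => Set.mem_univ _, hinj, ?_⟩
    -- counting
    have h1reg : ¬ p ∣ orderOf (1 : G) := by rw [orderOf_one]; exact hp.not_dvd_one
    have hdefl : deflSet P B = {ψ₀} := by
      ext ψ
      constructor
      · intro hψ
        exact eq_of_inflate_mem' hM P hreg hB hD ψ₀ ψ h₀ hψ
      · intro hψ
        rw [Set.mem_singleton_iff] at hψ
        rw [hψ]
        exact h₀
    have hbc := blockCoeff_eq_blockCoeff_quot hM P hP hB 1 h1reg (Subgroup.one_mem _)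
    rw [hdefl, Cfsg.Agent.Helper74.DZ.blockCoeff_singleton, blockCoeff_eq_sum,
      QuotientGroup.mk_one] at hbc
    have hGcard : Nat.card G = Nat.card (G ⧸ P) * Nat.card P :=
      Subgroup.card_eq_card_quotient_mul_card_subgroup P
    -- sum of squares of degrees over `B`
    have hsumB : ∑ χ ∈ (Set.toFinite B).toFinset, (charDegree (χ : G → ℂ)) ^ 2 =
        Nat.card P * (charDegree (ψ₀ : G ⧸ P → ℂ)) ^ 2 := by
      have h1 : ∑ χ ∈ (Set.toFinite B).toFinset, (χ : G → ℂ) 1 * conj ((χ : G → ℂ) 1) =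
          ((∑ χ ∈ (Set.toFinite B).toFinset, (charDegree (χ : G → ℂ)) ^ 2 : ℕ) : ℂ) := by
        push_cast
        refine Finset.sum_congr rfl fun χ _ => ?_
        rw [(Cfsg.Agent.Helper79.irr_one_eq χ).1, Complex.conj_natCast]
        ring
      rw [h1, hψ1.1, Complex.conj_natCast, hGcard] at hbc
      have hq0 : (Nat.card (G ⧸ P) : ℂ) ≠ 0 := by exact_mod_cast Nat.card_pos.ne'
      have hP0 : (Nat.card P : ℂ) ≠ 0 := by exact_mod_cast Nat.card_pos.ne'
      push_cast at hbc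
      have h2 : ((∑ χ ∈ (Set.toFinite B).toFinset, (charDegree (χ : G → ℂ)) ^ 2 : ℕ) : ℂ) =
          ((Nat.card P * (charDegree (ψ₀ : G ⧸ P → ℂ)) ^ 2 : ℕ) : ℂ) := by
        push_cast
        field_simp at hbc
        linear_combination hbc
      exact_mod_cast h2
    have hsumf : ∑ χ ∈ (Set.toFinite B).toFinset, (charDegree (f χ : P → ℂ)) ^ 2 =
        Nat.card P := by
      have h1 : ∑ χ ∈ (Set.toFinite B).toFinset, (charDegree (χ : G → ℂ)) ^ 2 =
          (∑ χ ∈ (Set.toFinite B).toFinset, (charDegree (f χ : P → ℂ)) ^ 2) *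
            (charDegree (ψ₀ : G ⧸ P → ℂ)) ^ 2 := by
        rw [Finset.sum_mul]
        refine Finset.sum_congr rfl fun χ hχ => ?_
        rw [Set.Finite.mem_toFinset] at hχ
        rw [hdeg χ, (hshape χ hχ).1]
        ring
      rw [h1] at hsumB
      have ht : 0 < (charDegree (ψ₀ : G ⧸ P → ℂ)) ^ 2 := pow_pos hψ1.2 2
      exact Nat.eq_of_mul_eq_mul_right ht hsumB
    have hsumP : ∑ ζ : IrrCharacter P, (charDegree (ζ : P → ℂ)) ^ 2 = Nat.card P := by
      have h1 := sum_irr_one_mul (1 : P)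
      rw [if_pos rfl] at h1
      have h2 : ∑ ζ : IrrCharacter P, (ζ : P → ℂ) 1 * (ζ : P → ℂ) 1 =
          ((∑ ζ : IrrCharacter P, (charDegree (ζ : P → ℂ)) ^ 2 : ℕ) : ℂ) := by
        push_cast
        refine Finset.sum_congr rfl fun ζ _ => ?_
        rw [(Cfsg.Agent.Helper79.irr_one_eq ζ).1]
        ring
      rw [h2] at h1
      exact_mod_cast h1
    intro ζ₁ _
    by_contra hcon
    have hnotin : ζ₁ ∉ (Set.toFinite B).toFinset.image f := by
      intro h
      rw [Finset.mem_image] at h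
      obtain ⟨χ, hχ, hfχ⟩ := h
      rw [Set.Finite.mem_toFinset] at hχ
      exact hcon ⟨χ, hχ, hfχ⟩
    have himg : ∑ ζ ∈ (Set.toFinite B).toFinset.image f, (charDegree (ζ : P → ℂ)) ^ 2 =
        Nat.card P := by
      rw [Finset.sum_image]
      · exact hsumf
      · intro χ hχ χ' hχ' h
        rw [Finset.mem_coe, Set.Finite.mem_toFinset] at hχ hχ'
        exact hinj hχ hχ' h
    have hle : ∑ ζ ∈ insert ζ₁ ((Set.toFinite B).toFinset.image f),
        (charDegree (ζ : P → ℂ)) ^ 2 ≤ ∑ ζ : IrrCharacter P, (charDegree (ζ : P → ℂ)) ^ 2 :=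
      Finset.sum_le_sum_of_subset (Finset.subset_univ _)
    rw [Finset.sum_insert hnotin, himg, hsumP] at hle
    have hpos : 0 < (charDegree (ζ₁ : P → ℂ)) ^ 2 :=
      pow_pos (Cfsg.Agent.Helper79.irr_one_eq ζ₁).2 2
    omega

end main

end Cfsg.Agent.Helper78
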