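import Mathlib
import Cfsg.Agent.Lib.Helper77.PIndexBlock
import Cfsg.Agent.Lib.Helper77.FongDefect
import Cfsg.Agent.Lib.Helper79.DegreeRatio
import Cfsg.Agent.Lib.Helper81.CharGalOdd
import Cfsg.Agent.Lib.Helper78.CoverAll

/-!
# Invariant height zero characters under a `p`-power index normal subgroup (helper78)

* `eq_of_constituent_of_degree` : a character with an irreducible constituent of the same degree
  is that constituent.
* `exists_invariant_height_zero` : if `K ⊴ X` has `p`-power index and the block `c` of `K` is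
  `X`-stable, then `c` contains an `X`-invariant character of height zero.
* `mem_of_fixes_of_degree` : if `ζ ∈ Irr(X)` lies over `θ ∈ Irr(K)` with `ζ(1) = [X:K] θ(1)`, then
  the inertia group of `θ` is `K`.
-/

set_option autoImplicit false
set_option linter.unusedSectionVars false
set_option linter.style.haveILetI false

namespace Cfsg.Agent.Helper78

open Cfsg
open scoped ComplexConjugate

universe u

section degree

variable {X : Type u} [Group X] [Fintype X]

/-- A character with an irreducible constituent of the same degree is equal to it. -/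
theorem eq_of_constituent_of_degree {Ψ : X → ℂ} (hΨ : IsCharacter X Ψ) (ζ : IrrCharacter X)
    (hne : classInner Ψ (ζ : X → ℂ) ≠ 0) (hdeg : Ψ 1 = (ζ : X → ℂ) 1) : Ψ = (ζ : X → ℂ) := by
  classical
  obtain ⟨m, hm⟩ := IsCharacter.exists_irr_decomp hΨ
  have hmζ : classInner Ψ (ζ : X → ℂ) = (m ζ : ℂ) := by
    rw [hm]
    exact classInner_decomp (fun χ => (m χ : ℂ)) ζ
  have hmζ0 : m ζ ≠ 0 := by
    intro h0
    rw [hmζ, h0] at hne
    exact hne (by simp)
  -- degrees
  have h1 : Ψ 1 = ∑ χ : IrrCharacter X, (m χ : ℂ) * (charDegree (χ : X → ℂ) : ℂ) := by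
    rw [hm]
    simp only [Finset.sum_apply, Pi.smul_apply, smul_eq_mul]
    refine Finset.sum_congr rfl fun χ _ => ?_
    rw [(Cfsg.Agent.Helper79.irr_one_eq χ).1]
  have h2 : charDegree (ζ : X → ℂ) = ∑ χ : IrrCharacter X, m χ * charDegree (χ : X → ℂ) := by
    have : ((charDegree (ζ : X → ℂ) : ℕ) : ℂ) =
        ((∑ χ : IrrCharacter X, m χ * charDegree (χ : X → ℂ) : ℕ) : ℂ) := by
      rw [← (Cfsg.Agent.Helper79.irr_one_eq ζ).1, ← hdeg, h1]
      push_cast
      rfl
    exact_mod_cast this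
  have hpos : ∀ χ : IrrCharacter X, 0 < charDegree (χ : X → ℂ) :=
    fun χ => (Cfsg.Agent.Helper79.irr_one_eq χ).2
  have h3 : ∑ χ : IrrCharacter X, m χ * charDegree (χ : X → ℂ) =
      m ζ * charDegree (ζ : X → ℂ) +
        ∑ χ ∈ Finset.univ.erase ζ, m χ * charDegree (χ : X → ℂ) := by
    exact (Finset.add_sum_erase Finset.univ (fun χ : IrrCharacter X => m χ * charDegree (χ : X → ℂ))
      (Finset.mem_univ ζ)).symm
  have h4 : m ζ = 1 ∧ ∑ χ ∈ Finset.univ.erase ζ, m χ * charDegree (χ : X → ℂ) = 0 := by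
    have hd := hpos ζ
    rw [h3] at h2
    have hge : 1 ≤ m ζ := Nat.one_le_iff_ne_zero.2 hmζ0
    have hle : m ζ * charDegree (ζ : X → ℂ) ≤ charDegree (ζ : X → ℂ) := by omega
    have hle1 : m ζ ≤ 1 := by
      by_contra hgt
      push Not at hgt
      have : 2 * charDegree (ζ : X → ℂ) ≤ m ζ * charDegree (ζ : X → ℂ) :=
        Nat.mul_le_mul_right _ hgt
      omega
    have hm1 : m ζ = 1 := le_antisymm hle1 hge
    refine ⟨hm1, ?_⟩
    rw [hm1, one_mul] at h2
    omega
  have h5 : ∀ χ : IrrCharacter X, χ ≠ ζ → m χ = 0 := by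
    intro χ hχ
    have := (Finset.sum_eq_zero_iff.1 h4.2) χ (Finset.mem_erase.2 ⟨hχ, Finset.mem_univ _⟩)
    rcases Nat.mul_eq_zero.1 this with h | h
    · exact h
    · exact absurd h (hpos χ).ne'
  rw [hm, Finset.sum_eq_single ζ]
  · rw [h4.1]; simp
  · intro χ _ hχ
    rw [h5 χ hχ]; simp
  · intro h; exact absurd (Finset.mem_univ _) h

theorem indFun_apply_one (K : Subgroup X) (θ : K → ℂ) :
    indFun K θ 1 = (K.index : ℂ) * θ 1 := by
  classical
  unfold indFun
  have : ∀ x : X, extendByZero K θ (x⁻¹ * 1 * x) = θ 1 := by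
    intro x
    have e : x⁻¹ * 1 * x = 1 := by group
    rw [e]
    unfold extendByZero
    have h1 : (1 : X) = ((1 : K) : X) := rfl
    rw [h1]
    exact Subtype.val_injective.extend_apply θ 0 1
  rw [Finset.sum_congr rfl (fun x _ => this x), Finset.sum_const, Finset.card_univ,
    nsmul_eq_mul, ← Nat.card_eq_fintype_card, ← Subgroup.card_mul_index K]
  have hA : (Nat.card K : ℂ) ≠ 0 := by
    exact_mod_cast (Nat.card_pos (α := K)).ne'
  push_cast
  field_simp

end degree

section partA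

variable {X : Type u} [Group X] [Fintype X] {p : ℕ} [Fact p.Prime] {M : Ideal AlgInt}

/-- If `K ⊴ X` has `p`-power index and the block `c` of `K` is `X`-stable, then `c` contains an
`X`-invariant character of height zero. -/
theorem exists_invariant_height_zero (hM : IsPModular p M) (K : Subgroup X) [hK : K.Normal]
    [Fintype K] (hidx : ∃ k : ℕ, K.index = p ^ k) {c : Set (IrrCharacter K)} (hc : IsPBlock M c)
    (hst : ∀ x : X, StabilizesBlock K c x) :
    ∃ θ ∈ c, (charDegree (θ : K → ℂ)).factorization p = Cfsg.Agent.Helper74.DO.minVal p c ∧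
      ∀ (x : X) (k : K), (θ : K → ℂ) ⟨x * k * x⁻¹, hK.conj_mem k k.2 x⟩ = (θ : K → ℂ) k := by
  classical
  have hp : p.Prime := Fact.out
  haveI hpr := Cfsg.Agent.Helper77.isPrime_of_isPModular hM
  obtain ⟨b1, hb1, hb1c⟩ := Cfsg.Agent.Helper77.exists_block_of_pIndex hM K hidx hc hst
  obtain ⟨P1, hP1⟩ := Cfsg.Agent.Helper77.exists_isDefectGroup p hb1
  obtain ⟨hsup, hdef⟩ := Cfsg.Agent.Helper77.pIndex_defect hM K hidx hc hst hb1 hb1c hP1
  obtain ⟨k, hk⟩ := hidx
  have hcP := Cfsg.Agent.Helper74.DO.card_defectGroup hM hb1 P1 hP1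
  have hcQ := Cfsg.Agent.Helper74.DO.card_defectGroup hM hc _ hdef
  rw [Cfsg.Agent.Helper77.card_subgroupOf_of_le (inf_le_right : P1 ⊓ K ≤ K)] at hcQ
  have hrel : K.relIndex P1 = p ^ k := by
    have h1 : K.relIndex (K ⊔ P1) = K.relIndex P1 := Subgroup.relIndex_sup_left P1 K
    rw [hsup, Subgroup.relIndex_top_right, hk] at h1
    exact h1.symm
  have hcard : Nat.card P1 = Nat.card (P1 ⊓ K : Subgroup X) * p ^ k := by
    have h1 := Subgroup.card_mul_index (K.subgroupOf P1)
    have h2 : Nat.card (K.subgroupOf P1) = Nat.card (P1 ⊓ K : Subgroup X) := by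
      rw [← Subgroup.inf_subgroupOf_left K P1]
      exact Cfsg.Agent.Helper77.card_subgroupOf_of_le (inf_le_left : P1 ⊓ K ≤ P1)
    rw [h2] at h1
    rw [← h1, ← hrel]
    rfl
  -- defects
  have hdef1 : blockDefect p b1 = blockDefect p c + k := by
    rw [hcP, hcQ, ← pow_add] at hcard
    exact Nat.pow_right_injective hp.two_le hcard
  -- valuations of the group orders
  have hXK : (Nat.card X).factorization p = (Nat.card K).factorization p + k := by
    rw [← Subgroup.card_mul_index K, hk,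
      Nat.factorization_mul Nat.card_pos.ne' (pow_ne_zero _ hp.ne_zero)]
    simp [hp.factorization_self]
  have hne1 : b1.Nonempty := Cfsg.Agent.Helper77.nonempty_of_isPBlock hb1
  have hnec : c.Nonempty := Cfsg.Agent.Helper77.nonempty_of_isPBlock hc
  have hm1 := Cfsg.Agent.Helper74.DO.minVal_le_card (p := p) hne1
  have hmc := Cfsg.Agent.Helper74.DO.minVal_le_card (p := p) hnec
  have hminv : Cfsg.Agent.Helper74.DO.minVal p b1 = Cfsg.Agent.Helper74.DO.minVal p c := by
    have e1 := Cfsg.Agent.Helper74.DO.blockDefect_eq (p := p) b1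
    have e2 := Cfsg.Agent.Helper74.DO.blockDefect_eq (p := p) c
    omega
  obtain ⟨ψ1, hψ1, hψ1v⟩ := Cfsg.Agent.Helper74.DO.exists_minVal (p := p) hne1
  obtain ⟨θ1, hθ1⟩ := Cfsg.Agent.Helper16.exists_constituent K ψ1
  -- `θ1 ∈ c`
  have hθ1c : θ1 ∈ c := by
    by_contra hnot
    have h0 := (Cfsg.Agent.Helper77.omega_subgroupBlockCoeff_of_constituent K hc hst ψ1 θ1
      hθ1).2 hnot
    have h1 := Cfsg.Agent.Helper77.omega_blockCoeff b1 ψ1
    rw [if_pos hψ1] at h1
    have hfun : blockCoeff b1 = subgroupBlockCoeff K c := funext hb1c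
    rw [hfun, h0] at h1
    exact zero_ne_one h1
  -- degrees
  obtain ⟨e, he, hediv⟩ := Cfsg.Agent.Helper79.degree_ratio_dvd_index K ψ1.2 θ1.2 hθ1
  have hdegnat : charDegree (ψ1 : X → ℂ) = e * charDegree (θ1 : K → ℂ) := by
    have : ((charDegree (ψ1 : X → ℂ) : ℕ) : ℂ) = ((e * charDegree (θ1 : K → ℂ) : ℕ) : ℂ) := by
      rw [← (Cfsg.Agent.Helper79.irr_one_eq ψ1).1, he, (Cfsg.Agent.Helper79.irr_one_eq θ1).1]
      push_cast
      rfl
    exact_mod_cast this
  have hψpos := (Cfsg.Agent.Helper79.irr_one_eq ψ1).2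
  have hθpos := (Cfsg.Agent.Helper79.irr_one_eq θ1).2
  have he0 : e ≠ 0 := by
    intro h0
    rw [h0, zero_mul] at hdegnat
    omega
  have hfac : (charDegree (ψ1 : X → ℂ)).factorization p =
      e.factorization p + (charDegree (θ1 : K → ℂ)).factorization p := by
    rw [hdegnat, Nat.factorization_mul he0 hθpos.ne']
    rfl
  have hθ1min := Cfsg.Agent.Helper74.DO.minVal_le (p := p) hθ1c
  have hefac : e.factorization p = 0 := by omega
  have hθ1v : (charDegree (θ1 : K → ℂ)).factorization p = Cfsg.Agent.Helper74.DO.minVal p c := by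
    omega
  have he1 : e = 1 := by
    rw [hk] at hediv
    obtain ⟨j, -, rfl⟩ := (Nat.dvd_prime_pow hp).1 hediv
    rw [hp.factorization_pow] at hefac
    simp only [Finsupp.single_eq_same] at hefac
    rw [hefac, pow_zero]
  rw [he1, Nat.cast_one, one_mul] at he
  -- the restriction of `ψ1` to `K` is `θ1`
  have hres : (fun n : K => (ψ1 : X → ℂ) n) = (θ1 : K → ℂ) :=
    eq_of_constituent_of_degree
      (Cfsg.Agent.Helper81.isCharacter_restrict K (IsIrrCharacter.isCharacter ψ1.2)) θ1 hθ1 he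
  refine ⟨θ1, hθ1c, hθ1v, fun x k => ?_⟩
  rw [← hres]
  exact Cfsg.Agent.Helper79.irr_class ψ1 (k : X) x

end partA

section partB

variable {X : Type u} [Group X] [Fintype X]

/-- If `ζ ∈ Irr(X)` lies over `θ ∈ Irr(K)`, `K ⊴ X`, and `ζ(1) = [X:K] θ(1)`, then every element
of `X` fixing `θ` lies in `K`. -/
theorem mem_of_fixes_of_degree (K : Subgroup X) [hK : K.Normal] [Fintype K]
    (ζ : IrrCharacter X) (θ : IrrCharacter K)
    (hne : classInner (fun n : K => (ζ : X → ℂ) n) (θ : K → ℂ) ≠ 0)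
    (hdeg : (ζ : X → ℂ) 1 = (K.index : ℂ) * (θ : K → ℂ) 1) (x : X)
    (hx : ∀ k : K, (θ : K → ℂ) ⟨x * k * x⁻¹, hK.conj_mem k k.2 x⟩ = (θ : K → ℂ) k) :
    x ∈ K := by
  classical
  have hΨ : IsCharacter X (indFun K (θ : K → ℂ)) :=
    Cfsg.Agent.Helper81.isCharacter_indFun K (IsIrrCharacter.isCharacter θ.2)
  have hfr : classInner (indFun K (θ : K → ℂ)) (ζ : X → ℂ) =
      classInner (θ : K → ℂ) (fun n : K => (ζ : X → ℂ) n) :=
    Cfsg.Agent.Helper81.frobenius_reciprocity K (θ : K → ℂ)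
      (IsCharacter.isClassFunction (IsIrrCharacter.isCharacter ζ.2))
  have hne' : classInner (indFun K (θ : K → ℂ)) (ζ : X → ℂ) ≠ 0 := by
    rw [hfr, ← classInner_conj_symm]
    intro h
    exact hne ((map_eq_zero _).1 h)
  have heq : indFun K (θ : K → ℂ) = (ζ : X → ℂ) :=
    eq_of_constituent_of_degree hΨ ζ hne' (by rw [indFun_apply_one, hdeg])
  have hself := Cfsg.Agent.Helper81.classInner_indFun_self K θ.2
  rw [heq, classInner_irr_self] at hself
  have hrel : K.relIndex (Cfsg.Agent.Helper79.inertiaGrp K hK (θ : K → ℂ)) = 1 := by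
    exact_mod_cast hself.symm
  have hle := Subgroup.relIndex_eq_one.1 hrel
  apply hle
  show Cfsg.Agent.Helper81.conjFun K hK (θ : K → ℂ) x = (θ : K → ℂ)
  funext k
  rw [Cfsg.Agent.Helper81.conjFun_apply]
  exact hx k

end partB

end Cfsg.Agent.Helper78
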