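import Mathlib

/-!
# Normaliser growth: a subgroup `X` of order `p^k` of a finite group `G` with `p^(k+1) ∣ |G|`
has `p^(k+1) ∣ |N_G(X)|`.  Mathlib only (from `Sylow.prime_dvd_card_quotient_normalizer`).
-/

set_option autoImplicit false

namespace Cfsg.Agent.Helper78

universe u

theorem pow_succ_dvd_card_normalizer {G : Type u} [Group G] [Finite G] (p : ℕ) [Fact p.Prime]
    (X : Subgroup G) (k : ℕ) (hX : Nat.card X = p ^ k) (hG : p ^ (k + 1) ∣ Nat.card G) :
    p ^ (k + 1) ∣ Nat.card (Subgroup.normalizer (X : Set G)) := by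
  have h1 := Sylow.prime_dvd_card_quotient_normalizer hG hX
  have h2 := Subgroup.card_eq_card_quotient_mul_card_subgroup
    (X.comap (Subgroup.normalizer (X : Set G)).subtype)
  have h3 : Nat.card (X.comap (Subgroup.normalizer (X : Set G)).subtype) = p ^ k := by
    rw [← hX]
    exact Nat.card_congr
      (Subgroup.subgroupOfEquivOfLe (Subgroup.le_normalizer (H := X))).toEquiv
  rw [h2, h3, pow_succ, mul_comm]
  exact Nat.mul_dvd_mul_right h1 _

end Cfsg.Agent.Helper78
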