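import Mathlib
import Cfsg.Agent.Lib.Helper16.IdemFun
import Cfsg.Agent.Lib.Helper16.BlockConj
import Cfsg.Agent.Lib.Helper16.RegNorm
import Cfsg.Agent.Lib.Helper16.Cover
import Cfsg.Agent.Lib.Helper78.BlockRank
import Cfsg.Agent.Lib.Helper77.Principal

/-!
# Principal blocks and (normal) subgroups (helper78)

* `constituent_mem_principalBlock` : `H ⊴ G`, `χ ∈ B₀(G)`: every constituent of `χ_H` is in `B₀(H)`.
* `regSum_ne_zero_of_principal` : for `θ ∈ B₀(G)` the sum of `θ` over the `p`-regular elements is
  nonzero.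
* `exists_principal_over` : `H ≤ G` arbitrary, `θ ∈ B₀(H)`: some `χ ∈ B₀(G)` lies over `θ`.
* `sum_sq_mul_omega_idemFun` : `∑_χ χ(1)² ω_χ(e_C) = |G| e_C(1)`.
-/

set_option autoImplicit false
set_option linter.unusedSectionVars false
set_option linter.style.haveILetI false

namespace Cfsg.Agent.Helper78

open Cfsg Cfsg.Agent.Helper77 Cfsg.Agent.Helper16
open scoped ComplexConjugate

section normal

variable {G : Type*} [Group G] [Fintype G] (H : Subgroup G) [hH : H.Normal] [Fintype H]
  {p : ℕ} [Fact p.Prime] {M : Ideal AlgInt}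

theorem conjIrr_trivIrr (x : G) : conjIrr H x (trivIrr H) = trivIrr H := by
  apply Subtype.ext
  funext n
  rw [conjIrr_apply]
  rfl

theorem conjIrr_mem_principalBlock (x : G) {θ : IrrCharacter H}
    (hθ : θ ∈ principalBlock M H) : conjIrr H x θ ∈ principalBlock M H := by
  have h := sameBlock_conjIrr H (M := M) x (trivIrr H) θ hθ
  rw [conjIrr_trivIrr] at h
  exact h

/-- Constituents of the restriction of a principal block character to a normal subgroup lie in
the principal block. -/
theorem constituent_mem_principalBlock (hM : IsPModular p M) {χ : IrrCharacter G}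
    (hχ : χ ∈ principalBlock M G) (θ : IrrCharacter H)
    (hθ : classInner (fun n : H => (χ : G → ℂ) n) (θ : H → ℂ) ≠ 0) :
    θ ∈ principalBlock M H := by
  classical
  have hpr := isPrime_of_isPModular hM
  obtain ⟨C, hCdef⟩ : ∃ C : Finset (IrrCharacter H),
      C = (Set.toFinite (principalBlock M H)).toFinset := ⟨_, rfl⟩
  have hmemC : ∀ θ' : IrrCharacter H, θ' ∈ C ↔ θ' ∈ principalBlock M H := by
    intro θ'
    rw [hCdef, Set.Finite.mem_toFinset]
  have hC : ∀ x : G, ∀ θ' ∈ C, conjIrr H x θ' ∈ C := by
    intro x θ' hθ'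
    rw [hmemC] at hθ' ⊢
    exact conjIrr_mem_principalBlock H x hθ'
  have hcl : ∀ θ' ∈ C, ∀ θ'' : IrrCharacter H,
      SameBlock M (θ' : H → ℂ) (θ'' : H → ℂ) → θ'' ∈ C := by
    intro θ' hθ' θ'' h
    rw [hmemC] at hθ' ⊢
    exact Cfsg.Agent.Helper77.sameBlock_trans hθ' h
  have hR : ∀ g, MemLocalRing M (idemFun H C g) :=
    memLocalRing_idemFun_of_blockClosed H hM C hcl
  have h0 : classInner (fun n : H => (trivIrr G : G → ℂ) n) (trivIrr H : H → ℂ) ≠ 0 :=
    classInner_trivIrr_ne_zero H (trivIrr G) (fun n => rfl)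
  have h1 := mem_of_sameBlock H hM (trivIrr G) χ hχ C hC hR (trivIrr H) θ h0
    ((hmemC _).2 (trivIrr_mem_principalBlock M)) hθ
  exact (hmemC _).1 h1

end normal

section regsum

variable {G : Type*} [Group G] [Fintype G] {p : ℕ} [Fact p.Prime] {M : Ideal AlgInt}

/-- The sum of a principal block character over the `p`-regular elements is nonzero. -/
theorem regSum_ne_zero_of_principal (hM : IsPModular p M) {θ : IrrCharacter G}
    (hθ : θ ∈ principalBlock M G) :
    regSum p (θ : G → ℂ) (trivIrr G : G → ℂ) ≠ 0 := by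
  classical
  have hpr := isPrime_of_isPModular hM
  have hB : IsPBlock M (principalBlock M G) := isPBlock_principalBlock M
  have htriv : trivIrr G ∈ principalBlock M G := trivIrr_mem_principalBlock M
  have hdeg : charDegree (trivIrr G : G → ℂ) = 1 := by
    unfold charDegree
    rw [trivIrr_apply]
    simp
  have hht : (charDegree (trivIrr G : G → ℂ)).factorization p =
      Cfsg.Agent.Helper74.DO.minVal p (principalBlock M G) := by
    apply le_antisymm
    · rw [hdeg]; simp
    · exact Cfsg.Agent.Helper74.DO.minVal_le htriv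
  have h1 := not_memLocalIdeal_regSum_self hM hB htriv hht
  have h2 := memLocalIdeal_omega_sub (M := M) θ.2 (trivIrr G).2 (sameBlock_symm hM hθ)
    (isClassFunction_regConj p (isClassFunction_of_isIrrCharacter (trivIrr G).2))
    (isRValued_regConj (M := M) (p := p) (trivIrr G))
  rw [← regSum_div_eq_omega, ← regSum_div_eq_omega] at h2
  intro h0
  rw [h0, zero_div, zero_sub] at h2
  have := memLocalIdeal_neg h2
  rw [neg_neg] at this
  exact h1 this

end regsum

section lyingOver

variable {G : Type*} [Group G] [Fintype G] (H : Subgroup G) [Fintype H]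
  {p : ℕ} [Fact p.Prime] {M : Ideal AlgInt}

/-- For an arbitrary subgroup `H` and `θ` in the principal block of `H`, some member of the principal
block of `G` lies over `θ`. -/
theorem exists_principal_over (hM : IsPModular p M) {θ : IrrCharacter H}
    (hθ : θ ∈ principalBlock M H) :
    ∃ χ : IrrCharacter G, χ ∈ principalBlock M G ∧
      classInner (fun n : H => (χ : G → ℂ) n) (θ : H → ℂ) ≠ 0 := by
  classical
  have hpr := isPrime_of_isPModular hM
  by_contra hcon
  push Not at hcon
  obtain ⟨f, hfdef⟩ : ∃ f : G → ℂ, f = pRegularPart p (trivIrr G : G → ℂ) := ⟨_, rfl⟩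
  have hfcl : IsClassFunction G f := by
    rw [hfdef]
    exact isClassFunction_pRegularPart p (isClassFunction_of_isIrrCharacter (trivIrr G).2)
  have hexp := Cfsg.Agent.Helper3.classFunction_eq_sum f hfcl
  -- coefficients vanish outside the principal block
  have hcoef : ∀ χ : IrrCharacter G, χ ∉ principalBlock M G → classInner f (χ : G → ℂ) = 0 := by
    intro χ hχ
    rw [hfdef]
    exact classInner_pRegularPart_eq_zero hM (trivIrr G) χ hχ
  -- the inner product of `f` restricted to `H` with `θ`
  have h1 : classInner (fun n : H => f n) (θ : H → ℂ) = 0 := by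
    have h2 : (fun n : H => f n) = ∑ χ : IrrCharacter G,
        classInner f (χ : G → ℂ) • (fun n : H => (χ : G → ℂ) n) := by
      funext n
      have := congrFun hexp (n : G)
      rw [this]
      simp only [Finset.sum_apply, Pi.smul_apply]
    rw [h2, classInner_sum_left]
    apply Finset.sum_eq_zero
    intro χ _
    rw [classInner_smul_left]
    by_cases hχ : χ ∈ principalBlock M G
    · rw [hcon χ hχ, mul_zero]
    · rw [hcoef χ hχ, zero_mul]
  -- but it is the conjugate of the regular sum of `θ`
  have h3 : classInner (fun n : H => f n) (θ : H → ℂ) =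
      (Nat.card H : ℂ)⁻¹ * conj (regSum p (θ : H → ℂ) (trivIrr H : H → ℂ)) := by
    unfold classInner regSum
    congr 1
    rw [map_sum, Finset.sum_filter]
    refine Finset.sum_congr rfl fun n _ => ?_
    rw [hfdef]
    beta_reduce
    by_cases hn : p ∣ orderOf n
    · have hn' : p ∣ orderOf (n : G) := by rwa [Subgroup.orderOf_coe]
      rw [pRegularPart_of_singular p _ hn', if_neg (not_not.2 hn), zero_mul]
    · have hn' : ¬ p ∣ orderOf (n : G) := by rwa [Subgroup.orderOf_coe]
      rw [pRegularPart_of_regular p _ hn', if_pos hn, trivIrr_apply, trivIrr_apply, one_mul,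
        map_mul, Complex.conj_conj, mul_one]
  rw [h3] at h1
  have hH0 : (Nat.card H : ℂ) ≠ 0 := by exact_mod_cast Nat.card_pos.ne'
  rcases mul_eq_zero.1 h1 with h | h
  · exact hH0 (inv_eq_zero.1 h)
  · have := regSum_ne_zero_of_principal hM hθ
    apply this
    have h4 := congrArg conj h
    rwa [Complex.conj_conj, map_zero] at h4

end lyingOver

section sq

variable {G : Type*} [Group G] [Fintype G] (H : Subgroup G) [hH : H.Normal] [Fintype H]

/-- `∑_χ χ(1)² ω_χ(a) = |G| a(1)`. -/
theorem sum_sq_mul_omega (a : G → ℂ) :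
    ∑ χ : IrrCharacter G, (χ : G → ℂ) 1 ^ 2 * omega (χ : G → ℂ) a = (Nat.card G : ℂ) * a 1 := by
  classical
  have h1 : ∀ χ : IrrCharacter G, (χ : G → ℂ) 1 ^ 2 * omega (χ : G → ℂ) a =
      ∑ g : G, a g * ((χ : G → ℂ) 1 * (χ : G → ℂ) g) := by
    intro χ
    unfold omega
    have h : (χ : G → ℂ) 1 ≠ 0 := irr_apply_one_ne_zero χ.2
    rw [sq, mul_assoc, mul_div_cancel₀ _ h, Finset.mul_sum]
    refine Finset.sum_congr rfl fun g _ => ?_
    ring
  simp only [h1]
  rw [Finset.sum_comm]
  simp only [← Finset.mul_sum, sum_irr_one_mul]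
  rw [Finset.sum_eq_single (1 : G)]
  · rw [if_pos rfl, mul_comm]
  · intro g _ hg
    rw [if_neg hg, mul_zero]
  · intro h
    exact absurd (Finset.mem_univ _) h

end sq

end Cfsg.Agent.Helper78
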