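import Mathlib
import Cfsg.Prelude.Def_Blocks
import Cfsg.Agent.S0939
import Cfsg.Agent.Lib.Helper78.FongPrincipal
import Cfsg.Agent.Lib.Helper78.CharSchur
import Cfsg.Agent.Lib.Helper79.Inflation
import Cfsg.Agent.Lib.Helper79.Orthogonality

/-!
# The principal block and the quotient by `O_{p'}(G)` (helper78)
-/

set_option autoImplicit false
set_option linter.unusedSectionVars false
set_option linter.style.haveILetI false

namespace Cfsg.Agent.Helper78

open Cfsg
open Cfsg.Agent.Helper77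
open scoped ComplexConjugate

universe u

variable {G : Type u} [Group G] [Finite G]

/-- Inflation is a bijection from the principal block of `G ⧸ N` onto that of `G`, for `N` a
normal `p'`-subgroup. -/
theorem inflate_bijOn_principalBlock (p : ℕ) [Fact p.Prime] (M : Ideal AlgInt)
    (hM : IsPModular p M) (N : Subgroup G) [hN : N.Normal] (hpN : ¬ p ∣ Nat.card N) :
    Set.BijOn (Cfsg.Agent.Helper79.inflate N) (principalBlock M (G ⧸ N)) (principalBlock M G) := by
  classical
  have := Fintype.ofFinite G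
  have : Fintype N := Fintype.ofFinite _
  have : Fintype (G ⧸ N) := Fintype.ofFinite _
  haveI hprime := isPrime_of_isPModular hM
  refine ⟨?_, ?_, ?_⟩
  · intro ψ hψ
    have h1 : SameBlock M (fun _ : G ⧸ N => (1 : ℂ)) (ψ : G ⧸ N → ℂ) := hψ
    exact Cfsg.Agent.S0939.sameBlock_comp_mk N h1
  · intro ψ _ ψ' _ h
    exact Cfsg.Agent.Helper79.inflate_injective N h
  · intro χ hχ
    have h1 : SameBlock M ((trivIrr G : IrrCharacter G) : G → ℂ) (χ : G → ℂ) := hχ
    have hker : N ≤ Cfsg.Agent.Helper79.irrKer χ := by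
      intro n hn
      exact Cfsg.Agent.Helper16.ker_of_sameBlock_of_pprime N hM hpN (trivIrr G) χ h1
        (fun n => rfl) ⟨n, hn⟩
    obtain ⟨ψ, hψ⟩ := Cfsg.Agent.Helper79.exists_deflate N χ hker
    refine ⟨ψ, ?_, hψ⟩
    have h2 : SameBlock M ((fun _ : G ⧸ N => (1 : ℂ)) ∘ (QuotientGroup.mk : G → G ⧸ N))
        ((ψ : G ⧸ N → ℂ) ∘ (QuotientGroup.mk : G → G ⧸ N)) := by
      have h3 : ((ψ : G ⧸ N → ℂ) ∘ (QuotientGroup.mk : G → G ⧸ N)) = (χ : G → ℂ) := by
        rw [← hψ]; rfl
      rw [h3]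
      exact hχ
    exact Cfsg.Agent.Helper16.sameBlock_of_sameBlock_inflate N hM hpN (trivIrr (G ⧸ N)).2 ψ.2 h2

end Cfsg.Agent.Helper78
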