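import Mathlib

/-!
# Galois-invariant cyclotomic sums are rational (helper78)
-/

set_option autoImplicit false

namespace Cfsg.Agent.Helper78

open Polynomial

/-- A rational polynomial expression in a primitive `n`-th root of unity `ζ` which is invariant
under all substitutions `ζ ↦ ζ ^ k`, `k` prime to `n`, is a rational number. -/
theorem rational_of_pow_invariant (n : ℕ) (hn : 0 < n) (ζ : ℂ) (hζ : IsPrimitiveRoot ζ n)
    (P : ℚ[X]) (h : ∀ k : ℕ, k.Coprime n → aeval (ζ ^ k) P = aeval ζ P) :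
    ∃ q : ℚ, aeval ζ P = (q : ℂ) := by
  classical
  have : NeZero n := ⟨hn.ne'⟩
  have : NeZero ((n : ℕ) : ℚ) := NeZero.charZero
  have hcyc : IsCyclotomicExtension {n} ℚ (CyclotomicField n ℚ) :=
    CyclotomicField.isCyclotomicExtension n ℚ
  have : IsGalois ℚ (CyclotomicField n ℚ) :=
    IsCyclotomicExtension.isGalois {n} ℚ (CyclotomicField n ℚ)
  have : FiniteDimensional ℚ (CyclotomicField n ℚ) :=
    IsCyclotomicExtension.finiteDimensional {n} ℚ (CyclotomicField n ℚ)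
  have hζ' : IsPrimitiveRoot (IsCyclotomicExtension.zeta n ℚ (CyclotomicField n ℚ)) n :=
    IsCyclotomicExtension.zeta_spec n ℚ (CyclotomicField n ℚ)
  obtain ⟨ζ', hζ'def⟩ : ∃ z : (CyclotomicField n ℚ),
      z = IsCyclotomicExtension.zeta n ℚ (CyclotomicField n ℚ) := ⟨_, rfl⟩
  rw [← hζ'def] at hζ'
  let φ : (CyclotomicField n ℚ) →ₐ[ℚ] ℂ := IsAlgClosed.lift
  have hφinj : Function.Injective φ := φ.toRingHom.injective
  have hφζ : IsPrimitiveRoot (φ ζ') n := hζ'.map_of_injective hφinj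
  obtain ⟨u, -, hu⟩ := hζ.eq_pow_of_pow_eq_one hφζ.pow_eq_one
  have huc : u.Coprime n := by
    rw [← hu] at hφζ
    exact (hζ.pow_iff_coprime hn u).1 hφζ
  have hfix : ∀ σ : (CyclotomicField n ℚ) ≃ₐ[ℚ] (CyclotomicField n ℚ),
      σ (aeval ζ' P) = aeval ζ' P := by
    intro σ
    have h1 : IsPrimitiveRoot (σ ζ') n := hζ'.map_of_injective σ.injective
    obtain ⟨k, -, hk⟩ := hζ'.eq_pow_of_pow_eq_one h1.pow_eq_one
    have hkc : k.Coprime n := by
      rw [← hk] at h1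
      exact (hζ'.pow_iff_coprime hn k).1 h1
    apply hφinj
    have h2 : σ (aeval ζ' P) = aeval (ζ' ^ k) P := by
      have h3 := aeval_algHom_apply (σ : (CyclotomicField n ℚ) →ₐ[ℚ] (CyclotomicField n ℚ)) ζ' P
      rw [AlgEquiv.coe_toAlgHom] at h3
      rw [← h3, hk]
    rw [h2, ← aeval_algHom_apply, ← aeval_algHom_apply, map_pow, ← hu, ← pow_mul,
      h (u * k) (Nat.Coprime.mul_left huc hkc), h u huc]
  obtain ⟨q, hq⟩ := (IsGalois.mem_range_algebraMap_iff_fixed (aeval ζ' P)).2 hfix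
  refine ⟨q, ?_⟩
  have h3 : φ (aeval ζ' P) = aeval ζ P := by
    rw [← aeval_algHom_apply, ← hu, h u huc]
  rw [← h3, ← hq, AlgHom.commutes]
  rfl

/-- A rational algebraic integer is an integer. -/
theorem int_of_isIntegral_of_rat (z : ℂ) (hz : IsIntegral ℤ z) (q : ℚ) (hq : z = (q : ℂ)) :
    ∃ m : ℤ, z = (m : ℂ) := by
  rw [hq] at hz
  have h2 : IsIntegral ℤ q := (isIntegral_algebraMap_iff (algebraMap ℚ ℂ).injective).1 hz
  obtain ⟨k, hk⟩ := IsIntegrallyClosed.isIntegral_iff.1 h2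
  refine ⟨k, ?_⟩
  rw [hq, ← hk]
  simp

end Cfsg.Agent.Helper78
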