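import Mathlib
import Cfsg.Prelude.Def_Blocks
import Cfsg.Agent.Lib.Helper78.RationalInv
import Cfsg.Agent.Lib.Helper78.CharBasic
import Cfsg.Agent.Lib.Helper75.GaloisTwist
import Cfsg.Agent.Lib.Helper77.Principal
import Cfsg.Agent.Lib.Helper79.CharBasic

/-!
# Integrality of principal block column sums (helper78)
-/

set_option autoImplicit false
set_option linter.unusedSectionVars false
set_option linter.style.haveILetI false

namespace Cfsg.Agent.Helper78

open Cfsg Polynomial
open Cfsg.Agent.Helper77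
open scoped ComplexConjugate

universe u

section poly

variable {G : Type u} [Group G] [Fintype G]

/-- character values at powers as polynomial expressions in a primitive root -/
theorem exists_poly_irr (χ : IrrCharacter G) (g : G) (ζ : ℂ)
    (hζ : IsPrimitiveRoot ζ (Nat.card G)) :
    ∃ P : ℚ[X], ∀ k : ℕ, (χ : G → ℂ) (g ^ k) = aeval (ζ ^ k) P := by
  classical
  obtain ⟨n, ρ, hρ, hχ⟩ := χ.2
  obtain ⟨s, m, h1, -, h3⟩ := char_pow_eq_sum ρ g
  have hex : ∀ μ ∈ s, ∃ i : ℕ, ζ ^ i = μ := by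
    intro μ hμ
    have h2 : μ ^ Nat.card G = 1 := by
      obtain ⟨r, hr⟩ := orderOf_dvd_natCard g
      rw [hr, pow_mul, h1 μ hμ, one_pow]
    obtain ⟨i, -, hi⟩ := hζ.eq_pow_of_pow_eq_one h2
    exact ⟨i, hi⟩
  choose! j hj using hex
  refine ⟨∑ μ ∈ s, C (m μ : ℚ) * X ^ (j μ), ?_⟩
  intro k
  rw [← hχ, h3 k, map_sum]
  refine Finset.sum_congr rfl fun μ hμ => ?_
  rw [map_mul, aeval_C, map_pow, aeval_X, ← pow_mul, mul_comm k, pow_mul, hj μ hμ]
  simp

/-- conjugate character values at powers as polynomial expressions -/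
theorem exists_poly_irr_conj (χ : IrrCharacter G) (g : G) (ζ : ℂ)
    (hζ : IsPrimitiveRoot ζ (Nat.card G)) :
    ∃ P : ℚ[X], ∀ k : ℕ, conj ((χ : G → ℂ) (g ^ k)) = aeval (ζ ^ k) P := by
  obtain ⟨P, hP⟩ := exists_poly_irr χ g ζ hζ
  refine ⟨P.comp (X ^ (Nat.card G - 1)), ?_⟩
  intro k
  have hpos : 0 < Nat.card G := Nat.card_pos
  have h1 : (g ^ k)⁻¹ = g ^ (k * (Nat.card G - 1)) := by
    rw [inv_eq_iff_mul_eq_one, ← pow_add]
    have : k + k * (Nat.card G - 1) = Nat.card G * k := by
      have : Nat.card G = (Nat.card G - 1) + 1 := by omega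
      conv_rhs => rw [this]
      ring
    rw [this, pow_mul, pow_card_eq_one', one_pow]
  rw [← Cfsg.Agent.Helper79.irr_inv, h1, hP, aeval_comp, map_pow, aeval_X, ← pow_mul]

end poly

section twist

variable {G : Type u} [Group G] [Fintype G]

/-- the centralizer of a power prime to the group order -/
theorem centralizer_pow_of_coprime (g : G) (k : ℕ) (hk : k.Coprime (Nat.card G)) :
    Subgroup.centralizer ({g ^ k} : Set G) = Subgroup.centralizer ({g} : Set G) := by
  have hko : k.Coprime (orderOf g) := Nat.Coprime.coprime_dvd_right (orderOf_dvd_natCard g) hk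
  obtain ⟨l, hl⟩ := exists_pow_eq_self_of_coprime hko
  ext x
  simp only [Subgroup.mem_centralizer_iff, Set.mem_singleton_iff, forall_eq]
  constructor
  · intro h
    rw [← hl]
    exact (Commute.pow_left (show Commute (g ^ k) x from h) l).eq
  · intro h
    exact (Commute.pow_left (show Commute g x from h) k).eq

/-- the `k`-th power twist of an irreducible character -/
noncomputable def twistIrr (χ : IrrCharacter G) (k : ℕ) (hk : k.Coprime (Nat.card G)) :
    IrrCharacter G :=
  ⟨fun g => (χ : G → ℂ) (g ^ k), Cfsg.Agent.Helper75.galois_twist_irr χ k hk⟩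

theorem twistIrr_apply (χ : IrrCharacter G) (k : ℕ) (hk : k.Coprime (Nat.card G)) (g : G) :
    (twistIrr χ k hk : G → ℂ) g = (χ : G → ℂ) (g ^ k) := rfl

theorem twistIrr_injective (k : ℕ) (hk : k.Coprime (Nat.card G)) :
    Function.Injective (fun χ : IrrCharacter G => twistIrr χ k hk) := by
  intro χ χ' h
  apply Subtype.ext
  funext g
  obtain ⟨l, hl⟩ := exists_pow_eq_self_of_coprime
    (Nat.Coprime.coprime_dvd_right (orderOf_dvd_natCard g) hk)
  have h1 := congrArg (fun ψ : IrrCharacter G => (ψ : G → ℂ) (g ^ l)) h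
  simp only [twistIrr_apply] at h1
  rw [← pow_mul, mul_comm, pow_mul, hl] at h1
  exact h1

theorem centralChar_twistIrr (χ : IrrCharacter G) (k : ℕ) (hk : k.Coprime (Nat.card G)) (g : G) :
    centralChar (twistIrr χ k hk : G → ℂ) g = centralChar (χ : G → ℂ) (g ^ k) := by
  unfold centralChar
  rw [twistIrr_apply, twistIrr_apply, one_pow, centralizer_pow_of_coprime g k hk]

/-- the principal block is stable under the power twists -/
theorem twistIrr_mem_principalBlock {M : Ideal AlgInt} (χ : IrrCharacter G)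
    (hχ : χ ∈ principalBlock M G) (k : ℕ) (hk : k.Coprime (Nat.card G)) :
    twistIrr χ k hk ∈ principalBlock M G := by
  intro g
  have h1 := hχ (g ^ k)
  rw [centralChar_twistIrr]
  have h2 : centralChar (fun _ : G => (1 : ℂ)) g = centralChar (fun _ : G => (1 : ℂ)) (g ^ k) := by
    unfold centralChar
    rw [centralizer_pow_of_coprime g k hk]
  rw [h2]
  exact h1

end twist

section main

variable {G : Type u} [Group G] [Fintype G] {p : ℕ} {M : Ideal AlgInt}

/-- the principal block column sums are invariant under power maps prime to the group order -/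
theorem principal_sum_pow_invariant (x : G) (k : ℕ) (hk : k.Coprime (Nat.card G)) :
    ∑ χ ∈ (Set.toFinite (principalBlock M G)).toFinset,
      (χ : G → ℂ) (x ^ k) * conj ((χ : G → ℂ) (x ^ k)) =
    ∑ χ ∈ (Set.toFinite (principalBlock M G)).toFinset,
      (χ : G → ℂ) x * conj ((χ : G → ℂ) x) := by
  classical
  obtain ⟨Bf, hBf⟩ : ∃ Bf : Finset (IrrCharacter G),
      Bf = (Set.toFinite (principalBlock M G)).toFinset := ⟨_, rfl⟩
  rw [← hBf]
  have hmem : ∀ ψ, ψ ∈ Bf ↔ ψ ∈ principalBlock M G := by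
    intro ψ; rw [hBf, Set.Finite.mem_toFinset]
  have himg : Bf.image (fun χ : IrrCharacter G => twistIrr χ k hk) = Bf := by
    apply Finset.eq_of_subset_of_card_le
    · intro ψ hψ
      rw [Finset.mem_image] at hψ
      obtain ⟨χ, hχ, rfl⟩ := hψ
      exact (hmem _).2 (twistIrr_mem_principalBlock χ ((hmem χ).1 hχ) k hk)
    · rw [Finset.card_image_of_injective _ (twistIrr_injective k hk)]
  conv_rhs => rw [← himg]
  rw [Finset.sum_image (fun a _ b _ h => twistIrr_injective k hk h)]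
  rfl

/-- **Integrality of the principal block column sums.** -/
theorem principal_sum_nat (hM : IsPModular p M) (x : G) :
    ∃ n : ℕ, 0 < n ∧ ∑ χ ∈ (Set.toFinite (principalBlock M G)).toFinset,
      (χ : G → ℂ) x * conj ((χ : G → ℂ) x) = (n : ℂ) := by
  classical
  haveI hprime := isPrime_of_isPModular hM
  have hN : 0 < Nat.card G := Nat.card_pos
  have hζ : IsPrimitiveRoot (Complex.exp (2 * Real.pi * Complex.I / (Nat.card G : ℂ)))
      (Nat.card G) := Complex.isPrimitiveRoot_exp _ hN.ne'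
  obtain ⟨ζ, hζdef⟩ : ∃ ζ : ℂ, ζ = Complex.exp (2 * Real.pi * Complex.I / (Nat.card G : ℂ)) :=
    ⟨_, rfl⟩
  rw [← hζdef] at hζ
  choose P hP using fun χ : IrrCharacter G => exists_poly_irr χ x ζ hζ
  choose P' hP' using fun χ : IrrCharacter G => exists_poly_irr_conj χ x ζ hζ
  obtain ⟨Bf, hBf⟩ : ∃ Bf : Finset (IrrCharacter G),
      Bf = (Set.toFinite (principalBlock M G)).toFinset := ⟨_, rfl⟩
  have hF : ∀ k : ℕ, ∑ χ ∈ Bf, (χ : G → ℂ) (x ^ k) * conj ((χ : G → ℂ) (x ^ k)) =
      aeval (ζ ^ k) (∑ χ ∈ Bf, P χ * P' χ) := by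
    intro k
    rw [map_sum]
    refine Finset.sum_congr rfl fun χ _ => ?_
    rw [map_mul, hP' χ k, hP χ k]
  have hF1 := hF 1
  rw [pow_one] at hF1
  simp only [pow_one] at hF1
  obtain ⟨q, hq⟩ := rational_of_pow_invariant (Nat.card G) hN ζ hζ (∑ χ ∈ Bf, P χ * P' χ) (by
    intro k hk
    rw [← hF k, ← hF1, hBf]
    exact principal_sum_pow_invariant x k hk)
  rw [← hF1] at hq
  have hint : IsIntegral ℤ (∑ χ ∈ Bf, (χ : G → ℂ) x * conj ((χ : G → ℂ) x)) := by
    refine IsIntegral.sum _ fun χ _ => ?_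
    apply IsIntegral.mul (Cfsg.Agent.Helper79.irr_isIntegral χ x)
    rw [← Cfsg.Agent.Helper79.irr_inv]
    exact Cfsg.Agent.Helper79.irr_isIntegral χ x⁻¹
  obtain ⟨m, hm⟩ := int_of_isIntegral_of_rat _ hint q hq
  -- positivity
  have hreal : ∑ χ ∈ Bf, (χ : G → ℂ) x * conj ((χ : G → ℂ) x) =
      ((∑ χ ∈ Bf, Complex.normSq ((χ : G → ℂ) x) : ℝ) : ℂ) := by
    push_cast
    refine Finset.sum_congr rfl fun χ _ => ?_
    rw [Complex.mul_conj]
  have hge : (1 : ℝ) ≤ ∑ χ ∈ Bf, Complex.normSq ((χ : G → ℂ) x) := by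
    have htriv : trivIrr G ∈ Bf := by
      rw [hBf, Set.Finite.mem_toFinset]
      exact trivIrr_mem_principalBlock M
    have h1 := Finset.single_le_sum (f := fun χ : IrrCharacter G =>
      Complex.normSq ((χ : G → ℂ) x)) (fun χ _ => Complex.normSq_nonneg _) htriv
    simp only [trivIrr_apply, map_one] at h1
    exact h1
  have hmr : ((m : ℝ) : ℂ) = ((∑ χ ∈ Bf, Complex.normSq ((χ : G → ℂ) x) : ℝ) : ℂ) := by
    rw [← hreal, hm]
    push_cast
    rfl
  have hmr' : (m : ℝ) = ∑ χ ∈ Bf, Complex.normSq ((χ : G → ℂ) x) := Complex.ofReal_injective hmr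
  have hm1 : (1 : ℤ) ≤ m := by
    have : (1 : ℝ) ≤ (m : ℝ) := by rw [hmr']; exact hge
    exact_mod_cast this
  refine ⟨m.toNat, by omega, ?_⟩
  rw [← hBf, hm]
  have : ((m.toNat : ℕ) : ℤ) = m := Int.toNat_of_nonneg (by omega)
  exact_mod_cast congrArg (fun z : ℤ => (z : ℂ)) this.symm

end main

end Cfsg.Agent.Helper78
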