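import Mathlib

/-!
# REE (CORE) `fixed_bruhat` for helper36's server (S1069, S1091, S1073)
-/

set_option autoImplicit false

namespace Cfsg.Agent.Helper78.REE

universe u

/-- (CORE) the fixed points of `s` in a group with unique Bruhat factorisation `g = b * n * u`
factor as `(U ∩ T)(N ∩ T)(U ∩ T)`. -/
theorem fixed_bruhat {M : Type u} [Group M] (Gr B N H U T : Subgroup M) (Um : M → Subgroup M) (s : M → M)
    (hs_mul : ∀ x ∈ Gr, ∀ y ∈ Gr, s (x * y) = s x * s y)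
    (hBG : B ≤ Gr) (hNG : N ≤ Gr) (hTG : T ≤ Gr)
    (hUB : U ≤ B) (hHB : H ≤ B) (hHN : H ≤ N)
    (hsB : ∀ x ∈ B, s x ∈ B) (hsN : ∀ x ∈ N, s x ∈ N) (hsU : ∀ x ∈ U, s x ∈ U)
    (hUmU : ∀ n ∈ N, Um n ≤ U)
    (hsUm : ∀ n ∈ N, ∀ x ∈ Um n, s x ∈ Um (s n))
    (hUmH : ∀ n ∈ N, ∀ h ∈ H, Um (n * h) = Um n)
    (hHnorm : ∀ n ∈ N, ∀ h ∈ H, n * h * n⁻¹ ∈ H)
    (hBUH : ∀ b ∈ B, ∃ u ∈ U, ∃ h ∈ H, b = u * h)
    (hUN : ∀ x ∈ U, x ∈ N → x = 1)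
    (hBr : ∀ g ∈ Gr, ∃ b ∈ B, ∃ n ∈ N, ∃ u ∈ Um n, g = b * n * u)
    (hUniq : ∀ b b' n n' u u' : M, b ∈ B → b' ∈ B → n ∈ N → n' ∈ N → u ∈ Um n → u' ∈ Um n' →
      b * n * u = b' * n' * u' → n⁻¹ * n' ∈ H ∧ (n = n' → b = b' ∧ u = u'))
    (hTfix : ∀ g ∈ T, s g = g)
    (hUT : ∀ x ∈ U, s x = x → x ∈ T) :
    ∀ g ∈ T, ∃ u₁ ∈ U ⊓ T, ∃ n ∈ N ⊓ T, ∃ u ∈ U ⊓ T, g = u₁ * n * u := by
  intro g hg
  obtain ⟨b, hb, n, hn, u, hu, rfl⟩ := hBr g (hTG hg)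
  have hbG := hBG hb
  have hnG := hNG hn
  have huU : u ∈ U := hUmU n hn hu
  have huG : u ∈ Gr := hBG (hUB huU)
  have e1 : s (b * n * u) = s b * s n * s u := by
    rw [hs_mul (b * n) (Gr.mul_mem hbG hnG) u huG, hs_mul b hbG n hnG]
  have e2 : b * n * u = s b * s n * s u := by rw [← e1, hTfix _ hg]
  have hsb := hsB b hb
  have hsn := hsN n hn
  have hsu : s u ∈ Um (s n) := hsUm n hn u hu
  obtain ⟨h0H, -⟩ := hUniq b (s b) n (s n) u (s u) hb hsb hn hsn hu hsu e2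
  have hsn_eq : s n = n * (n⁻¹ * s n) := by group
  have hUm_eq : Um (s n) = Um n := by
    rw [hsn_eq]; exact hUmH n hn _ h0H
  have hsu' : s u ∈ Um n := hUm_eq ▸ hsu
  have e3 : b * n * u = (s b * (n * (n⁻¹ * s n) * n⁻¹)) * n * s u := by
    rw [e2]; group
  have hb' : s b * (n * (n⁻¹ * s n) * n⁻¹) ∈ B :=
    B.mul_mem hsb (hHB (hHnorm n hn _ h0H))
  obtain ⟨-, h2⟩ := hUniq b (s b * (n * (n⁻¹ * s n) * n⁻¹)) n n u (s u) hb hb' hn hn hu hsu' e3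
  obtain ⟨-, huu⟩ := h2 rfl
  have huT : u ∈ T := hUT u huU huu.symm
  have hbnT : b * n ∈ T := by
    have := T.mul_mem hg (T.inv_mem huT)
    have e : b * n * u * u⁻¹ = b * n := by group
    rwa [e] at this
  obtain ⟨u1, hu1, h1, hh1, rfl⟩ := hBUH b hb
  have hxT : u1 * (h1 * n) ∈ T := by rw [← mul_assoc]; exact hbnT
  have hu1G : u1 ∈ Gr := hBG (hUB hu1)
  have hh1n : h1 * n ∈ N := N.mul_mem (hHN hh1) hn
  have hh1nG := hNG hh1n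
  have e4 : s (u1 * (h1 * n)) = s u1 * s (h1 * n) := hs_mul u1 hu1G _ hh1nG
  have e5 : u1 * (h1 * n) = s u1 * s (h1 * n) := by rw [← e4, hTfix _ hxT]
  have e6 : u1⁻¹ * s u1 = (h1 * n) * (s (h1 * n))⁻¹ := by
    have e7 : s u1 = u1 * (h1 * n) * (s (h1 * n))⁻¹ := by rw [e5]; group
    rw [e7]; group
  have hyU : u1⁻¹ * s u1 ∈ U := U.mul_mem (U.inv_mem hu1) (hsU u1 hu1)
  have hyN : u1⁻¹ * s u1 ∈ N := by
    rw [e6]; exact N.mul_mem hh1n (N.inv_mem (hsN _ hh1n))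
  have hy1 := hUN _ hyU hyN
  have hsu1 : s u1 = u1 := (inv_mul_eq_one.1 hy1).symm
  have hu1T : u1 ∈ T := hUT u1 hu1 hsu1
  have hn'T : h1 * n ∈ T := by
    have := T.mul_mem (T.inv_mem hu1T) hxT
    have e : u1⁻¹ * (u1 * (h1 * n)) = h1 * n := by group
    rwa [e] at this
  exact ⟨u1, ⟨hu1, hu1T⟩, h1 * n, ⟨hh1n, hn'T⟩, u, ⟨huU, huT⟩, by group⟩

end Cfsg.Agent.Helper78.REE
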