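import Mathlib
import Cfsg.Prelude.Def_Characters
import Cfsg.Prelude.Def_Blocks
import Cfsg.Agent.Lib.Helper80.RMKDefs
import Cfsg.Agent.Lib.Helper80.RMKBasic
import Cfsg.Agent.Lib.Helper19.RMKQN
import Cfsg.Agent.Lib.Helper19.RMKQNSA
import Cfsg.Agent.Lib.Helper41.RMKTRANS
import Cfsg.Agent.Lib.Helper90.RMKTWIST
import Cfsg.Agent.Lib.Helper81.RMKOVER1
import Cfsg.Agent.Lib.Helper81.RMKPAR2
import Cfsg.Agent.Lib.Helper8.RMKPAR

/-!
# RMK (BL) `invariant_count` for helper80's server (S4581)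
-/

set_option autoImplicit false
set_option linter.style.haveILetI false

namespace Cfsg.Agent.Helper78.RMK

open Cfsg Cfsg.Agent.Helper80 Cfsg.Agent.Helper80.RMK
open scoped ComplexConjugate

universe u

/-- the index of a Sylow `2`-subgroup in an overgroup is odd -/
theorem h78_odd_relIndex {G : Type u} [Group G] [Finite G] (P : Sylow 2 G) (T : Subgroup G)
    (hPT : (P : Subgroup G) ≤ T) : Odd ((P : Subgroup G).relIndex T) := by
  have h1 := Subgroup.relIndex_mul_index hPT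
  have h2 : ¬ 2 ∣ (P : Subgroup G).index := P.not_dvd_index
  rw [← Nat.not_even_iff_odd, even_iff_two_dvd]
  intro h
  exact h2 (h1 ▸ Dvd.dvd.mul_right h _)

/-- (BL) for the trivial character: `OVER1 + QGA + IH + QNSA + QNA + OVER1` -/
theorem invariant_count_trivial (r : Bool) {G : Type u} [Group G] [Finite G] (M : Subgroup G)
    [hM : M.Normal] (hM1 : M ≠ ⊥) (P : Sylow 2 G)
    (hMP : M ≤ (P : Subgroup G))
    (hself : r = false → Subgroup.normalizer ((P : Subgroup G) : Set G) = (P : Subgroup G))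
    (hIH : IH.{u} r (Nat.card G)) (T : Subgroup G) (hsolv : Group.IsSolvable ↥T)
    (hPT : (P : Subgroup G) ≤ T) :
    cntOver r (le_trans hMP hPT) (trivialIrr ↥M) =
      cntOver r (le_inf (le_trans hMP Subgroup.le_normalizer) (le_trans hMP hPT) :
        M ≤ Subgroup.normalizer ((P : Subgroup G) : Set G) ⊓ T) (trivialIrr ↥M) := by
  have hMT : M ≤ T := le_trans hMP hPT
  have hMN : M ≤ Subgroup.normalizer ((P : Subgroup G) : Set G) ⊓ T :=
    le_inf (le_trans hMP Subgroup.le_normalizer) (le_trans hMP hPT)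
  have h1 : cntOver r hMT (trivialIrr ↥M) =
      Nat.card {ψ : IrrCharacter ↥T // Good r ψ ∧
        ∀ m : ↥M, (ψ : ↥T → ℂ) (Subgroup.inclusion hMT m) = (ψ : ↥T → ℂ) 1} := by
    unfold cntOver
    apply Nat.card_congr
    exact Equiv.subtypeEquivRight
      (fun ψ => and_congr Iff.rfl (Cfsg.Agent.Helper81.RMK.over_trivial_iff M T hMT ψ))
  have h2 : cntOver r hMN (trivialIrr ↥M) =
      Nat.card {ψ : IrrCharacter ↥(Subgroup.normalizer ((P : Subgroup G) : Set G) ⊓ T) //
        Good r ψ ∧ ∀ m : ↥M,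
          (ψ : ↥(Subgroup.normalizer ((P : Subgroup G) : Set G) ⊓ T) → ℂ)
            (Subgroup.inclusion hMN m) =
          (ψ : ↥(Subgroup.normalizer ((P : Subgroup G) : Set G) ⊓ T) → ℂ) 1} := by
    unfold cntOver
    apply Nat.card_congr
    exact Equiv.subtypeEquivRight
      (fun ψ => and_congr Iff.rfl (Cfsg.Agent.Helper81.RMK.over_trivial_iff M _ hMN ψ))
  rw [h1, h2, Cfsg.Agent.Helper19.RMK.cnt_quotient_sub r M T hMT,
    ← Cfsg.Agent.Helper19.RMK.cnt_normalizer_quotient_sub r M P T hMP hPT]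
  -- the induction hypothesis for `T ⧸ M`
  have hcard : Nat.card (↥T ⧸ M.subgroupOf T) < Nat.card G := by
    have e1 : Nat.card (↥T ⧸ M.subgroupOf T) = (M.subgroupOf T).index := rfl
    have e2 := Subgroup.index_mul_card (M.subgroupOf T)
    have e3 : Nat.card ↥(M.subgroupOf T) = Nat.card ↥M :=
      Nat.card_congr (Subgroup.subgroupOfEquivOfLe hMT).toEquiv
    have e4 : 1 < Nat.card ↥M := (Subgroup.one_lt_card_iff_ne_bot M).2 hM1
    have e5 : Nat.card ↥T ≤ Nat.card G := Subgroup.card_le_card_group T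
    have e6 : 0 < (M.subgroupOf T).index := Nat.pos_of_ne_zero (Subgroup.index_ne_zero_of_finite)
    rw [e1]
    rw [e3] at e2
    nlinarith
  exact hIH (↥T ⧸ M.subgroupOf T) hcard _
    (fun hr => Cfsg.Agent.Helper19.RMK.self_normalizing_quotient_sub M P T hMP hPT (hself hr))

/-- (BL) the key equality for an invariant character `θ` of `M` -/
theorem invariant_count (r : Bool) {G : Type u} [Group G] [Finite G] (M : Subgroup G)
    [hM : M.Normal] (hM1 : M ≠ ⊥) (hsq : ∀ m ∈ M, m * m = 1) (P : Sylow 2 G)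
    (hMP : M ≤ (P : Subgroup G))
    (hself : r = false → Subgroup.normalizer ((P : Subgroup G) : Set G) = (P : Subgroup G))
    (hIH : IH.{u} r (Nat.card G)) (T : Subgroup G) (hsolv : Group.IsSolvable ↥T)
    (hPT : (P : Subgroup G) ≤ T) (θ : IrrCharacter ↥M) (hT : T ≤ stab M θ) :
    cntOver r (le_trans hMP hPT) θ =
      cntOver r (le_inf (le_trans hMP Subgroup.le_normalizer) (le_trans hMP hPT) :
        M ≤ Subgroup.normalizer ((P : Subgroup G) : Set G) ⊓ T) θ := by
  have hMT : M ≤ T := le_trans hMP hPT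
  have hMN : M ≤ Subgroup.normalizer ((P : Subgroup G) : Set G) ⊓ T :=
    le_inf (le_trans hMP Subgroup.le_normalizer) (le_trans hMP hPT)
  have hPN : (P : Subgroup G) ≤ Subgroup.normalizer ((P : Subgroup G) : Set G) ⊓ T :=
    le_inf Subgroup.le_normalizer hPT
  by_cases hμ : ∃ μ : ↥(P : Subgroup G) →* ℂˣ,
      (∀ (m : G) (hm : m ∈ M), ((μ ⟨m, hMP hm⟩ : ℂˣ) : ℂ) = (θ : ↥M → ℂ) ⟨m, hm⟩) ∧
      (r = true → ∀ x : ↥(P : Subgroup G), μ x ^ 2 = 1)
  · obtain ⟨μ, hμ1, hμ2⟩ := hμ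
    have hodd := h78_odd_relIndex P T hPT
    have hinv : ∀ t ∈ T, ∀ (m : G) (hm : m ∈ M),
        μ ⟨t * m * t⁻¹, hMP (hM.conj_mem m hm t)⟩ = μ ⟨m, hMP hm⟩ := by
      intro t ht m hm
      apply Units.ext
      rw [hμ1 _ (hM.conj_mem m hm t), hμ1 m hm]
      exact (mem_stab_iff M θ t).1 (hT ht) ⟨m, hm⟩ ⟨t * m * t⁻¹, hM.conj_mem m hm t⟩ rfl
    have hsq' : ∀ (m : G) (hm : m ∈ M), μ ⟨m, hMP hm⟩ ^ 2 = 1 := by
      intro m hm
      rw [← map_pow]
      have : (⟨m, hMP hm⟩ : ↥(P : Subgroup G)) ^ 2 = 1 := by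
        apply Subtype.ext
        rw [pow_two]
        exact hsq m hm
      rw [this, map_one]
    obtain ⟨ν, hν1, hν2⟩ :=
      Cfsg.Agent.Helper41.RMK.exists_hom_extending M (P : Subgroup G) T hMP hPT hodd μ hinv hsq'
    have hνθ : ∀ m : ↥M, ((ν (Subgroup.inclusion hMT m) : ℂˣ) : ℂ) = (θ : ↥M → ℂ) m := by
      intro m
      have := hν1 m.1 m.2
      have e : Subgroup.inclusion hMT m = ⟨m.1, hPT (hMP m.2)⟩ := rfl
      rw [e, this]
      exact hμ1 m.1 m.2
    have hνr : r = true → ∀ h : ↥T, ν h ^ 2 = 1 := fun hr => hν2 (hμ2 hr)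
    have e1 := Cfsg.Agent.Helper90.RMK.twist_count r M T hMT θ ν hνθ hνr
    have e2 := Cfsg.Agent.Helper90.RMK.twist_count r M
      (Subgroup.normalizer ((P : Subgroup G) : Set G) ⊓ T) hMN θ
      (ν.comp (Subgroup.inclusion (inf_le_right :
        Subgroup.normalizer ((P : Subgroup G) : Set G) ⊓ T ≤ T)))
      (fun m => hνθ m) (fun hr h => hνr hr _)
    rw [e1, e2]
    exact invariant_count_trivial r M hM1 P hMP hself hIH T hsolv hPT
  · -- no linear character of `P` extends `θ`: both counts vanish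
    have hz : ∀ (H : Subgroup G) (hPH : (P : Subgroup G) ≤ H) (hHT : H ≤ T) (hMH : M ≤ H),
        cntOver r hMH θ = 0 := by
      intro H hPH hHT hMH
      unfold cntOver
      rw [Nat.card_eq_zero]
      left
      constructor
      rintro ⟨ψ, hg, hover⟩
      obtain ⟨μ, hμ1, hμ2⟩ := Cfsg.Agent.Helper8.RMK.exists_linear_constituent r
        (P : Subgroup G) H hPH P.isPGroup' ψ hg
      have := Cfsg.Agent.Helper81.RMK.linear_constituent_restrict M (P : Subgroup G) H hMP hPH θ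
        (hHT.trans hT) ψ hover μ hμ1
      exact hμ ⟨μ, this, hμ2⟩
    rw [hz T hPT le_rfl hMT, hz _ hPN inf_le_right hMN]

end Cfsg.Agent.Helper78.RMK
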