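import Mathlib
import Cfsg.Agent.Lib.Helper93.RU0
import Cfsg.Agent.Lib.Helper98.RT0
import Cfsg.Agent.Lib.Helper78.RUD1

/-!
# RT project (S2278), piece (K4): `y⁻¹ t y` as a transvection.  Self-contained (own `yEl_val`).
-/

set_option autoImplicit false

namespace Cfsg.Agent.Helper78.RT

open Matrix Cfsg.Agent.Helper93.RU Cfsg.Agent.Helper98.RT

variable {F : Type*} [Field F]

theorem k4_det_Y (n w : F) : (Ymat n w).det = 1 := by
  have h : (Ymat n w : Matrix (Fin 3) (Fin 3) F).det = 1 := by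
    rw [Matrix.det_fin_three]
    simp [Ymat]
  exact h

theorem k4_yEl_val (n w : F) : (yEl n w).1 = Ymat n w := by
  have h : yEl n w = ⟨Ymat n w, k4_det_Y n w⟩ := dif_pos (k4_det_Y n w)
  rw [h]

theorem k4_mat (n w κ : F) :
    tvM (eV (1 : Fin (0 + 3))) (κ • eV (0 : Fin (0 + 3))) * Ymat n w
      = Ymat n w * tvM (v3 (-w) 0 (n * w + 1)) (κ • eV (1 : Fin (0 + 3))) := by
  have h : (tvM (eV (1 : Fin 3)) (κ • eV (0 : Fin 3)) * Ymat n w : Matrix (Fin 3) (Fin 3) F)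
      = Ymat n w * tvM (v3 (-w) 0 (n * w + 1)) (κ • eV (1 : Fin 3)) := by
    ext i j
    fin_cases i <;> fin_cases j <;>
      simp [tvM, Ymat, v3, eV, Matrix.mul_apply, Fin.sum_univ_three, vecMulVec, Matrix.add_apply,
        Matrix.one_apply] <;> ring
  exact h

/-- (K4) -/
theorem conj_y_t (n w κ : F) :
    (yEl n w)⁻¹ * tvS (eV 1) (κ • eV 0) * yEl n w = tvS (v3 (-w) 0 (n * w + 1)) (κ • eV 1) := by
  have h1 : (κ • eV (0 : Fin (0 + 3)) : Fin (0 + 3) → F) ⬝ᵥ eV 1 = 0 := by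
    simp [eV, Fin.sum_univ_three, dotProduct]
  have h2 : (κ • eV (1 : Fin (0 + 3)) : Fin (0 + 3) → F) ⬝ᵥ v3 (-w) 0 (n * w + 1) = 0 := by
    simp [eV, v3, Fin.sum_univ_three, dotProduct]
  have hEq : tvS (eV 1) (κ • eV 0) * yEl n w = yEl n w * tvS (v3 (-w) 0 (n * w + 1)) (κ • eV 1) := by
    apply Subtype.ext
    rw [Matrix.SpecialLinearGroup.coe_mul, Matrix.SpecialLinearGroup.coe_mul,
      Cfsg.Agent.Helper78.RU.d1_tvS_val _ _ h1, Cfsg.Agent.Helper78.RU.d1_tvS_val _ _ h2,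
      k4_yEl_val]
    exact k4_mat n w κ
  rw [mul_assoc, hEq, inv_mul_cancel_left]

end Cfsg.Agent.Helper78.RT
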