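import Mathlib
import Cfsg.Agent.Lib.Helper93.RU0
import Cfsg.Agent.Lib.Helper78.RUD1

/-!
# RU project (S2280), piece (D4) core: all basis vectors are full centres; and own copies of
(B2), (B7), (D2), (D3).
-/

set_option autoImplicit false

namespace Cfsg.Agent.Helper78.RU

open Matrix Cfsg.Agent.Helper93.RU

variable {F : Type*} [Field F] {m : ℕ}

/-- own copy of (D2) -/
theorem d4_W_smul (H : Subgroup (SLm m F)) (a : F) (v : Fin (m + 3) → F) (hv : v ∈ Wset H) :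
    a • v ∈ Wset H := by
  intro φ hφ
  rw [d1_tvS_smul]
  apply hv
  rw [smul_dotProduct, ← dotProduct_smul]
  exact hφ

/-- own copy of (D3) -/
theorem d4_W_conj (H : Subgroup (SLm m F)) (g : SLm m F) (hg : g ∈ H) (v : Fin (m + 3) → F)
    (hv : v ∈ Wset H) : g.1 *ᵥ v ∈ Wset H := by
  intro φ hφ
  have h1 : (φ ᵥ* g.1) ⬝ᵥ v = 0 := by
    rw [← Matrix.dotProduct_mulVec]
    exact hφ
  have hs : tvS v (φ ᵥ* g.1) ∈ H := hv _ h1
  have hEq : g * tvS v (φ ᵥ* g.1) = tvS (g.1 *ᵥ v) φ * g := by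
    apply Subtype.ext
    rw [Matrix.SpecialLinearGroup.coe_mul, Matrix.SpecialLinearGroup.coe_mul,
      d1_tvS_val _ _ h1, d1_tvS_val _ _ hφ]
    unfold tvM
    rw [Matrix.mul_add, Matrix.add_mul, Matrix.mul_one, Matrix.one_mul, Matrix.mul_vecMulVec,
      Matrix.vecMulVec_mul]
  have hEq' : tvS (g.1 *ᵥ v) φ = g * tvS v (φ ᵥ* g.1) * g⁻¹ := by
    rw [hEq, mul_inv_cancel_right]
  rw [hEq']
  exact H.mul_mem (H.mul_mem hg hs) (H.inv_mem hg)

/-- (D4) core, with (B7) as a hypothesis. -/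
theorem d4_core (H : Subgroup (SLm m F)) (ε : F) (hε : ε = 1 ∨ ε = -1) (hl : lEl ε ∈ H)
    (hB7 : ∀ (k : Fin (m + 3)) (hk : k.val + 1 < m + 3),
      (lEl (m := m) ε).1 *ᵥ eV k = eV k + (if k.val = 0 then ε else 1) • eV ⟨k.val + 1, hk⟩)
    (h0 : eV 0 ∈ Wset H) (k : Fin (m + 3)) : eV k ∈ Wset H := by
  have hε0 : ε ≠ 0 := by
    rcases hε with h | h
    · rw [h]; exact one_ne_zero
    · rw [h]; exact neg_ne_zero.mpr one_ne_zero
  have key : ∀ n : ℕ, ∀ hn : n < m + 3, eV (⟨n, hn⟩ : Fin (m + 3)) ∈ Wset H := by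
    intro n
    induction n with
    | zero =>
      intro hn
      exact h0
    | succ n ih =>
      intro hn
      have hn' : n < m + 3 := by omega
      have hk := ih hn'
      have h1 : (lEl (m := m) ε).1 *ᵥ eV (⟨n, hn'⟩ : Fin (m + 3)) ∈ Wset H :=
        d4_W_conj H _ hl _ hk
      rw [hB7 ⟨n, hn'⟩ hn] at h1
      set c : F := (if (⟨n, hn'⟩ : Fin (m + 3)).val = 0 then ε else 1) with hc
      have hc0 : c ≠ 0 := by
        rw [hc]
        split_ifs
        · exact hε0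
        · exact one_ne_zero
      have h2 : (-1 : F) • eV (⟨n, hn'⟩ : Fin (m + 3)) ∈ Wset H := d4_W_smul H _ _ hk
      have h3 := W_add H _ _ h1 h2
      have h4 : (eV (⟨n, hn'⟩ : Fin (m + 3)) : Fin (m + 3) → F)
          + c • (eV (⟨n + 1, hn⟩ : Fin (m + 3)) : Fin (m + 3) → F)
          + (-1 : F) • (eV (⟨n, hn'⟩ : Fin (m + 3)) : Fin (m + 3) → F)
          = c • (eV (⟨n + 1, hn⟩ : Fin (m + 3)) : Fin (m + 3) → F) := by
        rw [neg_one_smul]
        abel
      rw [h4] at h3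
      have h5 := d4_W_smul H c⁻¹ _ h3
      rw [smul_smul, inv_mul_cancel₀ hc0, one_smul] at h5
      exact h5
  exact key k.val k.isLt

end Cfsg.Agent.Helper78.RU
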