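import Mathlib
import Cfsg.Agent.Lib.Helper93.RU0
import Cfsg.Agent.Lib.Helper98.RT0
import Cfsg.Agent.Lib.Helper78.RUD1
import Cfsg.Agent.Lib.Helper78.RUD4Core
import Cfsg.Agent.Lib.Helper78.RTK4

/-!
# RT project (S2278), piece (K11): `e₂ ∈ W`, `y ∈ H` `⇒` all `e_k ∈ W`.
-/

set_option autoImplicit false

namespace Cfsg.Agent.Helper78.RT

open Matrix Cfsg.Agent.Helper93.RU Cfsg.Agent.Helper98.RT

variable {F : Type*} [Field F]

theorem k11_col2 (n w : F) : Ymat n w *ᵥ eV (2 : Fin (0 + 3)) = v3 0 1 w := by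
  have h : (Ymat n w : Matrix (Fin 3) (Fin 3) F) *ᵥ eV (2 : Fin 3) = v3 0 1 w := by
    funext i
    fin_cases i <;> simp [Ymat, v3, eV, Matrix.mulVec, dotProduct, Fin.sum_univ_three]
  exact h

theorem k11_col1 (n w : F) :
    Ymat n w *ᵥ eV (1 : Fin (0 + 3)) = v3 1 (3 - w) ((3 - w) * w - n - 3) := by
  have h : (Ymat n w : Matrix (Fin 3) (Fin 3) F) *ᵥ eV (1 : Fin 3)
      = v3 1 (3 - w) ((3 - w) * w - n - 3) := by
    funext i
    fin_cases i <;> simp [Ymat, v3, eV, Matrix.mulVec, dotProduct, Fin.sum_univ_three]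
  exact h

theorem k11_e1 (w : F) :
    (eV (1 : Fin (0 + 3)) : Fin (0 + 3) → F) = v3 0 1 w + (-w) • eV (2 : Fin (0 + 3)) := by
  have h : (eV (1 : Fin 3) : Fin 3 → F) = v3 0 1 w + (-w) • eV (2 : Fin 3) := by
    funext i
    fin_cases i <;> simp [v3, eV]
  exact h

theorem k11_e0 (b c : F) :
    (eV (0 : Fin (0 + 3)) : Fin (0 + 3) → F)
      = v3 1 b c + (-b) • eV (1 : Fin (0 + 3)) + (-c) • eV (2 : Fin (0 + 3)) := by
  have h : (eV (0 : Fin 3) : Fin 3 → F) = v3 1 b c + (-b) • eV (1 : Fin 3) + (-c) • eV (2 : Fin 3) := by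
    funext i
    fin_cases i <;> simp [v3, eV, Matrix.vecHead, Matrix.vecTail]
  exact h

/-- (K11) -/
theorem all_mem_W (H : Subgroup (G3 F)) (n w : F) (hy : yEl n w ∈ H) (h2 : eV 2 ∈ Wset H)
    (k : Fin (0 + 3)) : eV k ∈ Wset H := by
  have hc2 : v3 0 1 w ∈ Wset H := by
    have := Cfsg.Agent.Helper78.RU.d4_W_conj H (yEl n w) hy (eV 2) h2
    rw [k4_yEl_val, k11_col2] at this
    exact this
  have h1 : (eV (1 : Fin (0 + 3)) : Fin (0 + 3) → F) ∈ Wset H := by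
    rw [k11_e1 w]
    exact Cfsg.Agent.Helper78.RU.W_add H _ _ hc2 (Cfsg.Agent.Helper78.RU.d4_W_smul H _ _ h2)
  have hc1 : v3 1 (3 - w) ((3 - w) * w - n - 3) ∈ Wset H := by
    have := Cfsg.Agent.Helper78.RU.d4_W_conj H (yEl n w) hy (eV 1) h1
    rw [k4_yEl_val, k11_col1] at this
    exact this
  have h0 : (eV (0 : Fin (0 + 3)) : Fin (0 + 3) → F) ∈ Wset H := by
    rw [k11_e0 (3 - w) ((3 - w) * w - n - 3)]
    exact Cfsg.Agent.Helper78.RU.W_add H _ _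
      (Cfsg.Agent.Helper78.RU.W_add H _ _ hc1 (Cfsg.Agent.Helper78.RU.d4_W_smul H _ _ h1))
      (Cfsg.Agent.Helper78.RU.d4_W_smul H _ _ h2)
  have hall : ∀ k : Fin 3, (eV (k : Fin (0 + 3)) : Fin (0 + 3) → F) ∈ Wset H := by
    intro k
    fin_cases k
    · exact h0
    · exact h1
    · exact h2
  exact hall k

end Cfsg.Agent.Helper78.RT
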