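import Mathlib
import Cfsg.Agent.Lib.Helper93.RU0
import Cfsg.Agent.Lib.Helper98.RT0
import Cfsg.Agent.Lib.Helper78.RUD1

/-!
# RT project (S2278), piece (K5): conjugating a transvection by the diagonal element `z`.
Self-contained (own `zEl_val`).
-/

set_option autoImplicit false

namespace Cfsg.Agent.Helper78.RT

open Matrix Cfsg.Agent.Helper93.RU Cfsg.Agent.Helper98.RT

variable {F : Type*} [Field F]

theorem k5_det_Z (ζ : F) (hζ : ζ ≠ 0) : (Zmat ζ).det = 1 := by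
  have h : (Zmat ζ : Matrix (Fin 3) (Fin 3) F).det = 1 := by
    rw [Matrix.det_fin_three]
    simp [Zmat]
    field_simp
  exact h

theorem k5_zEl_val (ζ : F) (hζ : ζ ≠ 0) : (zEl ζ).1 = Zmat ζ := by
  have h : zEl ζ = ⟨Zmat ζ, k5_det_Z ζ hζ⟩ := dif_pos (k5_det_Z ζ hζ)
  rw [h]

theorem k5_mat (ζ : F) (hζ : ζ ≠ 0) (v φ : Fin (0 + 3) → F) :
    Zmat ζ * tvM v φ
      = tvM (v3 (ζ * v 0) (ζ * v 1) ((ζ ^ 2)⁻¹ * v 2)) (v3 (ζ⁻¹ * φ 0) (ζ⁻¹ * φ 1) (ζ ^ 2 * φ 2))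
        * Zmat ζ := by
  have h : ∀ (v φ : Fin 3 → F), (Zmat ζ * tvM v φ : Matrix (Fin 3) (Fin 3) F)
      = tvM (v3 (ζ * v 0) (ζ * v 1) ((ζ ^ 2)⁻¹ * v 2)) (v3 (ζ⁻¹ * φ 0) (ζ⁻¹ * φ 1) (ζ ^ 2 * φ 2))
        * Zmat ζ := by
    intro v φ
    ext i j
    fin_cases i <;> fin_cases j <;>
      simp [tvM, Zmat, v3, Matrix.mul_apply, Fin.sum_univ_three, vecMulVec, Matrix.add_apply,
        Matrix.one_apply] <;> field_simp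
  exact h v φ

/-- (K5) -/
theorem conj_z (ζ : F) (hζ : ζ ≠ 0) (v φ : Fin (0 + 3) → F) (h : φ ⬝ᵥ v = 0) :
    zEl ζ * tvS v φ * (zEl ζ)⁻¹ =
      tvS (v3 (ζ * v 0) (ζ * v 1) ((ζ ^ 2)⁻¹ * v 2)) (v3 (ζ⁻¹ * φ 0) (ζ⁻¹ * φ 1) (ζ ^ 2 * φ 2)) := by
  have e : ∀ (a b : Fin 3 → F), a ⬝ᵥ b = a 0 * b 0 + a 1 * b 1 + a 2 * b 2 := by
    intro a b
    simp [dotProduct, Fin.sum_univ_three]
  have h' : φ 0 * v 0 + φ 1 * v 1 + φ 2 * v 2 = 0 := (e φ v).symm.trans h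
  have h2 : v3 (ζ⁻¹ * φ 0) (ζ⁻¹ * φ 1) (ζ ^ 2 * φ 2) ⬝ᵥ
      v3 (ζ * v 0) (ζ * v 1) ((ζ ^ 2)⁻¹ * v 2) = 0 := by
    refine (e _ _).trans ?_
    have e0 : ∀ a b c : F, v3 a b c (0 : Fin 3) = a := fun _ _ _ => rfl
    have e1 : ∀ a b c : F, v3 a b c (1 : Fin 3) = b := fun _ _ _ => rfl
    have e2 : ∀ a b c : F, v3 a b c (2 : Fin 3) = c := fun _ _ _ => rfl
    rw [e0, e0, e1, e1, e2, e2]
    field_simp
    linear_combination h'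
  have hEq : zEl ζ * tvS v φ =
      tvS (v3 (ζ * v 0) (ζ * v 1) ((ζ ^ 2)⁻¹ * v 2)) (v3 (ζ⁻¹ * φ 0) (ζ⁻¹ * φ 1) (ζ ^ 2 * φ 2))
        * zEl ζ := by
    apply Subtype.ext
    rw [Matrix.SpecialLinearGroup.coe_mul, Matrix.SpecialLinearGroup.coe_mul,
      Cfsg.Agent.Helper78.RU.d1_tvS_val _ _ h, Cfsg.Agent.Helper78.RU.d1_tvS_val _ _ h2,
      k5_zEl_val ζ hζ]
    exact k5_mat ζ hζ v φ
  rw [hEq, mul_inv_cancel_right]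

end Cfsg.Agent.Helper78.RT
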