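import Mathlib
import Cfsg.Agent.Lib.Helper93.RU0
import Cfsg.Agent.Lib.Helper98.RT0
import Cfsg.Agent.Lib.Helper78.RUD1
import Cfsg.Agent.Lib.Helper78.RTK5

/-!
# RT project (S2278), piece (K6): `t'⁻¹ (z t' z⁻¹) = x₂₁(κ a (ζ⁻³ - 1))`.
-/

set_option autoImplicit false

namespace Cfsg.Agent.Helper78.RT

open Matrix Cfsg.Agent.Helper93.RU Cfsg.Agent.Helper98.RT

variable {F : Type*} [Field F]

theorem k6_mat (ζ κ w a : F) (hζ : ζ ≠ 0) :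
    tvM (v3 (-w) 0 a) (κ • eV (1 : Fin (0 + 3))) *
        tvM (eV (2 : Fin (0 + 3))) ((κ * a * ((ζ ^ 3)⁻¹ - 1)) • eV (1 : Fin (0 + 3))) * Zmat ζ
      = Zmat ζ * tvM (v3 (-w) 0 a) (κ • eV (1 : Fin (0 + 3))) := by
  have h : (tvM (v3 (-w) 0 a) (κ • eV (1 : Fin 3)) *
        tvM (eV (2 : Fin 3)) ((κ * a * ((ζ ^ 3)⁻¹ - 1)) • eV (1 : Fin 3)) * Zmat ζ
          : Matrix (Fin 3) (Fin 3) F)
      = Zmat ζ * tvM (v3 (-w) 0 a) (κ • eV (1 : Fin 3)) := by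
    ext i j
    fin_cases i <;> fin_cases j <;>
      simp [tvM, Zmat, v3, eV, Matrix.mul_apply, Fin.sum_univ_three, vecMulVec, Matrix.add_apply,
        Matrix.one_apply] <;> field_simp <;> ring
  exact h

/-- (K6) -/
theorem x21_mem (H : Subgroup (G3 F)) (ζ κ w a : F) (hζ : ζ ≠ 0) (hz : zEl ζ ∈ H)
    (ht : tvS (v3 (-w) 0 a) (κ • eV 1) ∈ H) :
    tvS (eV 2) ((κ * a * ((ζ ^ 3)⁻¹ - 1)) • eV 1) ∈ H := by
  have e : ∀ (a b : Fin 3 → F), a ⬝ᵥ b = a 0 * b 0 + a 1 * b 1 + a 2 * b 2 := by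
    intro a b
    simp [dotProduct, Fin.sum_univ_three]
  have h1 : (κ • eV (1 : Fin (0 + 3)) : Fin (0 + 3) → F) ⬝ᵥ v3 (-w) 0 a = 0 := by
    refine (e _ _).trans ?_
    simp [eV, v3]
  have h2 : ((κ * a * ((ζ ^ 3)⁻¹ - 1)) • eV (1 : Fin (0 + 3)) : Fin (0 + 3) → F) ⬝ᵥ eV 2 = 0 := by
    refine (e _ _).trans ?_
    simp [eV]
  have hEq : tvS (v3 (-w) 0 a) (κ • eV 1) * tvS (eV 2) ((κ * a * ((ζ ^ 3)⁻¹ - 1)) • eV 1) * zEl ζ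
      = zEl ζ * tvS (v3 (-w) 0 a) (κ • eV 1) := by
    apply Subtype.ext
    rw [Matrix.SpecialLinearGroup.coe_mul, Matrix.SpecialLinearGroup.coe_mul,
      Matrix.SpecialLinearGroup.coe_mul,
      Cfsg.Agent.Helper78.RU.d1_tvS_val _ _ h1, Cfsg.Agent.Helper78.RU.d1_tvS_val _ _ h2,
      k5_zEl_val ζ hζ]
    exact k6_mat ζ κ w a hζ
  have hX : tvS (eV 2) ((κ * a * ((ζ ^ 3)⁻¹ - 1)) • eV 1)
      = (tvS (v3 (-w) 0 a) (κ • eV 1))⁻¹ * (zEl ζ * tvS (v3 (-w) 0 a) (κ • eV 1) * (zEl ζ)⁻¹) := by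
    rw [← hEq]
    group
  rw [hX]
  exact H.mul_mem (H.inv_mem ht) (H.mul_mem (H.mul_mem hz ht) (H.inv_mem hz))

end Cfsg.Agent.Helper78.RT
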