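import Mathlib
import Cfsg.Agent.Lib.Helper93.RU0
import Cfsg.Agent.Lib.Helper78.RUD1
import Cfsg.Agent.Lib.Helper78.RUD4Core

/-!
# RU project (S2280), piece (D4): all basis vectors are full centres (self-contained: own copies
of (B2), (B7)).
-/

set_option autoImplicit false

namespace Cfsg.Agent.Helper78.RU

open Matrix Cfsg.Agent.Helper93.RU

variable {F : Type*} [Field F] {m : ℕ}

theorem d4_Lmat_apply (ε : F) (i j : Fin (m + 3)) :
    Lmat (m := m) ε i j = if j.val + 1 = i.val then (if j.val = 0 then ε else 1) else 0 := rfl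

theorem d4_det_L (ε : F) : (1 + Lmat (m := m) ε).det = 1 := by
  have hT : (1 + Lmat (m := m) ε).BlockTriangular OrderDual.toDual := by
    intro i j hij
    have hij' : i < j := hij
    have hne : i ≠ j := ne_of_lt hij'
    have hlt : i.val < j.val := hij'
    rw [Matrix.add_apply, Matrix.one_apply_ne hne, d4_Lmat_apply, if_neg (by omega), add_zero]
  rw [Matrix.det_of_lowerTriangular _ hT]
  apply Finset.prod_eq_one
  intro i _
  rw [Matrix.add_apply, Matrix.one_apply_eq, d4_Lmat_apply, if_neg (by omega), add_zero]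

theorem d4_lEl_val (ε : F) : (lEl (m := m) ε).1 = 1 + Lmat ε := by
  have h : lEl (m := m) ε = ⟨1 + Lmat ε, d4_det_L ε⟩ := dif_pos (d4_det_L ε)
  rw [h]

theorem d4_lEl_mulVec (ε : F) (k : Fin (m + 3)) (hk : k.val + 1 < m + 3) :
    (lEl (m := m) ε).1 *ᵥ eV k = eV k + (if k.val = 0 then ε else 1) • eV ⟨k.val + 1, hk⟩ := by
  rw [d4_lEl_val]
  funext i
  unfold eV
  rw [Matrix.mulVec_single_one, Matrix.col_apply, Matrix.add_apply, Pi.add_apply, Pi.smul_apply,
    d4_Lmat_apply, smul_eq_mul]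
  congr 1
  · rw [Matrix.one_apply, Pi.single_apply]
  · by_cases h : k.val + 1 = i.val
    · have hi : i = ⟨k.val + 1, hk⟩ := Fin.ext h.symm
      rw [if_pos h, hi, Pi.single_eq_same, mul_one]
    · have hi : i ≠ ⟨k.val + 1, hk⟩ := fun hh => h (by rw [hh])
      rw [if_neg h, Pi.single_eq_of_ne hi, mul_zero]

/-- (D4) -/
theorem all_mem_W (H : Subgroup (SLm m F)) (ε : F) (hε : ε = 1 ∨ ε = -1) (hl : lEl ε ∈ H)
    (h0 : eV 0 ∈ Wset H) (k : Fin (m + 3)) : eV k ∈ Wset H :=
  d4_core H ε hε hl (fun k hk => d4_lEl_mulVec ε k hk) h0 k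

end Cfsg.Agent.Helper78.RU
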