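import Mathlib
import Cfsg.Agent.Lib.Helper75.CharGalois
import Cfsg.Agent.Lib.Helper74.DefectOrder
import Cfsg.Agent.Lib.Helper77.Principal

/-!
# Principal block characters of small degree and the centralizer of a Sylow subgroup (helper78)

`eq_one_of_principal_small_degree`: if `G` is perfect, `χ` is a faithful irreducible character in
the principal `p`-block of degree `< 2p` and `y` is a `p`-regular element centralizing a Sylow
`p`-subgroup, then `y = 1`.
-/

set_option autoImplicit false
set_option linter.unusedSectionVars false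
set_option linter.style.haveILetI false

namespace Cfsg.Agent.Helper78

open Cfsg Cfsg.Agent.Helper77
open scoped ComplexConjugate

section smalldeg

variable {G : Type*} [Group G] [Fintype G] {p : ℕ} [Fact p.Prime] {M : Ideal AlgInt}

/-- A principal block character is congruent to its degree at elements centralizing a Sylow
`p`-subgroup. -/
theorem memLocalIdeal_principal_sub_degree (hM : IsPModular p M) (P : Sylow p G)
    (χ : IrrCharacter G) (hχ : χ ∈ principalBlock M G) (z : G)
    (hz : z ∈ Subgroup.centralizer ((P : Subgroup G) : Set G)) :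
    MemLocalIdeal M ((χ : G → ℂ) z - (χ : G → ℂ) 1) := by
  have hpr := isPrime_of_isPModular hM
  have hp : p.Prime := Fact.out
  have hsb : SameBlock M (fun _ : G => (1 : ℂ)) (χ : G → ℂ) := hχ
  have h1 := hsb z
  unfold centralChar at h1
  obtain ⟨idx, hidx⟩ : ∃ idx : ℕ, idx = (Subgroup.centralizer ({z} : Set G)).index := ⟨_, rfl⟩
  rw [← hidx] at h1
  have hPle : (P : Subgroup G) ≤ Subgroup.centralizer ({z} : Set G) := by
    intro u hu
    rw [Subgroup.mem_centralizer_iff]
    intro w hw
    rw [Set.mem_singleton_iff] at hw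
    subst hw
    rw [Subgroup.mem_centralizer_iff] at hz
    exact (hz u hu).symm
  have hnd : ¬ p ∣ idx := by
    rw [hidx]
    intro hd
    exact P.not_dvd_index (dvd_trans hd (Subgroup.index_dvd_of_le hPle))
  have hunit : ¬ MemLocalIdeal M (idx : ℂ) := by
    rw [memLocalIdeal_natCast_iff hM]; exact hnd
  have hinv := memLocalRing_inv (memLocalRing_natCast (M := M) idx) hunit
  have hidx0 : (idx : ℂ) ≠ 0 := by
    intro h0
    apply hunit
    rw [h0]
    exact memLocalIdeal_zero hpr.ne_top
  have hχ1 := Cfsg.Agent.Helper79.irr_one_ne_zero χ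
  obtain ⟨hdeg, -⟩ := Cfsg.Agent.Helper79.irr_one_eq χ
  -- c = (χ 1 - χ z) / χ 1 lies in the ideal
  have h2 : MemLocalIdeal M (((χ : G → ℂ) 1 - (χ : G → ℂ) z) / (χ : G → ℂ) 1) := by
    have e : ((χ : G → ℂ) 1 - (χ : G → ℂ) z) / (χ : G → ℂ) 1 =
        ((idx : ℂ) * 1 / 1 - (idx : ℂ) * (χ : G → ℂ) z / (χ : G → ℂ) 1) * (idx : ℂ)⁻¹ := by
      field_simp
    rw [e]
    exact memLocalIdeal_mul_right h1 hinv
  have h3 : MemLocalIdeal M ((χ : G → ℂ) 1 *
      (((χ : G → ℂ) 1 - (χ : G → ℂ) z) / (χ : G → ℂ) 1)) := by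
    apply memLocalIdeal_mul_left _ h2
    rw [hdeg]
    exact memLocalRing_natCast _
  have e2 : (χ : G → ℂ) 1 * (((χ : G → ℂ) 1 - (χ : G → ℂ) z) / (χ : G → ℂ) 1) =
      (χ : G → ℂ) 1 - (χ : G → ℂ) z := by
    field_simp
  rw [e2] at h3
  have := memLocalIdeal_neg h3
  rwa [neg_sub] at this

/-- Geometric sum of a root of unity. -/
theorem geom_sum_root (ν : ℂ) (e : ℕ) (hν : ν ^ e = 1) :
    ∑ j ∈ Finset.range e, ν ^ j = if ν = 1 then (e : ℂ) else 0 := by
  by_cases h : ν = 1
  · rw [if_pos h, h]; simp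
  · rw [if_neg h]
    have h1 := geom_sum_mul ν e
    rw [hν, sub_self] at h1
    exact (mul_eq_zero.1 h1).resolve_right (sub_ne_zero.2 h)

/-- If `G` is perfect, `χ` is an irreducible character in the principal `p`-block of degree
`< 2p` and `y` is a `p`-regular element centralizing a Sylow `p`-subgroup, then `χ y = χ 1`. -/
theorem eq_degree_of_principal_small_degree (hM : IsPModular p M) (hperf : commutator G = ⊤)
    (P : Sylow p G) (χ : IrrCharacter G) (hχ : χ ∈ principalBlock M G)
    (hdeg : charDegree (χ : G → ℂ) < 2 * p) (y : G)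
    (hy : y ∈ Subgroup.centralizer ((P : Subgroup G) : Set G)) (hyp : ¬ p ∣ orderOf y) :
    (χ : G → ℂ) y = (χ : G → ℂ) 1 := by
  classical
  have hpr := isPrime_of_isPModular hM
  have hp : p.Prime := Fact.out
  obtain ⟨hdeg1, -⟩ := Cfsg.Agent.Helper79.irr_one_eq χ
  obtain ⟨n, ρ, hirr, hρ⟩ := χ.2
  obtain ⟨e, he⟩ : ∃ e, e = orderOf y := ⟨_, rfl⟩
  have he0 : 0 < e := he ▸ orderOf_pos y
  have hye : y ^ e = 1 := he ▸ pow_orderOf_eq_one y
  have hA : (ρ y) ^ e = 1 := by rw [← map_pow, hye, map_one]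
  obtain ⟨v, μ, hv⟩ := Cfsg.Agent.Helper75.exists_eigenbasis_of_pow_eq_one (ρ y) e he0 hA
  have hμ : ∀ i, μ i ^ e = 1 := by
    intro i
    have h1 := Cfsg.Agent.Helper75.pow_apply_eigenvector (ρ y) (v i) (μ i) (hv i) e
    rw [hA, Module.End.one_apply] at h1
    have h3 : (μ i ^ e - 1) • v i = 0 := by
      rw [sub_smul, ← h1]; simp
    rcases smul_eq_zero.mp h3 with h | h
    · exact sub_eq_zero.mp h
    · exact absurd h (v.ne_zero i)
  have htr : ∀ k : ℕ, (χ : G → ℂ) (y ^ k) = ∑ i, μ i ^ k := by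
    intro k
    rw [← hρ]
    unfold Representation.character
    rw [map_pow]
    exact Cfsg.Agent.Helper75.trace_pow_eigenbasis (ρ y) v μ hv k
  have hdet : LinearMap.det (ρ y) = ∏ i, μ i := by
    rw [← LinearMap.det_toMatrix v]
    have : LinearMap.toMatrix v v (ρ y) = Matrix.diagonal μ := by
      ext i j
      rw [LinearMap.toMatrix_apply, hv j, map_smul, Finsupp.smul_apply, v.repr_self,
        Matrix.diagonal_apply]
      by_cases hij : i = j
      · subst hij; simp
      · rw [if_neg hij, Finsupp.single_eq_of_ne hij]; simp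
    rw [this, Matrix.det_diagonal]
  -- perfectness: the determinant is trivial
  have hdet1 : LinearMap.det (ρ y) = 1 := by
    let f : G →* ℂˣ := ((LinearMap.det : Module.End ℂ (Fin n → ℂ) →* ℂ).comp ρ).toHomUnits
    have hker : commutator G ≤ f.ker := Abelianization.commutator_subset_ker f
    rw [hperf] at hker
    have : f y = 1 := hker (Subgroup.mem_top y)
    have h2 := congrArg Units.val this
    simpa [f] using h2
  -- the degree
  obtain ⟨N, hN⟩ : ∃ N, N = Module.finrank ℂ (Fin n → ℂ) := ⟨_, rfl⟩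
  have hχ1 : (χ : G → ℂ) 1 = (N : ℂ) := by
    have := htr 0
    simp only [pow_zero, Finset.sum_const, Finset.card_univ, Fintype.card_fin, nsmul_eq_mul,
      mul_one] at this
    rw [this, hN]
  have hNdeg : N = charDegree (χ : G → ℂ) := by
    have : (N : ℂ) = (charDegree (χ : G → ℂ) : ℂ) := by rw [← hχ1, hdeg1]
    exact_mod_cast this
  have hcardI : Fintype.card (Fin (Module.finrank ℂ (Fin n → ℂ))) = N := by
    rw [Fintype.card_fin, hN]
  -- congruences
  have hcong : ∀ k : ℕ, MemLocalIdeal M ((χ : G → ℂ) (y ^ k) - (χ : G → ℂ) 1) := fun k =>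
    memLocalIdeal_principal_sub_degree hM P χ hχ (y ^ k) (Subgroup.pow_mem _ hy k)
  -- counting
  have hcount : ∀ ω : ℂ, ω ^ e = 1 → ω ≠ 1 →
      p ∣ (Finset.univ.filter (fun i => μ i = ω)).card := by
    intro ω hω hω1
    have hω0 : ω ≠ 0 := by
      rintro rfl
      rw [zero_pow he0.ne'] at hω
      exact zero_ne_one hω
    obtain ⟨ν, hν⟩ : ∃ ν : ℂ, ν = ω⁻¹ := ⟨_, rfl⟩
    have hνe : ν ^ e = 1 := by rw [hν, inv_pow, hω, inv_one]
    have hν1 : ν ≠ 1 := by
      rw [hν]
      intro h
      exact hω1 (inv_eq_one.1 h)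
    have hνint : ∀ j : ℕ, MemLocalRing M (ν ^ j) := by
      intro j
      apply Cfsg.Agent.Helper74.DO.memLocalRing_of_isIntegral
      apply IsIntegral.pow
      refine ⟨Polynomial.X ^ e - 1, Polynomial.monic_X_pow_sub_C (1 : ℤ) he0.ne', ?_⟩
      simp [hνe]
    have h1 : ∑ j ∈ Finset.range e, ν ^ j * (χ : G → ℂ) (y ^ j) =
        (e : ℂ) * ((Finset.univ.filter (fun i => μ i = ω)).card : ℂ) := by
      simp_rw [htr, Finset.mul_sum]
      rw [Finset.sum_comm]
      have : ∀ i, ∑ j ∈ Finset.range e, ν ^ j * μ i ^ j = if μ i = ω then (e : ℂ) else 0 := by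
        intro i
        simp_rw [← mul_pow]
        rw [geom_sum_root (ν * μ i) e (by rw [mul_pow, hνe, hμ i, one_mul])]
        have : ν * μ i = 1 ↔ μ i = ω := by
          rw [hν]
          constructor
          · intro h
            have := congrArg (fun t => ω * t) h
            simpa [← mul_assoc, mul_inv_cancel₀ hω0] using this
          · intro h
            rw [h, inv_mul_cancel₀ hω0]
        rw [if_congr this rfl rfl]
      rw [Finset.sum_congr rfl (fun i _ => this i), Finset.sum_ite, Finset.sum_const_zero,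
        add_zero, Finset.sum_const, nsmul_eq_mul, mul_comm]
    have h2 : MemLocalIdeal M (∑ j ∈ Finset.range e, ν ^ j * (χ : G → ℂ) (y ^ j)) := by
      have h3 : ∑ j ∈ Finset.range e, ν ^ j * (χ : G → ℂ) (y ^ j) =
          ∑ j ∈ Finset.range e, ν ^ j * ((χ : G → ℂ) (y ^ j) - (χ : G → ℂ) 1) := by
        simp_rw [mul_sub]
        rw [Finset.sum_sub_distrib, ← Finset.sum_mul, geom_sum_root ν e hνe, if_neg hν1,
          zero_mul, sub_zero]
      rw [h3]
      exact memLocalIdeal_sum _ _ (fun j _ => memLocalIdeal_mul_left (hνint j) (hcong j))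
    rw [h1] at h2
    have h4 : MemLocalIdeal M (((e * (Finset.univ.filter (fun i => μ i = ω)).card : ℕ)) : ℂ) := by
      push_cast
      exact h2
    rw [memLocalIdeal_natCast_iff hM] at h4
    rcases hp.dvd_mul.1 h4 with h5 | h5
    · exact absurd (he ▸ h5) hyp
    · exact h5
  -- all eigenvalues are one
  have hall : ∀ i, μ i = 1 := by
    by_contra hcon
    push Not at hcon
    obtain ⟨i₀, hi₀⟩ := hcon
    obtain ⟨ω₀, hω₀⟩ : ∃ ω₀, ω₀ = μ i₀ := ⟨_, rfl⟩
    have hω₀e : ω₀ ^ e = 1 := hω₀ ▸ hμ i₀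
    have hω₀1 : ω₀ ≠ 1 := hω₀ ▸ hi₀
    obtain ⟨c₀, hc₀⟩ : ∃ c₀, c₀ = (Finset.univ.filter (fun i => μ i = ω₀)).card := ⟨_, rfl⟩
    have hc₀pos : 0 < c₀ := by
      rw [hc₀]
      exact Finset.card_pos.2 ⟨i₀, by simp [hω₀]⟩
    have hc₀dvd : p ∣ c₀ := hc₀ ▸ hcount ω₀ hω₀e hω₀1
    have hc₀p : p ≤ c₀ := Nat.le_of_dvd hc₀pos hc₀dvd
    have hc₀N : c₀ ≤ N := by
      rw [hc₀, ← hcardI]
      exact Finset.card_le_univ _
    have hothers : ∀ i, μ i = 1 ∨ μ i = ω₀ := by
      intro i
      by_contra hcon2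
      push Not at hcon2
      have hc1dvd := hcount (μ i) (hμ i) hcon2.1
      have hc1pos : 0 < (Finset.univ.filter (fun j => μ j = μ i)).card :=
        Finset.card_pos.2 ⟨i, by simp⟩
      have hc1p : p ≤ (Finset.univ.filter (fun j => μ j = μ i)).card :=
        Nat.le_of_dvd hc1pos hc1dvd
      have hdisj : Disjoint (Finset.univ.filter (fun j => μ j = ω₀))
          (Finset.univ.filter (fun j => μ j = μ i)) := by
        rw [Finset.disjoint_filter]
        intro j _ h1 h2
        exact hcon2.2 (h2.symm.trans h1)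
      have hle : (Finset.univ.filter (fun j => μ j = ω₀)).card +
          (Finset.univ.filter (fun j => μ j = μ i)).card ≤ N := by
        rw [← Finset.card_union_of_disjoint hdisj, ← hcardI]
        exact Finset.card_le_univ _
      omega
    have hc₀eq : c₀ = p := by
      obtain ⟨t, ht⟩ := hc₀dvd
      have : t = 1 := by
        have h1 : 0 < t := by
          rcases Nat.eq_zero_or_pos t with h | h
          · rw [h, mul_zero] at ht; omega
          · exact h
        have h2 : t < 2 := by
          by_contra h3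
          push Not at h3
          have : 2 * p ≤ p * t := by nlinarith
          omega
        omega
      rw [ht, this, mul_one]
    have hprod : ∏ i, μ i = ω₀ ^ c₀ := by
      have : ∀ i, μ i = if μ i = ω₀ then ω₀ else 1 := by
        intro i
        rcases hothers i with h | h
        · rw [if_neg (by rw [h]; exact fun h' => hω₀1 h'.symm), h]
        · rw [if_pos h, h]
      rw [Finset.prod_congr rfl (fun i _ => this i), Finset.prod_ite, Finset.prod_const_one,
        mul_one, Finset.prod_const, hc₀]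
    rw [hdet1, hprod, hc₀eq] at hdet
    have hg : ω₀ ^ Nat.gcd e p = 1 := pow_gcd_eq_one.2 ⟨hω₀e, hdet.symm⟩
    have hcop : Nat.gcd e p = 1 := by
      rw [Nat.gcd_comm]
      exact (Nat.Prime.coprime_iff_not_dvd hp).2 (he ▸ hyp)
    rw [hcop, pow_one] at hg
    exact hω₀1 hg
  have := htr 1
  rw [pow_one] at this
  rw [this, hχ1]
  simp only [hall, one_pow, Finset.sum_const, Finset.card_univ, nsmul_eq_mul, mul_one]
  rw [hcardI]

end smalldeg

end Cfsg.Agent.Helper78
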