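import Mathlib
import Cfsg.Agent.Lib.Helper78.PIndexInv
import Cfsg.Agent.Lib.Helper78.Domination2
import Cfsg.Agent.Lib.Helper77.Knorr
import Cfsg.Agent.Lib.Helper77.Transport
import Cfsg.Agent.Lib.Helper77.RelCover

/-!
# Stabilizers of covered blocks and `p`-power index (helper78), towards S4673

`N ≤ L` normal in `G` with `L/N` a `p`-group, `B` covering the block `c` of `N`, a defect group of
`B` inside `N`: then the stabilizer of `c` meets `L` in `N`.
-/

set_option autoImplicit false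
set_option linter.unusedSectionVars false
set_option linter.style.haveILetI false

namespace Cfsg.Agent.Helper78

open Cfsg
open scoped ComplexConjugate

universe u

section transport

variable {G : Type u} [Group G] [Fintype G] (N : Subgroup G) [hN : N.Normal] [Fintype N]
  (Y : Subgroup G) (hNY : N ≤ Y)

/-- `N`, seen inside the subgroup `Y ≥ N`, is isomorphic to `N`. -/
noncomputable def subEquiv : ↥(N.subgroupOf Y) ≃* ↥N := Subgroup.subgroupOfEquivOfLe hNY

/-- transport of an irreducible character of `N` to `N.subgroupOf Y`. -/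
noncomputable def downIrr (θ : IrrCharacter N) : IrrCharacter ↥(N.subgroupOf Y) :=
  Cfsg.Agent.Helper77.mapIrr (subEquiv N Y hNY).symm θ

theorem downIrr_apply (θ : IrrCharacter N) (k : ↥(N.subgroupOf Y)) :
    (downIrr N Y hNY θ : ↥(N.subgroupOf Y) → ℂ) k = (θ : N → ℂ) ⟨((k : Y) : G), k.2⟩ := rfl

theorem charDegree_downIrr (θ : IrrCharacter N) :
    charDegree (downIrr N Y hNY θ : ↥(N.subgroupOf Y) → ℂ) = charDegree (θ : N → ℂ) := by
  unfold charDegree
  rw [downIrr_apply]
  rfl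

/-- transport of a set of irreducible characters. -/
noncomputable def downSet (c : Set (IrrCharacter N)) : Set (IrrCharacter ↥(N.subgroupOf Y)) :=
  Cfsg.Agent.Helper77.mapSet (subEquiv N Y hNY).symm c

theorem mem_downSet_iff (c : Set (IrrCharacter N)) (θ' : IrrCharacter ↥(N.subgroupOf Y)) :
    θ' ∈ downSet N Y hNY c ↔ ∃ θ ∈ c, downIrr N Y hNY θ = θ' := Iff.rfl

theorem minVal_downSet (p : ℕ) (c : Set (IrrCharacter N)) :
    Cfsg.Agent.Helper74.DO.minVal p (downSet N Y hNY c) = Cfsg.Agent.Helper74.DO.minVal p c := by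
  unfold Cfsg.Agent.Helper74.DO.minVal downSet Cfsg.Agent.Helper77.mapSet
  rw [Set.image_image]
  congr 1

theorem stabilizesBlock_down {c : Set (IrrCharacter N)} (y : Y)
    (hy : StabilizesBlock N c (y : G)) :
    StabilizesBlock (N.subgroupOf Y) (downSet N Y hNY c) y := by
  haveI : (N.subgroupOf Y).Normal := Subgroup.normal_subgroupOf
  refine ⟨by rw [Subgroup.normalizer_eq_top]; exact Subgroup.mem_top _, ?_⟩
  intro χ' hχ'
  obtain ⟨χ, hχ, rfl⟩ := hχ'
  obtain ⟨χ₂, hχ₂, hconj⟩ := hy.2 χ hχ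
  refine ⟨downIrr N Y hNY χ₂, ⟨χ₂, hχ₂, rfl⟩, ?_⟩
  intro k k' hkk'
  show (downIrr N Y hNY χ₂ : ↥(N.subgroupOf Y) → ℂ) k' =
    (downIrr N Y hNY χ : ↥(N.subgroupOf Y) → ℂ) k
  rw [downIrr_apply, downIrr_apply]
  apply hconj
  show ((k' : Y) : G) = (y : G) * ((k : Y) : G) * (y : G)⁻¹
  have := congrArg (Subtype.val : Y → G) hkk'
  simpa using this

theorem classInner_down (ζ : Y → ℂ) (θ : IrrCharacter N) [Fintype Y]
    [Fintype ↥(N.subgroupOf Y)] :
    classInner (fun k : ↥(N.subgroupOf Y) => ζ (k : Y))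
      (downIrr N Y hNY θ : ↥(N.subgroupOf Y) → ℂ) =
    classInner (Cfsg.Agent.Helper77.resSub hNY ζ) (θ : N → ℂ) := by
  rw [← Cfsg.Agent.Helper77.classInner_comp_mulEquiv (subEquiv N Y hNY)
    (Cfsg.Agent.Helper77.resSub hNY ζ) (θ : N → ℂ)]
  rfl

end transport

section intermediate

variable {G : Type u} [Group G] [Fintype G]

/-- An intermediate constituent: if `θ` is a constituent of `χ_N` and `N ≤ L`, some irreducible
constituent `ζ` of `χ_L` lies over `θ`. -/
theorem exists_intermediate (N L : Subgroup G) [Fintype N] [Fintype L] (hNL : N ≤ L)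
    (χ : IrrCharacter G) (θ : IrrCharacter N)
    (hne : classInner (fun n : N => (χ : G → ℂ) n) (θ : N → ℂ) ≠ 0) :
    ∃ ζ : IrrCharacter L, classInner (fun l : L => (χ : G → ℂ) l) (ζ : L → ℂ) ≠ 0 ∧
      classInner (Cfsg.Agent.Helper77.resSub hNL (ζ : L → ℂ)) (θ : N → ℂ) ≠ 0 := by
  classical
  have hχL : IsCharacter L (fun l : L => (χ : G → ℂ) l) :=
    Cfsg.Agent.Helper81.isCharacter_restrict L (IsIrrCharacter.isCharacter χ.2)
  obtain ⟨m, hm⟩ := IsCharacter.exists_irr_decomp hχL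
  have hmζ : ∀ ζ : IrrCharacter L, classInner (fun l : L => (χ : G → ℂ) l) (ζ : L → ℂ) = (m ζ : ℂ) := by
    intro ζ
    rw [hm]
    exact classInner_decomp (fun χ => (m χ : ℂ)) ζ
  have hres : (fun n : N => (χ : G → ℂ) n) =
      ∑ ζ : IrrCharacter L, (m ζ : ℂ) • Cfsg.Agent.Helper77.resSub hNL (ζ : L → ℂ) := by
    funext n
    have h1 := congrFun hm ⟨(n : G), hNL n.2⟩
    simp only [Finset.sum_apply, Pi.smul_apply, smul_eq_mul] at h1 ⊢
    rw [h1]
    rfl
  rw [hres, classInner_sum_left] at hne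
  obtain ⟨ζ, -, hζ⟩ := Finset.exists_ne_zero_of_sum_ne_zero hne
  rw [classInner_smul_left] at hζ
  refine ⟨ζ, ?_, right_ne_zero_of_mul hζ⟩
  rw [hmζ]
  exact left_ne_zero_of_mul hζ

end intermediate

section main

variable {G : Type u} [Group G] [Fintype G] {p : ℕ} [Fact p.Prime] {M : Ideal AlgInt}

/-- elements of `N` stabilize every block of `N`. -/
theorem stabilizesBlock_of_mem (N : Subgroup G) (c : Set (IrrCharacter N)) {n : G} (hn : n ∈ N) :
    StabilizesBlock N c n := by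
  refine ⟨Subgroup.le_normalizer hn, fun χ hχ => ⟨χ, hχ, ?_⟩⟩
  intro k k' hkk'
  have : k' = ⟨n, hn⟩ * k * (⟨n, hn⟩ : N)⁻¹ := Subtype.ext (by rw [hkk']; rfl)
  rw [this]
  exact Cfsg.Agent.Helper79.irr_class χ k ⟨n, hn⟩

/-- **S4673.** -/
theorem inf_stabilizer_eq (hM : IsPModular p M) (N L : Subgroup G) [hN : N.Normal]
    [hL : L.Normal] [Fintype N] (hNL : N ≤ L) (hLN : ∃ k : ℕ, (N.subgroupOf L).index = p ^ k)
    {B : Set (IrrCharacter G)} (hB : IsPBlock M B) {c : Set (IrrCharacter N)} (hc : IsPBlock M c)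
    (hcov : ∃ χ ∈ B, ∃ θ ∈ c, classInner (fun n : N => (χ : G → ℂ) n) (θ : N → ℂ) ≠ 0)
    (hD : ∃ D : Subgroup G, IsDefectGroup p M B D ∧ D ≤ N) (T : Subgroup G)
    (hT : ∀ x : G, x ∈ T ↔ StabilizesBlock N c x) : T ⊓ L = N := by
  classical
  have hp : p.Prime := Fact.out
  haveI hpr := Cfsg.Agent.Helper77.isPrime_of_isPModular hM
  obtain ⟨χ₀, hχ₀, θ₀', hθ₀', hcon₀⟩ := hcov
  obtain ⟨D, hDdef, hDN⟩ := hD
  obtain ⟨k, hk⟩ := hLN
  have hNT : N ≤ T := fun n hn => (hT n).2 (stabilizesBlock_of_mem N c hn)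
  -- (C1) the defects of `B` and `c` agree
  have hdef : blockDefect p B = blockDefect p c := by
    obtain ⟨Q0, hQ0⟩ := Cfsg.Agent.Helper77.exists_isDefectGroup p hc
    have hQN : Q0.map N.subtype ≤ N := by
      rintro x ⟨y, -, rfl⟩
      exact y.2
    have hQ' : IsDefectGroup p M c ((Q0.map N.subtype).subgroupOf N) := by
      have : (Q0.map N.subtype).subgroupOf N = Q0 :=
        Subgroup.comap_map_eq_self_of_injective (Subgroup.subtype_injective N) Q0
      rw [this]
      exact hQ0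
    obtain ⟨P, hP, hPQ⟩ := Cfsg.Agent.Helper77.exists_isDefectGroup_inf_eq hM N hB hc χ₀ hχ₀
      θ₀' hθ₀' hcon₀ hQN hQ'
    obtain ⟨g, hg⟩ := exists_conj_eq_of_isDefectGroup hM hB hP hDdef
    have hPN : P ≤ N := by
      rw [← hg]
      rintro x ⟨y, hy, rfl⟩
      exact hN.conj_mem y (hDN hy) g
    have hPQ' : P = Q0.map N.subtype := by
      rw [← hPQ]
      exact (inf_eq_left.2 hPN).symm
    have h1 := Cfsg.Agent.Helper74.DO.card_defectGroup hM hB P hP
    have h2 := Cfsg.Agent.Helper74.DO.card_defectGroup hM hc Q0 hQ0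
    rw [hPQ', Subgroup.card_map_of_injective (Subgroup.subtype_injective N), h2] at h1
    exact (Nat.pow_right_injective hp.two_le h1).symm
  -- (C2) an invariant height zero character of `c`
  obtain ⟨H, hHdef⟩ : ∃ H : Subgroup G, H = T ⊓ L := ⟨_, rfl⟩
  have hNH : N ≤ H := by rw [hHdef]; exact le_inf hNT hNL
  have hHL : H ≤ L := by rw [hHdef]; exact inf_le_right
  have hHT : H ≤ T := by rw [hHdef]; exact inf_le_left
  haveI : Fintype H := Fintype.ofFinite _
  haveI : Fintype L := Fintype.ofFinite _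
  haveI : Fintype ↥(N.subgroupOf H) := Fintype.ofFinite _
  haveI : Fintype ↥(N.subgroupOf L) := Fintype.ofFinite _
  haveI hNHn : (N.subgroupOf H).Normal := Subgroup.normal_subgroupOf
  haveI hNLn : (N.subgroupOf L).Normal := Subgroup.normal_subgroupOf
  have hidxH : ∃ j : ℕ, (N.subgroupOf H).index = p ^ j := by
    have h1 : N.relIndex H * H.relIndex L = N.relIndex L :=
      Subgroup.relIndex_mul_relIndex N H L hNH hHL
    have h2 : N.relIndex H ∣ p ^ k := by
      rw [← hk]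
      exact Dvd.intro _ h1
    obtain ⟨j, -, hj⟩ := (Nat.dvd_prime_pow hp).1 h2
    exact ⟨j, hj⟩
  obtain ⟨θ1, hθ1, hθ1v, hθ1inv⟩ := exists_invariant_height_zero hM (N.subgroupOf H) hidxH
    (Cfsg.Agent.Helper77.isPBlock_mapSet (subEquiv N H hNH).symm hc)
    (fun y => stabilizesBlock_down N H hNH y ((hT (y : G)).1 (hHT y.2)))
  obtain ⟨θ0, hθ0, rfl⟩ := hθ1
  have hθ0v : (charDegree (θ0 : N → ℂ)).factorization p = Cfsg.Agent.Helper74.DO.minVal p c := by
    have h1 := minVal_downSet N H hNH p c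
    unfold downSet at h1
    rw [h1] at hθ1v
    rw [← hθ1v]
    exact congrArg (fun n : ℕ => n.factorization p) (charDegree_downIrr N H hNH θ0).symm
  have hinv : ∀ y ∈ H, ∀ n : N,
      (θ0 : N → ℂ) ⟨y * n * y⁻¹, hN.conj_mem n n.2 y⟩ = (θ0 : N → ℂ) n := by
    intro y hy n
    exact hθ1inv ⟨y, hy⟩ ⟨⟨(n : G), hNH n.2⟩, n.2⟩
  -- (C3) a character of `B` over `θ0`
  obtain ⟨χ, hχ, hχθ⟩ := exists_over_of_covers N hM hB hc χ₀ hχ₀ θ₀' hθ₀' hcon₀ θ0 hθ0
  -- (C4) an intermediate character of `L`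
  obtain ⟨ζ, hζ1, hζ2⟩ := exists_intermediate N L hNL χ θ0 hχθ
  obtain ⟨e1, he1, he1div⟩ := Cfsg.Agent.Helper79.degree_ratio_dvd_index L χ.2 ζ.2 hζ1
  have hζ3 : classInner (fun k : ↥(N.subgroupOf L) => (ζ : L → ℂ) (k : L))
      (downIrr N L hNL θ0 : ↥(N.subgroupOf L) → ℂ) ≠ 0 := by
    rw [classInner_down]
    exact hζ2
  obtain ⟨e2, he2, he2div⟩ := Cfsg.Agent.Helper79.degree_ratio_dvd_index (N.subgroupOf L) ζ.2
    (downIrr N L hNL θ0).2 hζ3
  -- natural number degrees
  have hζpos := (Cfsg.Agent.Helper79.irr_one_eq ζ).2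
  have hχpos := (Cfsg.Agent.Helper79.irr_one_eq χ).2
  have hθpos := (Cfsg.Agent.Helper79.irr_one_eq θ0).2
  have hdeg1 : charDegree (χ : G → ℂ) = e1 * charDegree (ζ : L → ℂ) := by
    have : ((charDegree (χ : G → ℂ) : ℕ) : ℂ) = ((e1 * charDegree (ζ : L → ℂ) : ℕ) : ℂ) := by
      rw [← (Cfsg.Agent.Helper79.irr_one_eq χ).1, he1, (Cfsg.Agent.Helper79.irr_one_eq ζ).1]
      push_cast
      rfl
    exact_mod_cast this
  have hdeg2 : charDegree (ζ : L → ℂ) = e2 * charDegree (θ0 : N → ℂ) := by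
    have : ((charDegree (ζ : L → ℂ) : ℕ) : ℂ) = ((e2 * charDegree (θ0 : N → ℂ) : ℕ) : ℂ) := by
      rw [← (Cfsg.Agent.Helper79.irr_one_eq ζ).1, he2,
        (Cfsg.Agent.Helper79.irr_one_eq (downIrr N L hNL θ0)).1, charDegree_downIrr]
      push_cast
      rfl
    exact_mod_cast this
  have he10 : e1 ≠ 0 := by
    intro h0
    rw [h0, zero_mul] at hdeg1
    omega
  have he20 : e2 ≠ 0 := by
    intro h0
    rw [h0, zero_mul] at hdeg2
    omega
  have hv1 : (charDegree (χ : G → ℂ)).factorization p =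
      e1.factorization p + (charDegree (ζ : L → ℂ)).factorization p := by
    rw [hdeg1, Nat.factorization_mul he10 hζpos.ne']
    rfl
  have hv2 : (charDegree (ζ : L → ℂ)).factorization p =
      e2.factorization p + (charDegree (θ0 : N → ℂ)).factorization p := by
    rw [hdeg2, Nat.factorization_mul he20 hθpos.ne']
    rfl
  have hLidx0 : L.index ≠ 0 := Subgroup.index_ne_zero_of_finite
  have hv3 : e1.factorization p ≤ L.index.factorization p :=
    (Nat.factorization_le_iff_dvd he10 hLidx0).2 he1div p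
  -- orders
  have hcardL : (Nat.card L).factorization p = (Nat.card N).factorization p + k := by
    rw [← Subgroup.card_mul_index (N.subgroupOf L), hk,
      Cfsg.Agent.Helper77.card_subgroupOf_of_le hNL,
      Nat.factorization_mul Nat.card_pos.ne' (pow_ne_zero _ hp.ne_zero)]
    simp [hp.factorization_self]
  have hcardG : (Nat.card G).factorization p =
      (Nat.card L).factorization p + L.index.factorization p := by
    rw [← Subgroup.card_mul_index L, Nat.factorization_mul Nat.card_pos.ne' hLidx0]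
    rfl
  have hχmin := Cfsg.Agent.Helper74.DO.minVal_le (p := p) hχ
  have hmB := Cfsg.Agent.Helper74.DO.minVal_le_card (p := p)
    (Cfsg.Agent.Helper77.nonempty_of_isPBlock hB)
  have hmc := Cfsg.Agent.Helper74.DO.minVal_le_card (p := p)
    (Cfsg.Agent.Helper77.nonempty_of_isPBlock hc)
  have eB := Cfsg.Agent.Helper74.DO.blockDefect_eq (p := p) B
  have ec := Cfsg.Agent.Helper74.DO.blockDefect_eq (p := p) c
  have he2k : k ≤ e2.factorization p := by omega
  have he2eq : e2 = p ^ k := by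
    rw [hk] at he2div
    obtain ⟨j, hjk, rfl⟩ := (Nat.dvd_prime_pow hp).1 he2div
    rw [hp.factorization_pow] at he2k
    simp only [Finsupp.single_eq_same] at he2k
    have : j = k := le_antisymm hjk he2k
    rw [this]
  have hdegζ : (ζ : L → ℂ) 1 = ((N.subgroupOf L).index : ℂ) *
      (downIrr N L hNL θ0 : ↥(N.subgroupOf L) → ℂ) 1 := by
    rw [he2, he2eq, hk]
  -- (C5) conclusion
  apply le_antisymm _ (le_inf hNT hNL)
  intro y hy
  have hyH : y ∈ H := by rw [hHdef]; exact hy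
  have hyL : y ∈ L := hHL hyH
  have hmem := mem_of_fixes_of_degree (N.subgroupOf L) ζ (downIrr N L hNL θ0) hζ3 hdegζ ⟨y, hyL⟩
    (fun kk => by
      rw [downIrr_apply, downIrr_apply]
      exact hinv y hyH ⟨((kk : L) : G), kk.2⟩)
  exact hmem

end main

end Cfsg.Agent.Helper78
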