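import Mathlib
import Cfsg.Agent.Lib.Helper48.CoprimeGen

/-!
# TH1B (FGABS): coprime generation by a four-group of automorphisms (helper81 sub-server, S3797)
-/

set_option autoImplicit false

namespace Cfsg.Agent.Helper78.TH1B

open Subgroup

universe u

/-- the four-group generated by two commuting involutions -/
def h78Four {Γ : Type*} [Group Γ] (x y : Γ) (hx : x * x = 1) (hy : y * y = 1)
    (hxy : x * y = y * x) : Subgroup Γ where
  carrier := {g | g = 1 ∨ g = x ∨ g = y ∨ g = x * y}
  one_mem' := Or.inl rfl
  mul_mem' := by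
    have e1 : x * (x * y) = y := by rw [← mul_assoc, hx, one_mul]
    have e2 : y * (x * y) = x := by rw [hxy, ← mul_assoc, hy, one_mul]
    have e3 : (x * y) * x = y := by rw [hxy, mul_assoc, hx, mul_one]
    have e4 : (x * y) * y = x := by rw [mul_assoc, hy, mul_one]
    have e5 : (x * y) * (x * y) = 1 := by rw [mul_assoc, e2, hx]
    rintro a b (rfl | rfl | rfl | rfl) (rfl | rfl | rfl | rfl)
    · left; rw [one_mul]
    · right; left; rw [one_mul]
    · right; right; left; rw [one_mul]
    · right; right; right; rw [one_mul]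
    · right; left; rw [mul_one]
    · left; exact hx
    · right; right; right; rfl
    · right; right; left; exact e1
    · right; right; left; rw [mul_one]
    · right; right; right; exact hxy.symm
    · left; exact hy
    · right; left; exact e2
    · right; right; right; rw [mul_one]
    · right; right; left; exact e3
    · right; left; exact e4
    · left; exact e5
  inv_mem' := by
    have e2 : y * (x * y) = x := by rw [hxy, ← mul_assoc, hy, one_mul]
    have e5 : (x * y) * (x * y) = 1 := by rw [mul_assoc, e2, hx]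
    rintro a (rfl | rfl | rfl | rfl)
    · left; rw [inv_one]
    · right; left; exact inv_eq_of_mul_eq_one_right hx
    · right; right; left; exact inv_eq_of_mul_eq_one_right hy
    · right; right; right; exact inv_eq_of_mul_eq_one_right e5

theorem h78_mem_four {Γ : Type*} [Group Γ] (x y : Γ) (hx : x * x = 1) (hy : y * y = 1)
    (hxy : x * y = y * x) (g : Γ) :
    g ∈ h78Four x y hx hy hxy ↔ g = 1 ∨ g = x ∨ g = y ∨ g = x * y := Iff.rfl

/-- conjugating a left translation by an automorphism -/
theorem h78_conj_translation {K : Type*} [Group K] (a : MulAut K) (k : K) :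
    MulAut.toPerm K a * MulAction.toPermHom K K k * (MulAut.toPerm K a)⁻¹ =
      MulAction.toPermHom K K (a k) := by
  ext z
  show a (k * a.symm z) = a k * z
  rw [map_mul, MulEquiv.apply_symm_apply]

theorem h78_translation_injective (K : Type*) [Group K] :
    Function.Injective (MulAction.toPermHom K K) := by
  intro a b hab
  have h := congrArg (fun f : Equiv.Perm K => f 1) hab
  simpa [MulAction.toPermHom, MulAction.toPerm] using h

theorem h78_toPerm_injective (K : Type*) [Group K] :
    Function.Injective (MulAut.toPerm K) := by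
  intro a b hab
  ext z
  exact congrArg (fun f : Equiv.Perm K => f z) hab

/-- a translation centralized by an automorphism comes from a fixed point -/
theorem h78_fixed_of_centralizer {K : Type*} [Group K] (a : MulAut K) (k : K)
    (h : MulAction.toPermHom K K k ∈ centralizer ({MulAut.toPerm K a} : Set (Equiv.Perm K))) :
    a k = k := by
  rw [mem_centralizer_iff] at h
  have h1 := h (MulAut.toPerm K a) rfl
  have h2 : MulAut.toPerm K a * MulAction.toPermHom K K k * (MulAut.toPerm K a)⁻¹ =
      MulAction.toPermHom K K k := by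
    rw [h1, mul_inv_cancel_right]
  rw [h78_conj_translation] at h2
  exact h78_translation_injective K h2

/-- automorphisms normalize the translation group -/
theorem h78_mem_normalizer {K : Type*} [Group K] (a : MulAut K) :
    MulAut.toPerm K a ∈ normalizer ((MulAction.toPermHom K K).range : Set (Equiv.Perm K)) := by
  rw [mem_normalizer_iff]
  intro h
  constructor
  · rintro ⟨k, rfl⟩
    exact ⟨a k, (h78_conj_translation a k).symm⟩
  · rintro ⟨k, hk⟩
    refine ⟨a⁻¹ k, ?_⟩
    have h1 := h78_conj_translation a⁻¹ k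
    rw [hk, map_inv, inv_inv] at h1
    rw [← h1]
    group

/-- **(FGABS)** coprime generation by a four-group of automorphisms. -/
theorem four_group_gen {K : Type u} [Group K] [Finite K] (hK : Odd (Nat.card K)) (α β : MulAut K)
    (hα : α * α = 1) (hβ : β * β = 1) (hαβ : α * β = β * α) (Z : Subgroup K)
    (hZα : ∀ k, α k = k → k ∈ Z) (hZβ : ∀ k, β k = k → k ∈ Z) (hZαβ : ∀ k, α (β k) = k → k ∈ Z) :
    Z = ⊤ := by
  classical
  by_cases h1 : α = 1
  · rw [eq_top_iff]
    intro k _
    apply hZα
    rw [h1, MulAut.one_apply]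
  by_cases h2 : β = 1
  · rw [eq_top_iff]
    intro k _
    apply hZβ
    rw [h2, MulAut.one_apply]
  by_cases h3 : α = β
  · rw [eq_top_iff]
    intro k _
    apply hZαβ
    rw [h3, ← MulAut.mul_apply, hβ, MulAut.one_apply]
  haveI : Fact (Nat.Prime 2) := ⟨Nat.prime_two⟩
  obtain ⟨x, hxdef⟩ : ∃ x : Equiv.Perm K, x = MulAut.toPerm K α := ⟨_, rfl⟩
  obtain ⟨y, hydef⟩ : ∃ y : Equiv.Perm K, y = MulAut.toPerm K β := ⟨_, rfl⟩
  have hx : x * x = 1 := by rw [hxdef, ← map_mul, hα, map_one]
  have hy : y * y = 1 := by rw [hydef, ← map_mul, hβ, map_one]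
  have hxy : x * y = y * x := by rw [hxdef, hydef, ← map_mul, ← map_mul, hαβ]
  have hx1 : x ≠ 1 := by
    intro h
    apply h1
    apply h78_toPerm_injective K
    rw [← hxdef, h, map_one]
  have hy1 : y ≠ 1 := by
    intro h
    apply h2
    apply h78_toPerm_injective K
    rw [← hydef, h, map_one]
  have hne : x ≠ y := by
    intro h
    apply h3
    apply h78_toPerm_injective K
    rw [← hxdef, ← hydef, h]
  have e1 : x * (x * y) = y := by rw [← mul_assoc, hx, one_mul]
  have e2 : y * (x * y) = x := by rw [hxy, ← mul_assoc, hy, one_mul]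
  have e3 : (x * y) * x = y := by rw [hxy, mul_assoc, hx, mul_one]
  have e4 : (x * y) * y = x := by rw [mul_assoc, hy, mul_one]
  have e5 : (x * y) * (x * y) = 1 := by rw [mul_assoc, e2, hx]
  have hAc : ∀ a ∈ h78Four x y hx hy hxy, ∀ b ∈ h78Four x y hx hy hxy, a * b = b * a := by
    rintro a (rfl | rfl | rfl | rfl) b (rfl | rfl | rfl | rfl)
    · rfl
    · rw [one_mul, mul_one]
    · rw [one_mul, mul_one]
    · rw [one_mul, mul_one]
    · rw [one_mul, mul_one]
    · rfl
    · exact hxy
    · rw [e1, e3]
    · rw [one_mul, mul_one]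
    · exact hxy.symm
    · rfl
    · rw [e2, e4]
    · rw [one_mul, mul_one]
    · rw [e1, e3]
    · rw [e2, e4]
    · rfl
  have hAp : ∀ a ∈ h78Four x y hx hy hxy, a ^ 2 = 1 := by
    rintro a (rfl | rfl | rfl | rfl)
    · rw [one_pow]
    · rw [pow_two, hx]
    · rw [pow_two, hy]
    · rw [pow_two, e5]
  have hxA : x ∈ h78Four x y hx hy hxy := Or.inr (Or.inl rfl)
  have hyA : y ∈ h78Four x y hx hy hxy := Or.inr (Or.inr (Or.inl rfl))
  have hxz : x ∉ zpowers y := by
    intro h
    obtain ⟨n, hn⟩ := mem_zpowers_iff.mp h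
    rcases Int.even_or_odd' n with ⟨m, rfl | rfl⟩
    · apply hx1
      rw [← hn, zpow_mul, zpow_two, hy, one_zpow]
    · apply hne
      rw [← hn, zpow_add, zpow_mul, zpow_two, hy, one_zpow, one_mul, zpow_one]
  have hAM : h78Four x y hx hy hxy ≤
      normalizer ((MulAction.toPermHom K K).range : Set (Equiv.Perm K)) := by
    have hxn : x ∈ normalizer ((MulAction.toPermHom K K).range : Set (Equiv.Perm K)) := by
      rw [hxdef]
      exact h78_mem_normalizer α
    have hyn : y ∈ normalizer ((MulAction.toPermHom K K).range : Set (Equiv.Perm K)) := by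
      rw [hydef]
      exact h78_mem_normalizer β
    rintro a (rfl | rfl | rfl | rfl)
    · exact one_mem _
    · exact hxn
    · exact hyn
    · exact mul_mem hxn hyn
  have hM : (Nat.card (MulAction.toPermHom K K).range).Coprime 2 := by
    rw [← Nat.card_congr (MonoidHom.ofInjective (h78_translation_injective K)).toEquiv]
    exact hK.coprime_two_right
  have hgen := Cfsg.Agent.Helper48.genC_eq (h78Four x y hx hy hxy) (MulAction.toPermHom K K).range
    hAc hAp hxA hyA hy1 hxz hAM hM
  have hle : Cfsg.Agent.Helper48.genC (h78Four x y hx hy hxy) (MulAction.toPermHom K K).range ≤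
      Z.map (MulAction.toPermHom K K) := by
    unfold Cfsg.Agent.Helper48.genC
    apply iSup_le
    rintro ⟨c, hcA, hc1⟩
    rintro h ⟨⟨k, rfl⟩, hcen⟩
    have hcen' : MulAction.toPermHom K K k ∈ centralizer ({c} : Set (Equiv.Perm K)) := hcen
    rcases hcA with hc | hc | hc | hc
    · exact absurd hc hc1
    · rw [hc, hxdef] at hcen'
      exact ⟨k, hZα k (h78_fixed_of_centralizer α k hcen'), rfl⟩
    · rw [hc, hydef] at hcen'
      exact ⟨k, hZβ k (h78_fixed_of_centralizer β k hcen'), rfl⟩
    · have hm : x * y = MulAut.toPerm K (α * β) := by rw [map_mul, hxdef, hydef]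
      rw [hc, hm] at hcen'
      have hf := h78_fixed_of_centralizer (α * β) k hcen'
      rw [MulAut.mul_apply] at hf
      exact ⟨k, hZαβ k hf, rfl⟩
  rw [eq_top_iff]
  intro k _
  have hk : MulAction.toPermHom K K k ∈ (MulAction.toPermHom K K).range := ⟨k, rfl⟩
  rw [← hgen] at hk
  obtain ⟨z, hz, hzk⟩ := hle hk
  rw [← h78_translation_injective K hzk]
  exact hz

end Cfsg.Agent.Helper78.TH1B
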