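import Mathlib
import Cfsg.Prelude.Def_OddOrderLocal
import Cfsg.Agent.Lib.Helper98.TIHDefs

set_option autoImplicit false

/-!
# TIH server (helper98, S4118), piece (P8b): `AlmostCyc` passes to quotients
-/

namespace Cfsg.Agent.Helper78.TIH

open Cfsg.Agent.Helper98.TIH

universe u

/-- (P8b) `AlmostCyc` passes to quotients: a Sylow subgroup of `G ⧸ N` is the image of a Sylow subgroup `P` of `G`
(`Sylow.mapSurjective` + conjugacy), and the image of `C ≤ P` is cyclic of index dividing `|P:C|`. -/
theorem almostCyc_quotient {G : Type u} [Group G] [Finite G] (h : AlmostCyc G) (N : Subgroup G)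
    [N.Normal] : AlmostCyc (G ⧸ N) := by
  intro p _ Q
  obtain ⟨P, rfl⟩ := Sylow.mapSurjective_surjective (QuotientGroup.mk'_surjective N) p Q
  obtain ⟨C, hCP, hCc, hC2⟩ := h p P
  refine ⟨C.map (QuotientGroup.mk' N), ?_, ?_, ?_⟩
  · rw [Sylow.coe_mapSurjective]
    exact Subgroup.map_mono hCP
  · have := hCc
    exact isCyclic_of_surjective ((QuotientGroup.mk' N).subgroupMap C)
      ((QuotientGroup.mk' N).subgroupMap_surjective C)
  · rw [Sylow.coe_mapSurjective, ← Subgroup.relIndex_comap]
    have hdvd : (Subgroup.comap (QuotientGroup.mk' N) (C.map (QuotientGroup.mk' N))).relIndex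
        (P : Subgroup G) ∣ C.relIndex (P : Subgroup G) :=
      Subgroup.relIndex_dvd_of_le_left (P : Subgroup G) (Subgroup.le_comap_map _ C)
    have hne : C.relIndex (P : Subgroup G) ≠ 0 := by
      rw [Subgroup.relIndex]
      exact Subgroup.index_ne_zero_of_finite
    exact (Nat.le_of_dvd (Nat.pos_of_ne_zero hne) hdvd).trans hC2

end Cfsg.Agent.Helper78.TIH
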