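import Mathlib
import Cfsg.Prelude.Def_OddOrderLocal
import Cfsg.Agent.Lib.Helper98.TIHDefs

set_option autoImplicit false

/-!
# TIH server (helper98, S4118), piece (P8c): elementary abelian subgroups of `AlmostCyc` groups
-/

namespace Cfsg.Agent.Helper78.TIH

open Cfsg.Agent.Helper98.TIH

universe u

/-- (P8c) elementary abelian subgroups of `AlmostCyc` groups: `A ≤ P` Sylow (`IsPGroup.exists_le_sylow`), `C ≤ P` cyclic of
index `≤ 2`; `A ⊓ C` is cyclic of exponent `p`, so of order `≤ p`, and `|A : A ⊓ C| ≤ 2`: `|A| ≤ 2p` is a power of `p`,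
so `|A| ∈ {1, p}` (cyclic) or `p = 2`, `|A| = 4`. -/
theorem elementary_cyclic_or_four {G : Type u} [Group G] [Finite G] (h : AlmostCyc G)
    (A : Subgroup G) (p : ℕ) (hp : p.Prime) (hcomm : ∀ a ∈ A, ∀ b ∈ A, a * b = b * a)
    (hexp : ∀ a ∈ A, a ^ p = 1) : IsCyclic A ∨ Nat.card A = 4 := by
  have hpf : Fact p.Prime := ⟨hp⟩
  -- `A` is a `p`-group
  have hAp : IsPGroup p A := by
    intro a
    refine ⟨1, ?_⟩
    apply Subtype.ext
    simpa using hexp a.1 a.2
  obtain ⟨Q, hAQ⟩ := hAp.exists_le_sylow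
  obtain ⟨C, hCQ, hCc, hC2⟩ := h p Q
  -- the order of `A ⊓ C` is at most `p`
  have hBle : Nat.card (A ⊓ C : Subgroup G) ≤ p := by
    have hcyc : IsCyclic (A ⊓ C : Subgroup G) := by
      have := hCc
      exact Subgroup.isCyclic_of_le (inf_le_right : A ⊓ C ≤ C)
    obtain ⟨g, hg⟩ := hcyc.exists_generator
    have hcard : Nat.card (A ⊓ C : Subgroup G) = orderOf g :=
      (orderOf_eq_card_of_forall_mem_zpowers hg).symm
    rw [hcard]
    have hgp : g ^ p = 1 := by
      apply Subtype.ext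
      simpa using hexp g.1 g.2.1
    exact Nat.le_of_dvd hp.pos (orderOf_dvd_of_pow_eq_one hgp)
  -- `|A : A ⊓ C| ≤ 2`
  have hrel : (A ⊓ C).relIndex A ≤ 2 := by
    rw [Subgroup.inf_relIndex_left]
    have hne : C.relIndex (Q : Subgroup G) ≠ 0 := by
      rw [Subgroup.relIndex]
      exact Subgroup.index_ne_zero_of_finite
    exact (Subgroup.relIndex_le_of_le_right hAQ hne).trans hC2
  have hcardA : Nat.card (A ⊓ C : Subgroup G) * (A ⊓ C).relIndex A = Nat.card A := by
    have := Subgroup.relIndex_mul_relIndex (⊥ : Subgroup G) (A ⊓ C) A bot_le inf_le_left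
    rwa [Subgroup.relIndex_bot_left, Subgroup.relIndex_bot_left] at this
  have hAle : Nat.card A ≤ p * 2 := by
    rw [← hcardA]
    exact Nat.mul_le_mul hBle hrel
  -- `|A|` is a power of `p`
  obtain ⟨k, hk⟩ := (IsPGroup.iff_card.mp hAp)
  rcases Nat.lt_or_ge k 2 with hk2 | hk2
  · left
    interval_cases k
    · have : Subsingleton A := by
        rw [← Finite.card_le_one_iff_subsingleton, hk]
        simp
      exact isCyclic_of_subsingleton
    · rw [pow_one] at hk
      exact isCyclic_of_prime_card hk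
  · right
    have h1 : p ^ 2 ≤ p ^ k := Nat.pow_le_pow_right hp.pos hk2
    have h2 : p ^ 2 ≤ p * 2 := by rw [← hk] at h1; exact h1.trans hAle
    have hp2 : p = 2 := by
      have := hp.two_le
      nlinarith
    subst hp2
    have h3 : (2:ℕ) ^ k ≤ 2 ^ 2 := by rw [← hk]; exact hAle
    have hk3 : k ≤ 2 := (Nat.pow_le_pow_iff_right (by norm_num)).mp h3
    have hk4 : k = 2 := le_antisymm hk3 hk2
    rw [hk, hk4]
    norm_num

end Cfsg.Agent.Helper78.TIH
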