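import Mathlib
import Cfsg.Agent.Lib.Helper14.TSPDefs

set_option autoImplicit false

/-!
# TSP server (helper14, S5980), piece (K1): invariant subspaces without fixed vectors
-/

namespace Cfsg.Agent.Helper78.TSP

open Matrix Module Polynomial
open scoped Kronecker
open Cfsg.Agent.Helper14.TSP Cfsg.Agent.Helper44.StarInv

universe u

section finite

variable {F : Type u} [Field F] [Fintype F]

/-- (K1) an invariant subspace without fixed vectors of an operator of prime order `r` has dimension
divisible by the order of `q` mod `r`. -/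
theorem dvd_finrank_of_invariant {V : Type*} [AddCommGroup V] [Module F V] [FiniteDimensional F V]
    (T : V →ₗ[F] V) (r : ℕ) (hr : r.Prime) (hT : T ^ r = 1) (N : Submodule F V)
    (hN : ∀ v ∈ N, T v ∈ N) (hfix : ∀ v ∈ N, T v = v → v = 0) :
    orderOf ((Fintype.card F : ℕ) : ZMod r) ∣ finrank F N := by
  classical
  have : Fact r.Prime := ⟨hr⟩
  have : Finite V := Module.finite_of_finite F
  have : Finite N := inferInstance
  letI : Fintype N := Fintype.ofFinite N
  let f : Function.End N := fun v => ⟨T v.1, hN v.1 v.2⟩
  have hpow : ∀ (m : ℕ) (v : N), ((f ^ m) v).1 = (T ^ m) v.1 := by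
    intro m
    induction m with
    | zero => intro v; rfl
    | succ m ih =>
      intro v
      rw [pow_succ', pow_succ']
      change T ((f ^ m) v).1 = T ((T ^ m) v.1)
      rw [ih v]
  have hf : f ^ r ^ 1 = 1 := by
    rw [pow_one]
    funext v
    apply Subtype.ext
    rw [hpow r v, hT]
    rfl
  have h1 := Equiv.Perm.card_fixedPoints_modEq (f := f) (p := r) (n := 1) hf
  have hfp : Fintype.card (Function.fixedPoints f) = 1 := by
    rw [Fintype.card_eq_one_iff]
    refine ⟨⟨0, ?_⟩, ?_⟩
    · change f 0 = 0
      apply Subtype.ext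
      change T (0 : V) = 0
      exact map_zero T
    · intro y
      apply Subtype.ext
      apply Subtype.ext
      have hy : f y.1 = y.1 := y.2
      have hy' : T (y.1 : N).1 = (y.1 : N).1 := congrArg Subtype.val hy
      exact hfix _ (y.1 : N).2 hy'
  rw [hfp] at h1
  have hcard : Fintype.card N = Fintype.card F ^ finrank F N := Module.card_eq_pow_finrank
  rw [hcard] at h1
  apply orderOf_dvd_of_pow_eq_one
  have h2 : ((Fintype.card F ^ finrank F N : ℕ) : ZMod r) = ((1 : ℕ) : ZMod r) :=
    (ZMod.natCast_eq_natCast_iff _ _ _).mpr h1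
  rw [Nat.cast_pow, Nat.cast_one] at h2
  exact h2

end finite

end Cfsg.Agent.Helper78.TSP
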