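import Mathlib
import Cfsg.Agent.Lib.Helper14.TSPDefs
import Cfsg.Agent.Lib.Helper78.TSPK1

set_option autoImplicit false

/-!
# TSP server (helper14, S5980), piece (K3b): `a - dim ker (A - 1)` is divisible by the order of `q` mod `r`
-/

namespace Cfsg.Agent.Helper78.TSP

open Matrix Module Polynomial
open scoped Kronecker
open Cfsg.Agent.Helper14.TSP Cfsg.Agent.Helper44.StarInv

universe u

section finite

variable {F : Type u} [Field F] [Fintype F]

/-- (K3b) for `A^r = 1`, `r ≠ char`: `range (A - 1)` is invariant without fixed vectors, so (K1) applies; its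
dimension is `a - kdi A (X - C 1)` by rank-nullity. -/
theorem dvd_sub_kdi_one {a : ℕ} (A : Matrix (Fin a) (Fin a) F) (r : ℕ) (hr : r.Prime)
    (hrF : (r : F) ≠ 0) (hA : A ^ r = 1) :
    orderOf ((Fintype.card F : ℕ) : ZMod r) ∣ a - kdi A (X - C 1) := by
  let T : Module.End F (Fin a → F) := Matrix.toLin' A
  have hT : T ^ r = 1 := by
    change (Matrix.toLin' A) ^ r = 1
    rw [← toLin_pow_i, hA, Matrix.toLin'_one]
    rfl
  let N : Submodule F (Fin a → F) := LinearMap.range (T - 1)
  have hN : ∀ v ∈ N, T v ∈ N := by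
    rintro _ ⟨u, rfl⟩
    refine ⟨T u, ?_⟩
    simp only [LinearMap.sub_apply, Module.End.one_apply, map_sub]
  have hfix : ∀ v ∈ N, T v = v → v = 0 := by
    rintro _ ⟨u, rfl⟩ hfixed
    have hS : (∑ k ∈ Finset.range r, T ^ k) ((T - 1) u) = 0 := by
      have h1 : (∑ k ∈ Finset.range r, T ^ k) * (T - 1) = 0 := by
        rw [geom_sum_mul, hT, sub_self]
      have h2 : ((∑ k ∈ Finset.range r, T ^ k) * (T - 1)) u = 0 := by
        rw [h1]
        rfl
      rwa [Module.End.mul_apply] at h2
    have hk : ∀ k : ℕ, (T ^ k) ((T - 1) u) = (T - 1) u := by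
      intro k
      induction k with
      | zero => rfl
      | succ k ih => rw [pow_succ, Module.End.mul_apply, hfixed, ih]
    rw [LinearMap.sum_apply, Finset.sum_congr rfl (fun k _ => hk k), Finset.sum_const,
      Finset.card_range, ← Nat.cast_smul_eq_nsmul F] at hS
    exact (smul_eq_zero.mp hS).resolve_left hrF
  have hK1 := dvd_finrank_of_invariant T r hr hT N hN hfix
  have hrank : finrank F N = a - kdi A (X - C 1) := by
    have h1 := kdi_add_rank A (X - C 1)
    have h2 : (aeval A (X - C 1 : F[X])) = A - 1 := by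
      rw [map_sub, aeval_X, aeval_C, map_one]
    rw [h2, Fintype.card_fin] at h1
    have h3 : (A - 1).rank = finrank F N := by
      unfold Matrix.rank
      have h4 : (A - 1).mulVecLin = T - 1 := by
        rw [← Matrix.toLin'_apply', map_sub, Matrix.toLin'_one]
        rfl
      rw [h4]
    omega
  rw [← hrank]
  exact hK1

end finite

end Cfsg.Agent.Helper78.TSP
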