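import Mathlib
import Cfsg.Agent.Lib.Helper14.TSPDefs
import Cfsg.Agent.Lib.Helper96.SympInvol

set_option autoImplicit false

/-!
# TSP server (helper14, S5980), piece (PN): the pick step when `x² = -1`
-/

namespace Cfsg.Agent.Helper78.TSP

open Matrix Module Polynomial
open scoped Kronecker
open Cfsg.Agent.Helper14.TSP Cfsg.Agent.Helper44.StarInv

universe u

section finite

variable {F : Type u} [Field F] [Fintype F]

/-- the quadratic form `u ↦ f u (x u)` takes every value on `C` -/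
theorem pn_exists_value {V : Type*} [AddCommGroup V] [Module F V]
    (h2 : (2 : F) ≠ 0) (f : V → V → F)
    (hf : Cfsg.Agent.Helper96.SympInvol.AltForm f) (x : V →ₗ[F] V)
    (hxf : ∀ u w, f (x u) (x w) = f u w) (hx : ∀ v, x (x v) = -v)
    (C : Submodule F V) (hC : ∀ u ∈ C, x u ∈ C) (hCnd : ∀ u ∈ C, u ≠ 0 → ∃ w ∈ C, f u w ≠ 0)
    (hC0 : C ≠ ⊥) (κ : F) : ∃ u ∈ C, f u (x u) = κ := by
  -- symmetry of `B u w = f u (x w)`
  have hsym : ∀ u w : V, f w (x u) = f u (x w) := by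
    intro u w
    have h1 : f (x u) (x (x w)) = f u (x w) := hxf u (x w)
    rw [hx, hf.neg_right] at h1
    rw [hf.swap w (x u)]
    exact h1
  -- expansion of the quadratic form
  have hQ : ∀ (s t : F) (u w : V), f (s • u + t • w) (x (s • u + t • w)) =
      s * s * f u (x u) + 2 * s * t * f u (x w) + t * t * f w (x w) := by
    intro s t u w
    rw [map_add, map_smul, map_smul, hf.add_left, hf.add_right, hf.add_right, hf.smul_left,
      hf.smul_left, hf.smul_right, hf.smul_right, hf.smul_left, hf.smul_left, hf.smul_right,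
      hf.smul_right, hsym u w]
    ring
  by_cases hA : ∃ w ∈ C, w ≠ 0 ∧ f w (x w) = 0
  · -- a singular vector
    obtain ⟨w, hwC, hw0, hQw⟩ := hA
    obtain ⟨z0, hz0C, hz0⟩ := hCnd w hwC hw0
    let z : V := -(x z0)
    have hzC : z ∈ C := C.neg_mem (hC z0 hz0C)
    have hxz : x z = z0 := by
      change x (-(x z0)) = z0
      rw [map_neg, hx, neg_neg]
    have hB : f w (x z) ≠ 0 := by rw [hxz]; exact hz0
    let t : F := (κ - f z (x z)) / (2 * f w (x z))
    refine ⟨t • w + (1 : F) • z, C.add_mem (C.smul_mem t hwC) (C.smul_mem 1 hzC), ?_⟩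
    rw [hQ, hQw]
    have h2B : 2 * f w (x z) ≠ 0 := mul_ne_zero h2 hB
    change (κ - f z (x z)) / (2 * f w (x z)) * ((κ - f z (x z)) / (2 * f w (x z))) * 0 +
      2 * ((κ - f z (x z)) / (2 * f w (x z))) * 1 * f w (x z) + 1 * 1 * f z (x z) = κ
    field_simp
    ring
  · -- no singular vector: diagonalise a plane
    push Not at hA
    obtain ⟨u1, hu1C, hu10⟩ := Submodule.exists_mem_ne_zero_of_ne_bot hC0
    obtain ⟨w0, hw0C, hw0⟩ := hCnd u1 hu1C hu10
    have ha1 : f u1 (x u1) ≠ 0 := hA u1 hu1C hu10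
    let c : F := f u1 (x w0) / f u1 (x u1)
    let w' : V := w0 - c • u1
    have hw'C : w' ∈ C := C.sub_mem hw0C (C.smul_mem c hu1C)
    have hw'0 : w' ≠ 0 := by
      intro h0
      have h1 : w0 = c • u1 := sub_eq_zero.mp h0
      apply hw0
      rw [h1, hf.smul_right, hf.self, mul_zero]
    have hB0 : f u1 (x w') = 0 := by
      change f u1 (x (w0 - c • u1)) = 0
      rw [map_sub, map_smul, hf.sub_right, hf.smul_right]
      change f u1 (x w0) - f u1 (x w0) / f u1 (x u1) * f u1 (x u1) = 0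
      field_simp
      ring
    have ha2 : f w' (x w') ≠ 0 := hA w' hw'C hw'0
    -- solve `a1 s² + a2 t² = κ`
    have hodd : Fintype.card F % 2 = 1 := by
      apply FiniteField.odd_card_of_char_ne_two
      intro hch
      apply h2
      have h3 : ((ringChar F : ℕ) : F) = 0 := ringChar.Nat.cast_ringChar
      rw [hch] at h3
      exact_mod_cast h3
    have hd1 : (Polynomial.C (f u1 (x u1)) * X ^ 2 : F[X]).degree = 2 := by
      rw [degree_C_mul_X_pow 2 ha1]
      rfl
    have hd2 : (Polynomial.C (f w' (x w')) * X ^ 2 - Polynomial.C κ : F[X]).degree = 2 := by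
      rw [degree_sub_C, degree_C_mul_X_pow 2 ha2]
      · rfl
      · rw [degree_C_mul_X_pow 2 ha2]
        norm_num
    obtain ⟨s, t, hst⟩ := FiniteField.exists_root_sum_quadratic hd1 hd2 hodd
    simp only [eval_mul, eval_C, eval_pow, eval_X, eval_sub] at hst
    refine ⟨s • u1 + t • w', C.add_mem (C.smul_mem s hu1C) (C.smul_mem t hw'C), ?_⟩
    rw [hQ, hB0]
    linear_combination hst

/-- (PN) the pick step when `x² = -1`. -/
theorem pick_neg {V : Type*} [AddCommGroup V] [Module F V] [FiniteDimensional F V]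
    (h2 : (2 : F) ≠ 0) (f : V → V → F)
    (hf : Cfsg.Agent.Helper96.SympInvol.AltForm f) (x : V →ₗ[F] V)
    (hxf : ∀ u w, f (x u) (x w) = f u w) (hx : ∀ v, x (x v) = -v)
    (C : Submodule F V) (hC : ∀ u ∈ C, x u ∈ C) (hCnd : ∀ u ∈ C, u ≠ 0 → ∃ w ∈ C, f u w ≠ 0)
    (hC0 : C ≠ ⊥) (κ : F) (hκ : κ ≠ 0) :
    ∃ u ∈ C, ∃ v ∈ C, ∃ ε : F, ε ≠ 0 ∧ f u v = κ ∧
      x u = ε • ((!![0, -1; 1, 0] : Matrix (Fin 2) (Fin 2) F) 0 0 • u +
        (!![0, -1; 1, 0] : Matrix (Fin 2) (Fin 2) F) 1 0 • v) ∧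
      x v = ε • ((!![0, -1; 1, 0] : Matrix (Fin 2) (Fin 2) F) 0 1 • u +
        (!![0, -1; 1, 0] : Matrix (Fin 2) (Fin 2) F) 1 1 • v) := by
  obtain ⟨u, huC, hu⟩ := pn_exists_value h2 f hf x hxf hx C hC hCnd hC0 κ
  refine ⟨u, huC, x u, hC u huC, 1, one_ne_zero, hu, ?_, ?_⟩
  · simp
  · rw [hx]
    simp

end finite

end Cfsg.Agent.Helper78.TSP
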