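import Mathlib

/-!
# TU server (helper59, S2279), piece (LUC): with `s = p^(v_p(n))`, either `n = s` or `s + 3 ≤ n` and
`p ∤ C(n - 1 + s, n - 1)` (`≡ n / s mod p` by Lucas, one digit at a time).  Mathlib only.
-/

set_option autoImplicit false

namespace Cfsg.Agent.Helper78.TU

/-- `C(p^a m + p^a - 1, p^a) ≡ m [MOD p]`. -/
theorem luc_choose (p : ℕ) [hp : Fact p.Prime] (m : ℕ) :
    ∀ a : ℕ, Nat.choose (p ^ a * m + p ^ a - 1) (p ^ a) ≡ m [MOD p] := by
  intro a
  induction a with
  | zero =>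
    simp only [pow_zero, one_mul, Nat.add_sub_cancel, Nat.choose_one_right]
    exact Nat.ModEq.refl _
  | succ a ih =>
    have hp0 : 0 < p := hp.out.pos
    have hpa : 0 < p ^ a := pow_pos hp0 a
    have hM : 1 ≤ p ^ a * m + p ^ a := by omega
    -- `N = (p - 1) + p * M`
    have hN : p ^ (a + 1) * m + p ^ (a + 1) - 1 = (p - 1) + p * (p ^ a * m + p ^ a - 1) := by
      have e1 : p ^ (a + 1) * m + p ^ (a + 1) = p * (p ^ a * m + p ^ a) := by ring
      rw [e1]
      obtain ⟨M, hM'⟩ : ∃ M, p ^ a * m + p ^ a = M + 1 := ⟨p ^ a * m + p ^ a - 1, by omega⟩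
      rw [hM', Nat.add_sub_cancel, Nat.mul_add, Nat.mul_one]
      omega
    have hmod : (p ^ (a + 1) * m + p ^ (a + 1) - 1) % p = p - 1 := by
      rw [hN, Nat.add_mul_mod_self_left, Nat.mod_eq_of_lt (by omega)]
    have hdiv : (p ^ (a + 1) * m + p ^ (a + 1) - 1) / p = p ^ a * m + p ^ a - 1 := by
      rw [hN, Nat.add_mul_div_left _ _ hp0, Nat.div_eq_of_lt (by omega), Nat.zero_add]
    have hkmod : p ^ (a + 1) % p = 0 := by
      rw [pow_succ]
      exact Nat.mul_mod_left _ _
    have hkdiv : p ^ (a + 1) / p = p ^ a := by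
      rw [pow_succ]
      exact Nat.mul_div_cancel _ hp0
    have hL := Choose.choose_modEq_choose_mod_mul_choose_div_nat
      (n := p ^ (a + 1) * m + p ^ (a + 1) - 1) (k := p ^ (a + 1)) (p := p)
    rw [hmod, hdiv, hkmod, hkdiv, Nat.choose_zero_right, one_mul] at hL
    exact hL.trans ih

/-- (LUC) -/
theorem exists_offset (p n : ℕ) [Fact p.Prime] (hn : 4 ≤ n) :
    ∃ a : ℕ, n = p ^ a ∨ (p ^ a + 3 ≤ n ∧ ¬ p ∣ Nat.choose (n - 1 + p ^ a) (n - 1)) := by
  have hp : p.Prime := Fact.out
  obtain ⟨a, m, hm, hnm⟩ := Nat.exists_eq_pow_mul_and_not_dvd (n := n) (by omega) p hp.ne_one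
  refine ⟨a, ?_⟩
  by_cases hm1 : m = 1
  · left
    rw [hnm, hm1, mul_one]
  · right
    have hpa : 0 < p ^ a := pow_pos hp.pos a
    have hm0 : m ≠ 0 := by
      intro h
      rw [h, mul_zero] at hnm
      omega
    have hm2 : 2 ≤ m := by omega
    refine ⟨?_, ?_⟩
    · -- `p^a + 3 ≤ n`
      rcases Nat.eq_zero_or_pos a with ha | ha
      · rw [ha, pow_zero]
        omega
      · have hps : p ≤ p ^ a := by
          calc p = p ^ 1 := (pow_one p).symm
            _ ≤ p ^ a := Nat.pow_le_pow_right hp.pos ha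
        have hp2 : 2 ≤ p := hp.two_le
        by_cases hm3 : 3 ≤ m
        · have : p ^ a * 3 ≤ p ^ a * m := Nat.mul_le_mul_left _ hm3
          omega
        · have hm2' : m = 2 := by omega
          have hp3 : 3 ≤ p := by
            rcases Nat.lt_or_ge p 3 with h | h
            · have : p = 2 := by omega
              exfalso
              apply hm
              rw [this, hm2']
            · exact h
          rw [hnm, hm2']
          omega
    · -- the binomial coefficient
      have hidx : n - 1 + p ^ a = p ^ a * m + p ^ a - 1 := by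
        rw [hnm]
        have : 1 ≤ p ^ a * m := Nat.one_le_iff_ne_zero.mpr (Nat.mul_ne_zero hpa.ne' hm0)
        omega
      have hsymm : Nat.choose (n - 1 + p ^ a) (n - 1) = Nat.choose (n - 1 + p ^ a) (p ^ a) :=
        Nat.choose_symm_add
      rw [hsymm, hidx]
      intro hdvd
      exact hm (((luc_choose p m a).dvd_iff (dvd_refl p)).mp hdvd)

end Cfsg.Agent.Helper78.TU
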