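import Mathlib
import Cfsg.Agent.Lib.Helper98.UT0

/-!
UT server (helper98, S2283), piece (E1b): an element of `Hs` fixing the point `e` multiplies `AH` by `d0 * d1 ^ q`.
-/

set_option autoImplicit false
set_option quotPrecheck false
set_option linter.unusedSectionVars false
set_option linter.unusedVariables false

namespace Cfsg.Agent.Helper78.UT

open Matrix Cfsg Cfsg.Agent.Helper13 Cfsg.Agent.Helper87.PsuA Cfsg.Agent.Helper87.PsuB0
  Cfsg.Agent.Helper98.UT

variable {F : Type*} [Field F] [Fintype F] {q : ℕ}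

local notation "G" => ↥(Cfsg.SU 3 F q)
local notation "H" => Cfsg.hermForm 3 F q

variable (hF : Fintype.card F = q ^ 2) {b : Fin 3 → Fin 3 → F}

/-- (E1b) an element of `Hs` fixing the point `e` multiplies `AH` by `d0 * d̄1`
(`eich_conj`, `eich_smul`, `eich_add_smul`). -/
theorem AH_chi (hb : HB q b) (Hs : Subgroup G) {W : G} (hW : W ∈ Hs) {d0 d1 κ : F}
    (h0 : actv W (b 0) = d0 • b 0) (h1 : actv W (b 1) = d1 • b 1 + κ • b 0) {ω : F}
    (hω : ω ∈ AH hF b Hs) : d0 * d1 ^ q * ω ∈ AH hF b Hs := by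
  obtain ⟨β, hβ, hy⟩ := hω
  have hee : H (b 0) (b 0) = 0 := by rw [hb 0 0]; exact if_neg (by decide)
  have hed : H (b 0) (b 1) = 0 := by rw [hb 0 1]; exact if_neg (by decide)
  have hde : H (b 1) (b 0) = 0 := by rw [hb 1 0]; exact if_neg (by decide)
  have hdd : H (b 1) (b 1) = 1 := by rw [hb 1 1]; exact if_pos (by decide)
  -- `d1 * d1 ^ q = 1`
  have hd1 : d1 * d1 ^ q = 1 := by
    have h := H_actv (q := q) W (b 1) (b 1)
    rw [h1, hdd] at h
    simp only [hermForm_add_left, hermForm_add_right hF, hermForm_smul_left, hermForm_smul_right,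
      hee, hed, hde, hdd, mul_zero, add_zero, mul_one] at h
    exact (mul_comm _ _).trans h
  set w : Fin 3 → F := (-(ω ^ q)) • b 1 with hwdef
  have huw : H (b 0) w = 0 := by
    rw [hwdef, hermForm_smul_right, hed, mul_zero]
  have hww : H w w = ω * ω ^ q := by
    rw [hwdef, hermForm_smul_left, hermForm_smul_right, hdd, frob_neg hF, frob_frob hF]
    ring
  have ha : β + β ^ q + H w w = 0 := by rw [hww]; exact hβ
  have hyE : yEl hF b ω β = eich hF (b 0) w β := rfl
  -- the conjugate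
  have hX : W * yEl hF b ω β * W⁻¹ ∈ Hs := Hs.mul_mem (Hs.mul_mem hW hy) (Hs.inv_mem hW)
  rw [hyE, eich_conj hF hee huw ha W, h0] at hX
  have hw1 : actv W w = (-(ω ^ q)) • (d1 • b 1 + κ • b 0) := by
    rw [hwdef, actv_smul, h1]
  have huw1 : H (b 0) (actv W w) = 0 := by
    rw [hw1]
    simp only [hermForm_smul_right, hermForm_add_right hF, hed, hee, mul_zero, add_zero]
  have ha1 : β + β ^ q + H (actv W w) (actv W w) = 0 := by
    rw [H_actv]; exact ha
  rw [eich_smul hF hee huw1 ha1] at hX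
  -- the new parameters
  have e1 : (d0 * d1 ^ q * ω) ^ q = d0 ^ q * d1 * ω ^ q := by
    rw [mul_pow, mul_pow, frob_frob hF]
  set c' : F := d0 ^ q * (-(ω ^ q)) * κ with hc'
  set w' : Fin 3 → F := (-((d0 * d1 ^ q * ω) ^ q)) • b 1 with hw'def
  have hvec : (d0 ^ q) • actv W w = w' + c' • b 0 := by
    rw [hw1, hw'def, hc', e1]
    module
  rw [hvec] at hX
  have huw' : H (b 0) w' = 0 := by
    rw [hw'def, hermForm_smul_right, hed, mul_zero]
  have hww' : H w' w' = d0 * d0 ^ q * (d1 * d1 ^ q) * (ω * ω ^ q) := by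
    rw [hw'def, hermForm_smul_left, hermForm_smul_right, hdd, frob_neg hF, frob_frob hF, e1]
    ring
  have ha' : d0 * d0 ^ q * β + (d0 * d0 ^ q * β) ^ q + H w' w' = 0 := by
    rw [hww', hd1, mul_pow, mul_pow, frob_frob hF]
    linear_combination (d0 * d0 ^ q) * hβ
  rw [eich_add_smul hF hee huw' ha'] at hX
  refine ⟨d0 * d0 ^ q * β + c' - c' ^ q, ?_, hX⟩
  have e2 : (d0 * d0 ^ q * β + c' - c' ^ q) ^ q = d0 ^ q * d0 * β ^ q + c' ^ q - c' := by
    rw [frob_sub hF, frob_add hF, mul_pow, mul_pow, frob_frob hF, frob_frob hF]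
  rw [e2, e1]
  linear_combination (d0 * d0 ^ q) * hβ + (d0 * d0 ^ q * ω * ω ^ q) * hd1

end Cfsg.Agent.Helper78.UT
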